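/-
Closing step for groups with a standard involution: an overgroup `H` of a centralizer of `z` in which `z` has one
class of conjugates is the whole group, given finitely many conditions inside `H`.
Main results: `Safe.of_isConj`, `Safe.of_mul`, `Safe.of_centralizer`, `centralizer_le_of_pair`, `eq_top_of_pair`.

For a set `W`, an element `y` of `H` centralizing `W` is safe if among the cosets `c H`, `c` centralizing `W`, it
fixes only `H`.
-/
import Mathlib
import Cfsg.Agent.EqLemmas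

set_option autoImplicit false

namespace Cfsg.Agent.TransvCent.Closing

variable {G : Type*} [Group G]

/-- The hypothesis on `H`: it contains the centralizer of `z`, and conjugates of `z` in `H` are `H`-conjugate
to `z`. -/
structure Setting (H : Subgroup G) (z : G) : Prop where
  cent : ∀ c : G, c * z = z * c → c ∈ H
  fuse : ∀ g : G, g * z * g⁻¹ ∈ H → ∃ h ∈ H, h * z * h⁻¹ = g * z * g⁻¹

/-- `c` centralizes the set `W`. -/
def Fix (W : Set G) (c : G) : Prop := ∀ w ∈ W, c * w = w * c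

theorem Fix.one (W : Set G) : Fix W 1 := fun w _ => by simp

theorem Fix.mul {W : Set G} {c d : G} (hc : Fix W c) (hd : Fix W d) : Fix W (c * d) := fun w hw => by
  rw [mul_assoc, hd w hw, ← mul_assoc, hc w hw, mul_assoc]

theorem Fix.inv {W : Set G} {c : G} (hc : Fix W c) : Fix W c⁻¹ := fun w hw => by
  have h : Commute c w := hc w hw
  exact h.inv_left

theorem Fix.pow {W : Set G} {c : G} (hc : Fix W c) (n : ℕ) : Fix W (c ^ n) := fun w hw => by
  have h : Commute c w := hc w hw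
  exact h.pow_left n

theorem Fix.conj_eq {W : Set G} {c w : G} (hc : Fix W c) (hw : w ∈ W) : c * w * c⁻¹ = w := by
  rw [hc w hw, mul_inv_cancel_right]

/-- `y` lies in the centralizer of `W` in `H` and fixes only the coset `H` among the `c H`, `c` centralizing `W`. -/
def Safe (H : Subgroup G) (W : Set G) (y : G) : Prop :=
  y ∈ H ∧ Fix W y ∧ ∀ c : G, Fix W c → c⁻¹ * y * c ∈ H → c ∈ H

theorem Setting.one_point {H : Subgroup G} {z : G} (S : Setting H z) {v g : G} (hv : IsConj z v) (hvH : v ∈ H)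
    (hg : g⁻¹ * v * g ∈ H) : g ∈ H := by
  obtain ⟨a, ha⟩ := isConj_iff.mp hv
  subst ha
  obtain ⟨h, hh, he⟩ := S.fuse a hvH
  have h1 : g⁻¹ * (a * z * a⁻¹) * g = (g⁻¹ * a) * z * (g⁻¹ * a)⁻¹ := by group
  rw [h1] at hg
  obtain ⟨k, hk, hke⟩ := S.fuse _ hg
  have h2 : k * z * k⁻¹ = g⁻¹ * h * z * (g⁻¹ * h)⁻¹ := by
    rw [hke]
    have : g⁻¹ * a * z * (g⁻¹ * a)⁻¹ = g⁻¹ * (a * z * a⁻¹) * g := by group
    rw [this, ← he]
    group
  have h3 : k⁻¹ * (g⁻¹ * h) * z = z * (k⁻¹ * (g⁻¹ * h)) := by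
    have := congrArg (fun x => k⁻¹ * x * (g⁻¹ * h)) h2
    simp only [mul_assoc, inv_mul_cancel, mul_one, inv_mul_cancel_left] at this ⊢
    exact this.symm
  have h4 : k⁻¹ * (g⁻¹ * h) ∈ H := S.cent _ h3
  have h5 : g⁻¹ = k * (k⁻¹ * (g⁻¹ * h)) * h⁻¹ := by group
  have h6 : g⁻¹ ∈ H := by
    rw [h5]; exact H.mul_mem (H.mul_mem hk h4) (H.inv_mem hh)
  simpa using H.inv_mem h6

variable {H : Subgroup G} {z : G} {W : Set G}

theorem Safe.of_isConj (S : Setting H z) {y : G} (hy : y ∈ H) (hW : Fix W y) (hz : IsConj z y) : Safe H W y :=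
  ⟨hy, hW, fun _ _ h => S.one_point hz hy h⟩

theorem Safe.of_mul (S : Setting H z) {y w : G} (hy : y ∈ H) (hW : Fix W y) (hw : w ∈ W) (hwH : w ∈ H)
    (hz : IsConj z (y * w)) : Safe H W y := by
  refine ⟨hy, hW, fun c hc h => S.one_point hz (H.mul_mem hy hwH) ?_⟩
  have h1 : c⁻¹ * (y * w) * c = c⁻¹ * y * c * w := by
    rw [mul_assoc, mul_assoc y, ← hc w hw]
    group
  rw [h1]
  exact H.mul_mem h hwH

/-- An element whose centralizer in that of `W` lies in `H` is safe, if each involution of `H` centralizing `W`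
commutes with a conjugate of `z` there. -/
theorem Safe.of_centralizer (S : Setting H z) {y : G} (hy : y ∈ H) (hW : Fix W y) (hy2 : y ^ 2 = 1)
    (hcent : ∀ c : G, Fix W c → c * y = y * c → c ∈ H)
    (hz : ∀ y' ∈ H, Fix W y' → y' ^ 2 = 1 → ∃ v ∈ H, Fix W v ∧ IsConj z v ∧ v * y' = y' * v) :
    Safe H W y := by
  refine ⟨hy, hW, fun c hc h => ?_⟩
  have hF : Fix W (c⁻¹ * y * c) := (hc.inv.mul hW).mul hc
  have h2 : (c⁻¹ * y * c) ^ 2 = 1 := by
    have : (c⁻¹ * y * c) ^ 2 = c⁻¹ * y ^ 2 * c := by simp only [pow_two]; group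
    rw [this, hy2]; group
  obtain ⟨v, hv, hvW, hvz, hcomm⟩ := hz _ h hF h2
  have h3 : c * v * c⁻¹ ∈ H := by
    refine hcent _ ((hc.mul hvW).mul hc.inv) ?_
    have := congrArg (fun x => c * x * c⁻¹) hcomm
    simpa [mul_assoc] using this
  refine S.one_point (v := c * v * c⁻¹) (hvz.trans (isConj_iff.mpr ⟨c, rfl⟩)) h3 ?_
  simpa [mul_assoc] using hv

theorem inv_conj_pow {s t : G} (hs : s * s = 1) (ht : t * t = 1) (n : ℕ) :
    s * (s * t) ^ n * s = ((s * t) ^ n)⁻¹ := by
  have h1 : s * (s * t) * s⁻¹ = (s * t)⁻¹ := by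
    rw [inv_eq_of_mul_eq_one_right hs, mul_inv_rev, inv_eq_of_mul_eq_one_right ht, ← mul_assoc, hs, one_mul,
      inv_eq_of_mul_eq_one_right hs]
  have h2 := conj_pow (i := n) (a := s) (b := s * t)
  rw [h1, inv_eq_of_mul_eq_one_right hs, inv_pow] at h2
  exact h2.symm

theorem conj_left {s t : G} (hs : s * s = 1) (ht : t * t = 1) (j : ℕ) :
    (s * t) ^ j * s * ((s * t) ^ j)⁻¹ = (s * t) ^ (j + j) * s := by
  rw [← inv_conj_pow hs ht j, pow_add]
  simp only [mul_assoc]
  rw [← mul_assoc s s, hs, one_mul]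

/-- In the dihedral group on two involutions with even order of the product the central involution pairs the
classes. -/
theorem dihedral {s t : G} (hs : s * s = 1) (ht : t * t = 1) {k : ℕ} (hm : orderOf (s * t) = 2 * k) :
    (∃ j : ℕ, (s * t) ^ j * s * ((s * t) ^ j)⁻¹ = s * (s * t) ^ k ∧
      (s * t) ^ j * t * ((s * t) ^ j)⁻¹ = t * (s * t) ^ k) ∨
    (∃ j : ℕ, (s * t) ^ j * s * ((s * t) ^ j)⁻¹ = t * (s * t) ^ k ∧
      (s * t) ^ j * (s * (s * t) ^ k) * ((s * t) ^ j)⁻¹ = t) := by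
  generalize hd : s * t = d at hm ⊢
  have hsd : ∀ n, s * d ^ n * s = (d ^ n)⁻¹ := fun n => hd ▸ inv_conj_pow hs ht n
  have hcl : ∀ j, d ^ j * s * (d ^ j)⁻¹ = d ^ (j + j) * s := fun j => hd ▸ conj_left hs ht j
  have hk2 : d ^ k * d ^ k = 1 := by rw [← pow_add, ← two_mul, ← hm]; exact pow_orderOf_eq_one d
  have hsk : s * d ^ k = d ^ k * s := by
    have := hsd k
    rw [inv_eq_of_mul_eq_one_right hk2] at this
    calc s * d ^ k = s * d ^ k * (s * s) := by rw [hs, mul_one]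
      _ = s * d ^ k * s * s := by group
      _ = d ^ k * s := by rw [this]
  have ht' : t = s * d := by rw [← hd, ← mul_assoc, hs, one_mul]
  rcases Nat.even_or_odd k with ⟨l, hl⟩ | ⟨l, hl⟩
  · refine Or.inl ⟨l, by rw [hcl, ← hl, hsk], ?_⟩
    rw [ht']
    calc d ^ l * (s * d) * (d ^ l)⁻¹ = d ^ l * s * (d ^ l)⁻¹ * (d ^ l * d * (d ^ l)⁻¹) := by group
      _ = d ^ k * s * d := by rw [hcl, ← hl, ← pow_succ, pow_succ', mul_inv_cancel_right]
      _ = s * d * d ^ k := by rw [← hsk, mul_assoc, mul_assoc, ← pow_succ, ← pow_succ']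
  · refine Or.inr ⟨l, ?_⟩
    have hkey : t * d ^ k = d ^ (l + l) * s := by
      have h1 : d * (d ^ (l + l) * d ^ k) = 1 := by
        rw [← mul_assoc, ← pow_succ']
        have h2 : l + l + 1 = k := by omega
        rw [h2, hk2]
      have h3 : d ^ (l + l) * d ^ k = d⁻¹ := (inv_eq_of_mul_eq_one_right h1).symm
      have h4 : t = d⁻¹ * s := by
        rw [← hd, mul_inv_rev, inv_eq_of_mul_eq_one_right hs, inv_eq_of_mul_eq_one_right ht, mul_assoc, hs, mul_one]
      calc t * d ^ k = d⁻¹ * s * d ^ k := by rw [h4]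
        _ = d ^ (l + l) * d ^ k * d ^ k * s := by rw [mul_assoc, hsk, ← mul_assoc, ← h3]
        _ = d ^ (l + l) * s := by rw [mul_assoc (d ^ (l + l)), hk2, mul_one]
    refine ⟨(hcl l).trans hkey.symm, ?_⟩
    calc d ^ l * (s * d ^ k) * (d ^ l)⁻¹ = d ^ l * s * (d ^ l)⁻¹ * (d ^ l * d ^ k * (d ^ l)⁻¹) := by group
      _ = t * d ^ k * d ^ k := by
        rw [hcl, ← hkey, ← pow_add, add_comm, pow_add, mul_inv_cancel_right]
      _ = t := by rw [mul_assoc, hk2, mul_one]

/-- The pair criterion: two safe involutions `s`, `t` of the centralizer of `W` in `H`, not fused there, such that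
every involution there commuting with `s` lies in `W` or is safe, and no involution of `W` pairs their classes
as in a dihedral group. -/
theorem centralizer_le_of_pair [Finite G] {s t : G} (hs : Safe H W s) (hs2 : s * s = 1) (ht : Safe H W t)
    (ht2 : t * t = 1) (hne : ∀ h ∈ H, Fix W h → h * s * h⁻¹ ≠ t)
    (hsafe : ∀ y ∈ H, Fix W y → orderOf y = 2 → y * s = s * y → y ∈ W ∨ Safe H W y)
    (hpair : ∀ w ∈ W, orderOf w = 2 →
      (∀ h ∈ H, Fix W h → h * s * h⁻¹ ≠ s * w ∨ ∀ h' ∈ H, Fix W h' → h' * t * h'⁻¹ ≠ t * w) ∧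
      (∀ h ∈ H, Fix W h → h * s * h⁻¹ ≠ t * w ∨ h * (s * w) * h⁻¹ ≠ t)) :
    ∀ c : G, Fix W c → c ∈ H := by
  intro c hc
  set t' := c * t * c⁻¹ with ht'
  have ht'2 : t' * t' = 1 := by
    have : t' * t' = c * (t * t) * c⁻¹ := by simp only [ht']; group
    rw [this, ht2]; group
  set d := s * t' with hd
  have hdW : Fix W d := hs.2.1.mul ((hc.mul ht.2.1).mul hc.inv)
  rcases Nat.even_or_odd (orderOf d) with ⟨k, hk⟩ | ⟨k, hk⟩
  · have hk2 : orderOf (s * t') = 2 * k := by rw [← hd]; omega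
    have hkpos : 0 < k := by have := orderOf_pos d; omega
    have hw2 : orderOf (d ^ k) = 2 := by
      rw [orderOf_pow' d (by omega), show orderOf d = 2 * k by omega, Nat.gcd_mul_left_left,
        Nat.mul_div_cancel _ hkpos]
    have hwsq : d ^ k * d ^ k = 1 := by rw [← pow_two, ← hw2]; exact pow_orderOf_eq_one _
    have hws : d ^ k * s = s * d ^ k := by
      have h1 := inv_conj_pow hs2 ht'2 k
      rw [← hd, inv_eq_of_mul_eq_one_right hwsq] at h1
      calc d ^ k * s = s * d ^ k * s * s := by rw [h1]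
        _ = s * d ^ k * (s * s) := by group
        _ = s * d ^ k := by rw [hs2, mul_one]
    have hwt : d ^ k * t' = t' * d ^ k := by
      have h1 : t' = s * d := by rw [hd, ← mul_assoc, hs2, one_mul]
      rw [h1, ← mul_assoc, hws, mul_assoc, mul_assoc, ← pow_succ, ← pow_succ']
    have hwW : Fix W (d ^ k) := hdW.pow k
    by_cases hmem : d ^ k ∈ W
    · exfalso
      have hcw : c⁻¹ * d ^ k * c = d ^ k := by
        have := hc.inv.conj_eq hmem
        simpa using this
      rcases dihedral hs2 ht'2 hk2 with ⟨j, e1, e2⟩ | ⟨j, e1, e2⟩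
      · rw [← hd] at e1 e2
        have hF : Fix W (d ^ j) := hdW.pow j
        have hjH : d ^ j ∈ H := by
          refine (H.inv_mem_iff).mp (hs.2.2 (d ^ j)⁻¹ hF.inv ?_)
          rw [inv_inv, e1]
          have : d ^ k ∈ H := by
            refine hs.2.2 _ hwW ?_
            rw [mul_assoc, ← hws, inv_mul_cancel_left]; exact hs.1
          exact H.mul_mem hs.1 this
        have hwH : d ^ k ∈ H := by
          refine hs.2.2 _ hwW ?_
          rw [mul_assoc, ← hws, inv_mul_cancel_left]; exact hs.1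
        have e3 : (c⁻¹ * d ^ j * c) * t * (c⁻¹ * d ^ j * c)⁻¹ = t * d ^ k := by
          calc (c⁻¹ * d ^ j * c) * t * (c⁻¹ * d ^ j * c)⁻¹ = c⁻¹ * (d ^ j * t' * (d ^ j)⁻¹) * c := by
                simp only [ht']; group
            _ = t * (c⁻¹ * d ^ k * c) := by rw [e2, ht']; group
            _ = t * d ^ k := by rw [hcw]
        have hF' : Fix W (c⁻¹ * d ^ j * c) := (hc.inv.mul hF).mul hc
        have hjH' : c⁻¹ * d ^ j * c ∈ H := by
          refine (H.inv_mem_iff).mp (ht.2.2 _ hF'.inv ?_)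
          rw [inv_inv, e3]
          exact H.mul_mem ht.1 hwH
        rcases (hpair _ hmem hw2).1 _ hjH hF with h | h
        · exact h e1
        · exact h _ hjH' hF' e3
      · rw [← hd] at e1 e2
        have hF : Fix W (c⁻¹ * d ^ j) := hc.inv.mul (hdW.pow j)
        have hcw' : c⁻¹ * d ^ k = d ^ k * c⁻¹ := hc.inv _ hmem
        have f1 : (c⁻¹ * d ^ j) * s * (c⁻¹ * d ^ j)⁻¹ = t * d ^ k := by
          calc (c⁻¹ * d ^ j) * s * (c⁻¹ * d ^ j)⁻¹ = c⁻¹ * (d ^ j * s * (d ^ j)⁻¹) * c := by group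
            _ = t * (c⁻¹ * d ^ k * c) := by rw [e1, ht']; group
            _ = t * d ^ k := by rw [hcw]
        have f2 : (c⁻¹ * d ^ j) * (s * d ^ k) * (c⁻¹ * d ^ j)⁻¹ = t := by
          calc (c⁻¹ * d ^ j) * (s * d ^ k) * (c⁻¹ * d ^ j)⁻¹
                = c⁻¹ * (d ^ j * (s * d ^ k) * (d ^ j)⁻¹) * c := by group
            _ = t := by rw [e2, ht']; group
        have hwH : d ^ k ∈ H := by
          refine hs.2.2 _ hwW ?_
          rw [mul_assoc, ← hws, inv_mul_cancel_left]; exact hs.1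
        have hH : c⁻¹ * d ^ j ∈ H := by
          refine (H.inv_mem_iff).mp (hs.2.2 _ hF.inv ?_)
          rw [inv_inv, f1]
          exact H.mul_mem ht.1 hwH
        rcases (hpair _ hmem hw2).2 _ hH hF with h | h
        · exact h f1
        · exact h f2
    · have hwH : d ^ k ∈ H := by
        refine hs.2.2 _ hwW ?_
        rw [mul_assoc, ← hws, inv_mul_cancel_left]; exact hs.1
      rcases hsafe _ hwH hwW hw2 hws with h | h
      · exact absurd h hmem
      refine h.2.2 c hc ?_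
      refine ht.2.2 _ ((hc.inv.mul hwW).mul hc) ?_
      have : (c⁻¹ * d ^ k * c)⁻¹ * t * (c⁻¹ * d ^ k * c) = c⁻¹ * ((d ^ k)⁻¹ * (t' * d ^ k)) * c := by
        simp only [ht']; group
      rw [this, ← hwt, inv_mul_cancel_left, ht']
      simpa [mul_assoc] using ht.1
  · exfalso
    have hdk := conj_left hs2 ht'2 k
    rw [← hd] at hdk
    have h2k : d ^ (k + k) * s = t' := by
      have h1 : d ^ (k + k) * d = 1 := by
        rw [← pow_succ, ← pow_orderOf_eq_one d]
        congr 1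
        omega
      rw [eq_inv_of_mul_eq_one_left h1, hd, mul_inv_rev, inv_eq_of_mul_eq_one_right hs2,
        inv_eq_of_mul_eq_one_right ht'2, mul_assoc, hs2, mul_one]
    have e : (c⁻¹ * d ^ k) * s * (c⁻¹ * d ^ k)⁻¹ = t := by
      calc (c⁻¹ * d ^ k) * s * (c⁻¹ * d ^ k)⁻¹ = c⁻¹ * (d ^ k * s * (d ^ k)⁻¹) * c := by group
        _ = t := by rw [hdk, h2k, ht']; group
    have hF : Fix W (c⁻¹ * d ^ k) := hc.inv.mul (hdW.pow k)
    have hH : c⁻¹ * d ^ k ∈ H := by
      refine (H.inv_mem_iff).mp (hs.2.2 _ hF.inv ?_)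
      rw [inv_inv, e]; exact ht.1
    exact hne _ hH hF e

/-- The last step: `W` is empty, so the centralizer is the whole group. -/
theorem eq_top_of_pair [Finite G] (S : Setting H z) (hz : z ∈ H) (hz2 : z * z = 1) {u : G} (hu : u ∈ H)
    (hu2 : u * u = 1) (hne : ¬ IsConj z u) (hcu : ∀ c : G, c * u = u * c → c ∈ H)
    (hc : ∀ y ∈ H, orderOf y = 2 → y * z = z * y → IsConj z y ∨ ∀ c : G, c * y = y * c → c ∈ H)
    (hv : ∀ y' ∈ H, y' ^ 2 = 1 → ∃ v ∈ H, IsConj z v ∧ v * y' = y' * v) : H = ⊤ := by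
  have fx : ∀ c : G, Fix (∅ : Set G) c := fun c w hw => absurd hw (Set.notMem_empty w)
  have hv' : ∀ y' ∈ H, Fix (∅ : Set G) y' → y' ^ 2 = 1 →
      ∃ v ∈ H, Fix (∅ : Set G) v ∧ IsConj z v ∧ v * y' = y' * v := fun y' h _ h2 => by
    obtain ⟨v, a, b, c⟩ := hv y' h h2
    exact ⟨v, a, fx v, b, c⟩
  refine eq_top_iff.mpr fun c _ => centralizer_le_of_pair (W := ∅) (Safe.of_isConj S hz (fx z) (IsConj.refl z))
    hz2 (Safe.of_centralizer S hu (fx u) (by rw [pow_two, hu2]) (fun c _ h => hcu c h) hv') hu2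
    (fun h _ _ e => hne (isConj_iff.mpr ⟨h, e⟩)) (fun y hy _ h2 hcomm => Or.inr ?_)
    (fun w hw => absurd hw (Set.notMem_empty w)) c (fx c)
  rcases hc y hy h2 hcomm with h | h
  · exact Safe.of_isConj S hy (fx y) h
  · exact Safe.of_centralizer S hy (fx y) (by rw [← h2]; exact pow_orderOf_eq_one y) (fun c _ e => h c e) hv'

end Cfsg.Agent.TransvCent.Closing
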