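/-
The counting criterion for the closing step: a set `Y` of safe involutions larger than every subgroup without safe
elements forces the centralizer of `W` into `H`.
Main results: `centralizer_le_of_count`, `card_le_of_no_safe`, `centralizer_le_of_odd_count`.
-/
import Cfsg.Agent.Lib.TransvCent.Closing

set_option autoImplicit false

namespace Cfsg.Agent.TransvCent.Closing

variable {G : Type*} [Group G] {H : Subgroup G} {W : Set G}

/-- If every subgroup of the centralizer of `W` in `H` without safe elements has at most as many elements as `Y`,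
and is not abelian in case of equality, then the centralizer of `W` lies in `H`. -/
theorem centralizer_le_of_count [Finite G] (Y : Finset G) (hY : ∀ y ∈ Y, Safe H W y ∧ y * y = 1)
    (hne : Y.Nonempty)
    (hD : ∀ D : Subgroup G, (∀ d ∈ D, d ∈ H ∧ Fix W d) → (∀ d ∈ D, ¬ Safe H W d) →
      Nat.card D ≤ Y.card ∧ (Nat.card D = Y.card → ∃ a ∈ D, ∃ b ∈ D, a * b ≠ b * a)) :
    ∀ c : G, Fix W c → c ∈ H := by
  classical
  have := Fintype.ofFinite G
  intro c hc
  by_contra hcH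
  let o : G ⧸ H := QuotientGroup.mk 1
  let P : Finset (G ⧸ H) := ((Finset.univ.filter fun a : G => Fix W a).image QuotientGroup.mk).erase o
  have ho : ∀ a : G, (QuotientGroup.mk a : G ⧸ H) = o ↔ a ∈ H := fun a => by
    constructor
    · intro h
      simpa using QuotientGroup.eq.mp h.symm
    · intro h
      exact (QuotientGroup.eq.mpr (by simpa using h)).symm
  have hP : P.Nonempty := ⟨QuotientGroup.mk c, by
    simp only [P, Finset.mem_erase, Finset.mem_image, Finset.mem_filter, Finset.mem_univ, true_and]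
    exact ⟨fun h => hcH ((ho c).mp h), c, hc, rfl⟩⟩
  have hrep : ∀ p ∈ P, ∃ a : G, Fix W a ∧ QuotientGroup.mk a = p ∧ a ∉ H := fun p hp => by
    simp only [P, Finset.mem_erase, Finset.mem_image, Finset.mem_filter, Finset.mem_univ, true_and] at hp
    obtain ⟨h1, a, ha, rfl⟩ := hp
    exact ⟨a, ha, rfl, fun h => h1 ((ho a).mpr h)⟩
  choose r hr using hrep
  let g : {x // x ∈ P} × {y // y ∈ Y} → G := fun q => r q.1.1 q.1.2 * q.2.1 * (r q.1.1 q.1.2)⁻¹
  have ginj : Function.Injective g := by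
    rintro ⟨⟨p, hp⟩, ⟨y, hy⟩⟩ ⟨⟨p', hp'⟩, ⟨y', hy'⟩⟩ e
    simp only [g] at e
    have h1 : ((r p hp)⁻¹ * r p' hp')⁻¹ * y * ((r p hp)⁻¹ * r p' hp') = y' := by
      calc _ = (r p' hp')⁻¹ * (r p hp * y * (r p hp)⁻¹) * r p' hp' := by group
        _ = y' := by rw [e]; group
    have h2 := (hY y hy).1.2.2 _ ((hr p hp).1.inv.mul (hr p' hp').1) (by rw [h1]; exact (hY y' hy').1.1)
    have h3 : p = p' := by
      rw [← (hr p hp).2.1, ← (hr p' hp').2.1]; exact QuotientGroup.eq.mpr h2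
    subst h3
    simpa using e
  have gmem : ∀ q, Fix W (g q) ∧ g q * g q = 1 ∧ g q ∉ H := by
    rintro ⟨⟨p, hp⟩, ⟨y, hy⟩⟩
    refine ⟨((hr p hp).1.mul (hY y hy).1.2.1).mul (hr p hp).1.inv, ?_, fun h => ?_⟩
    · show r p hp * y * (r p hp)⁻¹ * (r p hp * y * (r p hp)⁻¹) = 1
      calc _ = r p hp * (y * y) * (r p hp)⁻¹ := by group
        _ = 1 := by rw [(hY y hy).2]; group
    · refine (hr p hp).2.2 (H.inv_mem_iff.mp ((hY y hy).1.2.2 _ (hr p hp).1.inv ?_))
      rw [inv_inv]; exact h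
  let I : Finset G := Finset.univ.image g
  have hI : I.card = P.card * Y.card := by
    rw [Finset.card_image_of_injective _ ginj, Finset.card_univ, Fintype.card_prod, Fintype.card_coe,
      Fintype.card_coe]
  have hmap : ∀ x ∈ I, (QuotientGroup.mk x : G ⧸ H) ∈ P := fun x hx => by
    obtain ⟨q, _, rfl⟩ := Finset.mem_image.mp hx
    simp only [P, Finset.mem_erase, Finset.mem_image, Finset.mem_filter, Finset.mem_univ, true_and]
    exact ⟨fun h => (gmem q).2.2 ((ho _).mp h), g q, (gmem q).1, rfl⟩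
  obtain ⟨p, _, hpn⟩ :=
    Finset.exists_le_card_fiber_of_mul_le_card_of_maps_to (n := Y.card) hmap hP (le_of_eq hI.symm)
  set F := I.filter fun x => (QuotientGroup.mk x : G ⧸ H) = p
  have hF : ∀ x ∈ F, Fix W x ∧ x * x = 1 ∧ x ∉ H ∧ (QuotientGroup.mk x : G ⧸ H) = p := fun x hx => by
    obtain ⟨h1, h2⟩ := Finset.mem_filter.mp hx
    obtain ⟨q, _, rfl⟩ := Finset.mem_image.mp h1
    exact ⟨(gmem q).1, (gmem q).2.1, (gmem q).2.2, h2⟩
  obtain ⟨y0, hy0⟩ := Finset.card_pos.mp (lt_of_lt_of_le (Finset.card_pos.mpr hne) hpn)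
  obtain ⟨y0W, y0sq, y0H, y0p⟩ := hF y0 hy0
  let D : Subgroup G :=
    { carrier := {d | d ∈ H ∧ Fix W d ∧ y0⁻¹ * d * y0 ∈ H}
      one_mem' := ⟨H.one_mem, Fix.one W, by simp⟩
      mul_mem' := fun {a b} ha hb => ⟨H.mul_mem ha.1 hb.1, ha.2.1.mul hb.2.1, by
        have : y0⁻¹ * (a * b) * y0 = y0⁻¹ * a * y0 * (y0⁻¹ * b * y0) := by group
        rw [this]; exact H.mul_mem ha.2.2 hb.2.2⟩
      inv_mem' := fun {a} ha => ⟨H.inv_mem ha.1, ha.2.1.inv, by
        have : y0⁻¹ * a⁻¹ * y0 = (y0⁻¹ * a * y0)⁻¹ := by group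
        rw [this]; exact H.inv_mem ha.2.2⟩ }
  have y0inv : y0⁻¹ = y0 := inv_eq_of_mul_eq_one_right y0sq
  have hpow : ∀ x ∈ F, y0 * x ∈ D ∧ y0 * (y0 * x) * y0 = (y0 * x)⁻¹ := fun x hx => by
    obtain ⟨xW, xsq, xH, xp⟩ := hF x hx
    have xinv : x⁻¹ = x := inv_eq_of_mul_eq_one_right xsq
    have hmem : y0 * x ∈ H := by
      have := QuotientGroup.eq.mp (y0p.trans xp.symm)
      rwa [y0inv] at this
    refine ⟨⟨hmem, y0W.mul xW, ?_⟩, ?_⟩
    · have : y0⁻¹ * (y0 * x) * y0 = (y0 * x)⁻¹ := by rw [mul_inv_rev, y0inv, xinv, ← mul_assoc, y0sq, one_mul]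
      rw [this]; exact H.inv_mem hmem
    · rw [mul_inv_rev, y0inv, xinv, ← mul_assoc, y0sq, one_mul]
  obtain ⟨hle, heq⟩ := hD D (fun d hd => ⟨hd.1, hd.2.1⟩) (fun d hd hs => y0H (hs.2.2 y0 y0W hd.2.2))
  have hsub : F.image (fun x => y0 * x) ⊆ Finset.univ.filter (fun d => d ∈ D) := fun d hd => by
    obtain ⟨x, hx, rfl⟩ := Finset.mem_image.mp hd
    exact Finset.mem_filter.mpr ⟨Finset.mem_univ _, (hpow x hx).1⟩
  have hcard : (Finset.univ.filter fun d => d ∈ D).card = Nat.card D := by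
    rw [Nat.card_eq_fintype_card, Fintype.card_subtype]
  have hFc : (F.image fun x => y0 * x).card = F.card := Finset.card_image_of_injective _ (mul_right_injective y0)
  have h1 := Finset.card_le_card hsub
  rw [hFc, hcard] at h1
  obtain ⟨a, ha, b, hb, hab⟩ := heq (le_antisymm hle (hpn.trans h1))
  have hall : ∀ d ∈ D, y0 * d * y0 = d⁻¹ := fun d hd => by
    have h2 := Finset.eq_of_subset_of_card_le hsub (by rw [hFc, hcard]; exact hle.trans hpn)
    have : d ∈ F.image fun x => y0 * x := by rw [h2]; exact Finset.mem_filter.mpr ⟨Finset.mem_univ _, hd⟩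
    obtain ⟨x, hx, rfl⟩ := Finset.mem_image.mp this
    exact (hpow x hx).2
  apply hab
  have h3 := hall (a * b) (D.mul_mem ha hb)
  have h4 : y0 * (a * b) * y0 = a⁻¹ * b⁻¹ := by
    rw [← hall a ha, ← hall b hb]
    calc y0 * (a * b) * y0 = y0 * a * (y0 * y0) * b * y0 := by rw [y0sq]; group
      _ = y0 * a * y0 * (y0 * b * y0) := by group
  rw [h4] at h3
  simpa using (congrArg Inv.inv h3).symm

/-- A subgroup of a group of order `N = 2 ^ a * m` without safe elements, where the involutions outside `W` are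
safe and no element of order 4 squares into `W`, has at most `(|W| + 1) * m` elements. -/
theorem card_le_of_no_safe [Finite G] (Wf : Finset G) (hWf : ∀ w ∈ W, w ∈ Wf) {a m : ℕ} (K : Subgroup G)
    (hN : Nat.card K = 2 ^ a * m) (hm : 0 < m) (D : Subgroup G) (hDK : D ≤ K)
    (hsafe : ∀ y ∈ K, orderOf y = 2 → y ∈ W ∨ Safe H W y) (h4 : ∀ x ∈ K, orderOf x = 4 → x ^ 2 ∉ W)
    (hD : ∀ d ∈ D, ¬ Safe H W d) : Nat.card D ≤ (Wf.card + 1) * m := by
  classical
  obtain ⟨S⟩ : Nonempty (Sylow 2 D) := inferInstance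
  have hS : ∀ x : D, x ∈ (S : Subgroup D) → (x : G) ∈ insert 1 Wf := fun x hx => by
    obtain ⟨r, hr⟩ := (IsPGroup.iff_orderOf (p := 2)).mp S.2 ⟨x, hx⟩
    rw [Subgroup.orderOf_mk] at hr
    replace hr : orderOf (x : G) = 2 ^ r := (Subgroup.orderOf_coe x).trans hr
    rcases r with _ | _ | r
    · simp at hr
      simp [hr]
    · replace hr : orderOf (x : G) = 2 := hr.trans (by norm_num)
      rcases hsafe _ (hDK x.2) hr with h | h
      · exact Finset.mem_insert_of_mem (hWf _ h)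
      · exact absurd h (hD _ x.2)
    · exfalso
      have hy : orderOf ((x : G) ^ 2 ^ r) = 4 := by
        rw [orderOf_pow' _ (by positivity), hr, Nat.gcd_eq_right (Dvd.intro 4 (by ring)),
          show 2 ^ (r + 1 + 1) = 4 * 2 ^ r by ring, Nat.mul_div_cancel _ (by positivity)]
      have hy2 : orderOf (((x : G) ^ 2 ^ r) ^ 2) = 2 := by rw [orderOf_pow' _ two_ne_zero, hy]; rfl
      have hmem : ((x : G) ^ 2 ^ r) ^ 2 ∈ D := D.pow_mem (D.pow_mem x.2 _) 2
      rcases hsafe _ (hDK hmem) hy2 with h | h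
      · exact h4 _ (hDK (D.pow_mem x.2 _)) hy h
      · exact hD _ hmem h
  have hScard : Nat.card (S : Subgroup D) ≤ Wf.card + 1 := by
    refine le_trans ?_ (Finset.card_insert_le (1 : G) Wf)
    rw [← Nat.card_eq_finsetCard]
    exact Nat.card_le_card_of_injective (fun x : ↥(S : Subgroup D) => ⟨((x : D) : G), hS x.1 x.2⟩)
      fun x y h => Subtype.ext (Subtype.ext (congrArg Subtype.val h :))
  have hidx : (S : Subgroup D).index ∣ m := by
    have h1 : (S : Subgroup D).index ∣ 2 ^ a * m := hN ▸ (Subgroup.index_dvd_card _).trans (Subgroup.card_dvd_of_le hDK)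
    refine (Nat.Coprime.pow_right a ?_).dvd_of_dvd_mul_left h1
    exact ((Nat.prime_two.coprime_iff_not_dvd).mpr S.not_dvd_index).symm
  rw [← Subgroup.card_mul_index (S : Subgroup D)]
  exact Nat.mul_le_mul hScard (Nat.le_of_dvd hm hidx)

/-- The counting criterion when all involutions outside `W` are safe. -/
theorem centralizer_le_of_odd_count [Finite G] (Y Wf : Finset G) (hY : ∀ y ∈ Y, Safe H W y ∧ y * y = 1)
    (hne : Y.Nonempty) (hWf : ∀ w ∈ W, w ∈ Wf) {a m : ℕ} (K : Subgroup G) (hK : ∀ d : G, d ∈ K ↔ d ∈ H ∧ Fix W d)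
    (hN : Nat.card K = 2 ^ a * m) (hm : 0 < m) (hsafe : ∀ y ∈ K, orderOf y = 2 → y ∈ W ∨ Safe H W y)
    (h4 : ∀ x ∈ K, orderOf x = 4 → x ^ 2 ∉ W) (hnum : (Wf.card + 1) * m ≤ Y.card)
    (hab : ∀ D : Subgroup G, D ≤ K → Nat.card D = Y.card → ∃ u ∈ D, ∃ v ∈ D, u * v ≠ v * u) :
    ∀ c : G, Fix W c → c ∈ H :=
  centralizer_le_of_count Y hY hne fun D hDK hD =>
    ⟨(card_le_of_no_safe Wf hWf K hN hm D (fun d hd => (hK d).mpr (hDK d hd)) hsafe h4 hD).trans hnum,
      fun h => hab D (fun d hd => (hK d).mpr (hDK d hd)) h⟩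

end Cfsg.Agent.TransvCent.Closing
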