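/-
The closing step on a model `M` of the subgroup: certificates stated in `M` alone.
Main definitions: `Model.Closed`, `Model.Safe`.
Main result: `Model.range_eq_top`.
-/
import Cfsg.Agent.Lib.TransvCent.ClosingCount

set_option autoImplicit false

namespace Cfsg.Agent.TransvCent.Closing.Model

open Closing

variable {M : Type*} [Group M]

mutual

/-- A certificate that in every group having `M` as a subgroup as in the setting the centralizer of `W` lies
in `M`. -/
inductive Closed (z : M) : Set M → Prop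
  /-- Two safe involutions of separate classes. -/
  | pair {W : Set M} (s t : M) (hs : Safe z W s) (hs2 : s * s = 1) (ht : Safe z W t) (ht2 : t * t = 1)
      (hne : ∀ h : M, Closing.Fix W h → h * s * h⁻¹ ≠ t)
      (hsafe : ∀ y : M, Closing.Fix W y → orderOf y = 2 → y * s = s * y → y ∉ W → Safe z W y)
      (hpair : ∀ w ∈ W, orderOf w = 2 →
        ((∀ h : M, Closing.Fix W h → h * s * h⁻¹ ≠ s * w) ∨ (∀ h : M, Closing.Fix W h → h * t * h⁻¹ ≠ t * w)) ∧
        (∀ h : M, Closing.Fix W h → h * s * h⁻¹ ≠ t * w ∨ h * (s * w) * h⁻¹ ≠ t)) : Closed z W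
  /-- Many safe involutions. -/
  | count {W : Set M} (Y Wf : Finset M) (a m : ℕ) (K : Subgroup M) (hY : ∀ y ∈ Y, Safe z W y)
      (hY2 : ∀ y ∈ Y, y * y = 1) (hne : Y.Nonempty) (hWf : ∀ w ∈ W, w ∈ Wf)
      (hK : ∀ d : M, d ∈ K ↔ Closing.Fix W d) (hN : Nat.card K = 2 ^ a * m) (hm : 0 < m)
      (hsafe : ∀ y ∈ K, orderOf y = 2 → y ∉ W → Safe z W y)
      (h4 : ∀ x ∈ K, orderOf x = 4 → x ^ 2 ∉ W) (hnum : (Wf.card + 1) * m ≤ Y.card)
      (hab : ∀ D : Subgroup M, D ≤ K → Nat.card D = Y.card → ∃ u ∈ D, ∃ v ∈ D, u * v ≠ v * u) : Closed z W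
  /-- Conjugation. -/
  | conj {W : Set M} (g : M) (h : Closed z W) : Closed z ((fun x => g * x * g⁻¹) '' W)
  /-- A set generating at least as much. -/
  | mono {W W' : Set M} (hle : W' ⊆ (Subgroup.closure W : Set M)) (h : Closed z W') : Closed z W

/-- A certificate that `y` fixes one point only among the cosets of the centralizer of `W`. -/
inductive Safe (z : M) : Set M → M → Prop
  /-- A conjugate of `z`. -/
  | of_isConj {W : Set M} {y : M} (hW : Closing.Fix W y) (hz : IsConj z y) : Safe z W y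
  /-- A conjugate of `z` up to an element of `W`. -/
  | of_mul {W : Set M} {y : M} (w : M) (hW : Closing.Fix W y) (hw : w ∈ W) (hz : IsConj z (y * w)) : Safe z W y
  /-- An element with a closed centralizer. -/
  | of_closed {W : Set M} {y : M} (hW : Closing.Fix W y) (hy2 : y ^ 2 = 1) (h : Closed z (insert y W))
      (hv : ∀ y' : M, Closing.Fix W y' → y' ^ 2 = 1 →
        ∃ v : M, Closing.Fix W v ∧ IsConj z v ∧ v * y' = y' * v) : Safe z W y
  /-- Conjugation. -/
  | of_conj {W : Set M} {y : M} (g : M) (hg : Closing.Fix W g) (h : Safe z W y) : Safe z W (g * y * g⁻¹)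

end

variable {G : Type*} [Group G] {φ : M →* G} {z : M}

theorem fix_map {W : Set M} {y : M} (h : Closing.Fix W y) : Closing.Fix (φ '' W) (φ y) := by
  rintro _ ⟨w, hw, rfl⟩
  rw [← map_mul, h w hw, map_mul]

theorem fix_of_map (hinj : Function.Injective φ) {W : Set M} {y : M} (h : Closing.Fix (φ '' W) (φ y)) :
    Closing.Fix W y := fun w hw => hinj (by rw [map_mul, map_mul]; exact h _ ⟨w, hw, rfl⟩)

theorem sound [Finite G] (hinj : Function.Injective φ) (S : Closing.Setting φ.range (φ z)) {W : Set M} (h : Closed z W) :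
    ∀ c : G, Closing.Fix (φ '' W) c → c ∈ φ.range := by
  have key : ∀ (W : Set M), (Closed z W → ∀ c : G, Closing.Fix (φ '' W) c → c ∈ φ.range) := by
    intro W h
    refine Closed.rec (motive_1 := fun W _ => ∀ c : G, Closing.Fix (φ '' W) c → c ∈ φ.range)
      (motive_2 := fun W y _ => Closing.Safe φ.range (φ '' W) (φ y)) ?_ ?_ ?_ ?_ ?_ ?_ ?_ ?_ h
    · intro W s t _ hs2 _ ht2 hne _ hpair ihs iht ihsafe
      refine Closing.centralizer_le_of_pair ihs (by rw [← map_mul, hs2, map_one]) iht
        (by rw [← map_mul, ht2, map_one]) ?_ ?_ ?_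
      · rintro _ ⟨h, rfl⟩ hF e
        exact hne h (fix_of_map hinj hF) (hinj (by simpa using e))
      · rintro _ ⟨y, rfl⟩ hF h2 hc
        by_cases hy : y ∈ W
        · exact Or.inl ⟨y, hy, rfl⟩
        · exact Or.inr (ihsafe y (fix_of_map hinj hF) (by rwa [orderOf_injective φ hinj] at h2)
            (hinj (by simpa using hc)) hy)
      · rintro _ ⟨w, hw, rfl⟩ h2
        rw [orderOf_injective φ hinj] at h2
        obtain ⟨p1, p2⟩ := hpair w hw h2
        refine ⟨?_, ?_⟩
        · rintro _ ⟨h, rfl⟩ hF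
          rcases p1 with p | p
          · exact Or.inl fun e => p h (fix_of_map hinj hF) (hinj (by simpa using e))
          · refine Or.inr ?_
            rintro _ ⟨h', rfl⟩ hF' e
            exact p h' (fix_of_map hinj hF') (hinj (by simpa using e))
        · rintro _ ⟨h, rfl⟩ hF
          rcases p2 h (fix_of_map hinj hF) with p | p
          · exact Or.inl fun e => p (hinj (by simpa using e))
          · exact Or.inr fun e => p (hinj (by simpa using e))
    · intro W Y Wf a m K _ hY2 hne hWf hK hN hm _ h4 hnum hab ihY ihsafe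
      classical
      refine Closing.centralizer_le_of_odd_count (Y.image φ) (Wf.image φ) ?_ (hne.image φ) ?_ (K.map φ) ?_
        (a := a) (m := m) ?_ hm ?_ ?_ ?_ ?_
      · intro y hy
        obtain ⟨x, hx, rfl⟩ := Finset.mem_image.mp hy
        exact ⟨ihY x hx, by rw [← map_mul, hY2 x hx, map_one]⟩
      · rintro _ ⟨w, hw, rfl⟩
        exact Finset.mem_image_of_mem φ (hWf w hw)
      · intro d
        constructor
        · rintro ⟨k, hk, rfl⟩
          exact ⟨⟨k, rfl⟩, fix_map ((hK k).mp hk)⟩
        · rintro ⟨⟨k, rfl⟩, hF⟩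
          exact ⟨k, (hK k).mpr (fix_of_map hinj hF), rfl⟩
      · rw [Nat.card_congr (K.equivMapOfInjective φ hinj).toEquiv.symm, hN]
      · rintro _ ⟨y, hy, rfl⟩ h2
        by_cases hyW : y ∈ W
        · exact Or.inl ⟨y, hyW, rfl⟩
        · exact Or.inr (ihsafe y hy (by rwa [orderOf_injective φ hinj] at h2) hyW)
      · rintro _ ⟨x, hx, rfl⟩ h2 ⟨w, hw, e⟩
        rw [orderOf_injective φ hinj] at h2
        exact h4 x hx h2 (by rwa [hinj (by simpa using e : φ w = φ (x ^ 2))] at hw)
      · rw [Finset.card_image_of_injective _ hinj, Finset.card_image_of_injective _ hinj]; exact hnum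
      · intro D hD hcard
        have hDr : D ≤ φ.range := hD.trans (Subgroup.map_le_range _ _)
        obtain ⟨u, hu, v, hv, huv⟩ := hab (D.comap φ)
          (fun x hx => (Subgroup.mem_map_iff_mem hinj).mp (hD hx))
          (by
            rw [← Finset.card_image_of_injective Y hinj, ← hcard,
              Nat.card_congr ((D.comap φ).equivMapOfInjective φ hinj).toEquiv, Subgroup.map_comap_eq_self hDr])
        exact ⟨φ u, hu, φ v, hv, fun e => huv (hinj (by simpa using e))⟩
    · intro W g _ ih c hc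
      have h1 : (φ g)⁻¹ * c * φ g ∈ φ.range := by
        refine ih _ ?_
        rintro _ ⟨w, hw, rfl⟩
        have := hc (φ (g * w * g⁻¹)) ⟨_, ⟨w, hw, rfl⟩, rfl⟩
        rw [map_mul, map_mul, map_inv] at this
        calc (φ g)⁻¹ * c * φ g * φ w = (φ g)⁻¹ * (c * (φ g * φ w * (φ g)⁻¹)) * φ g := by group
          _ = φ w * ((φ g)⁻¹ * c * φ g) := by rw [this]; group
      obtain ⟨k, hk⟩ := h1
      exact ⟨g * k * g⁻¹, by rw [map_mul, map_mul, map_inv, hk]; group⟩
    · intro W W' hle _ ih c hc
      have hsub : (Subgroup.closure W).map φ ≤ Subgroup.centralizer ({c} : Set G) := by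
        rw [MonoidHom.map_closure, Subgroup.closure_le]
        rintro _ ⟨w, hw, rfl⟩
        exact Subgroup.mem_centralizer_singleton_iff.mpr (hc _ ⟨w, hw, rfl⟩).symm
      refine ih c ?_
      rintro _ ⟨w, hw, rfl⟩
      exact (Subgroup.mem_centralizer_singleton_iff.mp (hsub ⟨w, hle hw, rfl⟩)).symm
    · intro W y hW hz
      exact Closing.Safe.of_isConj S ⟨y, rfl⟩ (fix_map hW) (φ.map_isConj hz)
    · intro W y w hW hw hz
      exact Closing.Safe.of_mul S ⟨y, rfl⟩ (fix_map hW) ⟨w, hw, rfl⟩ ⟨w, rfl⟩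
        (by rw [← map_mul]; exact φ.map_isConj hz)
    · intro W y hW hy2 _ hv ih
      refine Closing.Safe.of_centralizer S ⟨y, rfl⟩ (fix_map hW) (by rw [← map_pow, hy2, map_one]) ?_ ?_
      · intro c hc hcomm
        refine ih c ?_
        rintro _ ⟨w, hw, rfl⟩
        rcases Set.mem_insert_iff.mp hw with rfl | hw
        · exact hcomm
        · exact hc _ ⟨w, hw, rfl⟩
      · rintro _ ⟨y', rfl⟩ hF h2
        obtain ⟨v, a, b, c⟩ := hv y' (fix_of_map hinj hF) (hinj (by simpa using h2))
        exact ⟨φ v, ⟨v, rfl⟩, fix_map a, φ.map_isConj b, by rw [← map_mul, c, map_mul]⟩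
    · intro W y g hg _ ih
      refine ⟨⟨_, rfl⟩, ?_, fun c hc h => ?_⟩
      · rw [map_mul, map_mul, map_inv]
        exact ((fix_map hg).mul ih.2.1).mul (fix_map hg).inv
      · have hgW : Closing.Fix (φ '' W) (φ g) := fix_map hg
        have h1 : (φ g)⁻¹ * c ∈ φ.range := ih.2.2 _ (hgW.inv.mul hc) (by
          convert h using 1
          simp only [map_mul, map_inv]; group)
        simpa using φ.range.mul_mem (⟨g, rfl⟩ : φ g ∈ φ.range) h1
  exact key W h

/-- The closing step: an embedded copy of `M` containing the centralizer of `z` and not fusing other classes to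
that of `z` is the whole group, if the empty set is closed. -/
theorem range_eq_top [Finite G] (hinj : Function.Injective φ) (h : Closed z (∅ : Set M))
    (hcent : ∀ c : G, c * φ z = φ z * c → c ∈ φ.range)
    (hfuse : ∀ m : M, IsConj (φ z) (φ m) → IsConj z m) : φ.range = ⊤ := by
  have S : Closing.Setting φ.range (φ z) := ⟨hcent, fun g hg => by
    obtain ⟨m, hm⟩ := hg
    obtain ⟨k, hk⟩ := isConj_iff.mp (hfuse m (isConj_iff.mpr ⟨g, hm.symm⟩))
    exact ⟨φ k, ⟨k, rfl⟩, by rw [← map_inv, ← map_mul, ← map_mul, hk, hm]⟩⟩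
  exact eq_top_iff.mpr fun c _ => sound hinj S h c fun w hw => by simp at hw

end Cfsg.Agent.TransvCent.Closing.Model
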