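import Cfsg.Agent.Lib.TransvCent.AmalgamNorm

/-
Complements of the elementary group in its normaliser.

* `exists_side` : an orbit of 21 or 45 points gives a side through one of four complements
-/

set_option autoImplicit false

namespace Cfsg.Agent.TransvCent.Amalgam

variable {G : Type*} [Group G] {z : G}

/-- The coded element acts on the coordinates `L` as the packed map `P`. -/
def actsAs (L : List ℕ) (d P : ℕ) : Bool :=
  isElt d && linOK P && (List.range 6).all fun k =>
    mul d (L.getD (2 ^ k) 0) == mul (L.getD (pget P (2 ^ k)) 0) d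

/-- A list of complements for the coordinates `L` is complete among the lifts of the first one. -/
def compOK (L : List ℕ) (comp : List (ℕ × ℕ)) : Bool :=
  comp.all (fun pq => pqOK pq.1 pq.2 && actsAs L pq.1 pAct && actsAs L pq.2 qAct) && comp.length == 4 &&
  compRels.all (fun r => letPQ r && trivW gAct21 gAct21Inv r && trivW gAct45 gAct45Inv r) &&
  compSols.all (fun s => Nat.blt s.2.2.1 4 && Nat.blt s.2.2.2 64 &&
    mul (mul (L.getD s.2.2.2 0) (mul (L.getD s.1 0) (comp.getD 0 (0, 0)).1)) (L.getD s.2.2.2 0) ==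
      (comp.getD s.2.2.1 (0, 0)).1 &&
    mul (mul (L.getD s.2.2.2 0) (mul (L.getD s.2.1 0) (comp.getD 0 (0, 0)).2)) (L.getD s.2.2.2 0) ==
      (comp.getD s.2.2.1 (0, 0)).2) &&
  (List.range 64).all fun u => (List.range 64).all fun v =>
    (compRels.any fun r =>
      codeW (mul (L.getD u 0) (comp.getD 0 (0, 0)).1) (mul (L.getD v 0) (comp.getD 0 (0, 0)).2) r != one) ||
    !pqOK (mul (L.getD u 0) (comp.getD 0 (0, 0)).1) (mul (L.getD v 0) (comp.getD 0 (0, 0)).2) ||
    compSols.any fun s => s.1 == u && s.2.1 == v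

/-- The relevant orbits. -/
def IsKind (K : Kind) : Prop := K = kind21 ∨ K = kind45

theorem maps_code (c : Coding z) {L : List ℕ} (hL : coordsOK L = true) {d P : ℕ} (h : actsAs L d P = true)
    {a : G} (ha : Commute a z) (hd : c.f a = d) : Maps (coord c L) a (pget P) := by
  simp only [actsAs, Bool.and_eq_true] at h
  refine Maps.of_basis (coord_elem c hL) h.1.2 fun k hk => ?_
  have hk2 : (2 : ℕ) ^ k < 64 := Nat.pow_lt_pow_right (a := 2) (by decide) hk
  obtain ⟨h1, h1'⟩ := coord_spec c hL hk2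
  obtain ⟨h2, h2'⟩ := coord_spec c hL (pget_lt P (2 ^ k))
  have := beq_iff_eq.1 (List.all_eq_true.1 h.2 k (List.mem_range.2 hk))
  rw [← hd, ← h1', ← h2', ← c.map_mul _ _ ha h1, ← c.map_mul _ _ h2 ha,
    c.eq_iff (ha.mul_left h1) (h2.mul_left ha)] at this
  rw [mul_inv_eq_iff_eq_mul]
  exact this

theorem exists_side (c : Coding z) {L : List ℕ} {comp : List (ℕ × ℕ)} {K : Kind} (hK : IsKind K)
    (hL : coordsOK L = true) (hC : compOK L comp = true) (hkind : kindOK K = true)
    (hS : Pres (coord c L) K.orb)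
    (hmove : ∃ g, NormU (coord c L) g ∧ g * z * g⁻¹ = coord c L 4) :
    ∃ i < 4, Nonempty (Side c (coord c L) (comp.getD i (0, 0)).1 (comp.getD i (0, 0)).2 K) := by
  classical
  have E := coord_elem c hL
  simp only [compOK, Bool.and_eq_true, beq_iff_eq] at hC
  obtain ⟨⟨⟨⟨hcomp, hlen⟩, hrels⟩, hsols⟩, hall⟩ := hC
  simp only [kindOK, Bool.and_eq_true] at hkind
  obtain ⟨⟨⟨⟨⟨⟨⟨⟨⟨⟨⟨hlin, hinv⟩, hH⟩, -⟩, hhw⟩, hhact⟩, hnp⟩, hnq⟩, hng⟩, hbas⟩, htab⟩, hleaf⟩ := hkind
  have hget : ∀ i < 4, ∀ a, a = comp.getD i (0, 0) → pqOK a.1 a.2 = true ∧ actsAs L a.1 pAct = true ∧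
      actsAs L a.2 qAct = true := by
    intro i hi a ha
    have hm : a ∈ comp := by
      rw [ha, List.getD_eq_getElem _ _ (by omega)]; exact List.getElem_mem _
    have := List.all_eq_true.1 hcomp a hm
    simp only [Bool.and_eq_true] at this
    exact ⟨this.1.1, this.1.2, this.2⟩
  have elt : ∀ i < 4, ∀ a, a = comp.getD i (0, 0) →
      (Commute (c.pre a.1) z ∧ c.f (c.pre a.1) = a.1) ∧ (Commute (c.pre a.2) z ∧ c.f (c.pre a.2) = a.2) := by
    intro i hi a ha
    have := (hget i hi a ha).1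
    simp only [pqOK, Bool.and_eq_true] at this
    exact ⟨c.pre_spec (mem_of_isElt this.1.1.1.1), c.pre_spec (mem_of_isElt this.1.1.1.2)⟩
  generalize ha0 : comp.getD 0 (0, 0) = a0 at hsols hall
  obtain ⟨hp0, hq0⟩ := elt 0 (by decide) a0 ha0.symm
  have mp0 := maps_code c hL (hget 0 (by decide) a0 ha0.symm).2.1 hp0.1 hp0.2
  have mq0 := maps_code c hL (hget 0 (by decide) a0 ha0.symm).2.2 hq0.1 hq0.2
  -- the element moving `z` to 4, and its table
  obtain ⟨g₁, hg₁, hg₁z⟩ := hmove
  choose σ₀ hσ₀ using hg₁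
  let σ : ℕ → ℕ := fun j => if h : j < 64 then σ₀ j h else 0
  have hσ : Maps (coord c L) g₁ σ := fun j hj => by
    simp only [σ, dif_pos hj]
    exact hσ₀ j hj
  have hσ1 : σ 1 = 4 := E.inj (hσ 1 (by decide)).1 (by decide) ((hσ 1 (by decide)).2.symm.trans (by rw [E.one_eq]; exact hg₁z))
  have hmem := mem_tables E hS (fun k hk => List.all_eq_true.1 hbas k (List.mem_range.2 hk)) hσ hσ1 5 le_rfl
  obtain ⟨l, hl, hlT⟩ := List.any_eq_true.1 (List.all_eq_true.1 htab _ hmem)
  have hσl : Maps (coord c L) g₁ (pget l.1) := hσ.congr fun j hj => by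
    have := beq_iff_eq.1 (List.all_eq_true.1 hlT j (List.mem_range.2 hj))
    rwa [List.getD_eq_getElem _ _ (by simpa using hj), List.getElem_map, List.getElem_range] at this
  have hlw := List.all_eq_true.1 hleaf l hl
  simp only [Bool.and_eq_true] at hlw
  -- lifts of the three generators and of the map of order three
  let p₀ := c.pre a0.1
  let q₀ := c.pre a0.2
  let g₀ := g₁ * evK p₀ q₀ 1 l.2
  have mg0 : Maps (coord c L) g₀ (pget K.g) := by
    have hone : Maps (coord c L) (1 : G) id := Maps.one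
    have hw : Maps (coord c L) (evK p₀ q₀ 1 l.2) (actW K.g K.g' l.2) := by
      have key : ∀ w : List ℕ, letPQ w = true → Maps (coord c L) (evK p₀ q₀ 1 w) (actW K.g K.g' w) := by
        intro w
        induction w with
        | nil => intro _; exact hone
        | cons a w ih =>
          intro h
          simp only [letPQ, List.all_cons, Bool.and_eq_true, Nat.blt_eq] at h
          rw [evK_cons]
          have hpq := check_inv_pq
          rw [Bool.and_eq_true] at hpq
          refine Maps.mul (σ := pget (letterAct K.g K.g' a)) ?_ (ih h.2)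
          rcases a with _ | _ | _ | _ | a
          · exact mp0
          · exact maps_inv mp0 hpq.1
          · exact mq0
          · exact maps_inv mq0 hpq.2
          · exact absurd h.1 (by omega)
      exact key _ hlw.1.1
    exact (hσl.mul hw).congr fun j hj => beq_iff_eq.1 (List.all_eq_true.1 hlw.2 j (List.mem_range.2 hj))
  let x₀ := evK p₀ q₀ g₀ K.hw
  have mx : Maps (coord c L) x₀ (pget K.h) :=
    (maps_evK mp0 mq0 mg0 hinv K.hw hhw).congr fun j hj =>
      beq_iff_eq.1 (List.all_eq_true.1 hhact j (List.mem_range.2 hj))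
  obtain ⟨u, hu, nu⟩ := exists_norm E hH mx mp0 (fun _ _ => rfl) hnp
  obtain ⟨v, hv, nv⟩ := exists_norm E hH mx mq0 (fun _ _ => rfl) hnq
  obtain ⟨t, ht, nt⟩ := exists_norm E hH mx mg0 (fun _ _ => rfl) hng
  have mp1 : Maps (coord c L) (coord c L u * p₀) (pget pAct) := (Maps.coord E hu).mul mp0
  have mq1 : Maps (coord c L) (coord c L v * q₀) (pget qAct) := (Maps.coord E hv).mul mq0
  have mg1 : Maps (coord c L) (coord c L t * g₀) (pget K.g) := (Maps.coord E ht).mul mg0
  have triv1 : ∀ w, trivW K.g K.g' w = true →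
      evK (coord c L u * p₀) (coord c L v * q₀) (coord c L t * g₀) w = 1 := fun w hw => by
    simp only [trivW, Bool.and_eq_true] at hw
    exact eq_one_of_norm E hH mx (NormH.evK nu nv nt w) (maps_evK mp1 mq1 mg1 hinv w hw.1)
      fun j hj => beq_iff_eq.1 (List.all_eq_true.1 hw.2 j (List.mem_range.2 hj))
  -- the lifts form one of the listed complements, up to conjugation
  have hcu := coord_spec c hL hu
  have hcv := coord_spec c hL hv
  have hpu : Commute (coord c L u * p₀) z ∧ c.f (coord c L u * p₀) = mul (L.getD u 0) a0.1 :=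
    ⟨hcu.1.mul_left hp0.1, by rw [c.map_mul _ _ hcu.1 hp0.1, hcu.2, hp0.2]⟩
  have hqv : Commute (coord c L v * q₀) z ∧ c.f (coord c L v * q₀) = mul (L.getD v 0) a0.2 :=
    ⟨hcv.1.mul_left hq0.1, by rw [c.map_mul _ _ hcv.1 hq0.1, hcv.2, hq0.2]⟩
  have hrel := List.all_eq_true.1 (List.all_eq_true.1 hall u (List.mem_range.2 hu)) v (List.mem_range.2 hv)
  have trivR : ∀ r ∈ compRels, letPQ r = true ∧ trivW K.g K.g' r = true := fun r hr => by
    have := List.all_eq_true.1 hrels r hr
    simp only [Bool.and_eq_true] at this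
    rcases hK with rfl | rfl
    · exact ⟨this.1.1, this.1.2⟩
    · exact ⟨this.1.1, this.2⟩
  have hpow : pqOK (mul (L.getD u 0) a0.1) (mul (L.getD v 0) a0.2) = true := by
    have h1 : (coord c L u * p₀) * (coord c L u * p₀) = 1 := by
      have := triv1 [0, 0] (by rcases hK with rfl | rfl <;> decide +kernel)
      simpa [evK, evLet] using this
    have h2 : (coord c L v * q₀) * ((coord c L v * q₀) * ((coord c L v * q₀) * (coord c L v * q₀))) = 1 := by
      have := triv1 [2, 2, 2, 2] (by rcases hK with rfl | rfl <;> decide +kernel)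
      simpa [evK, evLet, mul_assoc] using this
    have m2 := hqv.1.mul_left hqv.1
    have m3 := hqv.1.mul_left m2
    have hisE : ∀ {a : G}, Commute a z → isElt (c.f a) = true := fun {a} ha => by
      obtain ⟨m, hm, hd⟩ := List.mem_flatMap.1 (c.mem a ha)
      obtain ⟨r, hr, hd⟩ := List.mem_map.1 hd
      rw [List.mem_range] at hr
      have hmod := List.all_eq_true.1 (by decide +kernel : levi.all (fun m => m % 128 == 0) = true) m hm
      rw [beq_iff_eq] at hmod
      rw [isElt, ← hd, List.contains_iff_mem, Nat.add_mod, hmod, Nat.zero_add, Nat.mod_mod,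
        Nat.mod_eq_of_lt hr, Nat.add_sub_cancel]
      exact hm
    simp only [pqOK, Bool.and_eq_true, beq_iff_eq, ← hpu.2, ← hqv.2]
    refine ⟨⟨⟨⟨hisE hpu.1, hisE hqv.1⟩, ?_⟩, ?_⟩, ?_⟩
    · rw [← c.map_mul _ _ hqv.1 hqv.1, ← c.map_mul _ _ hqv.1 m2]; exact hisE m3
    · rw [← c.map_mul _ _ hpu.1 hpu.1, h1, c.map_one]
    · rw [← c.map_mul _ _ hqv.1 hqv.1, ← c.map_mul _ _ hqv.1 m2, ← c.map_mul _ _ hqv.1 m3, h2, c.map_one]
  rw [Bool.or_eq_true, Bool.or_eq_true, hpow] at hrel
  rcases hrel with (hrel | hrel) | hrel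
  · obtain ⟨r, hr, hne⟩ := List.any_eq_true.1 hrel
    have hc := code_evK c (coord c L t * g₀) hpow hpu hqv r (trivR r hr).1
    rw [triv1 r (trivR r hr).2, c.map_one] at hc
    rw [bne_iff_ne] at hne
    exact absurd hc.2.symm hne
  · exact Bool.noConfusion hrel
  obtain ⟨s, hs, hsuv⟩ := List.any_eq_true.1 hrel
  rw [Bool.and_eq_true, beq_iff_eq, beq_iff_eq] at hsuv
  have hs' := List.all_eq_true.1 hsols s hs
  simp only [Bool.and_eq_true, Nat.blt_eq, beq_iff_eq, hsuv.1, hsuv.2] at hs'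
  obtain ⟨⟨⟨hi, hw⟩, hsp⟩, hsq⟩ := hs'
  refine ⟨s.2.2.1, hi, ⟨?_⟩⟩
  let d := coord c L s.2.2.2
  have hd := coord_spec c hL hw
  have hdd : d⁻¹ = d := E.inv hw
  have conjC : ∀ {y : G} {k : ℕ}, Commute y z ∧ c.f y = k →
      Commute (d * y * d⁻¹) z ∧ c.f (d * y * d⁻¹) = mul (mul (L.getD s.2.2.2 0) k) (L.getD s.2.2.2 0) := by
    intro y k hy
    rw [hdd]
    exact ⟨(hd.1.mul_left hy.1).mul_left hd.1, by
      rw [c.map_mul _ _ (hd.1.mul_left hy.1) hd.1, c.map_mul _ _ hd.1 hy.1, hd.2, hy.2]⟩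
  have conjM : ∀ {y : G} {P : ℕ}, Maps (coord c L) y (pget P) → Maps (coord c L) (d * y * d⁻¹) (pget P) := by
    intro y P hy
    rw [hdd]
    exact ((Maps.coord E hw).mul hy).mul (Maps.coord E hw)
  have mpF := conjM mp1
  have mqF := conjM mq1
  have mgF := conjM mg1
  have mxF := conjM mx
  exact ⟨_, _, _, ⟨(conjC hpu).1, (conjC hpu).2.trans hsp⟩, ⟨(conjC hqv).1, (conjC hqv).2.trans hsq⟩,
    mpF, mqF, mgF, hinv, fun w hw' => by
      simp only [trivW, Bool.and_eq_true] at hw'
      exact eq_one_of_norm E hH mxF (NormH.evK nu.conj nv.conj nt.conj w) (maps_evK mpF mqF mgF hinv w hw'.1)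
        fun j hj => beq_iff_eq.1 (List.all_eq_true.1 hw'.2 j (List.mem_range.2 hj))⟩

theorem check_kind21 : kindOK kind21 = true := by decide +kernel

theorem check_kind45 : kindOK kind45 = true := by decide +kernel

end Cfsg.Agent.TransvCent.Amalgam
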