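import Cfsg.Agent.Lib.TransvCent.AmalgamBaseCheck
import Cfsg.Agent.Lib.TransvCent.AmalgamSide
import Mathlib.Tactic.IntervalCases

/-
How a side normalises the second group, and how the two sides are linked.

* `excl` : the orbit on the second group determines the complement
* `exists_linked` : after moving the first side by `z` the two linking elements are the chosen ones
-/

set_option autoImplicit false

namespace Cfsg.Agent.TransvCent.Amalgam

variable {G : Type*} [Group G] {z : G}

/-- A row: a coordinate and a word, and the word after conjugation. -/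
abbrev Row := ℕ × List ℕ × List ℕ

/-- The word `k` acts on the coordinates of the second group by `d`. -/
def rowsOK (K : Kind) (pc qc : ℕ) (k : List ℕ) (rows : List Row) (d : ℕ) : Bool :=
  letW k && linOK d && (List.range 6).all fun jj =>
    let r := rows.getD jj (0, [], [])
    Nat.blt r.1 64 && letPQ r.2.1 && letPQ r.2.2 && trivW K.g K.g' (k ++ r.2.1 ++ invW k ++ invW r.2.2) &&
      mul (uA.getD r.1 0) (codeW pc qc r.2.1) == uB.getD (2 ^ jj) 0 &&
      mul (uA.getD (actW K.g K.g' k r.1) 0) (codeW pc qc r.2.2) == uB.getD (pget d (2 ^ jj)) 0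

theorem letW_of_letPQ {w : List ℕ} (h : letPQ w = true) : letW w = true := by
  simp only [letPQ, letW, List.all_eq_true, Nat.blt_eq] at h ⊢
  exact fun a ha => lt_of_lt_of_le (h a ha) (by decide)

theorem letW_append {v w : List ℕ} (hv : letW v = true) (hw : letW w = true) : letW (v ++ w) = true := by
  simp only [letW, List.all_append, Bool.and_eq_true] at hv hw ⊢
  exact ⟨hv, hw⟩

theorem letW_invW {w : List ℕ} (h : letW w = true) : letW (invW w) = true := by
  simp only [letW, invW, List.all_eq_true, List.mem_map, List.mem_reverse, Nat.blt_eq] at h ⊢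
  rintro a ⟨b, hb, rfl⟩
  have h6 : b < 6 := h b hb
  interval_cases b <;> decide

variable {c : Coding z} {pc qc : ℕ} {K : Kind}

theorem Side.eq_conj {e : ℕ → G} (S : Side c e pc qc K) {k v w : List ℕ} (hk : letW k = true)
    (hw : letW w = true) (h : trivW K.g K.g' (k ++ v ++ invW k ++ invW w) = true) :
    S.ev k * S.ev v * (S.ev k)⁻¹ = S.ev w := by
  have := S.eq_of_same hw (v := k ++ v ++ invW k) h
  rw [← this]
  simp only [Side.ev, evK_append, evK_invW _ _ _ _ hk]

theorem code_coord_mul (c : Coding z) {L : List ℕ} (hL : coordsOK L = true) {u : ℕ} (hu : u < 64) {y : G}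
    {k : ℕ} (hy : Commute y z ∧ c.f y = k) :
    Commute (coord c L u * y) z ∧ c.f (coord c L u * y) = mul (L.getD u 0) k := by
  obtain ⟨h1, h2⟩ := coord_spec c hL hu
  exact ⟨h1.mul_left hy.1, by rw [c.map_mul _ _ h1 hy.1, h2, hy.2]⟩

theorem maps_second (SA : Side c (coord c uA) pc qc K) {k : List ℕ} {rows : List Row} {d : ℕ}
    (hpq : pqOK pc qc = true) (h : rowsOK K pc qc k rows d = true) :
    Maps (coord c uB) (SA.ev k) (pget d) := by
  simp only [rowsOK, Bool.and_eq_true] at h
  obtain ⟨⟨hk, hd⟩, hrows⟩ := h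
  refine Maps.of_basis (coord_elem c check_coords_uB) hd fun jj hjj => ?_
  have hr := List.all_eq_true.1 hrows jj (List.mem_range.2 hjj)
  simp only [Bool.and_eq_true, Nat.blt_eq, beq_iff_eq] at hr
  generalize rows.getD jj (0, [], []) = r at hr
  obtain ⟨⟨⟨⟨⟨hu, hw⟩, hw'⟩, htr⟩, e1⟩, e2⟩ := hr
  have h2 : (2 : ℕ) ^ jj < 64 := Nat.pow_lt_pow_right (a := 2) (by decide) hjj
  have cw := code_evK c SA.g hpq SA.hp SA.hq _ hw
  have cw' := code_evK c SA.g hpq SA.hp SA.hq _ hw'
  have a1 := code_coord_mul c check_coords_uA hu cw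
  have hlt := actW_lt K.g K.g' k hu
  have a2 := code_coord_mul c check_coords_uA hlt cw'
  obtain ⟨b1, b1'⟩ := coord_spec c check_coords_uB h2
  obtain ⟨b2, b2'⟩ := coord_spec c check_coords_uB (pget_lt d (2 ^ jj))
  rw [← a1.2, ← b1', c.eq_iff a1.1 b1] at e1
  rw [← a2.2, ← b2', c.eq_iff a2.1 b2] at e2
  rw [← e1, ← e2, ← ((SA.maps hk) r.1 hu).2]
  show SA.ev k * (coord c uA r.1 * SA.ev r.2.1) * (SA.ev k)⁻¹ =
    SA.ev k * coord c uA r.1 * (SA.ev k)⁻¹ * SA.ev r.2.2
  rw [← SA.eq_conj hk (letW_of_letPQ hw') htr]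
  group

/-- Some member of the set leaves it under the map. -/
def moves (S d : ℕ) : Bool := (List.range 64).any fun s => S.testBit s && !S.testBit (pget d s)

theorem not_pres {g : G} {d S : ℕ} (hg : Maps (coord c uB) g (pget d)) (hS : Pres (coord c uB) S) :
    moves S d = false := by
  rw [Bool.eq_false_iff]
  intro h
  obtain ⟨s, hs, hh⟩ := List.any_eq_true.1 h
  rw [List.mem_range] at hs
  rw [Bool.and_eq_true, Bool.not_eq_true'] at hh
  obtain ⟨t, ht, htS, hte⟩ := hS g (fun j hj => ⟨_, hg j hj⟩) s hs hh.1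
  have := (coord_elem c check_coords_uB).inj (hg s hs).1 ht ((hg s hs).2.symm.trans hte)
  rw [this, htS] at hh
  exact Bool.noConfusion hh.2

/-- The data excluding orbits for a kind and a complement. -/
def exclData (b45 : Bool) (i : ℕ) : List ℕ × List Row × ℕ :=
  if b45 then [excl45_0, excl45_1, excl45_2, excl45_3].getD i ([], [], 0)
  else [excl21_0, excl21_1, excl21_2, excl21_3].getD i ([], [], 0)

/-- The check of the data. -/
def exclOK (b45 : Bool) (i : ℕ) : Bool :=
  let D := exclData b45 i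
  pqOK (compA.getD i (0, 0)).1 (compA.getD i (0, 0)).2 &&
    rowsOK (if b45 then kind45 else kind21) (compA.getD i (0, 0)).1 (compA.getD i (0, 0)).2 D.1 D.2.1 D.2.2 &&
    moves orb3 D.2.2 && (i == 0 || moves orb21 D.2.2) && (i == 3 || moves orb45 D.2.2)

theorem check_excl : ([false, true].all fun b => (List.range 4).all fun i => exclOK b i) = true := by
  decide +kernel

/-- The orbit on the second group determines the complement on the first side. -/
theorem excl {i : ℕ} (hi : i < 4) (hK : IsKind K)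
    (SA : Side c (coord c uA) (compA.getD i (0, 0)).1 (compA.getD i (0, 0)).2 K) {S : ℕ}
    (hSmem : S = orb3 ∨ S = orb21 ∨ S = orb45) (hS : Pres (coord c uB) S) :
    (i = 0 ∧ S = orb21) ∨ (i = 3 ∧ S = orb45) := by
  have key : ∀ b : Bool, K = (if b then kind45 else kind21) → (i = 0 ∧ S = orb21) ∨ (i = 3 ∧ S = orb45) := by
    intro b hb
    have h := List.all_eq_true.1 (List.all_eq_true.1 check_excl b (by cases b <;> simp)) i (List.mem_range.2 hi)
    simp only [exclOK, Bool.and_eq_true, ← hb] at h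
    have hm := not_pres (maps_second SA h.1.1.1.1 h.1.1.1.2) hS
    rcases hSmem with rfl | rfl | rfl
    · rw [h.1.1.2] at hm; exact Bool.noConfusion hm
    · refine Or.inl ⟨?_, rfl⟩
      simpa [hm] using h.1.2
    · refine Or.inr ⟨?_, rfl⟩
      simpa [hm] using h.2
  rcases hK with h | h
  · exact key false h
  · exact key true h

/-- One linking element: word, rows, induced map, word on the second side, tests, candidates, link, twist. -/
abbrev Link := List ℕ × List Row × ℕ × List ℕ × List (ℕ × List ℕ × List ℕ × ℕ × List ℕ × List ℕ) ×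
  List ℕ × ℕ × ℕ

/-- The check of one linking element. -/
def linkOK (KA KB : Kind) (A B : ℕ × ℕ) (l : Link) : Bool :=
  let (w, rows, d, dw, tests, us, cm, tw) := l
  rowsOK KA A.1 A.2 w rows d && letW dw && Nat.blt cm 64 && Nat.blt tw 64 &&
    (List.range 64).all (fun j => pget d j == actW KB.g KB.g' dw j &&
      pget d (actW KB.g KB.g' (invW dw) j) == j) &&
    tests.all (fun (ua, wa, wa', ub, lb, lb') => Nat.blt ua 64 && Nat.blt ub 64 && letPQ wa && letPQ wa' &&
      letPQ lb && letPQ lb' && trivW KA.g KA.g' (w ++ wa ++ invW w ++ invW wa') &&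
      trivW KB.g KB.g' (dw ++ lb ++ invW dw ++ invW lb') &&
      mul (uA.getD ua 0) (codeW A.1 A.2 wa) == mul (uB.getD ub 0) (codeW B.1 B.2 lb)) &&
    (List.range 64).all (fun u => us.contains u || tests.any fun (ua, _, wa', ub, _, lb') =>
      mul (uA.getD (actW KA.g KA.g' w ua) 0) (codeW A.1 A.2 wa') !=
        mul (mul (uB.getD u 0) (mul (uB.getD (actW KB.g KB.g' dw ub) 0) (codeW B.1 B.2 lb'))) (uB.getD u 0)) &&
    cm == tw ^^^ 1 ^^^ actW KB.g KB.g' dw 1

variable {KA KB : Kind} {A B : ℕ × ℕ}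

theorem exists_link (SA : Side c (coord c uA) A.1 A.2 KA) (SB : Side c (coord c uB) B.1 B.2 KB)
    (hA : pqOK A.1 A.2 = true) (hB : pqOK B.1 B.2 = true) {l : Link} (h : linkOK KA KB A B l = true) :
    ∃ u < 64, u ∈ l.2.2.2.2.2.1 ∧ SA.ev l.1 = coord c uB u * SB.ev l.2.2.2.1 := by
  obtain ⟨w, rows, d, dw, tests, us, cm, tw⟩ := l
  simp only [linkOK, Bool.and_eq_true] at h
  obtain ⟨⟨⟨⟨⟨⟨⟨hrows, hdw⟩, -⟩, -⟩, hact⟩, htests⟩, hus⟩, -⟩ := h
  have E := coord_elem c check_coords_uB
  have hm := maps_second SA hA hrows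
  have hinv : SB.ev (invW dw) = (SB.ev dw)⁻¹ := evK_invW _ _ _ _ hdw
  obtain ⟨u, hu, hue⟩ := ((hm.mul (SB.maps (letW_invW hdw)))).eq_coord E fun j hj => by
    have := List.all_eq_true.1 hact j (List.mem_range.2 hj)
    rw [Bool.and_eq_true] at this
    exact beq_iff_eq.1 this.2
  have heq : SA.ev w = coord c uB u * SB.ev dw := by
    rw [← hue, hinv, inv_mul_cancel_right]
  refine ⟨u, hu, ?_, heq⟩
  have hor := List.all_eq_true.1 hus u (List.mem_range.2 hu)
  rw [Bool.or_eq_true, List.contains_iff_mem] at hor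
  refine hor.elim id fun hany => absurd hany ?_
  rw [List.any_eq_true]
  rintro ⟨⟨ua, wa, wa', ub, lb, lb'⟩, ht, hne⟩
  have hT := List.all_eq_true.1 htests _ ht
  simp only [Bool.and_eq_true, Nat.blt_eq, beq_iff_eq] at hT
  obtain ⟨⟨⟨⟨⟨⟨⟨⟨hua, hub⟩, hwa⟩, hwa'⟩, hlb⟩, hlb'⟩, tA⟩, tB⟩, e0⟩ := hT
  have hw : letW w = true := by
    simp only [rowsOK, Bool.and_eq_true] at hrows
    exact hrows.1.1
  have a0 := code_coord_mul c check_coords_uA hua (code_evK c SA.g hA SA.hp SA.hq _ hwa)
  have b0 := code_coord_mul c check_coords_uB hub (code_evK c SB.g hB SB.hp SB.hq _ hlb)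
  rw [← a0.2, ← b0.2, c.eq_iff a0.1 b0.1] at e0
  have hla := actW_lt KA.g KA.g' w hua
  have hlb2 := actW_lt KB.g KB.g' dw hub
  have a1 := code_coord_mul c check_coords_uA hla (code_evK c SA.g hA SA.hp SA.hq _ hwa')
  have b1 := code_coord_mul c check_coords_uB hlb2 (code_evK c SB.g hB SB.hp SB.hq _ hlb')
  obtain ⟨cu, cu'⟩ := coord_spec c check_coords_uB hu
  rw [← a1.2, ← b1.2, ← cu', ← c.map_mul _ _ cu b1.1, ← c.map_mul _ _ (cu.mul_left b1.1) cu, bne_iff_ne] at hne
  refine hne (congrArg c.f ?_)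
  have lA : coord c uA (actW KA.g KA.g' w ua) * SA.ev wa' =
      SA.ev w * (coord c uA ua * SA.ev wa) * (SA.ev w)⁻¹ := by
    rw [← SA.eq_conj hw (letW_of_letPQ hwa') tA, ← ((SA.maps hw) ua hua).2]; group
  have lB : coord c uB (actW KB.g KB.g' dw ub) * SB.ev lb' =
      SB.ev dw * (coord c uB ub * SB.ev lb) * (SB.ev dw)⁻¹ := by
    rw [← SB.eq_conj hdw (letW_of_letPQ hlb') tB, ← ((SB.maps hdw) ub hub).2]; group
  show coord c uA (actW KA.g KA.g' w ua) * SA.ev wa' =
    coord c uB u * (coord c uB (actW KB.g KB.g' dw ub) * SB.ev lb') * coord c uB u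
  rw [lA, lB, show coord c uA ua * SA.ev wa = coord c uB ub * SB.ev lb from e0, heq, mul_inv_rev, E.inv hu]
  group

/-- The letters of the equations: the common elements, then the two links. -/
def eqnLetters (common : List (List ℕ × ℕ × List ℕ)) (links : List Link) (u0 u1 : ℕ) :
    List (List ℕ × ℕ × List ℕ) :=
  common ++ [((links.getD 0 default).1, u0, (links.getD 0 default).2.2.2.1),
    ((links.getD 1 default).1, u1, (links.getD 1 default).2.2.2.1)]

/-- The coordinate carried by a product of letters. -/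
def eqnVal (KB : Kind) (L : List (List ℕ × ℕ × List ℕ)) (a : List ℕ) : ℕ :=
  a.foldr (fun l v => (L.getD l default).2.1 ^^^ actW KB.g KB.g' (L.getD l default).2.2 v) 0

/-- The concatenated words of a product of letters. -/
def eqnWord (L : List (List ℕ × ℕ × List ℕ)) (second : Bool) (a : List ℕ) : List ℕ :=
  a.flatMap fun l => if second then (L.getD l default).2.2 else (L.getD l default).1

/-- The check of all links of a case. -/
def caseOK (KA KB : Kind) (A B : ℕ × ℕ) (common : List (List ℕ × ℕ × List ℕ)) (links : List Link)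
    (eqns : List (List ℕ × List ℕ)) : Bool :=
  let l0 := links.getD 0 default
  let l1 := links.getD 1 default
  pqOK A.1 A.2 && pqOK B.1 B.2 && linkOK KA KB A B l0 && linkOK KA KB A B l1 &&
    common.all (fun (wa, v, lb) => Nat.blt v 64 && letPQ wa && letPQ lb &&
      codeW A.1 A.2 wa == mul (uB.getD v 0) (codeW B.1 B.2 lb)) &&
    eqns.all (fun (a, b) =>
      let L := eqnLetters common links 0 0
      (a ++ b).all (fun l => Nat.blt l L.length) &&
      trivW KA.g KA.g' (eqnWord L false a ++ invW (eqnWord L false b)) &&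
      trivW KB.g KB.g' (eqnWord L true a ++ invW (eqnWord L true b))) &&
    l0.2.2.2.2.2.1.all (fun u0 => l1.2.2.2.2.2.1.all fun u1 =>
      eqns.any (fun (a, b) =>
        eqnVal KB (eqnLetters common links u0 u1) a != eqnVal KB (eqnLetters common links u0 u1) b) ||
      (u0 == l0.2.2.2.2.2.2.1 && u1 == l1.2.2.2.2.2.2.1) ||
      (u0 == l0.2.2.2.2.2.2.2 && u1 == l1.2.2.2.2.2.2.2))

/-- The first side conjugated by `z`. -/
theorem exists_twist (SA : Side c (coord c uA) A.1 A.2 KA) :
    ∃ S' : Side c (coord c uA) A.1 A.2 KA, ∀ w, S'.ev w = z * SA.ev w * z⁻¹ := by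
  have E := coord_elem c check_coords_uA
  have e1 : coord c uA 1 = z := E.one_eq
  have mz : Maps (coord c uA) z id := by
    have h1 := Maps.coord E (i := 1) (Nat.one_lt_two_pow_iff.2 (by decide : (6 : ℕ) ≠ 0))
    rwa [e1] at h1
  have mzi : Maps (coord c uA) z⁻¹ id := mz.inv fun j hj => ⟨hj, rfl⟩
  have hp : z * SA.p * z⁻¹ = SA.p := by rw [SA.hp.1.symm.eq, mul_inv_cancel_right]
  have hq : z * SA.q * z⁻¹ = SA.q := by rw [SA.hq.1.symm.eq, mul_inv_cancel_right]
  have key : ∀ w, evK SA.p SA.q (z * SA.g * z⁻¹) w = z * SA.ev w * z⁻¹ := by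
    intro w
    have hom : ∀ a, evLet SA.p SA.q (z * SA.g * z⁻¹) a = z * evLet SA.p SA.q SA.g a * z⁻¹ := by
      intro a
      rcases a with _ | _ | _ | _ | _ | _ | a
      · exact hp.symm
      · show SA.p⁻¹ = z * SA.p⁻¹ * z⁻¹
        conv_lhs => rw [← hp]
        group
      · exact hq.symm
      · show SA.q⁻¹ = z * SA.q⁻¹ * z⁻¹
        conv_lhs => rw [← hq]
        group
      · rfl
      · show (z * SA.g * z⁻¹)⁻¹ = z * SA.g⁻¹ * z⁻¹
        group
      · simp [evLet]
    induction w with
    | nil => simp [Side.ev, evK]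
    | cons a w ih =>
      rw [evK_cons, ih, hom a]
      simp only [Side.ev, evK_cons]
      group
  refine ⟨⟨SA.p, SA.q, z * SA.g * z⁻¹, SA.hp, SA.hq, SA.maps_p, SA.maps_q, ((mz.mul SA.maps_g).mul mzi),
    SA.inv_g, fun w hw => ?_⟩, key⟩
  have hs : SA.ev w = 1 := SA.triv w hw
  rw [key w, hs]
  group

theorem exists_linked (SA : Side c (coord c uA) A.1 A.2 KA) (SB : Side c (coord c uB) B.1 B.2 KB)
    {common : List (List ℕ × ℕ × List ℕ)} {links : List Link} {eqns : List (List ℕ × List ℕ)}
    (h : caseOK KA KB A B common links eqns = true) :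
    ∃ S : Side c (coord c uA) A.1 A.2 KA, ∀ k < 2,
      S.ev (links.getD k default).1 =
        coord c uB (links.getD k default).2.2.2.2.2.2.1 * SB.ev (links.getD k default).2.2.2.1 := by
  simp only [caseOK, Bool.and_eq_true] at h
  obtain ⟨⟨⟨⟨⟨⟨hA, hB⟩, hl0⟩, hl1⟩, hcom⟩, heq⟩, hsel⟩ := h
  have E := coord_elem c check_coords_uB
  obtain ⟨u0, hu0, m0, e0⟩ := exists_link SA SB hA hB hl0
  obtain ⟨u1, hu1, m1, e1⟩ := exists_link SA SB hA hB hl1
  set L := eqnLetters common links u0 u1 with hLdef
  have hlen : (eqnLetters common links 0 0).length = L.length := by simp [hLdef, eqnLetters]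
  have hword : ∀ (a : List ℕ) (b : Bool), eqnWord (eqnLetters common links 0 0) b a = eqnWord L b a := by
    intro a b
    refine List.flatMap_congr fun l _ => ?_
    rcases Nat.lt_or_ge l common.length with hl | hl
    · simp only [hLdef, eqnLetters, List.getD_append _ _ _ _ hl]
    · simp only [hLdef, eqnLetters, List.getD_append_right _ _ _ _ hl]
      rcases l - common.length with _ | _ | n <;> cases b <;> simp
  -- every letter is a coordinate times an element of the second side
  have hlet : ∀ l < L.length, (L.getD l default).2.1 < 64 ∧ letW (L.getD l default).2.2 = true ∧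
      SA.ev (L.getD l default).1 = coord c uB (L.getD l default).2.1 * SB.ev (L.getD l default).2.2 := by
    intro l hl
    rcases Nat.lt_or_ge l common.length with hlc | hlc
    · simp only [hLdef, eqnLetters, List.getD_append _ _ _ _ hlc]
      have hm : common.getD l default ∈ common := by
        rw [List.getD_eq_getElem _ _ hlc]; exact List.getElem_mem _
      have hh := List.all_eq_true.1 hcom _ hm
      generalize common.getD l default = r at hh
      obtain ⟨wa, v, lb⟩ := r
      simp only [Bool.and_eq_true, Nat.blt_eq, beq_iff_eq] at hh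
      obtain ⟨⟨⟨hv, hwa⟩, hlb⟩, hc⟩ := hh
      have a1 := code_evK c SA.g hA SA.hp SA.hq _ hwa
      have b1 := code_coord_mul c check_coords_uB hv (code_evK c SB.g hB SB.hp SB.hq _ hlb)
      refine ⟨hv, letW_of_letPQ hlb, ?_⟩
      rw [← a1.2, ← b1.2, c.eq_iff a1.1 b1.1] at hc
      exact hc
    · have hcl : l = common.length ∨ l = common.length + 1 := by
        have : L.length = common.length + 2 := by simp [hLdef, eqnLetters]
        omega
      simp only [linkOK, Bool.and_eq_true] at hl0 hl1
      rcases hcl with rfl | rfl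
      · simp only [hLdef, eqnLetters, List.getD_append_right _ _ _ _ hlc, Nat.sub_self]
        exact ⟨hu0, hl0.1.1.1.1.1.1.2, e0⟩
      · simp only [hLdef, eqnLetters, List.getD_append_right _ _ _ _ hlc, Nat.add_sub_cancel_left]
        exact ⟨hu1, hl1.1.1.1.1.1.1.2, e1⟩
  have prod : ∀ a : List ℕ, (∀ l ∈ a, l < L.length) →
      letW (eqnWord L true a) = true ∧ eqnVal KB L a < 64 ∧
        SA.ev (eqnWord L false a) = coord c uB (eqnVal KB L a) * SB.ev (eqnWord L true a) := by
    intro a
    induction a with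
    | nil => intro _; refine ⟨rfl, (show (0 : ℕ) < 64 by decide), ?_⟩; simp [eqnWord, eqnVal, Side.ev, evK, E.zero]
    | cons l a ih =>
      intro hl
      obtain ⟨w1, v1, p1⟩ := ih fun x hx => hl x (List.mem_cons_of_mem l hx)
      obtain ⟨v2, w2, p2⟩ := hlet l (hl l List.mem_cons_self)
      have hlt := actW_lt KB.g KB.g' (L.getD l default).2.2 v1
      refine ⟨?_, Nat.xor_lt_two_pow (n := 6) v2 hlt, ?_⟩
      · simpa [eqnWord] using letW_append w2 w1
      have e1 : ∀ (S : List ℕ → G), (∀ v w, S (v ++ w) = S v * S w) → ∀ b,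
          S (eqnWord L b (l :: a)) = S (if b then (L.getD l default).2.2 else (L.getD l default).1) *
            S (eqnWord L b a) := fun S hS b => by simp only [eqnWord, List.flatMap_cons, hS]
      rw [e1 SA.ev (fun v w => evK_append _ _ _ v w) false, e1 SB.ev (fun v w => evK_append _ _ _ v w) true]
      simp only [Bool.false_eq_true, if_false, if_true]
      rw [p2, p1, show eqnVal KB L (l :: a) =
        (L.getD l default).2.1 ^^^ actW KB.g KB.g' (L.getD l default).2.2 (eqnVal KB L a) from rfl,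
        ← E.add _ v2 _ hlt, ← ((SB.maps w2) _ v1).2]
      group
  have hpick := List.all_eq_true.1 (List.all_eq_true.1 hsel u0 m0) u1 m1
  simp only [Bool.or_eq_true, Bool.and_eq_true, beq_iff_eq] at hpick
  rcases hpick with (hno | hpick) | hpick
  · exfalso
    obtain ⟨⟨a, b⟩, hab, hne⟩ := List.any_eq_true.1 hno
    have hh := List.all_eq_true.1 heq _ hab
    simp only [Bool.and_eq_true, List.all_eq_true, List.mem_append, Nat.blt_eq, hlen, hword] at hh
    obtain ⟨⟨hmem, tA⟩, tB⟩ := hh
    obtain ⟨-, va, pa⟩ := prod a fun l hl => hmem l (Or.inl hl)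
    obtain ⟨wb, vb, pb⟩ := prod b fun l hl => hmem l (Or.inr hl)
    have hA' : letW (eqnWord L false b) = true := by
      have := tA
      simp only [trivW, Bool.and_eq_true, letW, List.all_append, invW, List.all_map, List.all_reverse] at this
      simp only [letW, List.all_eq_true, Nat.blt_eq]
      intro x hx
      have h6 := List.all_eq_true.1 this.1.2 x hx
      simp only [Function.comp_apply, Nat.blt_eq] at h6
      have : (x ^^^ 1) / 2 = x / 2 := by rw [Nat.xor_div_two]; simp
      omega
    have hB' : letW (eqnWord L true b) = true := wb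
    have hSA := SA.eq_of_same hA' tA
    have hSB := SB.eq_of_same hB' tB
    rw [pa, pb, hSB] at hSA
    rw [bne_iff_ne] at hne
    exact hne (E.inj va vb (mul_right_cancel hSA))
  · refine ⟨SA, fun k hk => ?_⟩
    interval_cases k
    · rw [e0, hpick.1]
    · rw [e1, hpick.2]
  · obtain ⟨S', hS'⟩ := exists_twist SA
    refine ⟨S', fun k hk => ?_⟩
    have tw : ∀ l : Link, ∀ u, linkOK KA KB A B l = true → u = l.2.2.2.2.2.2.2 →
        SA.ev l.1 = coord c uB u * SB.ev l.2.2.2.1 →
        S'.ev l.1 = coord c uB l.2.2.2.2.2.2.1 * SB.ev l.2.2.2.1 := by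
      rintro ⟨w, rows, d, dw, tests, us, cm, t'⟩ u hl hu' he
      change u = t' at hu'
      rw [hu'] at he
      clear hu'
      simp only [linkOK, Bool.and_eq_true, beq_iff_eq, Nat.blt_eq] at hl
      obtain ⟨⟨⟨⟨⟨⟨⟨-, hdw⟩, -⟩, htw⟩, -⟩, -⟩, -⟩, hcm⟩ := hl
      have hd1 := actW_lt KB.g KB.g' dw (v := 1) (by decide)
      have hz : z⁻¹ = z := by rw [← E.one_eq]; exact E.inv (by decide)
      rw [hS', he]
      show z * (coord c uB t' * SB.ev dw) * z⁻¹ = coord c uB cm * SB.ev dw
      rw [hcm, ← E.add _ (Nat.xor_lt_two_pow (n := 6) htw (by decide)) _ hd1, ← E.add _ htw 1 (by decide),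
        ← ((SB.maps hdw) 1 (by decide)).2, E.one_eq, hz]
      have hc : Commute (coord c uB t') z := (coord_spec c check_coords_uB htw).1
      rw [← mul_assoc z, ← hc.eq]
      group
    interval_cases k
    · exact tw _ _ hl0 hpick.1 e0
    · exact tw _ _ hl1 hpick.2 e1

end Cfsg.Agent.TransvCent.Amalgam
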