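/-
The presentations used for the completions of the amalgams of two-local subgroups (generated data).

Letters: `0, 1` are `x, x⁻¹`; `2, 3` are `y, y⁻¹`; `4, 5` are `g, g⁻¹`; `6, 7` are `h, h⁻¹`.
Words are read as products from left to right.

* `xCode`, `yCode` : the codes of `x` and `y` in the centraliser
* `relsL5`, `relsM24`, `relsHe` : relators; `subX*` : generators of the normaliser of the first elementary 64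
* `matsL5`, `codesM24`, `wordsHe` : the images of `x, y, g, h` in the three groups
-/

set_option autoImplicit false

namespace Cfsg.Agent.TransvCent

/-- The code of `x`. -/
def xCode : Nat := 55218

/-- The code of `y`. -/
def yCode : Nat := 11912

/-- The relators for L5. -/
def relsL5 : List (List Nat) := [
  [0, 0, 0, 0, 0, 0, 0],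
  [2, 2, 2],
  [2, 0, 2, 0, 2, 0, 2, 0],
  [2, 0, 0, 2, 0, 0, 0, 2, 0, 0, 2, 0, 0, 0],
  [2, 1, 2, 1, 2, 0, 0, 2, 1, 2, 1, 2, 0, 0],
  [2, 1, 3, 0, 3, 0, 0, 2, 1, 3, 0, 3, 0, 0],
  [4, 4, 4],
  [0, 3, 0, 3, 0, 3, 1, 3, 0, 2, 4, 3, 1, 2, 0, 2, 1, 2, 1, 2, 1, 4, 3, 1, 2, 0, 2, 1, 2, 1, 2, 1, 4],
  [0, 3, 0, 3, 0, 3, 1, 3, 0, 2, 1, 3, 1, 1, 1, 2, 1, 2, 1, 3, 1, 1, 1, 2, 1, 2, 4, 3, 1, 2, 0, 2, 1, 2, 1, 2, 1, 5, 3, 0, 3, 0, 0, 0, 2, 0, 3, 0, 3, 0, 0, 0, 2, 0],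
  [0, 3, 0, 3, 0, 3, 1, 3, 0, 2, 1, 3, 1, 1, 1, 2, 1, 2, 5, 3, 0, 3, 0, 0, 0, 2, 0, 4, 3, 0, 3, 0, 0, 0, 2, 0, 5, 3, 0, 3, 0, 0, 0, 2, 0],
  [0, 3, 0, 3, 0, 3, 1, 3, 0, 2, 4, 1, 3, 1, 1, 1, 2, 1, 2, 5, 3, 1, 2, 0, 2, 1, 2, 1, 2, 1, 4, 1, 3, 1, 1, 1, 2, 1, 2, 5],
  [4, 0, 0, 2, 0, 3, 0, 2, 0, 0, 2, 0, 3, 0, 2, 5, 3, 1, 2, 1, 1, 3, 0, 0, 3, 0],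
  [4, 1, 1, 2, 1, 1, 3, 1, 2, 1, 1, 3, 0, 5, 3, 1, 3, 0, 3, 1, 2, 1, 3, 0, 0, 0],
  [4, 1, 2, 1, 1, 2, 0, 0, 3, 0, 2, 5, 3, 1, 2, 0, 0, 3, 1, 1, 1, 2, 1],
  [4, 0, 2, 1, 2, 0, 3, 0, 2, 1, 3, 0, 3, 5, 2, 1, 1, 2, 1, 2, 1, 2, 1, 1, 3, 1, 1],
  [4, 1, 1, 1, 2, 0, 3, 0, 2, 1, 2, 0, 2, 5, 1, 1, 2, 1, 3, 0, 3, 1, 1, 1],
  [4, 0, 2, 0, 2, 1, 2, 1, 3, 1, 1, 3, 5, 2, 1, 2, 0, 3, 1, 2, 1, 3, 0, 3, 1],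
  [6, 6, 6],
  [0, 0, 0, 2, 1, 3, 1, 2, 0, 0, 3, 0, 6, 1, 2, 1, 1, 3, 0, 2, 0, 3, 1, 1, 1, 6, 1, 2, 1, 1, 3, 0, 2, 0, 3, 1, 1, 1, 6],
  [0, 0, 0, 2, 1, 3, 1, 2, 0, 0, 3, 0, 2, 1, 1, 1, 2, 0, 3, 0, 0, 3, 1, 2, 1, 1, 1, 2, 0, 3, 0, 0, 3, 1, 6, 1, 2, 1, 1, 3, 0, 2, 0, 3, 1, 1, 1, 7, 0, 2, 1, 1, 2, 1, 3, 0, 0, 0, 3, 0, 2, 1, 1, 2, 1, 3, 0, 0, 0, 3],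
  [0, 0, 0, 2, 1, 3, 1, 2, 0, 0, 3, 0, 2, 1, 1, 1, 2, 0, 3, 0, 0, 3, 1, 7, 0, 2, 1, 1, 2, 1, 3, 0, 0, 0, 3, 6, 0, 2, 1, 1, 2, 1, 3, 0, 0, 0, 3, 7, 0, 2, 1, 1, 2, 1, 3, 0, 0, 0, 3],
  [0, 0, 0, 2, 1, 3, 1, 2, 0, 0, 3, 0, 6, 2, 1, 1, 1, 2, 0, 3, 0, 0, 3, 1, 7, 1, 2, 1, 1, 3, 0, 2, 0, 3, 1, 1, 1, 6, 2, 1, 1, 1, 2, 0, 3, 0, 0, 3, 1, 7],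
  [6, 0, 0, 2, 0, 3, 0, 2, 0, 0, 2, 0, 3, 0, 2, 7, 3, 0, 3, 1, 1, 2, 1, 3],
  [6, 0, 2, 0, 2, 1, 2, 1, 3, 1, 1, 3, 7, 2, 1, 1, 3, 1, 2, 1, 1, 3, 1],
  [6, 2, 0, 3, 0, 0, 2, 1, 2, 7, 2, 1, 3, 0, 3, 0, 0],
  [6, 3, 0, 2, 1, 3, 0, 0, 3, 1, 3, 0, 2, 7, 2, 1, 2, 0, 3, 1, 2, 1, 3, 0, 3, 1],
  [6, 0, 2, 0, 0, 3, 0, 2, 0, 0, 3, 7, 1, 3, 1, 1, 2, 1, 2, 0, 0],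
  [6, 2, 1, 2, 1, 1, 3, 1, 2, 1, 1, 2, 7, 3, 1, 2, 0, 2, 1, 1, 2, 0, 3, 1, 2],
  [1, 3, 1, 1, 1, 2, 1, 2, 4, 1, 3, 1, 1, 1, 2, 1, 2, 4, 1, 3, 1, 1, 1, 2, 1, 2, 4, 7, 2, 1, 1, 1, 2, 0, 3, 0, 0, 3, 1, 1, 2, 1, 1, 3, 0, 2, 0, 3, 1, 1, 2, 1, 1, 2, 1, 3, 0, 0, 0, 3, 6],
  [3, 0, 3, 0, 3, 1, 3, 0, 2, 1, 3, 1, 1, 1, 2, 1, 2, 0, 3, 0, 3, 0, 3, 1, 3, 0, 0, 3, 0, 0, 0, 2, 0, 0, 3, 0, 3, 0, 3, 1, 3, 0, 2, 4, 1, 3, 1, 1, 1, 2, 1, 2, 2, 1, 1, 1, 2, 0, 3, 0, 0, 3, 1, 6, 1, 2, 1, 1, 3, 0, 2, 0, 3, 1, 1, 2, 1, 1, 2, 1, 3, 0, 0, 0, 3, 1, 2, 1, 1, 3, 0, 2, 0, 3, 1, 1, 1, 2, 1, 1, 1, 2, 0, 3, 0, 0, 3, 1, 1, 2, 1, 1, 3, 0, 2, 0, 3, 1, 1, 1, 3, 1, 3, 1, 1, 2, 1, 2, 1,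 3, 1]]

/-- Generators of the two-local subgroup for L5. -/
def subXL5 : List (List Nat) := [
  [0, 3, 0, 3, 0, 3, 1, 3, 0, 2],
  [1, 3, 1, 1, 1, 2, 1, 2],
  [4],
  [0, 0, 2, 0, 3, 0, 2, 0, 0, 2, 0, 3, 0, 2],
  [1, 1, 2, 1, 1, 3, 1, 2, 1, 1, 3, 0],
  [1, 2, 1, 1, 2, 0, 0, 3, 0, 2],
  [0, 2, 1, 2, 0, 3, 0, 2, 1, 3, 0, 3],
  [1, 1, 1, 2, 0, 3, 0, 2, 1, 2, 0, 2],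
  [0, 2, 0, 2, 1, 2, 1, 3, 1, 1, 3]]

/-- The relators for M24. -/
def relsM24 : List (List Nat) := [
  [0, 0, 0, 0, 0, 0, 0],
  [2, 2, 2],
  [2, 0, 2, 0, 2, 0, 2, 0],
  [2, 0, 0, 2, 0, 0, 0, 2, 0, 0, 2, 0, 0, 0],
  [2, 1, 2, 1, 2, 0, 0, 2, 1, 2, 1, 2, 0, 0],
  [2, 1, 3, 0, 3, 0, 0, 2, 1, 3, 0, 3, 0, 0],
  [4, 4, 4],
  [1, 3, 1, 1, 1, 2, 1, 2, 1, 3, 1, 1, 1, 2, 1, 2, 1, 3, 1, 1, 1, 2, 1, 2, 1, 3, 1, 1, 1, 2, 1, 2],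
  [0, 3, 0, 3, 0, 3, 1, 3, 0, 2, 4, 3, 1, 2, 0, 2, 1, 2, 1, 2, 1, 4, 3, 1, 2, 0, 2, 1, 2, 1, 2, 1, 4],
  [0, 3, 0, 3, 0, 3, 1, 3, 0, 2, 4, 1, 3, 1, 1, 1, 2, 1, 2, 5, 3, 1, 2, 0, 2, 1, 2, 1, 2, 1, 4, 1, 3, 1, 1, 1, 2, 1, 2, 5],
  [0, 3, 0, 3, 0, 3, 1, 3, 0, 0, 3, 0, 0, 0, 2, 0, 5, 3, 0, 3, 0, 0, 0, 2, 0, 4, 3, 1, 2, 0, 2, 1, 2, 1, 2, 1, 1, 3, 1, 1, 1, 2, 1, 2, 4, 1, 3, 1, 1, 1, 2, 1, 2, 4],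
  [4, 0, 0, 2, 0, 3, 0, 2, 0, 0, 2, 0, 3, 0, 2, 5, 3, 1, 2, 1, 1, 3, 0, 0, 3, 0],
  [4, 1, 1, 2, 1, 1, 3, 1, 2, 1, 1, 3, 0, 5, 3, 1, 3, 0, 3, 1, 2, 1, 3, 0, 0, 0],
  [4, 1, 2, 1, 1, 2, 0, 0, 3, 0, 2, 5, 3, 1, 2, 0, 0, 3, 1, 1, 1, 2, 1],
  [4, 0, 2, 1, 2, 0, 3, 0, 2, 1, 3, 0, 3, 5, 3, 0, 2, 1, 1, 2, 1, 1, 1, 2],
  [4, 1, 1, 1, 2, 0, 3, 0, 2, 1, 2, 0, 2, 5, 1, 1, 2, 1, 3, 0, 3, 1, 1, 1],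
  [4, 0, 2, 0, 2, 1, 2, 1, 3, 1, 1, 3, 5, 3, 0, 3, 1, 3, 0, 2, 0, 0, 3],
  [6, 6, 6],
  [0, 2, 0, 2, 1, 2, 0, 0, 6, 1, 1, 3, 0, 3, 1, 3, 1, 6, 1, 1, 3, 0, 3, 1, 3, 1, 6],
  [0, 2, 0, 2, 1, 2, 0, 3, 0, 0, 3, 0, 2, 1, 1, 1, 3, 3, 0, 0, 3, 0, 2, 1, 1, 1, 3, 0, 6, 1, 1, 3, 0, 3, 1, 3, 1, 7, 1, 2, 0, 0, 0, 3, 1, 2, 1, 1, 2, 2, 0, 0, 0, 3, 1, 2, 1, 1, 2, 0],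
  [0, 2, 0, 2, 1, 2, 0, 3, 0, 0, 3, 0, 2, 1, 1, 1, 3, 0, 7, 1, 2, 0, 0, 0, 3, 1, 2, 1, 1, 2, 0, 6, 1, 2, 0, 0, 0, 3, 1, 2, 1, 1, 2, 0, 7, 1, 2, 0, 0, 0, 3, 1, 2, 1, 1, 2, 0],
  [0, 2, 0, 2, 1, 2, 0, 0, 6, 1, 3, 0, 0, 3, 0, 2, 1, 1, 1, 3, 0, 7, 1, 1, 3, 0, 3, 1, 3, 1, 6, 1, 3, 0, 0, 3, 0, 2, 1, 1, 1, 3, 0, 7],
  [6, 0, 0, 2, 0, 3, 0, 2, 0, 0, 2, 0, 3, 0, 2, 7, 3, 0, 3, 1, 1, 2, 1, 3],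
  [6, 0, 2, 0, 2, 1, 2, 1, 3, 1, 1, 3, 7, 2, 1, 1, 3, 1, 2, 1, 1, 3, 1],
  [6, 2, 0, 3, 0, 0, 2, 1, 2, 7, 2, 1, 3, 0, 3, 0, 0],
  [6, 3, 0, 2, 1, 3, 0, 0, 3, 1, 3, 0, 2, 7, 2, 1, 2, 0, 3, 1, 2, 1, 3, 0, 3, 1],
  [6, 0, 2, 0, 0, 3, 0, 2, 0, 0, 3, 7, 1, 3, 1, 1, 2, 1, 2, 0, 0],
  [6, 2, 1, 2, 1, 1, 3, 1, 2, 1, 1, 2, 7, 3, 1, 2, 0, 2, 1, 1, 2, 0, 3, 1, 2],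
  [4, 1, 3, 1, 1, 1, 2, 1, 2, 0, 3, 0, 3, 0, 3, 1, 3, 0, 2, 1, 3, 1, 1, 1, 2, 1, 2, 0, 3, 0, 3, 0, 3, 1, 3, 0, 2, 1, 3, 1, 1, 1, 2, 1, 2, 5, 7, 1, 3, 0, 0, 3, 0, 2, 1, 1, 1, 3, 1, 3, 0, 3, 1, 3, 1, 1, 2, 0, 0, 0, 3, 1, 2, 1, 1, 2, 0, 6, 1, 3, 0, 2, 1, 1, 2, 0, 3, 0, 0, 0],
  [3, 0, 3, 0, 3, 1, 3, 0, 0, 3, 0, 0, 0, 2, 0, 0, 3, 0, 3, 0, 3, 1, 3, 0, 0, 3, 0, 0, 0, 2, 0, 4, 1, 3, 1, 1, 1, 2, 1, 2, 1, 3, 0, 0, 3, 0, 2, 1, 1, 1, 3, 0, 6, 1, 1, 3, 0, 3, 1, 3, 1, 1, 2, 0, 0, 0, 3, 1, 2, 1, 1, 2, 1, 3, 0, 3, 1, 3, 1, 1, 3, 0, 0, 3, 0, 2, 1, 1, 1, 3, 1, 3, 0, 3, 1, 3, 1, 1, 2, 0, 0, 0, 3, 0, 2, 1, 1]]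

/-- Generators of the two-local subgroup for M24. -/
def subXM24 : List (List Nat) := [
  [0, 3, 0, 3, 0, 3, 1, 3, 0, 2],
  [1, 3, 1, 1, 1, 2, 1, 2],
  [4],
  [0, 0, 2, 0, 3, 0, 2, 0, 0, 2, 0, 3, 0, 2],
  [1, 1, 2, 1, 1, 3, 1, 2, 1, 1, 3, 0],
  [1, 2, 1, 1, 2, 0, 0, 3, 0, 2],
  [0, 2, 1, 2, 0, 3, 0, 2, 1, 3, 0, 3],
  [1, 1, 1, 2, 0, 3, 0, 2, 1, 2, 0, 2],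
  [0, 2, 0, 2, 1, 2, 1, 3, 1, 1, 3]]

/-- The relators for He. -/
def relsHe : List (List Nat) := [
  [0, 0, 0, 0, 0, 0, 0],
  [2, 2, 2],
  [2, 0, 2, 0, 2, 0, 2, 0],
  [2, 0, 0, 2, 0, 0, 0, 2, 0, 0, 2, 0, 0, 0],
  [2, 1, 2, 1, 2, 0, 0, 2, 1, 2, 1, 2, 0, 0],
  [2, 1, 3, 0, 3, 0, 0, 2, 1, 3, 0, 3, 0, 0],
  [4, 4, 4],
  [1, 1, 3, 0, 2, 1, 2, 0, 3, 1, 1, 1, 3, 0, 2, 1, 2, 0, 3, 1, 1, 1, 3, 0, 2, 1, 2, 0, 3, 1, 1, 1, 3, 0, 2, 1, 2, 0, 3, 1],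
  [1, 1, 3, 0, 3, 1, 1, 2, 0, 3, 1, 3, 4, 2, 0, 2, 1, 3, 0, 0, 2, 1, 2, 0, 0, 4, 2, 0, 2, 1, 3, 0, 0, 2, 1, 2, 0, 0, 4],
  [1, 1, 3, 0, 3, 1, 1, 2, 0, 3, 1, 3, 4, 1, 1, 3, 0, 2, 1, 2, 0, 3, 1, 5, 2, 0, 2, 1, 3, 0, 0, 2, 1, 2, 0, 0, 4, 1, 1, 3, 0, 2, 1, 2, 0, 3, 1, 5],
  [1, 1, 3, 0, 3, 1, 1, 2, 0, 3, 1, 3, 0, 2, 1, 3, 0, 3, 1, 2, 0, 0, 5, 0, 2, 1, 3, 0, 3, 1, 2, 0, 0, 4, 2, 0, 2, 1, 3, 0, 0, 2, 2, 1, 2, 0, 3, 1, 4, 1, 1, 3, 0, 2, 1, 2, 0, 3, 1, 4],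
  [4, 0, 0, 2, 0, 3, 0, 2, 0, 0, 2, 0, 3, 0, 2, 5, 3, 1, 2, 1, 1, 3, 0, 0, 3, 0],
  [4, 1, 1, 2, 1, 1, 3, 1, 2, 1, 1, 3, 0, 5, 3, 1, 3, 0, 3, 1, 2, 1, 3, 0, 0, 0],
  [4, 1, 2, 1, 1, 2, 0, 0, 3, 0, 2, 5, 3, 1, 2, 0, 0, 3, 1, 1, 1, 2, 1],
  [4, 0, 2, 1, 2, 0, 3, 0, 2, 1, 3, 0, 3, 5, 3, 0, 2, 1, 1, 2, 1, 1, 1, 2],
  [4, 1, 1, 1, 2, 0, 3, 0, 2, 1, 2, 0, 2, 5, 1, 1, 2, 1, 3, 0, 3, 1, 1, 1],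
  [4, 0, 2, 0, 2, 1, 2, 1, 3, 1, 1, 3, 5, 3, 0, 3, 1, 3, 0, 2, 0, 0, 3],
  [6, 6, 6],
  [3, 0, 0, 3, 0, 2, 1, 1, 1, 3, 3, 0, 0, 3, 0, 2, 1, 1, 1, 3, 3, 0, 0, 3, 0, 2, 1, 1, 1, 3, 3, 0, 0, 3, 0, 2, 1, 1, 1, 3],
  [0, 2, 0, 2, 1, 2, 0, 0, 6, 1, 1, 3, 0, 3, 1, 3, 1, 6, 1, 1, 3, 0, 3, 1, 3, 1, 6],
  [0, 2, 0, 2, 1, 2, 0, 0, 6, 1, 3, 0, 0, 3, 0, 2, 1, 1, 1, 3, 0, 7, 1, 1, 3, 0, 3, 1, 3, 1, 6, 1, 3, 0, 0, 3, 0, 2, 1, 1, 1, 3, 0, 7],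
  [0, 2, 0, 2, 1, 2, 0, 2, 0, 0, 0, 3, 1, 2, 1, 1, 2, 0, 7, 1, 2, 0, 0, 0, 3, 1, 2, 1, 1, 2, 0, 6, 1, 1, 3, 0, 3, 1, 3, 1, 1, 3, 0, 0, 3, 0, 2, 1, 1, 1, 3, 0, 6, 1, 3, 0, 0, 3, 0, 2, 1, 1, 1, 3, 0, 6],
  [6, 0, 0, 2, 0, 3, 0, 2, 0, 0, 2, 0, 3, 0, 2, 7, 3, 0, 3, 1, 1, 2, 1, 3],
  [6, 0, 2, 0, 2, 1, 2, 1, 3, 1, 1, 3, 7, 2, 1, 1, 3, 1, 2, 1, 1, 3, 1],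
  [6, 2, 0, 3, 0, 0, 2, 1, 2, 7, 2, 1, 3, 0, 3, 0, 0],
  [6, 3, 0, 2, 1, 3, 0, 0, 3, 1, 3, 0, 2, 7, 1, 3, 1, 2, 0, 3, 0, 3, 0, 2, 1, 1, 1],
  [6, 0, 2, 0, 0, 3, 0, 2, 0, 0, 3, 7, 1, 3, 1, 1, 2, 1, 2, 0, 0],
  [6, 2, 1, 2, 1, 1, 3, 1, 2, 1, 1, 2, 7, 2, 1, 1, 2, 1, 3, 0, 0, 3, 1],
  [4, 1, 1, 3, 0, 2, 1, 2, 0, 3, 1, 1, 1, 3, 0, 3, 1, 1, 2, 0, 3, 1, 3, 1, 1, 3, 0, 2, 1, 2, 0, 3, 1, 1, 1, 3, 0, 3, 1, 1, 2, 0, 3, 1, 3, 1, 1, 3, 0, 2, 1, 2, 0, 3, 1, 5, 1, 3, 0, 0, 3, 0, 2, 1, 1, 1, 3, 0, 6, 1, 2, 0, 0, 0, 3, 1, 2, 1, 1, 2, 2, 0, 0, 0, 3, 1, 2, 1, 1, 2, 0, 7, 1, 1, 3, 0, 3, 1, 3, 1, 1, 2, 0, 0, 0, 3, 1, 2, 1, 1, 2, 2, 0, 0, 0, 2, 1, 2, 0, 3, 0, 2, 1],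
  [3, 0, 3, 1, 1, 2, 0, 3, 1, 3, 0, 2, 1, 3, 0, 3, 3, 1, 1, 2, 0, 3, 1, 3, 0, 2, 1, 3, 0, 3, 1, 2, 0, 0, 4, 1, 1, 3, 0, 2, 1, 2, 0, 3, 1, 1, 3, 0, 0, 3, 0, 2, 1, 1, 1, 3, 0, 6, 1, 2, 0, 0, 0, 3, 1, 2, 1, 1, 2, 1, 3, 0, 3, 1, 3, 1, 1, 3, 0, 0, 3, 0, 2, 1, 1, 1, 3, 1, 3, 0, 3, 1, 3, 1, 1, 1, 3, 0, 2, 0, 3]]

/-- Generators of the two-local subgroup for He. -/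
def subXHe : List (List Nat) := [
  [1, 1, 3, 0, 3, 1, 1, 2, 0, 3, 1, 3],
  [1, 1, 3, 0, 2, 1, 2, 0, 3, 1],
  [4],
  [0, 0, 2, 0, 3, 0, 2, 0, 0, 2, 0, 3, 0, 2],
  [1, 1, 2, 1, 1, 3, 1, 2, 1, 1, 3, 0],
  [1, 2, 1, 1, 2, 0, 0, 3, 0, 2],
  [0, 2, 1, 2, 0, 3, 0, 2, 1, 3, 0, 3],
  [1, 1, 1, 2, 0, 3, 0, 2, 1, 2, 0, 2],
  [0, 2, 0, 2, 1, 2, 1, 3, 1, 1, 3]]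

/-- The matrices, row by row. -/
def matsL5 : List (List Nat) := [
  [1, 0, 1, 0, 0, 0, 1, 0, 0, 0, 0, 1, 1, 1, 1, 0, 1, 1, 0, 1, 0, 0, 0, 1, 1],
  [1, 0, 0, 0, 1, 0, 1, 0, 0, 0, 0, 0, 1, 0, 1, 0, 0, 1, 1, 0, 0, 0, 1, 0, 0],
  [0, 1, 1, 1, 0, 0, 1, 1, 0, 0, 0, 1, 0, 0, 0, 1, 1, 0, 1, 0, 0, 0, 0, 0, 1],
  [1, 0, 1, 1, 1, 0, 0, 0, 1, 0, 0, 0, 1, 0, 0, 0, 1, 0, 1, 0, 1, 1, 0, 1, 0]]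

/-- The permutations of the 24 points: base 32 digits are the images. -/
def codesM24 : List Nat := [978920741476292928898154197772982914, 609493286206360784257085025955201664, 922403634874051589468064047529708041, 396054813423971624999608710162591402]

/-- Words in the seven generators of the Held group (all are involutions). -/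
def wordsHe : List (List Nat) := [
  [6, 3, 2, 3, 6, 5, 3, 4, 2, 3, 5, 1],
  [6, 3, 2, 4, 5, 3, 4, 6, 3, 1, 2, 3, 5, 6, 3, 5, 6, 1, 0],
  [1, 5, 3, 2, 4, 3, 5, 6, 3, 4, 5, 3, 4, 6, 3, 1, 2, 3, 5, 6, 3, 5, 6, 1, 0, 1, 5, 3, 2, 4, 3, 5, 6, 3, 2, 3, 6, 1, 5, 3, 2, 4, 3, 5, 6, 3, 4, 5, 3, 4, 6, 3, 1, 2, 3, 5, 6, 3, 5, 6, 1, 0, 6, 3, 2, 3, 6, 5, 3, 4, 2, 3, 5, 1, 6, 3, 2, 3, 6, 5, 3, 4, 2, 3, 5, 1, 0, 1, 6, 5, 3, 6, 5, 3, 2, 1, 3, 6, 4, 3, 5, 4, 3, 6, 5, 3, 4, 2, 3, 5, 1, 6, 3, 2, 4, 5, 3, 4, 6, 3, 1, 2, 3, 5, 6, 3, 5, 6, 1, 0, 2, 4, 6, 3, 5, 2, 3, 2, 5, 3, 6, 4, 2, 1, 5, 3, 2, 4, 3, 5, 6, 3, 4, 5, 3, 4, 6, 3, 1, 2, 3, 5, 6, 3, 5, 6, 1, 0, 1, 5, 3, 2,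 4, 3, 5, 6, 3, 2, 3, 6, 1, 5, 3, 2, 4, 3, 5, 6, 3, 4, 5, 3, 4, 6, 3, 1, 2, 3, 5, 6, 3, 5, 6, 1, 0, 6, 3, 2, 3, 6, 5, 3, 4, 2, 3, 5, 1, 6, 3, 2, 3, 6, 5, 3, 4, 2, 3, 5, 1, 0, 1, 6, 5, 3, 6, 5, 3, 2, 1, 3, 6, 4, 3, 5, 4, 3, 6, 5, 3, 4, 2, 3, 5, 1, 6, 3, 2, 4, 5, 3, 4, 6, 3, 1, 2, 3, 5, 6, 3, 5, 6, 1, 0, 2, 4, 6, 3, 5, 2, 3, 6, 3, 2, 3, 6, 5, 3, 4, 2, 3, 5, 1, 6, 3, 2, 4, 5, 3, 4, 6, 3, 1, 2, 3, 5, 6, 3, 5, 6, 1, 0, 6, 3, 2, 3, 6, 5, 3, 4, 2, 3, 5, 1, 6, 3, 2, 3, 6, 5, 3, 4, 2, 3, 5, 1, 6, 3, 2, 3, 6, 5, 3, 4, 2, 3, 5, 1, 0, 1, 6, 5, 3, 6, 5, 3, 2, 1, 3, 6, 4, 3, 5, 4, 2, 3, 6],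
  [6, 3, 2, 4, 5, 3, 4, 6, 3, 1, 2, 3, 5, 6, 3, 5, 6, 1, 0, 6, 3, 2, 3, 6, 5, 3, 4, 2, 3, 5, 1, 0, 1, 6, 5, 3, 6, 5, 3, 2, 1, 3, 6, 4, 3, 5, 4, 3, 6, 5, 3, 4, 2, 3, 5, 1, 6, 3, 2, 3, 6, 5, 3, 4, 2, 3, 5, 1, 6, 3, 2, 4, 5, 3, 4, 6, 3, 1, 2, 3, 5, 6, 3, 5, 6, 1, 0, 1, 5, 3, 2, 4, 3, 5, 6, 3, 4, 5, 3, 4, 6, 3, 1, 2, 3, 5, 6, 3, 5, 6, 1, 2, 3, 2, 4, 3, 4, 2, 3, 2, 0, 6, 3, 2, 4, 5, 3, 4, 6, 3, 1, 2, 3, 5, 6, 3, 5, 6, 1, 0, 6, 3, 2, 3, 6, 5, 3, 4, 2, 3, 5, 1, 0, 1, 6, 5, 3, 6, 5, 3, 2, 1, 3, 6, 4, 3, 5, 4, 3, 6, 5, 3, 4, 2, 3, 5, 1, 6, 3, 2, 3, 6, 5, 3, 4, 2, 3, 5, 1, 6, 3, 2, 4, 5, 3, 4, 6, 3, 1, 2, 3, 5, 6, 3, 5, 6, 1, 0, 1, 5, 3, 2, 4, 3, 5, 6, 3,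 4, 5, 3, 4, 6, 3, 1, 2, 3, 5, 6, 3, 5, 6, 1, 2, 3, 2, 4, 3, 1, 5, 3, 2, 4, 3, 5, 6, 3, 4, 5, 3, 4, 6, 3, 1, 2, 3, 5, 6, 3, 5, 6, 1, 0, 1, 5, 3, 2, 4, 3, 5, 6, 3, 2, 3, 6, 1, 5, 3, 2, 4, 3, 5, 6, 3, 2, 3, 6, 0, 1, 6, 5, 3, 6, 5, 3, 2, 1, 3, 6, 4, 3, 5, 4, 3, 6, 5, 3, 4, 2, 3, 5, 1, 0, 1, 6, 5, 3, 6, 5, 3, 2, 1, 3, 6, 4, 3, 5, 4, 2, 3, 6]]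

end Cfsg.Agent.TransvCent
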