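import Cfsg.Agent.Lib.TransvCent.AmalgamData
import Cfsg.Agent.Lib.HeInvCent.SLBound
import Cfsg.Prelude.Def_Spor_He
import Cfsg.Prelude.Def_Sporadic_a

/-
What a completion of an amalgam presentation has to give.

* `evW` : the value of a word in four generators
* `Completes` : elements satisfying the relators generate a copy of the target, generator by generator
-/

set_option autoImplicit false

namespace Cfsg.Agent.TransvCent

variable {G : Type*} [Group G]

/-- The value of a letter: `2 i` is `f i`, `2 i + 1` is its inverse. -/
def evL (f : Fin 4 → G) (a : Nat) : G :=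
  if a % 2 = 0 then f (Fin.ofNat 4 (a / 2)) else (f (Fin.ofNat 4 (a / 2)))⁻¹

/-- The value of a word, read as a product from left to right. -/
def evW (f : Fin 4 → G) (w : List Nat) : G := (w.map (evL f)).prod

/-- The generators satisfy the relators. -/
def SatRels (rels : List (List Nat)) (f : Fin 4 → G) : Prop := ∀ w ∈ rels, evW f w = 1

/-- Every choice of elements with these relators, the first not trivial, comes from the target. -/
def Completes.{u} (T : Type) [Group T] (t : Fin 4 → T) (rels : List (List Nat)) : Prop :=
  Subgroup.closure (Set.range t) = ⊤ ∧
    ∀ (G : Type u) [Group G] (f : Fin 4 → G), SatRels rels f → f 0 ≠ 1 →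
      ∃ φ : T →* G, Function.Injective φ ∧ φ.range = Subgroup.closure (Set.range f) ∧ ∀ i, φ (t i) = f i

end Cfsg.Agent.TransvCent
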