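/-
Generated data: a tree of products of the generators reaching the Levi factor and the two abelian pieces.
-/
import Cfsg.Agent.Lib.TransvCent.Data

set_option autoImplicit false

namespace Cfsg.Agent.TransvCent

/-- Each entry is a product of a later one, or of the identity, and a generator or `zc`. -/
def tree : List (ℕ × ℕ × ℕ) := [
  (35057, 35056, 12), (35041, 35040, 12), (35025, 35024, 12), (34993, 34992, 12), (35056, 34992, 5), (35009, 35008, 12),
  (34977, 34976, 12), (35040, 34976, 5), (34961, 34960, 12), (35024, 34960, 5), (34992, 34960, 4), (34945, 34944, 12),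
  (35008, 34944, 5), (34976, 34944, 4), (34960, 34944, 3), (34958, 34950, 2), (34956, 34948, 2), (34954, 34946, 2),
  (34950, 34946, 1), (34952, 34944, 2), (34948, 34944, 1), (34946, 34944, 0), (12544, 14592, 11), (17920, 50688, 9),
  (13056, 14848, 11), (19968, 27136, 8), (28928, 62208, 9), (29440, 62208, 7), (20352, 56704, 9), (18048, 50816, 9),
  (14080, 32512, 6), (12672, 14720, 11), (30208, 62976, 9), (26112, 62976, 7), (26368, 58624, 9), (29952, 58624, 7),
  (22016, 54784, 9), (45952, 38656, 10), (22272, 54528, 9), (18176, 50432, 9), (13568, 42240, 7), (45312, 38144, 10),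
  (63744, 47360, 6), (14592, 11008, 9), (56832, 52736, 7), (15744, 44928, 7), (59008, 44928, 6), (50688, 34560, 11),
  (13696, 31872, 6), (24064, 23168, 10), (13184, 14976, 11), (20224, 27520, 8), (28800, 61568, 9), (29312, 61568, 7),
  (29824, 62592, 9), (26240, 62592, 7), (21376, 53632, 9), (61696, 53632, 8), (12160, 48512, 7), (20096, 56960, 9),
  (26496, 58752, 9), (30592, 58752, 7), (21632, 54400, 9), (45440, 38272, 10), (21888, 55168, 9), (18304, 50560, 9),
  (42880, 42368, 9), (14208, 42368, 7), (45824, 38784, 10), (30976, 60160, 9), (27392, 60160, 7), (64000, 47616, 6),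
  (14848, 10752, 9), (31232, 59904, 9), (27136, 59904, 7), (20864, 54144, 9), (62208, 54144, 8), (11776, 48640, 7),
  (23936, 53120, 9), (56704, 53120, 7), (15872, 44544, 7), (58880, 44544, 6), (50816, 34688, 11), (42752, 34688, 10),
  (32512, 60672, 9), (32000, 60672, 7), (64128, 48000, 6), (14720, 11136, 9), (21120, 53888, 9), (62080, 53888, 8),
  (62976, 48896, 11), (12032, 48896, 7), (63232, 48896, 6), (24320, 52480, 9), (56576, 52480, 7), (15616, 44288, 7),
  (58624, 44288, 6), (54784, 40704, 11), (38656, 40704, 6), (54528, 40192, 11), (50432, 34048, 11), (42240, 34048, 10),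
  (38144, 34048, 7), (47360, 43776, 9), (11008, 43776, 7), (52736, 36608, 11), (44928, 36608, 10), (34560, 36608, 6),
  (31872, 60544, 9), (32384, 60544, 7), (23168, 51840, 9), (61056, 51840, 8), (30848, 59520, 9), (27264, 59520, 7),
  (63872, 47232, 6), (14976, 10880, 9), (31616, 59776, 9), (27520, 59776, 7), (20608, 53376, 9), (61568, 53376, 8),
  (62592, 48256, 11), (11904, 48256, 7), (62848, 48256, 6), (53632, 39296, 11), (48512, 39296, 10), (23680, 52352, 9),
  (56960, 52352, 7), (16000, 44160, 7), (58752, 44160, 6), (54400, 40064, 11), (38272, 40064, 6), (55168, 40576, 11),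
  (50560, 34176, 11), (42368, 34176, 10), (38784, 34176, 7), (22912, 52096, 9), (61184, 52096, 8), (60160, 43520, 11),
  (47616, 43520, 9), (10752, 43520, 7), (59904, 43520, 6), (54144, 39552, 11), (48640, 39552, 10), (53120, 36480, 11),
  (44544, 36480, 10), (34688, 36480, 6), (23424, 51584, 9), (60672, 51584, 8), (48000, 43392, 9), (11136, 43392, 7),
  (53888, 39808, 11), (48896, 39808, 10), (52480, 36096, 11), (44288, 36096, 10), (40704, 36096, 9), (40192, 36096, 7),
  (34048, 36096, 6), (43776, 35712, 10), (36608, 35712, 8), (22656, 51328, 9), (60544, 51328, 8), (51840, 51328, 7),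
  (59520, 43136, 11), (47232, 43136, 9), (10880, 43136, 7), (59776, 43136, 6), (53376, 39040, 11), (48256, 39040, 10),
  (39296, 39040, 6), (52352, 35968, 11), (44160, 35968, 10), (40064, 35968, 9), (40576, 35968, 7), (34176, 35968, 6),
  (52096, 35456, 11), (43520, 35456, 10), (39552, 35456, 9), (36480, 35456, 8), (51584, 35200, 11), (43392, 35200, 10),
  (39808, 35200, 9), (36096, 35200, 8), (35712, 35200, 7), (51328, 34944, 11), (43136, 34944, 10), (39040, 34944, 9),
  (35968, 34944, 8), (35456, 34944, 7), (35200, 34944, 6)]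

end Cfsg.Agent.TransvCent
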