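import Cfsg.Agent.Lib.TransvCent.Coding
import Cfsg.Agent.Lib.TransvCent.Tree
import Mathlib.LinearAlgebra.Matrix.SpecialLinearGroup
import Mathlib.LinearAlgebra.Matrix.Transvection
import Mathlib.LinearAlgebra.Matrix.ToLinearEquiv
import Mathlib.Tactic.LinearCombination
import Mathlib.Tactic.Ring
import Mathlib.Algebra.Field.ZMod

/-
The centraliser of a transvection in `SL(5,2)` is coded by `elts`.

* `code` : the code of a matrix
* `coding_transvection` : the coding
-/

set_option autoImplicit false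

open Matrix

namespace Cfsg.Agent.TransvCent

local notation "K" => ZMod 2
local notation "SL5" => Matrix.SpecialLinearGroup (Fin 5) (ZMod 2)

/-- A three bit word. -/
def enc (a b c : K) : ℕ := a.val + 2 * b.val + 4 * c.val

/-- The code of a matrix centralising the transvection. -/
def code (M : Matrix (Fin 5) (Fin 5) K) : ℕ :=
  pack (M 0 1).val (enc (M 0 2) (M 0 3) (M 0 4)) (enc (M 2 1) (M 3 1) (M 4 1))
    (enc (M 2 2) (M 2 3) (M 2 4)) (enc (M 3 2) (M 3 3) (M 3 4)) (enc (M 4 2) (M 4 3) (M 4 4))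

/-- The shape of an invertible matrix commuting with the transvection. -/
structure Shape (M : Matrix (Fin 5) (Fin 5) K) : Prop where
  col : ∀ i, M i 0 = if i = 0 then 1 else 0
  row : ∀ j, M 1 j = if j = 1 then 1 else 0

theorem enc_lt (a b c : K) : enc a b c < 8 := by revert a b c; decide

theorem enc_inj (a b c x y w : K) : enc a b c = enc x y w → a = x ∧ b = y ∧ c = w := by
  revert a b c x y w; decide

theorem val_add (a b : K) : (a + b).val = a.val ^^^ b.val := by revert a b; decide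

theorem enc_add (a b c x y w : K) : enc (a + x) (b + y) (c + w) = enc a b c ^^^ enc x y w := by
  revert a b c x y w; decide

theorem par_enc (a b c x y w : K) :
    (a * x + b * y + c * w).val = par (enc a b c &&& enc x y w) := by
  revert a b c x y w; decide

theorem sel_aux : ∀ a b c a₀ a₁ a₂ b₀ b₁ b₂ c₀ c₁ c₂ : K,
    enc (a * a₀ + b * b₀ + c * c₀) (a * a₁ + b * b₁ + c * c₁) (a * a₂ + b * b₂ + c * c₂) =
      sel (enc a b c) (enc a₀ a₁ a₂) (enc b₀ b₁ b₂) (enc c₀ c₁ c₂) := by
  decide +kernel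

theorem fields {c u f r0 r1 r2 : ℕ} (hc : c < 2) (hu : u < 8) (hf : f < 8) (h0 : r0 < 8) (h1 : r1 < 8)
    (h2 : r2 < 8) :
    pack c u f r0 r1 r2 &&& 1 = c ∧ fld (pack c u f r0 r1 r2) 1 = u ∧
      fld (pack c u f r0 r1 r2) 4 = f ∧ fld (pack c u f r0 r1 r2) 7 = r0 ∧
      fld (pack c u f r0 r1 r2) 10 = r1 ∧ fld (pack c u f r0 r1 r2) 13 = r2 := by
  have h7 : ∀ d k : ℕ, fld d k = d / 2 ^ k % 2 ^ 3 := fun d k => by
    rw [fld, Nat.shiftRight_eq_div_pow, show (7 : ℕ) = 2 ^ 3 - 1 from rfl,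
      Nat.and_two_pow_sub_one_eq_mod]
  simp only [h7, Nat.and_one_is_mod, pack]
  omega

theorem Shape.mul {M N : Matrix (Fin 5) (Fin 5) K} (hM : Shape M) (hN : Shape N) :
    code (M * N) = TransvCent.mul (code M) (code N) := by
  have e : ∀ i j, (M * N) i j =
      M i 0 * N 0 j + M i 1 * N 1 j + M i 2 * N 2 j + M i 3 * N 3 j + M i 4 * N 4 j := fun i j => by
    rw [Matrix.mul_apply, Fin.sum_univ_five]
  obtain ⟨f0, f1, f2, f3, f4, f5⟩ := fields (ZMod.val_lt (M 0 1)) (enc_lt (M 0 2) (M 0 3) (M 0 4))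
    (enc_lt (M 2 1) (M 3 1) (M 4 1)) (enc_lt (M 2 2) (M 2 3) (M 2 4)) (enc_lt (M 3 2) (M 3 3) (M 3 4))
    (enc_lt (M 4 2) (M 4 3) (M 4 4))
  obtain ⟨g0, g1, g2, g3, g4, g5⟩ := fields (ZMod.val_lt (N 0 1)) (enc_lt (N 0 2) (N 0 3) (N 0 4))
    (enc_lt (N 2 1) (N 3 1) (N 4 1)) (enc_lt (N 2 2) (N 2 3) (N 2 4)) (enc_lt (N 3 2) (N 3 3) (N 3 4))
    (enc_lt (N 4 2) (N 4 3) (N 4 4))
  simp only [code, TransvCent.mul, f0, f1, f2, f3, f4, f5, g0, g1, g2, g3, g4, g5]
  simp only [e, hM.col, hM.row, hN.col, hN.row, Fin.reduceEq, ↓reduceIte, zero_mul, mul_zero, one_mul,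
    mul_one, zero_add, add_zero]
  congr 1
  · rw [← par_enc, ← val_add, ← val_add]
    congr 1
    ring
  · rw [← sel_aux, ← enc_add]
    congr 1 <;> ring
  · rw [← par_enc, ← par_enc, ← par_enc]
    show _ = _ ^^^ enc _ _ _
    rw [← enc_add]
    congr 1 <;> ring
  · exact sel_aux _ _ _ _ _ _ _ _ _ _ _ _
  · exact sel_aux _ _ _ _ _ _ _ _ _ _ _ _
  · exact sel_aux _ _ _ _ _ _ _ _ _ _ _ _

theorem Shape.ext {M N : Matrix (Fin 5) (Fin 5) K} (hM : Shape M) (hN : Shape N)
    (h : code M = code N) : M = N := by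
  obtain ⟨f0, f1, f2, f3, f4, f5⟩ := fields (ZMod.val_lt (M 0 1)) (enc_lt (M 0 2) (M 0 3) (M 0 4))
    (enc_lt (M 2 1) (M 3 1) (M 4 1)) (enc_lt (M 2 2) (M 2 3) (M 2 4)) (enc_lt (M 3 2) (M 3 3) (M 3 4))
    (enc_lt (M 4 2) (M 4 3) (M 4 4))
  obtain ⟨g0, g1, g2, g3, g4, g5⟩ := fields (ZMod.val_lt (N 0 1)) (enc_lt (N 0 2) (N 0 3) (N 0 4))
    (enc_lt (N 2 1) (N 3 1) (N 4 1)) (enc_lt (N 2 2) (N 2 3) (N 2 4)) (enc_lt (N 3 2) (N 3 3) (N 3 4))
    (enc_lt (N 4 2) (N 4 3) (N 4 4))
  rw [code, code] at h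
  rw [h] at f0 f1 f2 f3 f4 f5
  have a0 := ZMod.val_injective 2 (f0.symm.trans g0)
  obtain ⟨u0, u1, u2⟩ := enc_inj _ _ _ _ _ _ (f1.symm.trans g1)
  obtain ⟨w0, w1, w2⟩ := enc_inj _ _ _ _ _ _ (f2.symm.trans g2)
  obtain ⟨p0, p1, p2⟩ := enc_inj _ _ _ _ _ _ (f3.symm.trans g3)
  obtain ⟨q0, q1, q2⟩ := enc_inj _ _ _ _ _ _ (f4.symm.trans g4)
  obtain ⟨r0, r1, r2⟩ := enc_inj _ _ _ _ _ _ (f5.symm.trans g5)
  ext i j
  fin_cases i <;> fin_cases j <;>
    first
      | exact (hM.col _).trans (hN.col _).symm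
      | exact (hM.row _).trans (hN.row _).symm
      | assumption

theorem code_one : code (1 : Matrix (Fin 5) (Fin 5) K) = one := by decide

theorem code_transvection : code (Matrix.transvection (0 : Fin 5) 1 (1 : K)) = zc := by decide

theorem shape_of_commute {M : Matrix (Fin 5) (Fin 5) K} (hdet : M.det ≠ 0)
    (h : M * Matrix.transvection 0 1 1 = Matrix.transvection 0 1 1 * M) : Shape M := by
  have h' : M * Matrix.single 0 1 (1 : K) = Matrix.single 0 1 (1 : K) * M := by
    simpa [Matrix.transvection, mul_add, add_mul] using h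
  have hcol : ∀ i, i ≠ 0 → M i 0 = 0 := fun i hi => by
    have := congrFun (congrFun h' i) 1
    simpa [Matrix.single_mul_apply_of_ne _ _ _ _ _ hi] using this
  have hrow : ∀ j, j ≠ 1 → M 1 j = 0 := fun j hj => by
    have := congrFun (congrFun h' 0) j
    simpa [Matrix.mul_single_apply_of_ne _ _ _ _ _ hj] using this.symm
  have h00 : M 0 0 = 1 := by
    have key : ∀ x : K, x ≠ 0 → x = 1 := by decide
    refine key _ fun e => hdet (Matrix.det_eq_zero_of_column_eq_zero 0 fun i => ?_)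
    by_cases hi : i = 0
    · exact hi ▸ e
    · exact hcol i hi
  have h11 : M 1 1 = M 0 0 := by
    have := congrFun (congrFun h' 0) 1
    simpa using this.symm
  refine ⟨fun i => ?_, fun j => ?_⟩
  · split_ifs with hi
    · exact hi ▸ h00
    · exact hcol i hi
  · split_ifs with hj
    · exact hj ▸ h11.trans h00
    · exact hrow j hj

/-- The pairs of indices of the generators followed by the transvection. -/
def pairs : List (Fin 5 × Fin 5) :=
  [(0, 2), (0, 3), (0, 4), (2, 1), (3, 1), (4, 1), (2, 3), (2, 4), (3, 2), (3, 4), (4, 2), (4, 3), (0, 1)]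

theorem check_pairs : (pairs.map fun p => code (Matrix.transvection p.1 p.2 (1 : K))) = gens ++ [zc] ∧
    pairs.all (fun p => p.1 != p.2 && p.1 != 1 && p.2 != 0) = true := by decide +kernel

/-- Each entry is a product of a later one, or of the identity, and one of `G`. -/
def grown (G : List ℕ) : List (ℕ × ℕ × ℕ) → Bool
  | [] => true
  | (x, p, k) :: rest =>
    (match G[k]? with
      | some g => x == TransvCent.mul p g
      | none => false) &&
    (p == one || (rest.map Prod.fst).contains p) && grown G rest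

theorem check_tree : grown (gens ++ [zc]) tree = true := by decide +kernel

theorem check_tree_levi : levi.all (fun m => (one :: tree.map Prod.fst).contains m) = true := by
  decide +kernel

theorem check_tree_q : (List.range 8).all (fun a => (one :: tree.map Prod.fst).contains (pack 0 a 0 1 2 4) &&
    (List.range 2).all fun c => (one :: tree.map Prod.fst).contains (pack c 0 a 1 2 4)) = true := by
  decide +kernel

theorem check_decomp : levi.all (fun m => (List.range 128).all fun q =>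
    m + q == TransvCent.mul (pack (q % 2) 0 (q / 16) 1 2 4)
      (TransvCent.mul m (pack 0 (q / 2 % 8) 0 1 2 4))) = true := by decide +kernel

theorem mem_elts_of_shape {M : Matrix (Fin 5) (Fin 5) K} (hM : Shape M) (hdet : M.det ≠ 0) :
    code M ∈ elts := by
  obtain ⟨f0, f1, f2, f3, f4, f5⟩ := fields (ZMod.val_lt (M 0 1)) (enc_lt (M 0 2) (M 0 3) (M 0 4))
    (enc_lt (M 2 1) (M 3 1) (M 4 1)) (enc_lt (M 2 2) (M 2 3) (M 2 4)) (enc_lt (M 3 2) (M 3 3) (M 3 4))
    (enc_lt (M 4 2) (M 4 3) (M 4 4))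
  -- the rows of the Levi part are independent
  have key : ∀ a b c : K, (a ≠ 0 ∨ b ≠ 0 ∨ c ≠ 0) →
      ¬ (a * M 2 2 + b * M 3 2 + c * M 4 2 = 0 ∧ a * M 2 3 + b * M 3 3 + c * M 4 3 = 0 ∧
        a * M 2 4 + b * M 3 4 + c * M 4 4 = 0) := by
    rintro a b c habc ⟨e2, e3, e4⟩
    have two : ∀ x : K, x + x = 0 := by decide
    haveI : Fact (Nat.Prime 2) := ⟨Nat.prime_two⟩
    refine hdet (Matrix.exists_vecMul_eq_zero_iff.1
      ⟨![0, a * M 2 1 + b * M 3 1 + c * M 4 1, a, b, c], fun e => ?_, ?_⟩)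
    · rcases habc with h | h | h
      · exact h (congrFun e 2)
      · exact h (congrFun e 3)
      · exact h (congrFun e 4)
    · funext j
      fin_cases j <;>
        simp [Matrix.vecMul, dotProduct, Fin.sum_univ_five, hM.col, hM.row, e2, e3, e4, add_assoc] <;>
        linear_combination two (a * M 2 1 + b * M 3 1 + c * M 4 1)
  have hlevi : pack 0 0 0 (enc (M 2 2) (M 2 3) (M 2 4)) (enc (M 3 2) (M 3 3) (M 3 4))
      (enc (M 4 2) (M 4 3) (M 4 4)) ∈ levi := by
    have hne : ∀ a b c : K, (a ≠ 0 ∨ b ≠ 0 ∨ c ≠ 0) →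
        sel (enc a b c) (enc (M 2 2) (M 2 3) (M 2 4)) (enc (M 3 2) (M 3 3) (M 3 4))
          (enc (M 4 2) (M 4 3) (M 4 4)) ≠ 0 := fun a b c habc e => by
      rw [← sel_aux] at e
      exact key a b c habc (enc_inj _ _ _ 0 0 0 (e.trans (by decide)))
    have aux : ((List.range 8).all fun r0 => (List.range 8).all fun r1 => (List.range 8).all fun r2 =>
        [1, 2, 3, 4, 5, 6, 7].any (fun r => sel r r0 r1 r2 == 0) || levi.contains (pack 0 0 0 r0 r1 r2))
          = true := by decide +kernel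
    have h := List.all_eq_true.1 (List.all_eq_true.1 (List.all_eq_true.1 aux _
      (List.mem_range.2 (enc_lt (M 2 2) (M 2 3) (M 2 4)))) _
      (List.mem_range.2 (enc_lt (M 3 2) (M 3 3) (M 3 4)))) _
      (List.mem_range.2 (enc_lt (M 4 2) (M 4 3) (M 4 4)))
    rw [Bool.or_eq_true, List.contains_iff_mem, List.any_eq_true] at h
    refine h.resolve_left ?_
    rintro ⟨r, hr, he⟩
    have hr' : ∃ a b c : K, (a ≠ 0 ∨ b ≠ 0 ∨ c ≠ 0) ∧ enc a b c = r := by
      fin_cases hr <;> decide
    obtain ⟨a, b, c, habc, rfl⟩ := hr'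
    exact hne a b c habc (by simpa using he)
  refine List.mem_flatMap.2 ⟨_, hlevi, List.mem_map.2
    ⟨(M 0 1).val + 2 * enc (M 0 2) (M 0 3) (M 0 4) + 16 * enc (M 2 1) (M 3 1) (M 4 1), ?_, ?_⟩⟩
  · rw [List.mem_range]
    have := ZMod.val_lt (M 0 1)
    have := enc_lt (M 0 2) (M 0 3) (M 0 4)
    have := enc_lt (M 2 1) (M 3 1) (M 4 1)
    omega
  · simp only [code, pack]
    omega

/-- A transvection centralising the transvection. -/
theorem exists_transvection {d : ℕ} (hd : d ∈ gens ++ [zc]) :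
    ∃ g : SL5, Shape (g : Matrix (Fin 5) (Fin 5) K) ∧ code (g : Matrix (Fin 5) (Fin 5) K) = d := by
  rw [← check_pairs.1, List.mem_map] at hd
  obtain ⟨⟨i, j⟩, hp, rfl⟩ := hd
  have := List.all_eq_true.1 check_pairs.2 _ hp
  simp only [Bool.and_eq_true, bne_iff_ne] at this
  obtain ⟨⟨hij, hi⟩, hj⟩ := this
  refine ⟨⟨Matrix.transvection i j 1, Matrix.det_transvection_of_ne _ _ hij _⟩, ⟨fun a => ?_, fun b => ?_⟩, rfl⟩
  · simp [Matrix.transvection, Matrix.one_apply, hj]
  · simp [Matrix.transvection, Matrix.one_apply, Matrix.single_apply_of_row_ne hi, eq_comm]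

theorem Shape.mul_shape {M N : Matrix (Fin 5) (Fin 5) K} (hM : Shape M) (hN : Shape N) :
    Shape (M * N) := by
  refine ⟨fun i => ?_, fun j => ?_⟩
  · rw [Matrix.mul_apply, Finset.sum_eq_single 0 (fun k _ hk => by rw [hN.col, if_neg hk, mul_zero])
      (fun h => absurd (Finset.mem_univ _) h), hN.col, if_pos rfl, mul_one, hM.col]
  · rw [Matrix.mul_apply, Finset.sum_eq_single 1 (fun k _ hk => by rw [hM.row, if_neg hk, zero_mul])
      (fun h => absurd (Finset.mem_univ _) h), hM.row, if_pos rfl, one_mul, hN.row]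

theorem grown_sound : ∀ L : List (ℕ × ℕ × ℕ), grown (gens ++ [zc]) L = true → ∀ d ∈ one :: L.map Prod.fst,
    ∃ g : SL5, Shape (g : Matrix (Fin 5) (Fin 5) K) ∧ code (g : Matrix (Fin 5) (Fin 5) K) = d
  | [], _ => fun d hd => ⟨1, ⟨fun i => by simp [Matrix.one_apply],
      fun j => by simp [Matrix.one_apply, eq_comm]⟩, by simpa [code_one] using (List.mem_singleton.1 hd).symm⟩
  | (x, p, k) :: rest, h => by
    simp only [grown, Bool.and_eq_true, Bool.or_eq_true, beq_iff_eq, List.contains_iff_mem] at h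
    obtain ⟨⟨hx, hp⟩, hrest⟩ := h
    intro d hd
    simp only [List.map_cons, List.mem_cons] at hd
    rcases hd with hd | hd | hd
    · exact grown_sound rest hrest d (hd ▸ List.mem_cons_self)
    swap
    · exact grown_sound rest hrest d (List.mem_cons_of_mem _ hd)
    obtain ⟨g, hg, hgc⟩ := grown_sound rest hrest p (List.mem_cons.2 hp)
    split at hx
    next a hk =>
      obtain ⟨t, ht, htc⟩ := exists_transvection (List.mem_of_getElem? hk)
      refine ⟨g * t, ?_, ?_⟩
      · simpa using hg.mul_shape ht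
      · rw [Matrix.SpecialLinearGroup.coe_mul, hg.mul ht, hgc, htc, hd, beq_iff_eq.1 hx]
    next => exact Bool.noConfusion hx

theorem exists_of_mem {d : ℕ} (hd : d ∈ elts) :
    ∃ g : SL5, Shape (g : Matrix (Fin 5) (Fin 5) K) ∧ code (g : Matrix (Fin 5) (Fin 5) K) = d := by
  obtain ⟨m, hm, hd⟩ := List.mem_flatMap.1 hd
  obtain ⟨q, hq, rfl⟩ := List.mem_map.1 hd
  have he := List.all_eq_true.1 (List.all_eq_true.1 check_decomp m hm) q hq
  rw [beq_iff_eq] at he
  rw [List.mem_range] at hq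
  have hl := List.all_eq_true.1 check_tree_levi m hm
  have hv := List.all_eq_true.1 check_tree_q (q / 2 % 8) (List.mem_range.2 (by omega))
  have hf := List.all_eq_true.1 check_tree_q (q / 16) (List.mem_range.2 (by omega))
  simp only [Bool.and_eq_true] at hv hf
  have hf' := List.all_eq_true.1 hf.2 (q % 2) (List.mem_range.2 (by omega))
  simp only [List.contains_iff_mem] at hl hv hf'
  obtain ⟨a, ha, hac⟩ := grown_sound tree check_tree _ hf'
  obtain ⟨b, hb, hbc⟩ := grown_sound tree check_tree _ hl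
  obtain ⟨c, hc, hcc⟩ := grown_sound tree check_tree _ hv.1
  refine ⟨a * (b * c), ?_, ?_⟩
  · simpa using ha.mul_shape (hb.mul_shape hc)
  · rw [Matrix.SpecialLinearGroup.coe_mul, Matrix.SpecialLinearGroup.coe_mul, ha.mul (hb.mul_shape hc),
      hb.mul hc, hac, hbc, hcc, ← he]

/-- The centraliser of the transvection is coded by `elts`. -/
theorem coding_transvection (s : SL5)
    (hs : (s : Matrix (Fin 5) (Fin 5) K) = Matrix.transvection 0 1 1) : Nonempty (Coding s) := by
  have hshape : ∀ a : SL5, Commute a s → Shape (a : Matrix (Fin 5) (Fin 5) K) := fun a ha => by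
    refine shape_of_commute (by rw [a.2]; exact one_ne_zero) ?_
    have := congrArg (fun g : SL5 => (g : Matrix (Fin 5) (Fin 5) K)) ha.eq
    simpa [hs] using this
  refine ⟨⟨fun a => code (a : Matrix (Fin 5) (Fin 5) K), fun a ha => ?_, fun a b ha hb => ?_,
    fun a b ha hb h => ?_, fun d hd => ?_, by rw [hs, code_transvection]⟩⟩
  · exact mem_elts_of_shape (hshape a ha) (by rw [a.2]; exact one_ne_zero)
  · rw [Matrix.SpecialLinearGroup.coe_mul]; exact (hshape a ha).mul (hshape b hb)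
  · exact Subtype.ext ((hshape a ha).ext (hshape b hb) h)
  · obtain ⟨g, hg, hgc⟩ := exists_of_mem hd
    refine ⟨g, Subtype.ext ?_, hgc⟩
    simp only [Matrix.SpecialLinearGroup.coe_mul, hs]
    ext i j
    simp only [Matrix.mul_apply, Fin.sum_univ_five, Matrix.transvection, Matrix.add_apply,
      Matrix.one_apply, Matrix.single_apply]
    fin_cases i <;> fin_cases j <;> simp [hg.col, hg.row, add_comm]

/-- A group with such an involution centraliser is coded. -/
theorem coding_of_iso {G : Type*} [Group G] (s : SL5)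
    (hs : (s : Matrix (Fin 5) (Fin 5) K) = Matrix.transvection 0 1 1) {z : G} (hz : orderOf z = 2)
    (e : ↥(Subgroup.centralizer ({z} : Set G)) ≃* ↥(Subgroup.centralizer ({s} : Set SL5))) :
    Nonempty (Coding z) := by
  obtain ⟨c⟩ := coding_transvection s hs
  exact c.of_iso hz e

end Cfsg.Agent.TransvCent
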