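import Cfsg.Agent.Lib.TransvCent.AmalgamLink
import Cfsg.Agent.Lib.TransvCent.AmalgamData
import Cfsg.Agent.Lib.TransvCent.CompleteDef
import Cfsg.Agent.Lib.TransvCent.Model

/-
The two sides satisfy the relators of one of the three presentations.

* `rels_L5`, `rels_M24`, `rels_He` : generators satisfying the relators, generating all of `C(z)`
-/

set_option autoImplicit false

namespace Cfsg.Agent.TransvCent.Amalgam

variable {G : Type*} [Group G] {z : G} {c : Coding z}

attribute [local irreducible] Coding.pre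

/-- Free reduction. -/
def red (l : List ℕ) : List ℕ :=
  l.foldr (fun a r => match r with
    | b :: r' => if b == a ^^^ 1 then r' else a :: r
    | [] => [a]) []

theorem evL_flip (f : Fin 4 → G) (a : ℕ) : evL f (a ^^^ 1) = (evL f a)⁻¹ := by
  have h1 : (a ^^^ 1) / 2 = a / 2 := by rw [Nat.xor_div_two]; simp
  have h2 : (a ^^^ 1) % 2 = 1 - a % 2 := by rw [Nat.xor_mod_two_eq]; omega
  rw [evL, evL, h1, h2]
  rcases Nat.mod_two_eq_zero_or_one a with h | h <;> simp [h]

theorem evW_cons (f : Fin 4 → G) (a : ℕ) (w : List ℕ) : evW f (a :: w) = evL f a * evW f w := by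
  simp [evW]

theorem evW_append (f : Fin 4 → G) (v w : List ℕ) : evW f (v ++ w) = evW f v * evW f w := by
  simp [evW]

theorem evW_invW (f : Fin 4 → G) : ∀ w : List ℕ, evW f (invW w) = (evW f w)⁻¹
  | [] => by simp [evW, invW]
  | a :: w => by
    have e : invW (a :: w) = invW w ++ [a ^^^ 1] := by simp [invW]
    rw [e, evW_append, evW_invW f w, evW_cons f a w, mul_inv_rev]
    simp [evW, evL_flip]

theorem evW_red (f : Fin 4 → G) : ∀ w : List ℕ, evW f (red w) = evW f w
  | [] => rfl
  | a :: w => by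
    have e : red (a :: w) = (match red w with
      | b :: r' => if b == a ^^^ 1 then r' else a :: red w
      | [] => [a]) := by
      rw [red, List.foldr_cons, ← red]
    rw [evW_cons, ← evW_red f w, e]
    rcases red w with _ | ⟨b, r'⟩
    · simp [evW]
    · dsimp only
      split
      next hb =>
        rw [evW_cons f b r', beq_iff_eq.1 hb, evL_flip, mul_inv_cancel_left]
      next => rw [evW_cons]

/-- The code of a letter `x, x⁻¹, y, y⁻¹`. -/
def xyLet (a : ℕ) : ℕ :=
  [xCode, mul xCode (mul xCode (mul xCode (mul xCode (mul xCode xCode)))), yCode, mul yCode yCode].getD a 0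

/-- The code of a word in `x, y`. -/
def xyW (w : List ℕ) : ℕ := w.foldr (fun a d => mul (xyLet a) d) one

theorem check_xy : (isElt xCode && isElt yCode && isElt (xyLet 1) && isElt (xyLet 3) &&
    mul xCode (xyLet 1) == one && mul yCode (xyLet 3) == one && xCode != one) = true := by decide +kernel

/-- The four generators. -/
noncomputable def gen4 (c : Coding z) (g h : G) : Fin 4 → G := ![c.pre xCode, c.pre yCode, g, h]

theorem evW_xy (c : Coding z) (g h : G) :
    ∀ w : List ℕ, letPQ w = true → Commute (evW (gen4 c g h) w) z ∧ c.f (evW (gen4 c g h) w) = xyW w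
  | [], _ => ⟨Commute.one_left z, c.map_one⟩
  | a :: w, hw => by
    have hc := check_xy
    simp only [Bool.and_eq_true, beq_iff_eq] at hc
    simp only [letPQ, List.all_cons, Bool.and_eq_true, Nat.blt_eq] at hw
    obtain ⟨h1, h2⟩ := evW_xy c g h w hw.2
    have hx := c.pre_spec (mem_of_isElt hc.1.1.1.1.1.1)
    have hy := c.pre_spec (mem_of_isElt hc.1.1.1.1.1.2)
    have hL : Commute (evL (gen4 c g h) a) z ∧ c.f (evL (gen4 c g h) a) = xyLet a := by
      rcases a with _ | _ | _ | _ | a
      · exact hx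
      · exact ⟨hx.1.inv_left, c.f_inv hx.1 (mem_of_isElt hc.1.1.1.1.2) (hx.2.symm ▸ hc.1.1.2)⟩
      · exact hy
      · exact ⟨hy.1.inv_left, c.f_inv hy.1 (mem_of_isElt hc.1.1.1.2) (hy.2.symm ▸ hc.1.2)⟩
      · exact absurd hw.1 (by omega)
    rw [evW_cons]
    refine ⟨hL.1.mul_left h1, ?_⟩
    rw [c.map_mul _ _ hL.1 h1, hL.2, h2]
    rfl

/-- The words standing for the letters of a side; `g` is the letter `G`. -/
def subOK (pc qc G : ℕ) (sub : List (List ℕ)) : Bool :=
  (List.range 4).all (fun a => letPQ (sub.getD a []) && xyW (sub.getD a []) == codeLet pc qc a) &&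
    sub.getD 4 [] == [G] && sub.getD 5 [] == [G + 1]

/-- Substitution of the words for the letters. -/
def substW (sub : List (List ℕ)) (w : List ℕ) : List ℕ := w.flatMap fun a => sub.getD a []

theorem evW_subst {e : ℕ → G} {pc qc : ℕ} {K : Kind} (S : Side c e pc qc K) (g h : G) {n : ℕ}
    (hn : evL (gen4 c g h) n = S.g) (hn' : evL (gen4 c g h) (n + 1) = S.g⁻¹) {sub : List (List ℕ)}
    (hsub : subOK pc qc n sub = true) (hok : pqOK pc qc = true) :
    ∀ w, letW w = true → evW (gen4 c g h) (substW sub w) = S.ev w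
  | [], _ => rfl
  | a :: w, hw => by
    simp only [letW, List.all_cons, Bool.and_eq_true, Nat.blt_eq] at hw
    rw [substW, List.flatMap_cons, evW_append, ← substW, evW_subst S g h hn hn' hsub hok w hw.2,
      Side.ev, Side.ev, evK_cons]
    refine congrArg (· * evK S.p S.q S.g w) ?_
    simp only [subOK, Bool.and_eq_true, beq_iff_eq] at hsub
    rcases Nat.lt_or_ge a 4 with ha | ha
    · have hs := List.all_eq_true.1 hsub.1.1 a (List.mem_range.2 ha)
      rw [Bool.and_eq_true, beq_iff_eq] at hs
      have h1 := evW_xy c g h _ hs.1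
      have h2 := code_evK c S.g hok S.hp S.hq [a] (by simp [letPQ, ha])
      have h3 : codeW pc qc [a] = codeLet pc qc a := by
        have hm : evK S.p S.q S.g [a] = evLet S.p S.q S.g a := by simp [evK]
        rcases a with _ | _ | _ | _ | a
        all_goals first
          | omega
          | (simp only [codeW, List.foldr_cons, List.foldr_nil]
             rw [← c.map_one, ← hs.2, ← h1.2, ← c.map_mul _ _ h1.1 (Commute.one_left z), mul_one])
      have hm : evK S.p S.q S.g [a] = evLet S.p S.q S.g a := by simp [evK]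
      rw [h3, hm] at h2
      exact c.inj _ _ h1.1 h2.1 ((h1.2.trans hs.2).trans h2.2.symm)
    · have h45 : a = 4 ∨ a = 5 := by omega
      rcases h45 with rfl | rfl
      · rw [hsub.1.2]
        simp [evW, hn, evLet]
      · rw [hsub.2]
        simp [evW, hn', evLet]

/-- Everything that the relators of one presentation rest on. -/
structure CaseData where
  KA : Kind
  KB : Kind
  A : ℕ × ℕ
  B : ℕ × ℕ
  subA : List (List ℕ)
  subB : List (List ℕ)
  links : List Link
  common : List (List ℕ × ℕ × List ℕ)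
  eqns : List (List ℕ × List ℕ)
  rels : List (List ℕ)
  origin : List (ℕ × ℕ × List ℕ × List ℕ × List ℕ)

/-- The raw word of an origin. -/
def rawWord (D : CaseData) (o : ℕ × ℕ × List ℕ × List ℕ × List ℕ) : List ℕ :=
  match o.1 with
  | 0 => o.2.2.1
  | 1 => substW D.subA o.2.2.2.1
  | 2 => substW D.subB o.2.2.2.1
  | 3 => [4] ++ o.2.2.1 ++ [5] ++ o.2.2.2.1
  | 4 => [6] ++ o.2.2.1 ++ [7] ++ o.2.2.2.1
  | _ => substW D.subA (D.links.getD o.2.1 default).1 ++
      invW (substW D.subB (D.links.getD o.2.1 default).2.2.2.1) ++ o.2.2.2.1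

/-- The raw word has value 1. -/
def rawOK (D : CaseData) (o : ℕ × ℕ × List ℕ × List ℕ × List ℕ) : Bool :=
  let e := o.2.1
  let w1 := o.2.2.1
  let w2 := o.2.2.2.1
  match o.1 with
  | 0 => letPQ w1 && xyW w1 == one
  | 1 => trivW D.KA.g D.KA.g' w2
  | 2 => trivW D.KB.g D.KB.g' w2
  | 3 => Nat.blt e 64 && letPQ w1 && letPQ w2 && xyW w1 == uA.getD e 0 && xyW w2 == uA.getD (pget D.KA.g e) 0
  | 4 => Nat.blt e 64 && letPQ w1 && letPQ w2 && xyW w1 == uB.getD e 0 && xyW w2 == uB.getD (pget D.KB.g e) 0
  | _ => Nat.blt e 2 && letPQ w2 && letW (D.links.getD e default).1 && letW (D.links.getD e default).2.2.2.1 &&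
      Nat.blt (D.links.getD e default).2.2.2.2.2.2.1 64 &&
      xyW w2 == uB.getD (D.links.getD e default).2.2.2.2.2.2.1 0

/-- The whole check of a case. -/
def relsOK (D : CaseData) : Bool :=
  caseOK D.KA D.KB D.A D.B D.common D.links D.eqns && subOK D.A.1 D.A.2 4 D.subA &&
    subOK D.B.1 D.B.2 6 D.subB && D.rels.length == D.origin.length &&
    (List.range D.rels.length).all fun i =>
      rawOK D (D.origin.getD i default) &&
        red (rawWord D (D.origin.getD i default)) ==
          (D.origin.getD i default).2.2.2.2 ++ D.rels.getD i [] ++ invW (D.origin.getD i default).2.2.2.2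

theorem check_gensWords : (List.range 13).all (fun i => letPQ (gensWords.getD i []) &&
    xyW (gensWords.getD i []) == (gens ++ [zc]).getD i 0) = true := by decide +kernel

/-- Every element of `C(z)` is a word in `x, y`. -/
theorem mem_closure_gen4 (c : Coding z) (g h : G) {a : G} (ha : Commute a z) :
    a ∈ Subgroup.closure (Set.range (gen4 c g h)) := by
  set H := Subgroup.closure (Set.range (gen4 c g h))
  let T : Set ℕ := {d | ∃ b ∈ H, Commute b z ∧ c.f b = d}
  suffices hT : c.f a ∈ T by
    obtain ⟨b, hb, hbz, he⟩ := hT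
    rwa [c.inj b a hbz ha he] at hb
  have hev : ∀ w, evW (gen4 c g h) w ∈ H := by
    intro w
    refine list_prod_mem fun x hx => ?_
    obtain ⟨b, -, rfl⟩ := List.mem_map.1 hx
    have hm : gen4 c g h (Fin.ofNat 4 (b / 2)) ∈ H := Subgroup.subset_closure ⟨_, rfl⟩
    rw [evL]
    split
    · exact hm
    · exact inv_mem hm
  have Tmul : ∀ d ∈ T, ∀ e ∈ T, mul d e ∈ T := by
    rintro _ ⟨b, hb, hbz, rfl⟩ _ ⟨b', hb', hbz', rfl⟩
    exact ⟨b * b', mul_mem hb hb', hbz.mul_left hbz', c.map_mul b b' hbz hbz'⟩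
  have T1 : one ∈ T := ⟨1, one_mem H, Commute.one_left z, c.map_one⟩
  have Tgen : ∀ d ∈ gens ++ [zc], d ∈ T := by
    intro d hd
    obtain ⟨i, hi, rfl⟩ := List.mem_iff_getElem.1 hd
    have h13 : i < 13 := by simpa [gens] using hi
    have hh := List.all_eq_true.1 check_gensWords i (List.mem_range.2 h13)
    rw [Bool.and_eq_true, beq_iff_eq, List.getD_eq_getElem _ _ hi] at hh
    have := evW_xy c g h _ hh.1
    exact ⟨_, hev _, this.1, this.2.trans hh.2⟩
  have Ttree : ∀ L : List (ℕ × ℕ × ℕ), grown (gens ++ [zc]) L = true → ∀ d ∈ one :: L.map Prod.fst, d ∈ T := by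
    intro L
    induction L with
    | nil => intro _ d hd; rw [List.map_nil, List.mem_singleton] at hd; exact hd ▸ T1
    | cons r rest ih =>
      obtain ⟨x, p, k⟩ := r
      intro hL d hd
      simp only [grown, Bool.and_eq_true, Bool.or_eq_true, beq_iff_eq, List.contains_iff_mem] at hL
      obtain ⟨⟨hx, hp⟩, hrest⟩ := hL
      simp only [List.map_cons, List.mem_cons] at hd
      rcases hd with hd | hd | hd
      · exact hd ▸ T1
      swap
      · exact ih hrest d (List.mem_cons_of_mem _ hd)
      have hpT : p ∈ T := ih hrest p (List.mem_cons.2 hp)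
      split at hx
      next t hk =>
        rw [hd, beq_iff_eq.1 hx]
        exact Tmul _ hpT _ (Tgen t (List.mem_of_getElem? hk))
      next => exact Bool.noConfusion hx
  obtain ⟨m, hm, hd⟩ := List.mem_flatMap.1 (c.mem a ha)
  obtain ⟨q, hq, hd⟩ := List.mem_map.1 hd
  have he := List.all_eq_true.1 (List.all_eq_true.1 check_decomp m hm) q hq
  rw [beq_iff_eq] at he
  rw [List.mem_range] at hq
  have hl := List.all_eq_true.1 check_tree_levi m hm
  have hv := List.all_eq_true.1 check_tree_q (q / 2 % 8) (List.mem_range.2 (by omega))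
  have hf := List.all_eq_true.1 check_tree_q (q / 16) (List.mem_range.2 (by omega))
  simp only [Bool.and_eq_true] at hv hf
  have hf' := List.all_eq_true.1 hf.2 (q % 2) (List.mem_range.2 (by omega))
  simp only [List.contains_iff_mem] at hl hv hf'
  rw [← hd, he]
  exact Tmul _ (Ttree tree check_tree _ hf') _ (Tmul _ (Ttree tree check_tree _ hl) _ (Ttree tree check_tree _ hv.1))

theorem gen4_zero_ne (c : Coding z) (g h : G) : gen4 c g h 0 ≠ 1 := by
  have hc := check_xy
  simp only [Bool.and_eq_true, bne_iff_ne] at hc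
  intro e
  refine hc.2 ?_
  have hx := c.pre_spec (mem_of_isElt hc.1.1.1.1.1.1)
  rw [← hx.2, show c.pre xCode = 1 from e, c.map_one]

/-- After linking, the four generators satisfy the relators. -/
theorem exists_gen4 (D : CaseData) (hD : relsOK D = true)
    (SA : Side c (coord c uA) D.A.1 D.A.2 D.KA) (SB : Side c (coord c uB) D.B.1 D.B.2 D.KB) :
    ∃ S : Side c (coord c uA) D.A.1 D.A.2 D.KA, SatRels D.rels (gen4 c S.g SB.g) := by
  simp only [relsOK, Bool.and_eq_true, beq_iff_eq] at hD
  obtain ⟨⟨⟨⟨hcase, hsA⟩, hsB⟩, -⟩, hall⟩ := hD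
  obtain ⟨S, hS⟩ := exists_linked SA SB hcase
  simp only [caseOK, Bool.and_eq_true] at hcase
  have hA := hcase.1.1.1.1.1.1
  have hB := hcase.1.1.1.1.1.2
  refine ⟨S, ?_⟩
  have sA := evW_subst S S.g SB.g (n := 4) rfl rfl hsA hA
  have sB := evW_subst SB S.g SB.g (n := 6) rfl rfl hsB hB
  intro w hw
  obtain ⟨i, hi, rfl⟩ := List.mem_iff_getElem.1 hw
  have h := List.all_eq_true.1 hall i (List.mem_range.2 hi)
  rw [Bool.and_eq_true, beq_iff_eq, List.getD_eq_getElem _ _ hi] at h
  obtain ⟨hraw, hred⟩ := h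
  generalize D.origin.getD i default = o at hraw hred
  suffices h1 : evW (gen4 c S.g SB.g) (rawWord D o) = 1 by
    rw [← evW_red, hred, evW_append, evW_append, evW_invW, mul_inv_eq_one, mul_eq_left] at h1
    exact h1
  obtain ⟨k, e, w1, w2, cp⟩ := o
  have hconj : ∀ {L : List ℕ} {x : G} {P e : ℕ}, coordsOK L = true → Maps (coord c L) x (pget P) → e < 64 →
      ∀ {a b : List ℕ}, letPQ a = true → letPQ b = true → xyW a = L.getD e 0 → xyW b = L.getD (pget P e) 0 →
      x * evW (gen4 c S.g SB.g) a * x⁻¹ * evW (gen4 c S.g SB.g) b = 1 := by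
    intro L x P e hL hx he a b la lb ha hb
    have ea : evW (gen4 c S.g SB.g) a = coord c L e := by
      have := evW_xy c S.g SB.g a la
      exact c.inj _ _ this.1 (coord_spec c hL he).1 ((this.2.trans ha).trans (coord_spec c hL he).2.symm)
    have eb : evW (gen4 c S.g SB.g) b = coord c L (pget P e) := by
      have := evW_xy c S.g SB.g b lb
      exact c.inj _ _ this.1 (coord_spec c hL (pget_lt P e)).1
        ((this.2.trans hb).trans (coord_spec c hL (pget_lt P e)).2.symm)
    rw [ea, eb, (hx e he).2, (coord_elem c hL).sq (pget_lt P e)]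
  match k, hraw with
  | 0, hraw =>
    simp only [rawOK, Bool.and_eq_true, beq_iff_eq] at hraw
    have := evW_xy c S.g SB.g w1 hraw.1
    exact (c.eq_iff this.1 (Commute.one_left z)).1 ((this.2.trans hraw.2).trans c.map_one.symm)
  | 1, hraw =>
    simp only [rawOK] at hraw
    have hl : letW w2 = true := by simp only [trivW, Bool.and_eq_true] at hraw; exact hraw.1
    exact (sA w2 hl).trans (S.triv w2 hraw)
  | 2, hraw =>
    simp only [rawOK] at hraw
    have hl : letW w2 = true := by simp only [trivW, Bool.and_eq_true] at hraw; exact hraw.1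
    exact (sB w2 hl).trans (SB.triv w2 hraw)
  | 3, hraw =>
    simp only [rawOK, Bool.and_eq_true, beq_iff_eq, Nat.blt_eq] at hraw
    have := hconj check_coords_uA S.maps_g hraw.1.1.1.1 hraw.1.1.1.2 hraw.1.1.2 hraw.1.2 hraw.2
    refine Eq.trans ?_ this
    simp [rawWord, evW, evL, gen4, mul_assoc]
  | 4, hraw =>
    simp only [rawOK, Bool.and_eq_true, beq_iff_eq, Nat.blt_eq] at hraw
    have := hconj check_coords_uB SB.maps_g hraw.1.1.1.1 hraw.1.1.1.2 hraw.1.1.2 hraw.1.2 hraw.2
    refine Eq.trans ?_ this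
    simp [rawWord, evW, evL, gen4, mul_assoc]
  | n + 5, hraw =>
    simp only [rawOK, Bool.and_eq_true, beq_iff_eq, Nat.blt_eq] at hraw
    obtain ⟨⟨⟨⟨⟨he2, hl2⟩, hw⟩, hdw⟩, hu⟩, hcode⟩ := hraw
    have ew : evW (gen4 c S.g SB.g) w2 = coord c uB (D.links.getD e default).2.2.2.2.2.2.1 := by
      have := evW_xy c S.g SB.g w2 hl2
      exact c.inj _ _ this.1 (coord_spec c check_coords_uB hu).1
        ((this.2.trans hcode).trans (coord_spec c check_coords_uB hu).2.symm)
    show evW (gen4 c S.g SB.g) (substW D.subA (D.links.getD e default).1 ++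
      invW (substW D.subB (D.links.getD e default).2.2.2.1) ++ w2) = 1
    rw [evW_append, evW_append, evW_invW, sA _ hw, sB _ hdw, ew, hS e he2, mul_inv_cancel_right,
      (coord_elem c check_coords_uB).sq hu]

theorem exists_satRels (D : CaseData) (hD : relsOK D = true)
    (SA : Side c (coord c uA) D.A.1 D.A.2 D.KA) (SB : Side c (coord c uB) D.B.1 D.B.2 D.KB) :
    ∃ f : Fin 4 → G, SatRels D.rels f ∧ f 0 ≠ 1 ∧ ∀ a, Commute a z → a ∈ Subgroup.closure (Set.range f) := by
  obtain ⟨S, hS⟩ := exists_gen4 D hD SA SB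
  exact ⟨_, hS, gen4_zero_ne c _ _, fun a ha => mem_closure_gen4 c _ _ ha⟩

/-- The data for `SL(5, 2)`. -/
def dataL5 : CaseData where
  KA := kind21
  KB := kind21
  A := compA.getD 0 (0, 0)
  B := compB.getD 0 (0, 0)
  subA := subAL5
  subB := subBL5
  links := linksL5
  common := commonL5
  eqns := eqnsL5
  rels := relsL5
  origin := originL5

/-- The data for the Mathieu group. -/
def dataM24 : CaseData where
  KA := kind45
  KB := kind21
  A := compA.getD 0 (0, 0)
  B := compB.getD 3 (0, 0)
  subA := subAM24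
  subB := subBM24
  links := linksM24
  common := commonM24
  eqns := eqnsM24
  rels := relsM24
  origin := originM24

/-- The data for the Held group. -/
def dataHe : CaseData where
  KA := kind45
  KB := kind45
  A := compA.getD 3 (0, 0)
  B := compB.getD 3 (0, 0)
  subA := subAHe
  subB := subBHe
  links := linksHe
  common := commonHe
  eqns := eqnsHe
  rels := relsHe
  origin := originHe

theorem check_rels : (relsOK dataL5 && relsOK dataM24 && relsOK dataHe) = true := by decide +kernel

theorem rels_L5 (SA : Side c (coord c uA) (compA.getD 0 (0, 0)).1 (compA.getD 0 (0, 0)).2 kind21)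
    (SB : Side c (coord c uB) (compB.getD 0 (0, 0)).1 (compB.getD 0 (0, 0)).2 kind21) :
    ∃ f : Fin 4 → G, SatRels relsL5 f ∧ f 0 ≠ 1 ∧ ∀ a, Commute a z → a ∈ Subgroup.closure (Set.range f) :=
  exists_satRels dataL5 (by
    have h := check_rels
    rw [Bool.and_eq_true, Bool.and_eq_true] at h
    exact h.1.1) SA SB

theorem rels_M24 (SA : Side c (coord c uA) (compA.getD 0 (0, 0)).1 (compA.getD 0 (0, 0)).2 kind45)
    (SB : Side c (coord c uB) (compB.getD 3 (0, 0)).1 (compB.getD 3 (0, 0)).2 kind21) :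
    ∃ f : Fin 4 → G, SatRels relsM24 f ∧ f 0 ≠ 1 ∧ ∀ a, Commute a z → a ∈ Subgroup.closure (Set.range f) := by
  have h := check_rels
  rw [Bool.and_eq_true, Bool.and_eq_true] at h
  exact exists_satRels dataM24 h.1.2 SA SB

theorem rels_He (SA : Side c (coord c uA) (compA.getD 3 (0, 0)).1 (compA.getD 3 (0, 0)).2 kind45)
    (SB : Side c (coord c uB) (compB.getD 3 (0, 0)).1 (compB.getD 3 (0, 0)).2 kind45) :
    ∃ f : Fin 4 → G, SatRels relsHe f ∧ f 0 ≠ 1 ∧ ∀ a, Commute a z → a ∈ Subgroup.closure (Set.range f) := by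
  have h := check_rels
  rw [Bool.and_eq_true, Bool.and_eq_true] at h
  exact exists_satRels dataHe h.2 SA SB

end Cfsg.Agent.TransvCent.Amalgam
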