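import Cfsg.Agent.Lib.TransvCent.AmalgamFrame
import Cfsg.Agent.Lib.TransvCent.AmalgamLink
import Cfsg.Agent.Lib.TransvCent.AmalgamRels
import Cfsg.Agent.Lib.TransvCent.CompleteDef

/-
An orbit of 21 or 45 points gives generators with the relators of one of the three completions.

* `two_sides` : the orbits and complements of both groups match
* `amalgam_cases` : the three possible relator sets
-/

set_option autoImplicit false

namespace Cfsg.Agent.TransvCent.Amalgam

variable {G : Type*} [Group G] {z : G}

/-- The index of the complement forced by the orbit of the other group. -/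
def idxOf : Bool → ℕ
  | false => 0
  | true => 3

theorem idxOf_lt (h : Bool) : idxOf h < 4 := by cases h <;> decide

theorem orbOf_mem (b h : Bool) : orbOf b h = orb3 ∨ orbOf b h = orb21 ∨ orbOf b h = orb45 := by
  cases b <;> cases h
  · exact Or.inl rfl
  · exact Or.inl rfl
  · exact Or.inr (Or.inl rfl)
  · exact Or.inr (Or.inr rfl)

theorem orb_ne : orb3 ≠ orb21 ∧ orb3 ≠ orb45 ∧ orb21 ≠ orb45 := by decide

/-- The complement of a side is forced by the orbit on the second group. -/
theorem idx_of_excl {c : Coding z} {i : ℕ} (hi : i < 4) {hA : Bool}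
    (SA : Side c (coord c uA) (compA.getD i (0, 0)).1 (compA.getD i (0, 0)).2 (kindOf hA)) {b h : Bool}
    (hP : Pres (coord c uB) (orbOf b h)) : b = true ∧ i = idxOf h := by
  obtain ⟨h1, h2, h3⟩ := orb_ne
  rcases excl hi (isKind_kindOf hA) SA (orbOf_mem b h) hP with ⟨hi', hS⟩ | ⟨hi', hS⟩ <;>
    cases b <;> cases h
  all_goals first
    | exact ⟨rfl, hi'⟩
    | exact absurd hS h1
    | exact absurd hS h2
    | exact absurd hS h3
    | exact absurd hS.symm h3

/-- The sides on both groups, with their complements. -/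
theorem two_sides (c : Coding z) {h : Bool} (hO : c.orbit = c.codeSet (uSel true true h)) :
    ∃ h' : Bool, (frame2 c).orbit = (frame2 c).codeSet (uSel true true h') ∧
      Nonempty (Side c (coord c uA) (compA.getD (idxOf h') (0, 0)).1 (compA.getD (idxOf h') (0, 0)).2
        (kindOf h)) ∧
      Nonempty (Side c (coord c uB) (compB.getD (idxOf h) (0, 0)).1 (compB.getD (idxOf h) (0, 0)).2
        (kindOf h')) := by
  obtain ⟨i, hi, ⟨SA⟩⟩ := side_of_orbit c hO
  obtain ⟨b, h', hbh, hO2⟩ := exists_partner c hO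
  have hPB : Pres (coord c uB) (orbOf b h') :=
    (pres_of_orbit (frame2 c) hbh hO2).congr fun j hj => (frame2_coord c hj).1
  obtain ⟨rfl, rfl⟩ := idx_of_excl hi SA hPB
  obtain ⟨j, hj, ⟨S2⟩⟩ := side_of_orbit (frame2 c) hO2
  obtain ⟨-, rfl⟩ := idx_of_excl hj S2 (pres_perm c (pres_of_orbit (b := true) c (by simp) hO))
  exact ⟨h', hO2, ⟨SA⟩, side_of_frame2 c (idxOf_lt h) S2⟩

/-- Generators with the given relators whose closure contains the centraliser of `z`. -/
def HasRels (z : G) (rels : List (List ℕ)) : Prop :=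
  ∃ f : Fin 4 → G, SatRels rels f ∧ f 0 ≠ 1 ∧ ∀ a, Commute a z → a ∈ Subgroup.closure (Set.range f)

/-- **The amalgam.** One of the three relator sets is satisfied. -/
theorem amalgam_cases (c : Coding z) {h : Bool} (hO : c.orbit = c.codeSet (uSel true true h)) :
    HasRels z relsL5 ∨ HasRels z relsM24 ∨ HasRels z relsHe := by
  obtain ⟨h', hO2, ⟨SA⟩, ⟨SB⟩⟩ := two_sides c hO
  cases h <;> cases h'
  · exact Or.inl (rels_L5 SA SB)
  · -- the second frame has the orbit of 45 points first
    obtain ⟨k, -, ⟨TA⟩, ⟨TB⟩⟩ := two_sides (frame2 c) hO2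
    cases k
    · exact Or.inr (Or.inl (rels_M24 TA TB))
    · exact Or.inr (Or.inr (rels_He TA TB))
  · exact Or.inr (Or.inl (rels_M24 SA SB))
  · exact Or.inr (Or.inr (rels_He SA SB))

end Cfsg.Agent.TransvCent.Amalgam
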