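import Cfsg.Agent.Lib.TransvCent.Roots

/-
Kernel checks behind the isolation of the transvection.

* `candOK` : the central involutions of the centraliser of a representative
* `srcOK` : a central element with its product by the transvection, both in the radical and squares
-/

set_option autoImplicit false

namespace Cfsg.Agent.TransvCent

/-- No element commuting with `x` squares to `d`. -/
def rootFree (d x : ℕ) : Bool := elts.all fun a => !(mul a a == d && comm a x)

/-- The classes outside the radical which can meet that of the transvection. -/
def mayFuse (r d : ℕ) (L : List (ℕ × ℕ × ℕ)) : Bool := d == zc || (members r L).contains d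

/-- For every involution commuting with `r` and the elements of `gs`, that involution or its product
with `r` is a conjugate of `zc` or of `r`, or is no square in the centraliser of `r`. -/
def candOK (r : ℕ) (L : List (ℕ × ℕ × ℕ)) (gs : List ℕ) : Bool :=
  (elts.filter fun d => isInv d && comm d r && gs.all fun g => comm d g).all fun d =>
    mayFuse r d L || mayFuse r (mul r d) L || rootFree d r || rootFree (mul r d) r

/-- `b` and `zc * b` are in the classes `A`, `B`, are central in the centraliser of `r` and are the
squares of `w`, `w'` there. -/
def srcOK (r b w w' : ℕ) : Bool :=
  elts.contains b && comm b r && elts.contains w && elts.contains w' && comm w r && comm w' r &&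
    mul w w == b && mul w' w' == mul zc b && isInv b &&
    ((members repA chainA).contains b || (members repB chainB).contains b) &&
    ((members repA chainA).contains (mul zc b) || (members repB chainB).contains (mul zc b)) &&
    elts.all fun a => !comm a r || comm a b

/-- Elements generating the centraliser of `repD`. -/
def gsD : List ℕ := [51701, 32606, 32523, 35061]

/-- Elements generating the centraliser of `repH1`. -/
def gsH1 : List ℕ := [35035, 32605, 27393, 10752]

/-- Elements generating the centraliser of `repH2`. -/
def gsH2 : List ℕ := [35035, 56730, 15873, 51632]

theorem check_cand_D : candOK repD chainD gsD = true ∧
    gsD.all (fun g => elts.contains g && comm g repD) = true := by decide +kernel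

theorem check_cand_H1 : candOK repH1 chainH1 gsH1 = true ∧
    gsH1.all (fun g => elts.contains g && comm g repH1) = true := by decide +kernel

theorem check_cand_H2 : candOK repH2 chainH2 gsH2 = true ∧
    gsH2.all (fun g => elts.contains g && comm g repH2) = true := by decide +kernel

theorem check_src : (srcOK repD 34954 40078 40111 && srcOK repH1 34954 40076 40156 &&
    srcOK repH2 35024 51632 51643) = true := by decide +kernel

end Cfsg.Agent.TransvCent
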