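import Cfsg.Agent.Lib.TransvCent.Coding
import Cfsg.Agent.Lib.TransvCent.FusionCheck
import Mathlib.Algebra.Group.Conj
import Mathlib.Tactic.Group

/-
Fusion of an involution with the centraliser of a transvection of `SL(5,2)`.

* `Coding.profile` : the classes of the centraliser meeting the class of `z`
* `Coding.exists_conj_A_or_B` : if `z` is not isolated, an involution of class `A` or `B` is fused
-/

set_option autoImplicit false

namespace Cfsg.Agent.TransvCent

namespace Coding

variable {G : Type*} [Group G] {z : G}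

/-- `x` is conjugate in the centraliser to an element with code `r`. -/
def InCls (c : Coding z) (r : ℕ) (x : G) : Prop :=
  Commute x z ∧ ∃ h, Commute h z ∧ c.f (h * x * h⁻¹) = r

theorem commute_conj {h x : G} (hh : Commute h z) (hx : Commute x z) : Commute (h * x * h⁻¹) z :=
  (hh.mul_left hx).mul_left hh.inv_left

theorem chain_sound (c : Coding z) {r : ℕ} : ∀ L : List (ℕ × ℕ × ℕ), derived r L = true →
    ∀ x, Commute x z → c.f x ∈ members r L → c.InCls r x
  | [], _ => fun x hx hd => ⟨hx, 1, Commute.one_left z, by simpa [members] using hd⟩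
  | (d, p, k) :: rest, h => by
    simp only [derived, Bool.and_eq_true, Bool.or_eq_true, beq_iff_eq, List.contains_iff_mem] at h
    obtain ⟨⟨hd, hp⟩, hrest⟩ := h
    intro x hx hm
    simp only [members, List.map_cons, List.mem_cons] at hm
    rcases hm with hm | hm | hm
    · exact ⟨hx, 1, Commute.one_left z, by simpa using hm⟩
    swap
    · exact c.chain_sound rest hrest x hx (List.mem_cons_of_mem _ hm)
    split at hd
    next g hk =>
      have hg := List.all_eq_true.1 check_gens g (List.mem_of_getElem? hk)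
      rw [Bool.and_eq_true, List.contains_iff_mem, beq_iff_eq] at hg
      obtain ⟨a, ha, rfl⟩ := c.surj g hg.1
      have hinv : a⁻¹ = a := by
        refine inv_eq_of_mul_eq_one_left ?_
        refine (c.eq_iff (ha.mul_left ha) (Commute.one_left z)).1 ?_
        rw [c.map_mul a a ha ha, c.map_one, hg.2]
      have hq : Commute (a * x * a) z := (ha.mul_left hx).mul_left ha
      have hqc : c.f (a * x * a) = p := by
        rw [beq_iff_eq.1 hd, mul_assoc, c.map_mul _ _ ha (hx.mul_left ha), c.map_mul _ _ hx ha, hm]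
      obtain ⟨-, h, hh, hc⟩ := c.chain_sound rest hrest (a * x * a) hq (hqc ▸ List.mem_cons.2 hp)
      refine ⟨hx, h * a, hh.mul_left ha, ?_⟩
      rw [← hc, mul_inv_rev, hinv]
      simp only [mul_assoc]
    next => exact Bool.noConfusion hd

/-- The seven classes of involutions other than `z`. -/
theorem cases_cls (c : Coding z) {x : G} (hx : Commute x z) (ho : orderOf x = 2) (hne : x ≠ z) :
    c.InCls repA x ∨ c.InCls repB x ∨ c.InCls repD x ∨ c.InCls repCq x ∨ c.InCls repH1 x ∨
      c.InCls repH2 x ∨ c.InCls repF x := by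
  have hd := check_derived
  simp only [Bool.and_eq_true] at hd
  obtain ⟨⟨⟨⟨⟨⟨hA, hB⟩, hD⟩, hC⟩, h1⟩, h2⟩, hF⟩ := hd
  have h := List.all_eq_true.1 check_classes _ (c.mem x hx)
  rw [(c.isInv_iff hx).2 ho] at h
  simp only [Bool.not_true, Bool.false_or, Bool.or_eq_true, beq_iff_eq, List.contains_iff_mem] at h
  rcases h with ((((((h | h) | h) | h) | h) | h) | h) | h
  · exact absurd ((c.eq_iff hx (Commute.refl z)).1 (h.trans c.map_z.symm)) hne
  · exact Or.inl (c.chain_sound _ hA x hx h)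
  · exact Or.inr (Or.inl (c.chain_sound _ hB x hx h))
  · exact Or.inr (Or.inr (Or.inl (c.chain_sound _ hD x hx h)))
  · exact Or.inr (Or.inr (Or.inr (Or.inl (c.chain_sound _ hC x hx h))))
  · exact Or.inr (Or.inr (Or.inr (Or.inr (Or.inl (c.chain_sound _ h1 x hx h)))))
  · exact Or.inr (Or.inr (Or.inr (Or.inr (Or.inr (Or.inl (c.chain_sound _ h2 x hx h))))))
  · exact Or.inr (Or.inr (Or.inr (Or.inr (Or.inr (Or.inr (c.chain_sound _ hF x hx h))))))

/-- The square roots of `u` commuting with `z` and `x`. -/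
def rootSet (z x u : G) : Set G := {a | Commute a z ∧ a * a = u ∧ Commute a x}

theorem ncard_rootSet (c : Coding z) {x u : G} (hx : Commute x z) (hu : Commute u z) :
    (rootSet z x u).ncard = roots (c.f u) (c.f x) := by
  refine c.ncard_eq (fun a => a * a = u ∧ Commute a x) _ fun a ha => ?_
  rw [Bool.and_eq_true, c.sq_eq_iff ha hu, c.comm_iff ha hx]

theorem rootSet_conj (g x u w : G) :
    (rootSet (g * w * g⁻¹) (g * x * g⁻¹) (g * u * g⁻¹)).ncard = (rootSet w x u).ncard := by
  have key : ∀ a b : G, Commute (g⁻¹ * a * g) b ↔ Commute a (g * b * g⁻¹) := by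
    intro a b
    rw [← Commute.conj_iff g]
    simp [mul_assoc]
  refine Set.ncard_congr (fun a _ => g⁻¹ * a * g) ?_ ?_ ?_
  · rintro a ⟨ha, hau, hax⟩
    refine ⟨(key a w).2 ha, ?_, (key a x).2 hax⟩
    calc g⁻¹ * a * g * (g⁻¹ * a * g) = g⁻¹ * (a * a) * g := by group
      _ = u := by rw [hau]; group
  · intro a b _ _ h
    simpa using h
  · rintro a ⟨ha, hau, hax⟩
    have e : g⁻¹ * (g * a * g⁻¹) * g = a := by group
    refine ⟨g * a * g⁻¹, ⟨(key _ w).1 (e.symm ▸ ha), ?_, (key _ x).1 (e.symm ▸ hax)⟩, e⟩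
    calc g * a * g⁻¹ * (g * a * g⁻¹) = g * (a * a) * g⁻¹ := by group
      _ = _ := by rw [hau]

theorem InCls.roots_z {c : Coding z} {r : ℕ} {x : G} (h : c.InCls r x) :
    (rootSet z x z).ncard = roots zc r := by
  obtain ⟨hx, a, ha, he⟩ := h
  have hz : a * z * a⁻¹ = z := by rw [ha.eq, mul_inv_cancel_right]
  have := rootSet_conj a x z z
  rw [hz] at this
  rw [← this, c.ncard_rootSet (commute_conj ha hx) (Commute.refl z), c.map_z, he]

theorem InCls.roots_self {c : Coding z} {r : ℕ} {x : G} (h : c.InCls r x) :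
    (rootSet z x x).ncard = roots r r := by
  obtain ⟨hx, a, ha, he⟩ := h
  have hz : a * z * a⁻¹ = z := by rw [ha.eq, mul_inv_cancel_right]
  have := rootSet_conj a x x z
  rw [hz] at this
  rw [← this, c.ncard_rootSet (commute_conj ha hx) (commute_conj ha hx), he]

/-- For a conjugate `x` of `z` in the centraliser, the partner of `z` has the profile of `x` swapped. -/
theorem swap {x g : G} (hg : g * z * g⁻¹ = x) (hx : Commute x z) :
    Commute (g⁻¹ * z * g) z ∧
      (rootSet z (g⁻¹ * z * g) (g⁻¹ * z * g)).ncard = (rootSet z x z).ncard ∧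
      (rootSet z (g⁻¹ * z * g) z).ncard = (rootSet z x x).ncard := by
  have e : g * (g⁻¹ * z * g) * g⁻¹ = z := by group
  have hsym : ∀ u, rootSet x z u = rootSet z x u := fun u => by
    ext a
    exact ⟨fun h => ⟨h.2.2, h.2.1, h.1⟩, fun h => ⟨h.2.2, h.2.1, h.1⟩⟩
  refine ⟨?_, ?_, ?_⟩
  · rw [← Commute.conj_iff g, e, hg]; exact hx.symm
  · rw [← rootSet_conj g, hg, e, hsym]
  · rw [← rootSet_conj g, hg, e, hsym]

theorem orderOf_conj (g x : G) : orderOf (g * x * g⁻¹) = orderOf x := by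
  simpa using orderOf_injective (MulAut.conj g).toMonoidHom (MulEquiv.injective _) x

theorem orderOf_z (c : Coding z) : orderOf z = 2 := by
  rw [← c.isInv_iff (Commute.refl z), c.map_z]
  decide +kernel

theorem swap_ne {x g : G} (hg : g * z * g⁻¹ = x) (hne : x ≠ z) : g⁻¹ * z * g ≠ z := fun e => hne (by
  have h : z * g = g * z := by
    calc z * g = g * (g⁻¹ * z * g) := by group
      _ = g * z := by rw [e]
  rw [← hg, ← h, mul_inv_cancel_right])

/-- A conjugate of `z` commuting with it is in class `A`, `B`, `D`, `H1` or `H2`, and its partner has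
the same kind. -/
theorem profile (c : Coding z) {x g : G} (hg : g * z * g⁻¹ = x) (hx : Commute x z) (hne : x ≠ z) :
    ((c.InCls repA x ∨ c.InCls repB x) ∧
        (c.InCls repA (g⁻¹ * z * g) ∨ c.InCls repB (g⁻¹ * z * g))) ∨
      (c.InCls repD x ∧ c.InCls repD (g⁻¹ * z * g)) ∨
      ((c.InCls repH1 x ∨ c.InCls repH2 x) ∧
        (c.InCls repH1 (g⁻¹ * z * g) ∨ c.InCls repH2 (g⁻¹ * z * g))) := by
  obtain ⟨hy, h1, h2⟩ := swap hg hx
  have hxo : orderOf x = 2 := by rw [← hg, orderOf_conj, c.orderOf_z]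
  have hyo : orderOf (g⁻¹ * z * g) = 2 := by
    have := orderOf_conj g⁻¹ z
    rw [inv_inv] at this
    rw [this, c.orderOf_z]
  rcases c.cases_cls hx hxo hne with h | h | h | h | h | h | h <;>
    rcases c.cases_cls hy hyo (swap_ne hg hne) with k | k | k | k | k | k | k <;>
    first
      | exact Or.inl ⟨Or.inl h, Or.inl k⟩
      | exact Or.inl ⟨Or.inl h, Or.inr k⟩
      | exact Or.inl ⟨Or.inr h, Or.inl k⟩
      | exact Or.inl ⟨Or.inr h, Or.inr k⟩
      | exact Or.inr (Or.inl ⟨h, k⟩)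
      | exact Or.inr (Or.inr ⟨Or.inl h, Or.inl k⟩)
      | exact Or.inr (Or.inr ⟨Or.inl h, Or.inr k⟩)
      | exact Or.inr (Or.inr ⟨Or.inr h, Or.inl k⟩)
      | exact Or.inr (Or.inr ⟨Or.inr h, Or.inr k⟩)
      | (exfalso
         rw [h.roots_z, k.roots_self] at h1
         rw [h.roots_self, k.roots_z] at h2
         simp only [check_roots_A.1, check_roots_A.2, check_roots_B.1, check_roots_B.2, check_roots_D.1,
           check_roots_D.2, check_roots_Cq.1, check_roots_Cq.2, check_roots_H1.1, check_roots_H1.2,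
           check_roots_H2.1, check_roots_H2.2, check_roots_F.1, check_roots_F.2] at h1 h2
         omega)

theorem InCls.ne_z {c : Coding z} {r : ℕ} {x : G} (h : c.InCls r x) (hr : r ≠ zc) : x ≠ z := by
  rintro rfl
  obtain ⟨-, a, ha, he⟩ := h
  rw [ha.eq, mul_inv_cancel_right, c.map_z] at he
  exact hr he.symm

/-- The mixed involutions of the radical and the class `F` are never fused to `z`. -/
theorem not_isConj_Cq_F (c : Coding z) {x : G} (h : c.InCls repCq x ∨ c.InCls repF x) :
    ¬ IsConj z x := by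
  intro hcon
  obtain ⟨g, hg⟩ := isConj_iff.1 hcon
  have hx : Commute x z := h.elim And.left And.left
  have hne : x ≠ z := h.elim (fun k => k.ne_z (by decide)) (fun k => k.ne_z (by decide))
  have hr : ∀ {r r' : ℕ}, c.InCls r x → c.InCls r' x → roots r r = roots r' r' ∧ roots zc r = roots zc r' :=
    fun k k' => ⟨k.roots_self.symm.trans k'.roots_self, k.roots_z.symm.trans k'.roots_z⟩
  rcases h with h | h <;>
    rcases c.profile hg hx hne with ⟨k | k, -⟩ | ⟨k, -⟩ | ⟨k | k, -⟩ <;>
    · have := hr h k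
      simp only [check_roots_A.1, check_roots_A.2, check_roots_B.1, check_roots_B.2, check_roots_D.1,
        check_roots_D.2, check_roots_Cq.1, check_roots_Cq.2, check_roots_H1.1, check_roots_H1.2,
        check_roots_H2.1, check_roots_H2.2, check_roots_F.1, check_roots_F.2] at this
      omega

/-- An element commuting with `z` with code in a chain of `r` is conjugate to every member of the class. -/
theorem isConj_of_members (c : Coding z) {r : ℕ} {L : List (ℕ × ℕ × ℕ)} (hL : derived r L = true)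
    {x a : G} (hx : Commute x z) (hxr : c.f x = r) (ha : Commute a z) (ham : c.f a ∈ members r L) :
    IsConj a x := by
  obtain ⟨-, h, hh, he⟩ := c.chain_sound L hL a ha ham
  exact isConj_iff.2 ⟨h, (c.eq_iff (commute_conj hh ha) hx).1 (he.trans hxr.symm)⟩

theorem not_isConj_of_AB (c : Coding z) (hAB : ∀ a, c.InCls repA a ∨ c.InCls repB a → ¬ IsConj z a)
    {a : G} (ha : Commute a z)
    (h : c.f a ∈ members repA chainA ∨ c.f a ∈ members repB chainB) : ¬ IsConj z a := by
  have hd := check_derived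
  simp only [Bool.and_eq_true] at hd
  exact hAB a (h.imp (c.chain_sound _ hd.1.1.1.1.1.1 a ha) (c.chain_sound _ hd.1.1.1.1.1.2 a ha))

/-- The centre of `C(z, x)` for two representatives `r` of `x` and `s` of its partner. -/
theorem no_fusion_aux (c : Coding z) (hAB : ∀ a, c.InCls repA a ∨ c.InCls repB a → ¬ IsConj z a)
    {r s b w w' : ℕ} {L : List (ℕ × ℕ × ℕ)} {gs : List ℕ} (hL : derived r L = true)
    (hcand : candOK r L gs = true) (hgs : gs.all (fun g => elts.contains g && comm g r) = true)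
    (hsrc : srcOK s b w w' = true) {x g : G} (hg : g * z * g⁻¹ = x) (hx : Commute x z)
    (hxr : c.f x = r) (hys : c.f (g⁻¹ * z * g) = s) : False := by
  obtain ⟨hy, -, -⟩ := swap hg hx
  simp only [srcOK, Bool.and_eq_true, List.contains_iff_mem, beq_iff_eq, Bool.or_eq_true] at hsrc
  obtain ⟨⟨⟨⟨⟨⟨⟨⟨⟨⟨⟨hb, hbs⟩, hw⟩, hw'⟩, hws⟩, hw's⟩, hwb⟩, hw'b⟩, hbi⟩, hbA⟩, hzbA⟩, hcen⟩ := hsrc
  obtain ⟨β, hβ, rfl⟩ := c.surj b hb
  obtain ⟨ω, hω, rfl⟩ := c.surj w hw
  obtain ⟨ω', hω', rfl⟩ := c.surj w' hw'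
  subst hys
  rw [c.comm_iff hβ hy] at hbs
  rw [c.comm_iff hω hy] at hws
  rw [c.comm_iff hω' hy] at hw's
  have hωβ : ω * ω = β := (c.sq_eq_iff hω hβ).1 (beq_iff_eq.2 hwb)
  have hzβ : Commute (z * β) z := (Commute.refl z).mul_left hβ
  have hmz : c.f (z * β) = mul zc (c.f β) := by rw [c.map_mul _ _ (Commute.refl z) hβ, c.map_z]
  rw [← hmz] at hzbA hw'b
  have hω'β : ω' * ω' = z * β := (c.sq_eq_iff hω' hzβ).1 (beq_iff_eq.2 hw'b)
  have nβ : ¬ IsConj z β := c.not_isConj_of_AB hAB hβ hbA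
  have nzβ : ¬ IsConj z (z * β) := c.not_isConj_of_AB hAB hzβ hzbA
  -- move to the centraliser of `x`
  have e : g * (g⁻¹ * z * g) * g⁻¹ = z := by group
  have move : ∀ {a : G}, Commute a (g⁻¹ * z * g) → Commute (g * a * g⁻¹) z := fun {a} h => by
    have := (Commute.conj_iff g).2 h
    rwa [e] at this
  have move' : ∀ {a : G}, Commute a z → Commute (g * a * g⁻¹) x := fun {a} h => by
    have := (Commute.conj_iff g).2 h
    rwa [hg] at this
  have hd : Commute (g * β * g⁻¹) z := move hbs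
  have hxd : x * (g * β * g⁻¹) = g * (z * β) * g⁻¹ := by rw [← hg]; group
  have hdo : orderOf (g * β * g⁻¹) = 2 := by
    rw [orderOf_conj]; exact (c.isInv_iff hβ).1 hbi
  have hgsd : (gs.all fun t => comm (c.f (g * β * g⁻¹)) t) = true := by
    refine List.all_eq_true.2 fun t ht => ?_
    have h1 := List.all_eq_true.1 hgs t ht
    rw [Bool.and_eq_true, List.contains_iff_mem] at h1
    obtain ⟨l, hl, rfl⟩ := c.surj t h1.1
    rw [c.comm_iff hd hl]
    rw [← hxr, c.comm_iff hl hx] at h1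
    have e1 : g * (g⁻¹ * l * g) * g⁻¹ = l := by group
    have hlz : Commute (g⁻¹ * l * g) z := by rw [← Commute.conj_iff g, e1, hg]; exact h1.2
    have hly : Commute (g⁻¹ * l * g) (g⁻¹ * z * g) := by rw [← Commute.conj_iff g, e1, e]; exact hl
    have hcm := List.all_eq_true.1 hcen _ (c.mem _ hlz)
    rw [(c.comm_iff hlz hy).2 hly, Bool.not_true, Bool.false_or, c.comm_iff hlz hβ] at hcm
    have := (Commute.conj_iff g).2 hcm.symm
    rwa [e1] at this
  have hdr : comm (c.f (g * β * g⁻¹)) r = true := by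
    rw [← hxr, c.comm_iff hd hx]; exact move' hβ
  have hmem : c.f (g * β * g⁻¹) ∈ elts.filter fun d => isInv d && comm d r && gs.all fun t => comm d t := by
    rw [List.mem_filter]
    exact ⟨c.mem _ hd, by rw [(c.isInv_iff hd).2 hdo, hdr, hgsd]; rfl⟩
  have hfx : mul r (c.f (g * β * g⁻¹)) = c.f (g * (z * β) * g⁻¹) := by
    rw [← hxd, c.map_mul _ _ hx hd, hxr]
  have hd' : Commute (g * (z * β) * g⁻¹) z := hxd ▸ hx.mul_left hd
  -- neither element is fused to `z`
  have nfuse : ∀ {a : G}, Commute a z → (¬ IsConj z a) → mayFuse r (c.f a) L = false := by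
    intro a ha hna
    rw [Bool.eq_false_iff]
    intro hm
    rw [mayFuse, Bool.or_eq_true, beq_iff_eq, List.contains_iff_mem] at hm
    rcases hm with hm | hm
    · exact hna ((c.eq_iff ha (Commute.refl z)).1 (hm.trans c.map_z.symm) ▸ IsConj.refl z)
    · exact hna ((isConj_iff.2 ⟨g, hg⟩).trans (c.isConj_of_members hL hx hxr ha hm).symm)
  have nd : ¬ IsConj z (g * β * g⁻¹) := fun h => nβ (h.trans (isConj_iff.2 ⟨g, rfl⟩).symm)
  have nd' : ¬ IsConj z (g * (z * β) * g⁻¹) := fun h => nzβ (h.trans (isConj_iff.2 ⟨g, rfl⟩).symm)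
  -- both are squares in `C(z, x)`
  have nfree : ∀ {a u : G}, Commute a z → Commute u (g⁻¹ * z * g) → Commute u z →
      a = g * (u * u) * g⁻¹ → rootFree (c.f a) r = false := by
    intro a u ha huy huz hau
    rw [Bool.eq_false_iff]
    intro hf
    have hu' : Commute (g * u * g⁻¹) z := move huy
    have h1 := List.all_eq_true.1 hf _ (c.mem _ hu')
    rw [← hxr, (c.sq_eq_iff hu' ha).2 (by rw [hau]; group), (c.comm_iff hu' hx).2 (move' huz)] at h1
    exact absurd h1 (by decide)
  have hc := List.all_eq_true.1 hcand _ hmem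
  rw [hfx, nfuse hd nd, nfuse hd' nd', nfree hd hws hω (by rw [hωβ]),
    nfree hd' hw's hω' (by rw [hω'β])] at hc
  exact absurd hc (by decide)

/-- **Isolation.** If `z` is conjugate to another element of its centraliser, an involution of class `A`
or `B` is conjugate to `z`. -/
theorem exists_conj_A_or_B (c : Coding z) {x : G} (hx : Commute x z) (hne : x ≠ z) (hcon : IsConj z x) :
    ∃ a, (c.InCls repA a ∨ c.InCls repB a) ∧ IsConj z a := by
  by_contra hno
  have hAB : ∀ a, c.InCls repA a ∨ c.InCls repB a → ¬ IsConj z a := fun a h k => hno ⟨a, h, k⟩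
  obtain ⟨g, hg⟩ := isConj_iff.1 hcon
  have hd := check_derived
  simp only [Bool.and_eq_true] at hd
  obtain ⟨⟨⟨⟨⟨⟨-, -⟩, hD⟩, -⟩, h1⟩, h2⟩, -⟩ := hd
  have hs := check_src
  simp only [Bool.and_eq_true] at hs
  obtain ⟨⟨sD, s1⟩, s2⟩ := hs
  -- move the pair to representatives
  have norm : ∀ {r s : ℕ}, c.InCls r x → c.InCls s (g⁻¹ * z * g) →
      ∃ x' g' : G, g' * z * g'⁻¹ = x' ∧ Commute x' z ∧ c.f x' = r ∧ c.f (g'⁻¹ * z * g') = s := by
    rintro r s ⟨-, h, hh, he⟩ ⟨-, k, hk, hke⟩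
    have kz : k⁻¹ * z * k = z := by rw [hk.inv_left.eq, inv_mul_cancel_right]
    have hz : h⁻¹ * z * h = z := by rw [hh.inv_left.eq, inv_mul_cancel_right]
    refine ⟨h * x * h⁻¹, h * g * k⁻¹, ?_, commute_conj hh hx, he, ?_⟩
    · calc h * g * k⁻¹ * z * (h * g * k⁻¹)⁻¹ = h * (g * (k⁻¹ * z * k) * g⁻¹) * h⁻¹ := by group
        _ = h * x * h⁻¹ := by rw [kz, hg]
    · rw [← hke]
      refine congrArg c.f ?_
      calc (h * g * k⁻¹)⁻¹ * z * (h * g * k⁻¹) = k * (g⁻¹ * (h⁻¹ * z * h) * g) * k⁻¹ := by group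
        _ = _ := by rw [hz]
  rcases c.profile hg hx hne with ⟨k, -⟩ | ⟨k, k'⟩ | ⟨k | k, k' | k'⟩
  · exact hno ⟨x, k, hcon⟩
  all_goals obtain ⟨x', g', e1, e2, e3, e4⟩ := norm k k'
  · exact c.no_fusion_aux hAB hD check_cand_D.1 check_cand_D.2 sD e1 e2 e3 e4
  · exact c.no_fusion_aux hAB h1 check_cand_H1.1 check_cand_H1.2 s1 e1 e2 e3 e4
  · exact c.no_fusion_aux hAB h1 check_cand_H1.1 check_cand_H1.2 s2 e1 e2 e3 e4
  · exact c.no_fusion_aux hAB h2 check_cand_H2.1 check_cand_H2.2 s1 e1 e2 e3 e4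
  · exact c.no_fusion_aux hAB h2 check_cand_H2.1 check_cand_H2.2 s2 e1 e2 e3 e4

end Coding

end Cfsg.Agent.TransvCent
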