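/-
Certificates for the closing step inside the coded centraliser.

A node is the list of the codes of an elementary abelian group `S` free of conjugates of `z`, with the code of an
involution `t` commuting with it.

* `Fused` : `z` is centralised by a Sylow 2-subgroup and its class is given by codes
* `closed_of_nodes` : checked nodes are closed
* `closed_empty_of_nodes` : so is the empty set
-/
import Cfsg.Agent.Lib.TransvCent.ClosingModel
import Cfsg.Agent.Lib.TransvCent.Fusion

set_option autoImplicit false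

namespace Cfsg.Agent.TransvCent

/-- The codes of the involutions. -/
def invCodes : List ℕ :=
  zc :: (members repA chainA ++ members repB chainB ++ members repD chainD ++ members repCq chainCq ++
    members repH1 chainH1 ++ members repH2 chainH2 ++ members repF chainF)

theorem mem_invCodes {d : ℕ} (hd : d ∈ elts) (h : isInv d = true) : d ∈ invCodes := by
  have := List.all_eq_true.1 check_classes d hd
  rw [h] at this
  simp only [Bool.not_true, Bool.false_or, Bool.or_eq_true, beq_iff_eq, List.contains_iff_mem] at this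
  simp only [invCodes, List.mem_cons, List.mem_append]
  tauto

/-- The codes of the conjugates of `z`, given by some classes. -/
def inLists (L : List (List ℕ)) (d : ℕ) : Bool := d == zc || L.any fun l => l.contains d

/-- Is the product a conjugate of `z`? -/
def conjB (P : ℕ → Bool) (a b : ℕ) : Bool := mul a b != one && P (mul a b)

/-- The translates that are conjugates of `z`. -/
def sgn (P : ℕ → Bool) (S : List ℕ) (x : ℕ) : List Bool := S.map (conjB P x)

/-- `S` is a set of commuting codes of square one. -/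
def spanOK (S : List ℕ) : Bool :=
  S.all fun w => elts.contains w && mul w w == one && S.all fun v => comm w v

/-- The code `d` is a code of `S` or is covered by an earlier node. -/
def kidOK (P : ℕ → Bool) (rest : List (List ℕ × ℕ)) (S : List ℕ) (d : ℕ) : Bool :=
  S.contains d || P d || S.any (fun w => conjB P d w) ||
    rest.any fun T => T.1.all fun x => S.contains x || x == d || S.any fun w => mul w d == x

/-- The two classes cannot be paired by `w`. -/
def pairOK (P : ℕ → Bool) (S : List ℕ) (s t w : ℕ) : Bool :=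
  w == one || ((sgn P S s != sgn P S (mul s w) || sgn P S t != sgn P S (mul t w)) &&
    sgn P S s != sgn P S (mul t w))

/-- A node, given the earlier ones. -/
def nodeOK (P : ℕ → Bool) (rest : List (List ℕ × ℕ)) (n : List ℕ × ℕ) : Bool :=
  spanOK n.1 && elts.contains n.2 && isInv n.2 && !P n.2 && !n.1.contains n.2 &&
    n.1.all (fun w => comm w n.2) && n.1.all (fun w => pairOK P n.1 zc n.2 w) &&
    invCodes.all fun d => !n.1.all (fun w => comm w d) || kidOK P rest n.1 d

/-- All the nodes. -/
def nodesOK (P : ℕ → Bool) : List (List ℕ × ℕ) → Bool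
  | [] => true
  | n :: rest => nodeOK P rest n && nodesOK P rest

open Closing

namespace Coding

variable {M : Type*} [Group M] {z : M}

/-- The elements with codes in a list. -/
def codes (c : Coding z) (S : List ℕ) : Set M := {x | Commute x z ∧ c.f x ∈ S}

/-- The class of `z` on the centraliser is given by `P`, the centraliser has odd index, and the other involutions
form one class. -/
structure Fused (c : Coding z) (P : ℕ → Bool) : Prop where
  conj : ∀ x, Commute x z → orderOf x = 2 → (IsConj z x ↔ P (c.f x) = true)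
  odd : ¬ 2 ∣ (Subgroup.centralizer ({z} : Set M)).index
  other : ∀ x y : M, orderOf x = 2 → orderOf y = 2 → ¬ IsConj z x → ¬ IsConj z y → IsConj x y

theorem exists_central [Finite M] (hodd : ¬ 2 ∣ (Subgroup.centralizer ({z} : Set M)).index) (Q : Subgroup M)
    (hQ : IsPGroup 2 Q) : ∃ v, IsConj z v ∧ ∀ q ∈ Q, v * q = q * v := by
  have : Fact (Nat.Prime 2) := ⟨Nat.prime_two⟩
  set C := Subgroup.centralizer ({z} : Set M) with hC
  obtain ⟨S⟩ : Nonempty (Sylow 2 C) := inferInstance
  have hT : IsPGroup 2 ((S : Subgroup C).map C.subtype) := S.2.map _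
  have hidx : ¬ 2 ∣ ((S : Subgroup C).map C.subtype).index := by
    rw [Subgroup.index_map_of_injective _ C.subtype_injective, Subgroup.range_subtype]
    exact Nat.prime_two.not_dvd_mul S.not_dvd_index hodd
  obtain ⟨R, hR⟩ := hQ.exists_le_sylow
  obtain ⟨g, hg⟩ := MulAction.exists_smul_eq M (hT.toSylow hidx) R
  refine ⟨g * z * g⁻¹, isConj_iff.mpr ⟨g, rfl⟩, fun q hq => ?_⟩
  have hq' : q ∈ ((g • hT.toSylow hidx : Sylow 2 M) : Subgroup M) := by rw [hg]; exact hR hq
  obtain ⟨x, hx, rfl⟩ := hq'
  obtain ⟨y, -, rfl⟩ := hx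
  have hy : (y : M) * z = z * y := Subgroup.mem_centralizer_singleton_iff.mp y.2
  show g * z * g⁻¹ * (g * y * g⁻¹) = g * y * g⁻¹ * (g * z * g⁻¹)
  calc g * z * g⁻¹ * (g * y * g⁻¹) = g * (z * y) * g⁻¹ := by group
    _ = _ := by rw [← hy]; group

theorem isPGroup_closure [Finite M] (W : Set M) (h2 : ∀ a ∈ W, a * a = 1) (hc : ∀ a ∈ W, ∀ b ∈ W, a * b = b * a) :
    IsPGroup 2 (Subgroup.closure W) := by
  have hcomm : ∀ a ∈ Subgroup.closure W, ∀ b ∈ Subgroup.closure W, a * b = b * a := by
    have h1 : Subgroup.closure W ≤ Subgroup.centralizer (W : Set M) :=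
      (Subgroup.closure_le _).mpr fun a ha b hb => hc b hb a ha
    intro a ha b hb
    have : Subgroup.closure W ≤ Subgroup.centralizer ({b} : Set M) :=
      (Subgroup.closure_le _).mpr fun x hx => Subgroup.mem_centralizer_singleton_iff.mpr (h1 hb x hx)
    exact Subgroup.mem_centralizer_singleton_iff.mp (this ha)
  intro x
  refine ⟨1, Subtype.ext ?_⟩
  show (x : M) ^ (2 ^ 1) = 1
  rw [pow_one, pow_two]
  refine Subgroup.closure_induction (p := fun y _ => y * y = 1) h2 (one_mul 1) ?_ ?_ x.2
  · intro a b ha hb ea eb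
    rw [mul_assoc, ← mul_assoc b a b, ← hcomm a ha b hb, mul_assoc a b b, eb, mul_one, ea]
  · intro a _ ea
    rw [← mul_inv_rev, ea, inv_one]

/-- The hypothesis of `Model.Safe.of_closed`. -/
theorem exists_commuting [Finite M] (hodd : ¬ 2 ∣ (Subgroup.centralizer ({z} : Set M)).index) (W : Set M)
    (h2 : ∀ a ∈ W, a * a = 1) (hc : ∀ a ∈ W, ∀ b ∈ W, a * b = b * a) :
    ∀ y' : M, Fix W y' → y' ^ 2 = 1 → ∃ v : M, Fix W v ∧ IsConj z v ∧ v * y' = y' * v := by
  intro y' hy h2'
  obtain ⟨v, hv, hcomm⟩ := exists_central hodd (Subgroup.closure (insert y' W)) (isPGroup_closure _ (by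
      rintro a (rfl | ha)
      · rw [← pow_two, h2']
      · exact h2 a ha) (by
      rintro a (rfl | ha) b (rfl | hb)
      · rfl
      · exact hy b hb
      · exact (hy a ha).symm
      · exact hc a ha b hb))
  exact ⟨v, fun w hw => hcomm w (Subgroup.subset_closure (Set.mem_insert_of_mem _ hw)), hv,
    hcomm y' (Subgroup.subset_closure (Set.mem_insert _ _))⟩

theorem ne_one_code (c : Coding z) {x : M} (hx : Commute x z) : c.f x = one ↔ x = 1 := by
  rw [← c.map_one, c.eq_iff hx (Commute.one_left z)]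

theorem codes_spec (c : Coding z) {S : List ℕ} (hS : spanOK S = true) :
    (∀ a ∈ c.codes S, a * a = 1) ∧ (∀ a ∈ c.codes S, ∀ b ∈ c.codes S, a * b = b * a) ∧
      ∀ d ∈ S, ∃ x ∈ c.codes S, c.f x = d := by
  simp only [spanOK, List.all_eq_true, Bool.and_eq_true, beq_iff_eq, List.contains_iff_mem] at hS
  refine ⟨fun a ha => ?_, fun a ha b hb => ?_, fun d hd => ?_⟩
  · refine (c.ne_one_code (ha.1.mul_left ha.1)).mp ?_
    rw [c.map_mul _ _ ha.1 ha.1]; exact (hS _ ha.2).1.2
  · exact (c.comm_iff ha.1 hb.1).mp ((hS _ ha.2).2 _ hb.2)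
  · obtain ⟨x, hx, rfl⟩ := c.surj d (hS d hd).1.1
    exact ⟨x, ⟨hx, hd⟩, rfl⟩

theorem conjB_iff {c : Coding z} {P : ℕ → Bool} (hF : c.Fused P) {a b : M} (ha : Commute a z) (hb : Commute b z)
    (h2 : (a * b) * (a * b) = 1) : conjB P (c.f a) (c.f b) = true ↔ IsConj z (a * b) := by
  rw [conjB, ← c.map_mul a b ha hb, Bool.and_eq_true, bne_iff_ne, Ne, c.ne_one_code (ha.mul_left hb)]
  constructor
  · rintro ⟨h1, h⟩
    exact (hF.conj _ (ha.mul_left hb) (orderOf_eq_prime (by rw [pow_two, h2]) h1)).mpr h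
  · intro h
    have h1 : a * b ≠ 1 := fun e => by
      rw [e, isConj_one_left] at h
      have := c.orderOf_z
      rw [h, orderOf_one] at this
      omega
    exact ⟨h1, (hF.conj _ (ha.mul_left hb) (orderOf_eq_prime (by rw [pow_two, h2]) h1)).mp h⟩

/-- Elements fused in the centraliser of `S` have the same translates among the conjugates of `z`. -/
theorem sgn_eq_of_conj {c : Coding z} {P : ℕ → Bool} (hF : c.Fused P) {S : List ℕ} (hS : spanOK S = true)
    {a b h : M} (ha : Commute a z) (hb : Commute b z) (haS : Fix (c.codes S) a) (ha2 : a * a = 1)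
    (hh : Fix (c.codes S) h) (e : h * a * h⁻¹ = b) : sgn P S (c.f a) = sgn P S (c.f b) := by
  obtain ⟨h2, -, hsurj⟩ := c.codes_spec hS
  unfold sgn
  refine List.map_congr_left fun d hd => ?_
  obtain ⟨v, hv, rfl⟩ := hsurj d hd
  have e2 : (a * v) * (a * v) = 1 := by
    rw [mul_assoc, ← mul_assoc v a v, ← haS v hv, mul_assoc a v v, h2 v hv, mul_one, ha2]
  have e3 : h * (a * v) * h⁻¹ = b * v := by
    calc h * (a * v) * h⁻¹ = (h * a * h⁻¹) * (h * v * h⁻¹) := by group
      _ = b * v := by rw [e, hh.conj_eq hv]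
  have e4 : (b * v) * (b * v) = 1 := by
    rw [← e3, show h * (a * v) * h⁻¹ * (h * (a * v) * h⁻¹) = h * ((a * v) * (a * v)) * h⁻¹ by group, e2]
    group
  have hc : IsConj (a * v) (b * v) := isConj_iff.mpr ⟨h, e3⟩
  rw [Bool.eq_iff_iff, conjB_iff hF ha hv.1 e2, conjB_iff hF hb hv.1 e4]
  exact ⟨fun k => k.trans hc, fun k => k.trans hc.symm⟩

theorem safe_of_kid [Finite M] {c : Coding z} {P : ℕ → Bool} (hF : c.Fused P) {rest : List (List ℕ × ℕ)}
    (ih : ∀ T ∈ rest, Model.Closed z (c.codes T.1)) {S : List ℕ} (hS : spanOK S = true) {y : M}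
    (hy : Commute y z) (hyS : Fix (c.codes S) y) (hy2 : orderOf y = 2) (hn : y ∉ c.codes S)
    (h : kidOK P rest S (c.f y) = true) : Model.Safe z (c.codes S) y := by
  obtain ⟨h2, hc, hsurj⟩ := c.codes_spec hS
  have y2 : y * y = 1 := by rw [← pow_two, ← hy2]; exact pow_orderOf_eq_one y
  simp only [kidOK, Bool.or_eq_true, List.contains_iff_mem, List.any_eq_true, List.all_eq_true, beq_iff_eq] at h
  rcases h with ((h | h) | ⟨w, hw, h⟩) | ⟨T, hT, h⟩
  · exact absurd ⟨hy, h⟩ hn
  · exact Model.Safe.of_isConj hyS ((hF.conj y hy hy2).mpr h)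
  · obtain ⟨v, hv, rfl⟩ := hsurj w hw
    refine Model.Safe.of_mul v hyS hv ((conjB_iff hF hy hv.1 ?_).mp h)
    rw [mul_assoc, ← mul_assoc v y v, ← hyS v hv, mul_assoc y v v, h2 v hv, mul_one, y2]
  · refine Model.Safe.of_closed hyS (by rw [pow_two, y2]) ?_ (exists_commuting hF.odd _ h2 hc)
    refine Model.Closed.mono ?_ (ih T hT)
    rintro x ⟨hx, hxT⟩
    rcases h _ hxT with (h' | h') | ⟨w, hw, h'⟩
    · exact Subgroup.subset_closure (Set.mem_insert_of_mem _ ⟨hx, h'⟩)
    · rw [(c.eq_iff hx hy).mp h']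
      exact Subgroup.subset_closure (Set.mem_insert _ _)
    · obtain ⟨v, hv, rfl⟩ := hsurj w hw
      rw [← c.map_mul v y hv.1 hy, eq_comm, c.eq_iff hx (hv.1.mul_left hy)] at h'
      rw [h']
      exact mul_mem (Subgroup.subset_closure (Set.mem_insert_of_mem _ hv))
        (Subgroup.subset_closure (Set.mem_insert _ _))

/-- A node is closed. -/
theorem closed_of_node [Finite M] {c : Coding z} {P : ℕ → Bool} (hF : c.Fused P) {rest : List (List ℕ × ℕ)}
    (ih : ∀ T ∈ rest, Model.Closed z (c.codes T.1)) {n : List ℕ × ℕ} (h : nodeOK P rest n = true) :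
    Model.Closed z (c.codes n.1) := by
  obtain ⟨S, td⟩ := n
  simp only [nodeOK, Bool.and_eq_true, List.all_eq_true, Bool.not_eq_true', List.contains_iff_mem] at h
  obtain ⟨⟨⟨⟨⟨⟨⟨hS, htd⟩, htinv⟩, htP⟩, htS⟩, htcomm⟩, hpair⟩, hkids⟩ := h
  obtain ⟨h2, hc, hsurj⟩ := c.codes_spec hS
  obtain ⟨t, ht, rfl⟩ := c.surj td htd
  have ht2 : orderOf t = 2 := (c.isInv_iff ht).mp htinv
  have htW : Fix (c.codes S) t := fun w hw => ((c.comm_iff hw.1 ht).mp (htcomm _ hw.2)).symm
  have htne : ¬ IsConj z t := fun e => by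
    have := (hF.conj t ht ht2).mp e
    rw [htP] at this
    exact Bool.false_ne_true this
  have hzW : Fix (c.codes S) z := fun w hw => hw.1.eq.symm
  have hkid : ∀ y : M, Commute y z → Fix (c.codes S) y → orderOf y = 2 → y ∉ c.codes S →
      Model.Safe z (c.codes S) y := by
    intro y hy hyW hy2 hn
    have h1 := hkids _ (mem_invCodes (c.mem y hy) ((c.isInv_iff hy).mpr hy2))
    rw [Bool.or_eq_true, Bool.not_eq_true'] at h1
    refine safe_of_kid hF ih hS hy hyW hy2 hn (h1.resolve_left fun e => ?_)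
    rw [← Bool.not_eq_true, List.all_eq_true] at e
    refine e fun w hw => ?_
    obtain ⟨v, hv, rfl⟩ := hsurj w hw
    exact (c.comm_iff hv.1 hy).mpr (hyW v hv).symm
  have z2 : z * z = 1 := by rw [← pow_two, ← c.orderOf_z]; exact pow_orderOf_eq_one z
  refine Model.Closed.pair z t (Model.Safe.of_isConj hzW (IsConj.refl z)) z2
    (hkid t ht htW ht2 fun hm => ?_) (by rw [← pow_two, ← ht2]; exact pow_orderOf_eq_one t)
    (fun h _ e => htne (isConj_iff.mpr ⟨h, e⟩)) (fun y hyW hy2 hyz hn => hkid y hyz hyW hy2 hn) ?_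
  · exact (Bool.eq_false_iff.mp htS) (List.contains_iff_mem.mpr hm.2)
  · intro w hw hw2
    have hzw : Commute (z * w) z := (Commute.refl z).mul_left hw.1
    have htw : Commute (t * w) z := ht.mul_left hw.1
    have hp := hpair _ hw.2
    simp only [pairOK, Bool.or_eq_true, beq_iff_eq, Bool.and_eq_true, bne_iff_ne] at hp
    rcases hp with hp | ⟨hp1, hp2⟩
    · rw [(c.ne_one_code hw.1).mp hp, orderOf_one] at hw2
      omega
    rw [← c.map_mul t w ht hw.1, ← c.map_z] at hp2
    refine ⟨?_, fun h hh => Or.inl fun e => hp2 (sgn_eq_of_conj hF hS (Commute.refl z) htw hzW z2 hh e)⟩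
    rw [← c.map_mul t w ht hw.1, ← c.map_z, ← c.map_mul z w (Commute.refl z) hw.1] at hp1
    rcases hp1 with hp1 | hp1
    · exact Or.inl fun h hh e => hp1 (sgn_eq_of_conj hF hS (Commute.refl z) hzw hzW z2 hh e)
    · refine Or.inr fun h hh e => hp1 (sgn_eq_of_conj hF hS ht htw htW ?_ hh e)
      rw [← pow_two, ← ht2]; exact pow_orderOf_eq_one t

/-- Checked nodes are closed. -/
theorem closed_of_nodes [Finite M] {c : Coding z} {P : ℕ → Bool} (hF : c.Fused P) :
    ∀ L : List (List ℕ × ℕ), nodesOK P L = true → ∀ T ∈ L, Model.Closed z (c.codes T.1)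
  | [], _ => fun T hT => by simp at hT
  | n :: rest, h => fun T hT => by
    rw [nodesOK, Bool.and_eq_true] at h
    rcases List.mem_cons.mp hT with rfl | hT
    · exact closed_of_node hF (closed_of_nodes hF rest h.2) h.1
    · exact closed_of_nodes hF rest h.2 T hT

/-- If the group of order 2 on a non-conjugate of `z` is closed, so is the empty set. -/
theorem closed_empty [Finite M] {c : Coding z} {P : ℕ → Bool} (hF : c.Fused P) {r : ℕ} (hr : r ∈ elts)
    (hri : isInv r = true) (hrP : P r = false) (hcl : Model.Closed z (c.codes [one, r])) :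
    Model.Closed z (∅ : Set M) := by
  obtain ⟨u, hu, rfl⟩ := c.surj r hr
  have hu2 : orderOf u = 2 := (c.isInv_iff hu).mp hri
  have hune : ¬ IsConj z u := fun e => by
    have := (hF.conj u hu hu2).mp e
    rw [hrP] at this
    exact Bool.false_ne_true this
  have fx : ∀ x : M, Fix (∅ : Set M) x := fun x w hw => absurd hw (Set.notMem_empty w)
  have hsafe : Model.Safe z (∅ : Set M) u := by
    refine Model.Safe.of_closed (fx u) (by rw [← hu2]; exact pow_orderOf_eq_one u) (Model.Closed.mono ?_ hcl)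
      (exists_commuting hF.odd _ (fun a ha => absurd ha (Set.notMem_empty a))
        (fun a ha => absurd ha (Set.notMem_empty a)))
    rintro x ⟨hx, hxr⟩
    rcases List.mem_cons.mp hxr with h | h
    · rw [(c.ne_one_code hx).mp h]
      exact one_mem _
    · rw [(c.eq_iff hx hu).mp (List.mem_singleton.mp h)]
      exact Subgroup.subset_closure (Set.mem_insert _ _)
  refine Model.Closed.pair z u (Model.Safe.of_isConj (fx z) (IsConj.refl z))
    (by rw [← pow_two, ← c.orderOf_z]; exact pow_orderOf_eq_one z) hsafe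
    (by rw [← pow_two, ← hu2]; exact pow_orderOf_eq_one u) (fun h _ e => hune (isConj_iff.mpr ⟨h, e⟩))
    (fun y _ hy2 _ _ => ?_) (fun w hw => absurd hw (Set.notMem_empty w))
  by_cases hy : IsConj z y
  · exact Model.Safe.of_isConj (fx y) hy
  · obtain ⟨g, rfl⟩ := isConj_iff.mp (hF.other u y hu2 hy2 hune hy)
    exact Model.Safe.of_conj g (fx g) hsafe

/-- The empty set is closed if checked nodes contain the group on a non-conjugate of `z`. -/
theorem closed_empty_of_nodes [Finite M] {c : Coding z} {P : ℕ → Bool} (hF : c.Fused P) (L : List (List ℕ × ℕ))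
    (r : ℕ) (hL : nodesOK P L = true)
    (hr : (elts.contains r && isInv r && !P r && L.any (fun T => T.1 == [one, r])) = true) :
    Model.Closed z (∅ : Set M) := by
  simp only [Bool.and_eq_true, List.contains_iff_mem, Bool.not_eq_true', List.any_eq_true, beq_iff_eq] at hr
  obtain ⟨⟨⟨h1, h2⟩, h3⟩, T, hT, hT'⟩ := hr
  exact closed_empty hF h1 h2 h3 (hT' ▸ closed_of_nodes hF L hL T hT)

end Coding

end Cfsg.Agent.TransvCent
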