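/-
Kernel checks for the closing step with the fusion pattern of the Held group.

* `fusedHe` : the fused codes
* `heRank`, `heFour`, `heOrbit`, `heAround`, `heCount` : the checks
-/
import Cfsg.Agent.Lib.TransvCent.ClosingCode

set_option autoImplicit false
set_option maxRecDepth 20000

namespace Cfsg.Agent.TransvCent

/-- The fused codes of the pattern of the Held group. -/
def fusedHe : ℕ → Bool :=
  inLists [members repA chainA, members repB chainB, members repD chainD, members repH1 chainH1,
    members repH2 chainH2]

/-- The codes of the involutions that are not fused. -/
def freeHe : List ℕ := members repCq chainCq ++ members repF chainF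

/-- The second code of the fixed pair. -/
def heT : ℕ := 35055

/-- The fixed pair with its product. -/
def heSpan : List ℕ := [repCq, heT, mul repCq heT]

/-- Conjugators onto the fixed pair. -/
def heMove : List ℕ := [13696, 13700, 15744, 15748, 35456, 35460, 42754, 42758]

/-- A free partner of `a`. -/
def freePair (a b : ℕ) : Bool := comm a b && freeHe.contains (mul a b)

/-- The fused codes and the free codes. -/
theorem check_he_free : (invCodes.all (fun d => fusedHe d || freeHe.contains d) &&
    freeHe.all (fun d => elts.contains d && isInv d && !fusedHe d) &&
    heMove.all (fun h => elts.contains h)) = true := by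
  decide +kernel

/-- No three independent free codes with free products. -/
def heRank (a : ℕ) : Bool :=
  freeHe.all fun b => b == a || !freePair a b || freeHe.all fun c =>
    !comm a c || !comm b c || [a, b, mul a b].contains c || [a, b, mul a b].any fun w => conjB fusedHe c w

theorem check_he_rank : (heRank repCq && heRank repF) = true := by decide +kernel

/-- No square root of `a` commutes with a free partner. -/
def heFour (a : ℕ) : Bool :=
  elts.all fun x => mul x x != a || freeHe.all fun b => b == a || !freePair a b || !comm b x

theorem check_he_four : (heFour repCq && heFour repF) = true := by decide +kernel

/-- Free pairs of the given kind move onto the fixed one. -/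
def heOrbit (a : ℕ) : Bool :=
  freeHe.all fun b => b == a || !freePair a b || [a, b, mul a b].any (fun w => conjB fusedHe zc w) ||
    heMove.any fun h => heSpan.any (fun w => mul h a == mul w h) && heSpan.any fun w => mul h b == mul w h

theorem check_he_orbit : (heOrbit repCq && heOrbit repF) = true := by decide +kernel

/-- The fused codes around the fixed pair. -/
theorem check_he_around : (invCodes.all (fun d => !(fusedHe d && heSpan.all fun w => comm d w) ||
    !heSpan.any fun w => conjB fusedHe d w) && heSpan.all (fun w => freeHe.contains w) &&
    heSpan.all (fun w => !conjB fusedHe zc w)) = true := by
  decide +kernel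

theorem check_he_count : elts.countP (fun d => comm d repCq && comm d heT) = 32 := by decide +kernel

/-- The classes of the fixed pair are told apart. -/
theorem check_he_sgn : (sgn fusedHe [one, repCq] heT != sgn fusedHe [one, repCq] (mul zc repCq) &&
    sgn fusedHe [one, repCq] zc != sgn fusedHe [one, repCq] (mul zc repCq)) = true := by
  decide +kernel

end Cfsg.Agent.TransvCent
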