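/-
The closing step with the fusion pattern of the Held group.

* `Coding.HePair` : a four-group without conjugates of `z` centralised by a conjugate none of whose translates is one
* `Coding.HeWitness` : such a group centralising a nonabelian group of order 21
* `Coding.closed_empty_He` : the empty set is closed
-/
import Cfsg.Agent.Lib.TransvCent.ClosingHeCheck
import Mathlib.GroupTheory.GroupAction.ConjAct

set_option autoImplicit false
set_option maxRecDepth 4000

namespace Cfsg.Agent.TransvCent

open Closing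

namespace Coding

variable {M : Type*} [Group M] {z : M}

/-- `a`, `b` generate a four-group free of conjugates of `z`, centralised by the conjugate `v` of `z`, no translate
of `v` being a conjugate of `z`. -/
structure HePair (z v a b : M) : Prop where
  hv : IsConj z v
  oa : orderOf a = 2
  ob : orderOf b = 2
  ne : a ≠ b
  cab : a * b = b * a
  cva : v * a = a * v
  cvb : v * b = b * v
  na : ¬ IsConj z a
  nb : ¬ IsConj z b
  nab : ¬ IsConj z (a * b)
  nva : ¬ IsConj z (v * a)
  nvb : ¬ IsConj z (v * b)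
  nvab : ¬ IsConj z (v * (a * b))

/-- A pair centralising a nonabelian group of order 21. -/
def HeWitness (z : M) : Prop :=
  ∃ v a b x y : M, HePair z v a b ∧ Fix ({a, b} : Set M) x ∧ Fix ({a, b} : Set M) y ∧ orderOf y = 7 ∧
    orderOf x = 3 ∧ x * y * x⁻¹ ∈ Subgroup.zpowers y ∧ x * y ≠ y * x

theorem isConj_conj_iff (g : M) {x : M} : IsConj z (g * x * g⁻¹) ↔ IsConj z x :=
  ⟨fun h => h.trans (isConj_iff.mpr ⟨g, rfl⟩).symm, fun h => h.trans (isConj_iff.mpr ⟨g, rfl⟩)⟩

theorem conj_mul_conj (g x y : M) : g * x * g⁻¹ * (g * y * g⁻¹) = g * (x * y) * g⁻¹ := by group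

theorem conj_comm (g : M) {x y : M} (h : x * y = y * x) :
    g * x * g⁻¹ * (g * y * g⁻¹) = g * y * g⁻¹ * (g * x * g⁻¹) := by rw [conj_mul_conj, conj_mul_conj, h]

theorem HePair.map {v a b : M} (h : HePair z v a b) (g : M) :
    HePair z (g * v * g⁻¹) (g * a * g⁻¹) (g * b * g⁻¹) where
  hv := (isConj_conj_iff g).mpr h.hv
  oa := (orderOf_conj g a).trans h.oa
  ob := (orderOf_conj g b).trans h.ob
  ne := fun e => h.ne (by simpa using e)
  cab := conj_comm g h.cab
  cva := conj_comm g h.cva
  cvb := conj_comm g h.cvb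
  na := fun e => h.na ((isConj_conj_iff g).mp e)
  nb := fun e => h.nb ((isConj_conj_iff g).mp e)
  nab := fun e => h.nab ((isConj_conj_iff g).mp (by rwa [conj_mul_conj] at e))
  nva := fun e => h.nva ((isConj_conj_iff g).mp (by rwa [conj_mul_conj] at e))
  nvb := fun e => h.nvb ((isConj_conj_iff g).mp (by rwa [conj_mul_conj] at e))
  nvab := fun e => h.nvab ((isConj_conj_iff g).mp (by rwa [conj_mul_conj, conj_mul_conj] at e))

theorem commute_conj_back {g u x : M} (hu : g * z * g⁻¹ = u) (h : u * x = x * u) :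
    Commute (g⁻¹ * x * g) z := by
  subst hu
  show g⁻¹ * x * g * z = z * (g⁻¹ * x * g)
  calc g⁻¹ * x * g * z = g⁻¹ * (x * (g * z * g⁻¹)) * g := by group
    _ = z * (g⁻¹ * x * g) := by rw [← h]; group

theorem sq_one {x : M} (h : orderOf x = 2) : x * x = 1 := by rw [← pow_two, ← h]; exact pow_orderOf_eq_one x

theorem order_two_mul {a b : M} (oa : orderOf a = 2) (ob : orderOf b = 2) (hne : a ≠ b) (hc : a * b = b * a) :
    orderOf (a * b) = 2 := by
  refine orderOf_eq_prime ?_ fun e => hne ?_
  · rw [(show Commute a b from hc).mul_pow, pow_two, pow_two, sq_one oa, sq_one ob, one_mul]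
  · rw [eq_inv_of_mul_eq_one_left e, inv_eq_of_mul_eq_one_right (sq_one ob)]

theorem free_mem {c : Coding z} (hF : c.Fused fusedHe) {x : M} (hx : Commute x z) (ho : orderOf x = 2)
    (hn : ¬ IsConj z x) : c.f x ∈ freeHe := by
  have h := check_he_free
  simp only [Bool.and_eq_true, List.all_eq_true, Bool.or_eq_true, List.contains_iff_mem] at h
  exact (h.1.1 _ (mem_invCodes (c.mem x hx) ((c.isInv_iff hx).mpr ho))).resolve_left
    fun e => hn ((hF.conj x hx ho).mpr e)

theorem not_conj_of_free {c : Coding z} (hF : c.Fused fusedHe) {x : M} (hx : Commute x z) (h : c.f x ∈ freeHe) :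
    orderOf x = 2 ∧ ¬ IsConj z x := by
  have hc := check_he_free
  simp only [Bool.and_eq_true, List.all_eq_true, Bool.not_eq_true', List.contains_iff_mem] at hc
  obtain ⟨⟨-, h2⟩, h3⟩ := hc.1.2 _ h
  have ho := (c.isInv_iff hx).mp h2
  exact ⟨ho, fun e => by
    have := (hF.conj x hx ho).mp e
    rw [h3] at this
    exact Bool.false_ne_true this⟩

theorem exists_rep (c : Coding z) {x : M} (hx : Commute x z) (h : c.f x ∈ freeHe) :
    ∃ k, Commute k z ∧ (c.f (k * x * k⁻¹) = repCq ∨ c.f (k * x * k⁻¹) = repF) := by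
  have hd := check_derived
  simp only [Bool.and_eq_true] at hd
  rcases List.mem_append.mp h with h | h
  · obtain ⟨-, k, hk, e⟩ := c.chain_sound _ hd.1.1.1.2 x hx h
    exact ⟨k, hk, Or.inl e⟩
  · obtain ⟨-, k, hk, e⟩ := c.chain_sound _ hd.2 x hx h
    exact ⟨k, hk, Or.inr e⟩

theorem isPGroup_closure_commute [Finite M] (W : Set M) (h2 : ∀ a ∈ W, a ^ 4 = 1)
    (hc : ∀ a ∈ W, ∀ b ∈ W, a * b = b * a) : IsPGroup 2 (Subgroup.closure W) := by
  have hcomm : ∀ a ∈ Subgroup.closure W, ∀ b ∈ Subgroup.closure W, a * b = b * a := by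
    have h1 : Subgroup.closure W ≤ Subgroup.centralizer (W : Set M) :=
      (Subgroup.closure_le _).mpr fun a ha b hb => hc b hb a ha
    intro a ha b hb
    have : Subgroup.closure W ≤ Subgroup.centralizer ({b} : Set M) :=
      (Subgroup.closure_le _).mpr fun x hx => Subgroup.mem_centralizer_singleton_iff.mpr (h1 hb x hx)
    exact Subgroup.mem_centralizer_singleton_iff.mp (this ha)
  intro x
  refine ⟨2, Subtype.ext ?_⟩
  show (x : M) ^ (2 ^ 2) = 1
  norm_num
  refine Subgroup.closure_induction (p := fun y _ => y ^ 4 = 1) h2 (one_pow 4) ?_ ?_ x.2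
  · intro a b ha hb ea eb
    rw [(show Commute a b from hcomm a ha b hb).mul_pow, ea, eb, one_mul]
  · intro a _ ea
    rw [inv_pow, ea, inv_one]

theorem freePair_codes {c : Coding z} (hF : c.Fused fusedHe) {a b : M} (ha : Commute a z) (hb : Commute b z)
    (oa : orderOf a = 2) (ob : orderOf b = 2) (hne : a ≠ b) (hc : a * b = b * a) (nab : ¬ IsConj z (a * b)) :
    freePair (c.f a) (c.f b) = true := by
  rw [freePair, Bool.and_eq_true, List.contains_iff_mem, c.comm_iff ha hb, ← c.map_mul a b ha hb]
  exact ⟨hc, free_mem hF (ha.mul_left hb) (order_two_mul oa ob hne hc) nab⟩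

/-- A third free involution centralising a free four-group has a translate among the conjugates of `z`. -/
theorem rank_two [Finite M] {c : Coding z} (hF : c.Fused fusedHe) {a b y : M} (oa : orderOf a = 2)
    (ob : orderOf b = 2) (hne : a ≠ b) (hab : a * b = b * a) (na : ¬ IsConj z a) (nb : ¬ IsConj z b)
    (nab : ¬ IsConj z (a * b)) (oy : orderOf y = 2) (hya : y * a = a * y) (hyb : y * b = b * y) :
    y = a ∨ y = b ∨ y = a * b ∨ IsConj z y ∨ IsConj z (y * a) ∨ IsConj z (y * b) ∨ IsConj z (y * (a * b)) := by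
  by_cases hy : IsConj z y
  · exact Or.inr (Or.inr (Or.inr (Or.inl hy)))
  obtain ⟨u, hu, hucomm⟩ := exists_central hF.odd (Subgroup.closure {a, b, y}) (isPGroup_closure _ (by
      rintro x (rfl | rfl | rfl)
      exacts [sq_one oa, sq_one ob, sq_one oy]) (by
      rintro x (rfl | rfl | rfl) x' (rfl | rfl | rfl)
      exacts [rfl, hab, hya.symm, hab.symm, rfl, hyb.symm, hya, hyb, rfl]))
  obtain ⟨g, hg⟩ := isConj_iff.mp hu
  have hz : ∀ x ∈ ({a, b, y} : Set M), Commute (g⁻¹ * x * g) z := fun x hx =>
    commute_conj_back hg (hucomm x (Subgroup.subset_closure hx))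
  obtain ⟨k, hk, hrep⟩ := c.exists_rep (hz a (by simp)) (free_mem hF (hz a (by simp))
    (by have := orderOf_conj g⁻¹ a; rw [inv_inv] at this; exact this.trans oa)
    (fun e => na ((isConj_conj_iff g⁻¹).mp (by simpa using e))))
  set m := k * g⁻¹ with hm
  have hmz : ∀ x ∈ ({a, b, y} : Set M), Commute (m * x * m⁻¹) z := fun x hx => by
    have := Coding.commute_conj hk (hz x hx)
    rw [show m * x * m⁻¹ = k * (g⁻¹ * x * g) * k⁻¹ by rw [hm]; group]
    exact this
  have A := hmz a (by simp)
  have B := hmz b (by simp)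
  have Y := hmz y (by simp)
  rw [show k * (g⁻¹ * a * g) * k⁻¹ = m * a * m⁻¹ by rw [hm]; group] at hrep
  have fb := free_mem hF B ((orderOf_conj m b).trans ob) (fun e => nb ((isConj_conj_iff m).mp e))
  have fy := free_mem hF Y ((orderOf_conj m y).trans oy) (fun e => hy ((isConj_conj_iff m).mp e))
  have hp := freePair_codes hF A B ((orderOf_conj m a).trans oa) ((orderOf_conj m b).trans ob)
    (fun e => hne (by simpa using e)) (conj_comm m hab) (fun e => nab ((isConj_conj_iff m).mp
      (by rwa [conj_mul_conj] at e)))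
  have hr : heRank (c.f (m * a * m⁻¹)) = true := by
    have := check_he_rank
    rw [Bool.and_eq_true] at this
    rcases hrep with h | h <;> rw [h]
    exacts [this.1, this.2]
  simp only [heRank, List.all_eq_true, Bool.or_eq_true, beq_iff_eq, Bool.not_eq_true'] at hr
  rcases hr _ fb with (h | h) | h
  · exact absurd ((c.eq_iff B A).mp h) (fun e => hne (by simpa using e.symm))
  · rw [hp] at h
    exact Bool.noConfusion h
  have hc1 : comm (c.f (m * a * m⁻¹)) (c.f (m * y * m⁻¹)) = true :=
    (c.comm_iff A Y).mpr (conj_comm m hya.symm)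
  have hc2 : comm (c.f (m * b * m⁻¹)) (c.f (m * y * m⁻¹)) = true :=
    (c.comm_iff B Y).mpr (conj_comm m hyb.symm)
  have key : ∀ w : M, Commute (m * w * m⁻¹) z → (y * w) * (y * w) = 1 →
      conjB fusedHe (c.f (m * y * m⁻¹)) (c.f (m * w * m⁻¹)) = true → IsConj z (y * w) := by
    intro w hw h2 h
    have := (conjB_iff hF Y hw (by rw [conj_mul_conj, conj_mul_conj, h2]; group)).mp h
    rwa [conj_mul_conj, isConj_conj_iff] at this
  have sq : ∀ w : M, w * w = 1 → y * w = w * y → (y * w) * (y * w) = 1 := fun w h2 hc => by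
    rw [← pow_two, (show Commute y w from hc).mul_pow, pow_two, pow_two, sq_one oy, h2, one_mul]
  have AB : Commute (m * (a * b) * m⁻¹) z := by rw [← conj_mul_conj]; exact A.mul_left B
  rcases h _ fy with ((h | h) | h) | h
  · rw [hc1] at h
    exact Bool.noConfusion h
  · rw [hc2] at h
    exact Bool.noConfusion h
  · rw [← c.map_mul _ _ A B, conj_mul_conj, List.contains_iff_mem] at h
    simp only [List.mem_cons, List.not_mem_nil, or_false] at h
    rcases h with h | h | h
    · exact Or.inl (by simpa using (c.eq_iff Y A).mp h)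
    · exact Or.inr (Or.inl (by simpa using (c.eq_iff Y B).mp h))
    · exact Or.inr (Or.inr (Or.inl (by simpa using (c.eq_iff Y AB).mp h)))
  · rw [← c.map_mul _ _ A B, conj_mul_conj, List.any_eq_true] at h
    obtain ⟨w, hw, h⟩ := h
    simp only [List.mem_cons, List.not_mem_nil, or_false] at hw
    rcases hw with rfl | rfl | rfl
    · exact Or.inr (Or.inr (Or.inr (Or.inr (Or.inl (key a A (sq a (sq_one oa) hya) h)))))
    · exact Or.inr (Or.inr (Or.inr (Or.inr (Or.inr (Or.inl (key b B (sq b (sq_one ob) hyb) h))))))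
    · refine Or.inr (Or.inr (Or.inr (Or.inr (Or.inr (Or.inr (key _ AB (sq _ ?_ ?_) h))))))
      · exact sq_one (order_two_mul oa ob hne hab)
      · rw [← mul_assoc, hya, mul_assoc, hyb, ← mul_assoc]

/-- No element of order 4 centralising a free four-group squares into it. -/
theorem no_root [Finite M] {c : Coding z} (hF : c.Fused fusedHe) {a b x : M} (oa : orderOf a = 2)
    (ob : orderOf b = 2) (hne : a ≠ b) (hab : a * b = b * a) (na : ¬ IsConj z a) (nb : ¬ IsConj z b)
    (nab : ¬ IsConj z (a * b)) (hxb : x * b = b * x) : x * x ≠ a := by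
  intro hsq
  have hxa : x * a = a * x := by rw [← hsq, mul_assoc]
  obtain ⟨u, hu, hucomm⟩ := exists_central hF.odd (Subgroup.closure {x, b}) (isPGroup_closure_commute _ (by
      rintro w (rfl | rfl)
      · rw [show (4 : ℕ) = 2 * 2 from rfl, pow_mul, pow_two w, hsq, pow_two, sq_one oa]
      · rw [show (4 : ℕ) = 2 * 2 from rfl, pow_mul, pow_two w, sq_one ob, one_pow]) (by
      rintro w (rfl | rfl) w' (rfl | rfl)
      exacts [rfl, hxb, hxb.symm, rfl]))
  obtain ⟨g, hg⟩ := isConj_iff.mp hu
  have hx : Commute (g⁻¹ * x * g) z := commute_conj_back hg (hucomm x (Subgroup.subset_closure (by simp)))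
  have hb : Commute (g⁻¹ * b * g) z := commute_conj_back hg (hucomm b (Subgroup.subset_closure (by simp)))
  have ha : Commute (g⁻¹ * a * g) z := by
    rw [show g⁻¹ * a * g = (g⁻¹ * x * g) * (g⁻¹ * x * g) by rw [← hsq]; group]
    exact hx.mul_left hx
  obtain ⟨k, hk, hrep⟩ := c.exists_rep ha (free_mem hF ha
    (by have := orderOf_conj g⁻¹ a; rw [inv_inv] at this; exact this.trans oa)
    (fun e => na ((isConj_conj_iff g⁻¹).mp (by simpa using e))))
  set m := k * g⁻¹ with hm
  have tr : ∀ w : M, Commute (g⁻¹ * w * g) z → Commute (m * w * m⁻¹) z := fun w hw => by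
    rw [show m * w * m⁻¹ = k * (g⁻¹ * w * g) * k⁻¹ by rw [hm]; group]
    exact Coding.commute_conj hk hw
  have A := tr a ha
  have B := tr b hb
  have X := tr x hx
  rw [show k * (g⁻¹ * a * g) * k⁻¹ = m * a * m⁻¹ by rw [hm]; group] at hrep
  have hr : heFour (c.f (m * a * m⁻¹)) = true := by
    have := check_he_four
    rw [Bool.and_eq_true] at this
    rcases hrep with h | h <;> rw [h]
    exacts [this.1, this.2]
  simp only [heFour, List.all_eq_true, Bool.or_eq_true, bne_iff_ne, beq_iff_eq, Bool.not_eq_true'] at hr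
  have hp := freePair_codes hF A B ((orderOf_conj m a).trans oa) ((orderOf_conj m b).trans ob)
    (fun e => hne (by simpa using e)) (conj_comm m hab) (fun e => nab ((isConj_conj_iff m).mp
      (by rwa [conj_mul_conj] at e)))
  rcases hr _ (c.mem _ X) with h | h
  · exact h (by rw [← c.map_mul _ _ X X, conj_mul_conj, hsq])
  · rcases h _ (free_mem hF B ((orderOf_conj m b).trans ob) (fun e => nb ((isConj_conj_iff m).mp e)))
      with (h | h) | h
    · exact hne (by simpa using ((c.eq_iff B A).mp h).symm)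
    · rw [hp] at h
      exact Bool.noConfusion h
    · rw [(c.comm_iff B X).mpr (conj_comm m hxb.symm)] at h
      exact Bool.noConfusion h

theorem mem_closure_pair {a b x y : M} (ha : a * a = 1) (hb : b * b = 1) (hc : a * b = b * a)
    (hx : x ∈ ({a, b, a * b} : Set M)) (hy : y ∈ ({a, b, a * b} : Set M)) (hne : x ≠ y) :
    ({a, b, a * b} : Set M) ⊆ Subgroup.closure ({x, y} : Set M) := by
  have hxm : x ∈ Subgroup.closure ({x, y} : Set M) := Subgroup.subset_closure (by simp)
  have hym : y ∈ Subgroup.closure ({x, y} : Set M) := Subgroup.subset_closure (by simp)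
  have hxy := mul_mem hxm hym
  have e1 : a * (a * b) = b := by rw [← mul_assoc, ha, one_mul]
  have e2 : a * b * a = b := by rw [hc, mul_assoc, ha, mul_one]
  have e3 : b * (a * b) = a := by rw [hc, ← mul_assoc, hb, one_mul]
  have e4 : a * b * b = a := by rw [mul_assoc, hb, mul_one]
  simp only [Set.mem_insert_iff, Set.mem_singleton_iff] at hx hy
  rintro w (rfl | rfl | rfl) <;> rcases hx with rfl | rfl | rfl <;> rcases hy with rfl | rfl | rfl <;>
    first
      | exact absurd rfl hne
      | exact hxm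
      | exact hym
      | (rw [← hc] at hxy; exact hxy)
      | (rw [e1] at hxy; exact hxy)
      | (rw [e2] at hxy; exact hxy)
      | (rw [e3] at hxy; exact hxy)
      | (rw [e4] at hxy; exact hxy)
      | exact hxy

/-- The fixed pair. -/
structure Base (c : Coding z) (a b : M) : Prop where
  ha : Commute a z
  hb : Commute b z
  fa : c.f a = repCq
  fb : c.f b = heT

theorem exists_base (c : Coding z) : ∃ a b, c.Base a b := by
  have h := check_he_around
  simp only [Bool.and_eq_true, List.all_eq_true, List.contains_iff_mem] at h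
  have hf := check_he_free
  simp only [Bool.and_eq_true, List.all_eq_true, List.contains_iff_mem] at hf
  obtain ⟨a, ha, hfa⟩ := c.surj repCq (hf.1.2 _ (h.1.2 _ (by simp [heSpan]))).1.1
  obtain ⟨b, hb, hfb⟩ := c.surj heT (hf.1.2 _ (h.1.2 _ (by simp [heSpan]))).1.1
  exact ⟨a, b, ha, hb, hfa, hfb⟩

theorem Base.mem_iff {c : Coding z} {a b : M} (hB : c.Base a b) {x : M} (hx : Commute x z) :
    c.f x ∈ heSpan ↔ x ∈ ({a, b, a * b} : Set M) := by
  have e : heSpan = [c.f a, c.f b, c.f (a * b)] := by
    rw [c.map_mul a b hB.ha hB.hb, hB.fa, hB.fb]; rfl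
  rw [e]
  simp only [List.mem_cons, List.not_mem_nil, or_false, Set.mem_insert_iff, Set.mem_singleton_iff,
    c.eq_iff hx hB.ha, c.eq_iff hx hB.hb, c.eq_iff hx (hB.ha.mul_left hB.hb)]

theorem Base.pair {c : Coding z} (hF : c.Fused fusedHe) {a b : M} (hB : c.Base a b) : HePair z z a b := by
  have h := check_he_around
  simp only [Bool.and_eq_true, List.all_eq_true, List.contains_iff_mem] at h
  have hab : Commute (a * b) z := hB.ha.mul_left hB.hb
  have m1 := (hB.mem_iff hB.ha).mpr (Or.inl rfl)
  have m2 := (hB.mem_iff hB.hb).mpr (Or.inr (Or.inl rfl))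
  have m3 := (hB.mem_iff hab).mpr (Or.inr (Or.inr rfl))
  obtain ⟨oa, na⟩ := not_conj_of_free hF hB.ha (h.1.2 _ m1)
  obtain ⟨ob, nb⟩ := not_conj_of_free hF hB.hb (h.1.2 _ m2)
  obtain ⟨oab, nab⟩ := not_conj_of_free hF hab (h.1.2 _ m3)
  have cab : a * b = b * a := by
    calc a * b = (a * b)⁻¹ := (inv_eq_of_mul_eq_one_right (sq_one oab)).symm
      _ = b * a := by
        rw [mul_inv_rev, inv_eq_of_mul_eq_one_right (sq_one oa), inv_eq_of_mul_eq_one_right (sq_one ob)]
  exact {
    hv := IsConj.refl z
    oa := oa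
    ob := ob
    ne := fun e => by rw [e, sq_one ob, orderOf_one] at oab; omega
    cab := cab
    cva := hB.ha.eq.symm
    cvb := hB.hb.eq.symm
    na := na
    nb := nb
    nab := nab
    nva := fun e => by
      have := h.2 _ m1
      rw [Bool.not_eq_true', ← c.map_z] at this
      exact Bool.eq_false_iff.mp this ((conjB_iff hF (Commute.refl z) hB.ha (by
        rw [← pow_two, (hB.ha.symm).mul_pow, pow_two, pow_two, sq_one c.orderOf_z, sq_one oa, one_mul])).mpr e)
    nvb := fun e => by
      have := h.2 _ m2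
      rw [Bool.not_eq_true', ← c.map_z] at this
      exact Bool.eq_false_iff.mp this ((conjB_iff hF (Commute.refl z) hB.hb (by
        rw [← pow_two, (hB.hb.symm).mul_pow, pow_two, pow_two, sq_one c.orderOf_z, sq_one ob, one_mul])).mpr e)
    nvab := fun e => by
      have := h.2 _ m3
      rw [Bool.not_eq_true', ← c.map_z] at this
      exact Bool.eq_false_iff.mp this ((conjB_iff hF (Commute.refl z) hab (by
        rw [← pow_two, hab.symm.mul_pow, pow_two, pow_two, sq_one c.orderOf_z, sq_one oab, one_mul])).mpr e) }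

/-- A pair moves onto the fixed one. -/
theorem HePair.move {c : Coding z} (hF : c.Fused fusedHe) {v a b : M} (h : HePair z v a b) {a₀ b₀ : M}
    (hB : c.Base a₀ b₀) : ∃ g, g * v * g⁻¹ = z ∧ g * a * g⁻¹ ∈ ({a₀, b₀, a₀ * b₀} : Set M) ∧
      g * b * g⁻¹ ∈ ({a₀, b₀, a₀ * b₀} : Set M) := by
  obtain ⟨g, hg⟩ := isConj_iff.mp h.hv
  have ha : Commute (g⁻¹ * a * g) z := commute_conj_back hg h.cva
  obtain ⟨k, hk, hrep⟩ := c.exists_rep ha (free_mem hF ha
    (by have := orderOf_conj g⁻¹ a; rw [inv_inv] at this; exact this.trans h.oa)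
    (fun e => h.na ((isConj_conj_iff g⁻¹).mp (by simpa using e))))
  set m := k * g⁻¹ with hm
  have hvz : m * v * m⁻¹ = z := by
    rw [hm, ← hg]
    calc k * g⁻¹ * (g * z * g⁻¹) * (k * g⁻¹)⁻¹ = k * z * k⁻¹ := by group
      _ = z := by rw [hk.eq, mul_inv_cancel_right]
  have hp := h.map m
  rw [hvz] at hp
  have A : Commute (m * a * m⁻¹) z := hp.cva.symm
  have B : Commute (m * b * m⁻¹) z := hp.cvb.symm
  rw [show k * (g⁻¹ * a * g) * k⁻¹ = m * a * m⁻¹ by rw [hm]; group] at hrep
  have hr : heOrbit (c.f (m * a * m⁻¹)) = true := by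
    have := check_he_orbit
    rw [Bool.and_eq_true] at this
    rcases hrep with h | h <;> rw [h]
    exacts [this.1, this.2]
  simp only [heOrbit, List.all_eq_true, Bool.or_eq_true, beq_iff_eq, Bool.not_eq_true', List.any_eq_true,
    Bool.and_eq_true] at hr
  have hfp := freePair_codes hF A B hp.oa hp.ob hp.ne hp.cab hp.nab
  rcases hr _ (free_mem hF B hp.ob hp.nb) with ((e | e) | ⟨w, hw, e⟩) | ⟨hc, hhc, ⟨w, hw, e1⟩, w', hw', e2⟩
  · exact absurd ((c.eq_iff B A).mp e).symm hp.ne
  · rw [hfp] at e
    exact Bool.noConfusion e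
  · exfalso
    rw [← c.map_z, ← c.map_mul _ _ A B] at *
    have hz2 := sq_one c.orderOf_z
    have key : ∀ u : M, Commute u z → u * u = 1 → ¬ IsConj z (z * u) → conjB fusedHe (c.f z) (c.f u) ≠ true :=
      fun u hu u2 hn he => hn ((conjB_iff hF (Commute.refl z) hu (by
        rw [← pow_two, hu.symm.mul_pow, pow_two, pow_two, hz2, u2, one_mul])).mp he)
    simp only [List.mem_cons, List.not_mem_nil, or_false] at hw
    rcases hw with rfl | rfl | rfl
    · exact key _ A (sq_one hp.oa) hp.nva e
    · exact key _ B (sq_one hp.ob) hp.nvb e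
    · exact key _ (A.mul_left B) (sq_one (order_two_mul hp.oa hp.ob hp.ne hp.cab)) hp.nvab e
  · have hf := check_he_free
    simp only [Bool.and_eq_true, List.all_eq_true, List.contains_iff_mem] at hf
    obtain ⟨H, hH, rfl⟩ := c.surj hc (hf.2 _ hhc)
    have tr : ∀ (x : M) (d : ℕ), Commute x z → d ∈ heSpan → mul (c.f H) (c.f x) = mul d (c.f H) →
        H * x * H⁻¹ ∈ ({a₀, b₀, a₀ * b₀} : Set M) := by
      intro x d hx hd he
      have hel : d ∈ elts := by
        have h3 := check_he_around
        simp only [Bool.and_eq_true, List.all_eq_true, List.contains_iff_mem] at h3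
        exact (hf.1.2 _ (h3.1.2 _ hd)).1.1
      obtain ⟨y, hy, rfl⟩ := c.surj d hel
      rw [← c.map_mul _ _ hH hx, ← c.map_mul _ _ hy hH, c.eq_iff (hH.mul_left hx) (hy.mul_left hH)] at he
      rw [he, mul_inv_cancel_right]
      exact (hB.mem_iff hy).mp hd
    refine ⟨H * m, ?_, ?_, ?_⟩
    · calc H * m * v * (H * m)⁻¹ = H * (m * v * m⁻¹) * H⁻¹ := by group
        _ = z := by rw [hvz, hH.eq, mul_inv_cancel_right]
    · rw [show H * m * a * (H * m)⁻¹ = H * (m * a * m⁻¹) * H⁻¹ by group]
      exact tr _ w A hw e1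
    · rw [show H * m * b * (H * m)⁻¹ = H * (m * b * m⁻¹) * H⁻¹ by group]
      exact tr _ w' B hw' e2

/-- A commuting conjugate of `z` gives the same kind of pair. -/
theorem HePair.of_commute [Finite M] {c : Coding z} (hF : c.Fused fusedHe) {v v' a b : M} (h : HePair z v a b)
    (hv' : IsConj z v') (hc : v' * v = v * v') (ha : v' * a = a * v') (hb : v' * b = b * v') :
    HePair z v' a b := by
  obtain ⟨a₀, b₀, hB⟩ := c.exists_base
  obtain ⟨g, hgv, hga, hgb⟩ := h.move hF hB
  have hP0 := hB.pair hF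
  have hx : Commute (g * v' * g⁻¹) z := by
    have := conj_comm g hc
    rwa [hgv] at this
  have hsq0 : v' * v' = 1 := by
    obtain ⟨k, rfl⟩ := isConj_iff.mp hv'
    calc k * z * k⁻¹ * (k * z * k⁻¹) = k * (z * z) * k⁻¹ := by group
      _ = 1 := by rw [sq_one c.orderOf_z]; group
  have ox : orderOf (g * v' * g⁻¹) = 2 := by
    rw [orderOf_conj]
    obtain ⟨k, rfl⟩ := isConj_iff.mp hv'
    rw [orderOf_conj, c.orderOf_z]
  have hfx : fusedHe (c.f (g * v' * g⁻¹)) = true :=
    (hF.conj _ hx ox).mp ((isConj_conj_iff g).mpr hv')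
  have hgab : g * (a * b) * g⁻¹ ∈ ({a₀, b₀, a₀ * b₀} : Set M) := by
    rw [← conj_mul_conj]
    have hne : g * a * g⁻¹ ≠ g * b * g⁻¹ := fun e => h.ne (by simpa using e)
    have e1 : a₀ * (a₀ * b₀) = b₀ := by rw [← mul_assoc, sq_one hP0.oa, one_mul]
    have e2 : a₀ * b₀ * a₀ = b₀ := by rw [hP0.cab, mul_assoc, sq_one hP0.oa, mul_one]
    have e3 : b₀ * (a₀ * b₀) = a₀ := by rw [hP0.cab, ← mul_assoc, sq_one hP0.ob, one_mul]
    have e4 : a₀ * b₀ * b₀ = a₀ := by rw [mul_assoc, sq_one hP0.ob, mul_one]
    simp only [Set.mem_insert_iff, Set.mem_singleton_iff] at hga hgb ⊢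
    rcases hga with e | e | e <;> rcases hgb with e' | e' | e' <;> rw [e, e'] at hne ⊢ <;>
      first
        | exact absurd rfl hne
        | simp only [e1, e2, e3, e4, ← hP0.cab, true_or, or_true]
  have hspan : ∀ w ∈ ({a₀, b₀, a₀ * b₀} : Set M), (g * v' * g⁻¹) * w = w * (g * v' * g⁻¹) := by
    intro w hw
    have hne : g * a * g⁻¹ ≠ g * b * g⁻¹ := fun e => h.ne (by simpa using e)
    have hle : Subgroup.closure ({g * a * g⁻¹, g * b * g⁻¹} : Set M) ≤
        Subgroup.centralizer ({g * v' * g⁻¹} : Set M) := by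
      rw [Subgroup.closure_le]
      rintro _ (rfl | rfl)
      · exact Subgroup.mem_centralizer_singleton_iff.mpr (conj_comm g ha.symm)
      · exact Subgroup.mem_centralizer_singleton_iff.mpr (conj_comm g hb.symm)
    exact (Subgroup.mem_centralizer_singleton_iff.mp (hle (mem_closure_pair (sq_one hP0.oa) (sq_one hP0.ob)
      hP0.cab hga hgb hne hw))).symm
  have hspanz : ∀ w ∈ ({a₀, b₀, a₀ * b₀} : Set M), Commute w z := by
    rintro w (rfl | rfl | rfl)
    exacts [hB.ha, hB.hb, hB.ha.mul_left hB.hb]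
  have key : ∀ w : M, g * w * g⁻¹ ∈ ({a₀, b₀, a₀ * b₀} : Set M) → ¬ IsConj z (v' * w) := by
    intro w hw he
    have hwz := hspanz _ hw
    have h2 : g * v' * g⁻¹ * (g * w * g⁻¹) * (g * v' * g⁻¹ * (g * w * g⁻¹)) = 1 := by
      obtain ⟨k, hk⟩ := isConj_iff.mp he
      rw [conj_mul_conj, conj_mul_conj, ← hk]
      calc g * (k * z * k⁻¹ * (k * z * k⁻¹)) * g⁻¹ = g * k * (z * z) * k⁻¹ * g⁻¹ := by group
        _ = 1 := by rw [sq_one c.orderOf_z]; group
    have hj := (conjB_iff hF hx hwz h2).mpr (by rw [conj_mul_conj, isConj_conj_iff]; exact he)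
    have hc := check_he_around
    simp only [Bool.and_eq_true, List.all_eq_true, Bool.or_eq_true, Bool.not_eq_true'] at hc
    rcases hc.1.1 _ (mem_invCodes (c.mem _ hx) ((c.isInv_iff hx).mpr ox)) with e | e
    · rw [Bool.and_eq_false_iff] at e
      rcases e with e | e
      · rw [hfx] at e
        exact Bool.noConfusion e
      · rw [List.all_eq_false] at e
        obtain ⟨d, hd, e⟩ := e
        have hel : d ∈ [c.f a₀, c.f b₀, c.f (a₀ * b₀)] := by
          rwa [c.map_mul _ _ hB.ha hB.hb, hB.fa, hB.fb]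
        simp only [List.mem_cons, List.not_mem_nil, or_false] at hel
        rcases hel with rfl | rfl | rfl
        · exact e ((c.comm_iff hx hB.ha).mpr (hspan _ (Or.inl rfl)))
        · exact e ((c.comm_iff hx hB.hb).mpr (hspan _ (Or.inr (Or.inl rfl))))
        · exact e ((c.comm_iff hx (hB.ha.mul_left hB.hb)).mpr (hspan _ (Or.inr (Or.inr rfl))))
    · exact List.any_eq_false.mp e _ ((hB.mem_iff hwz).mpr hw) hj
  exact { h with hv := hv', cva := ha, cvb := hb, nva := key a hga, nvb := key b hgb, nvab := key _ hgab }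

theorem HePair.conj_fix {v a b k : M} (h : HePair z v a b) (ha : k * a = a * k) (hb : k * b = b * k) :
    HePair z (k * v * k⁻¹) a b := by
  have := h.map k
  rwa [ha, mul_inv_cancel_right, hb, mul_inv_cancel_right] at this

/-- Every conjugate of `z` centralising the pair gives the same kind of pair. -/
theorem HePair.of_centralizing [Finite M] {c : Coding z} (hF : c.Fused fusedHe) {v v' a b : M}
    (h : HePair z v a b) (hv' : IsConj z v') (ha : v' * a = a * v') (hb : v' * b = b * v') : HePair z v' a b := by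
  have hvv : v * v = 1 := by
    obtain ⟨k, rfl⟩ := isConj_iff.mp h.hv
    calc k * z * k⁻¹ * (k * z * k⁻¹) = k * (z * z) * k⁻¹ := by group
      _ = 1 := by rw [sq_one c.orderOf_z]; group
  have hv'v' : v' * v' = 1 := by
    obtain ⟨k, rfl⟩ := isConj_iff.mp hv'
    calc k * z * k⁻¹ * (k * z * k⁻¹) = k * (z * z) * k⁻¹ := by group
      _ = 1 := by rw [sq_one c.orderOf_z]; group
  set d := v * v' with hd
  have hda : ∀ n : ℕ, d ^ n * a = a * d ^ n := fun n =>
    ((show Commute v a from h.cva).mul_left (show Commute v' a from ha)).pow_left n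
  have hdb : ∀ n : ℕ, d ^ n * b = b * d ^ n := fun n =>
    ((show Commute v b from h.cvb).mul_left (show Commute v' b from hb)).pow_left n
  rcases Nat.even_or_odd (orderOf d) with ⟨k, hk⟩ | ⟨k, hk⟩
  · have hk2 : orderOf (v * v') = 2 * k := by rw [← hd]; omega
    have hkpos : 0 < k := by have := orderOf_pos d; omega
    have ow : orderOf (d ^ k) = 2 := by
      rw [orderOf_pow' d (by omega), show orderOf d = 2 * k by omega, Nat.gcd_mul_left_left,
        Nat.mul_div_cancel _ hkpos]
    have hwv : d ^ k * v = v * d ^ k := by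
      have h1 := Closing.inv_conj_pow hvv hv'v' k
      rw [← hd, inv_eq_of_mul_eq_one_right (sq_one ow)] at h1
      calc d ^ k * v = v * d ^ k * v * v := by rw [h1]
        _ = v * d ^ k * (v * v) := by group
        _ = v * d ^ k := by rw [hvv, mul_one]
    have hwv' : d ^ k * v' = v' * d ^ k := by
      have h1 : v' = v * d := by rw [hd, ← mul_assoc, hvv, one_mul]
      rw [h1, ← mul_assoc, hwv, mul_assoc, mul_assoc, ← pow_succ, ← pow_succ']
    have excl : d ^ k ∈ ({a, b, a * b} : Set M) → False := fun hm => by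
      have hn : ¬ IsConj z (v * d ^ k) := by
        simp only [Set.mem_insert_iff, Set.mem_singleton_iff] at hm
        rcases hm with e | e | e <;> rw [e]
        exacts [h.nva, h.nvb, h.nvab]
      rcases Closing.dihedral hvv hv'v' hk2 with ⟨j, e1, -⟩ | ⟨j, -, e2⟩
      · rw [← hd] at e1
        exact hn (h.hv.trans (isConj_iff.mpr ⟨_, e1⟩))
      · rw [← hd] at e2
        exact hn (hv'.trans (isConj_iff.mpr ⟨_, e2⟩).symm)
    have step : ∀ w : M, IsConj z (d ^ k * w) → w * v = v * w → w * v' = v' * w → w * a = a * w → w * b = b * w →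
        HePair z v' a b := by
      intro w hw c1 c2 c3 c4
      have h3 := h.of_commute hF hw ((show Commute (d ^ k) v from hwv).mul_left (show Commute w v from c1))
        ((show Commute (d ^ k) a from hda k).mul_left (show Commute w a from c3))
        ((show Commute (d ^ k) b from hdb k).mul_left (show Commute w b from c4))
      exact h3.of_commute hF hv'
        (((show Commute (d ^ k) v' from hwv').mul_left (show Commute w v' from c2)).symm) ha hb
    rcases rank_two hF h.oa h.ob h.ne h.cab h.na h.nb h.nab ow (hda k) (hdb k) with e | e | e | e | e | e | e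
    · exact (excl (Or.inl e)).elim
    · exact (excl (Or.inr (Or.inl e))).elim
    · exact (excl (Or.inr (Or.inr e))).elim
    · exact step 1 (by rwa [mul_one]) (by simp) (by simp) (by simp) (by simp)
    · exact step a e h.cva.symm ha.symm rfl h.cab
    · exact step b e h.cvb.symm hb.symm h.cab.symm rfl
    · exact step (a * b) e ((show Commute a v from h.cva.symm).mul_left (show Commute b v from h.cvb.symm))
        ((show Commute a v' from ha.symm).mul_left (show Commute b v' from hb.symm))
        ((Commute.refl a).mul_left (show Commute b a from h.cab.symm))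
        ((show Commute a b from h.cab).mul_left (Commute.refl b))
  · have hdk := Closing.conj_left hvv hv'v' k
    rw [← hd] at hdk
    have h2k : d ^ (k + k) * v = v' := by
      have h1 : d ^ (k + k) * d = 1 := by
        rw [← pow_succ, ← pow_orderOf_eq_one d]
        congr 1
        omega
      rw [eq_inv_of_mul_eq_one_left h1, hd, mul_inv_rev, inv_eq_of_mul_eq_one_right hvv,
        inv_eq_of_mul_eq_one_right hv'v', mul_assoc, hvv, mul_one]
    have := h.conj_fix (hda k) (hdb k)
    rwa [hdk, h2k] at this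

theorem false_of_abelian {L : Type*} [Group L] [Finite L] {D : Subgroup L} (hD : ∀ u ∈ D, ∀ w ∈ D, u * w = w * u)
    (hidx : D.index ∣ 8) {x y : L} (hy : orderOf y = 7) (hx : orderOf x = 3)
    (hxy : x * y * x⁻¹ ∈ Subgroup.zpowers y) (hne : x * y ≠ y * x) : False := by
  have : Fact (Nat.Prime 7) := ⟨by norm_num⟩
  have : Fact (Nat.Prime 3) := ⟨by norm_num⟩
  obtain ⟨S⟩ : Nonempty (Sylow 7 D) := inferInstance
  have hidx7 : ¬ 7 ∣ ((S : Subgroup D).map D.subtype).index := by
    rw [Subgroup.index_map_of_injective _ D.subtype_injective, Subgroup.range_subtype]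
    exact (by norm_num : Nat.Prime 7).not_dvd_mul S.not_dvd_index (fun h => absurd (h.trans hidx) (by norm_num))
  have hyP : IsPGroup 7 (Subgroup.zpowers y) := IsPGroup.of_card (n := 1) (by rw [Nat.card_zpowers, hy, pow_one])
  obtain ⟨R, hR⟩ := hyP.exists_le_sylow
  obtain ⟨g, hg⟩ := MulAction.exists_smul_eq L ((S.2.map D.subtype).toSylow hidx7) R
  have hy' : y ∈ ((g • (S.2.map D.subtype).toSylow hidx7 : Sylow 7 L) : Subgroup L) := by
    rw [hg]; exact hR (Subgroup.mem_zpowers y)
  obtain ⟨e, he, hey⟩ := hy'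
  obtain ⟨f, -, rfl⟩ := he
  have hey' : g * f * g⁻¹ = y := hey
  set E := D.map (MulAut.conj g).toMonoidHom with hE
  have hEidx : E.index ∣ 8 := by
    rw [hE, Subgroup.index_map_of_bijective (MulEquiv.bijective _)]
    exact hidx
  set C := Subgroup.centralizer ({y} : Set L) with hC
  set N := Subgroup.normalizer ((Subgroup.zpowers y : Subgroup L) : Set L) with hN
  have hEC : E ≤ C := by
    rintro _ ⟨d, hd, rfl⟩
    refine Subgroup.mem_centralizer_singleton_iff.mpr ?_
    show g * d * g⁻¹ * y = y * (g * d * g⁻¹)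
    rw [← hey']
    exact conj_comm g (hD d hd f f.2)
  have hxN : x ∈ N := by
    refine Subgroup.mem_normalizer_fintype ?_
    intro u hu
    obtain ⟨n, rfl⟩ := Subgroup.mem_zpowers_iff.mp hu
    show x * y ^ n * x⁻¹ ∈ Subgroup.zpowers y
    rw [← conj_zpow]
    exact zpow_mem hxy n
  have hCN : C ≤ N := by
    intro u hu
    have hu' : u * y = y * u := Subgroup.mem_centralizer_singleton_iff.mp hu
    refine Subgroup.mem_normalizer_fintype ?_
    intro w hw
    obtain ⟨n, rfl⟩ := Subgroup.mem_zpowers_iff.mp hw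
    show u * y ^ n * u⁻¹ ∈ Subgroup.zpowers y
    rw [← conj_zpow, hu', mul_inv_cancel_right]
    exact zpow_mem (Subgroup.mem_zpowers y) n
  have hnor : (C.subgroupOf N).Normal := by
    refine ⟨fun u hu n => ?_⟩
    have hu' : (u : L) * y = y * u := Subgroup.mem_centralizer_singleton_iff.mp hu
    refine Subgroup.mem_centralizer_singleton_iff.mpr ?_
    show (n : L) * u * (n : L)⁻¹ * y = y * ((n : L) * u * (n : L)⁻¹)
    obtain ⟨i, hi⟩ := Subgroup.mem_zpowers_iff.mp
      ((Subgroup.mem_normalizer_iff.mp (inv_mem n.2) y).mp (Subgroup.mem_zpowers y))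
    have hyi : y = (n : L) * y ^ i * (n : L)⁻¹ := by rw [hi]; group
    rw [hyi]
    exact conj_comm _ ((show Commute (u : L) y from hu').zpow_right i)
  have h3 : 3 ∣ C.relIndex N := by
    rw [Subgroup.relIndex]
    have hcard : Nat.card (N ⧸ C.subgroupOf N) = (C.subgroupOf N).index := rfl
    rw [← hcard]
    have hox : orderOf (QuotientGroup.mk' (C.subgroupOf N) ⟨x, hxN⟩) = 3 := by
      refine orderOf_eq_prime ?_ fun h => hne ?_
      · rw [← map_pow]
        refine (QuotientGroup.eq_one_iff _).mpr ?_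
        refine Subgroup.mem_centralizer_singleton_iff.mpr ?_
        show x ^ 3 * y = y * x ^ 3
        rw [← hx, pow_orderOf_eq_one, one_mul, mul_one]
      · have h' : x ∈ C := Subgroup.mem_subgroupOf.mp ((QuotientGroup.eq_one_iff (⟨x, hxN⟩ : N)).mp h)
        exact Subgroup.mem_centralizer_singleton_iff.mp h'
    exact hox ▸ orderOf_dvd_natCard _
  have h8 : 3 ∣ 8 :=
    (h3.trans (Dvd.intro _ (Subgroup.relIndex_mul_index hCN))).trans
      ((Subgroup.index_dvd_of_le hEC).trans hEidx)
  norm_num at h8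

/-- The fixed pair is closed. -/
theorem closed_base [Finite M] {c : Coding z} (hF : c.Fused fusedHe) (hw : HeWitness z) {a b : M}
    (hB : c.Base a b) : Model.Closed z ({a, b, a * b} : Set M) := by
  classical
  have := Fintype.ofFinite M
  have hP := hB.pair hF
  set W : Set M := {a, b, a * b} with hW
  have oab : orderOf (a * b) = 2 := order_two_mul hP.oa hP.ob hP.ne hP.cab
  have cWz : ∀ w ∈ W, Commute w z := by
    rintro w (rfl | rfl | rfl)
    exacts [hB.ha, hB.hb, hB.ha.mul_left hB.hb]
  have hzW : Fix W z := fun w hw => (cWz w hw).eq.symm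
  have nW : ∀ w ∈ W, ¬ IsConj z (z * w) := by
    rintro w (rfl | rfl | rfl)
    exacts [hP.nva, hP.nvb, hP.nvab]
  set K := Subgroup.centralizer W with hK
  have hKiff : ∀ d : M, d ∈ K ↔ Fix W d := fun d =>
    Subgroup.mem_centralizer_iff.trans ⟨fun h w hw => (h w hw).symm, fun h w hw => (h w hw).symm⟩
  let zK : K := ⟨z, (hKiff z).mpr hzW⟩
  set j := (Subgroup.centralizer ({zK} : Set K)).index with hj
  have h32 : Nat.card (Subgroup.centralizer ({zK} : Set K)) = 32 := by
    rw [← check_he_count, ← c.ncard_eq (fun x => Commute x a ∧ Commute x b) _ fun x hx => by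
      rw [Bool.and_eq_true, ← hB.fa, ← hB.fb, c.comm_iff hx hB.ha, c.comm_iff hx hB.hb],
      ← Nat.card_coe_set_eq]
    refine Nat.card_congr
      { toFun := fun x => ⟨(x.1 : M), ?_, ?_, ?_⟩
        invFun := fun x => ⟨⟨x.1, (hKiff _).mpr ?_⟩, ?_⟩
        left_inv := fun x => rfl
        right_inv := fun x => rfl }
    · exact congrArg Subtype.val (Subgroup.mem_centralizer_singleton_iff.mp x.2)
    · exact (hKiff _).mp x.1.2 a (Or.inl rfl)
    · exact (hKiff _).mp x.1.2 b (Or.inr (Or.inl rfl))
    · rintro w (rfl | rfl | rfl)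
      exacts [x.2.2.1, x.2.2.2, (x.2.2.1.mul_right x.2.2.2)]
    · exact Subgroup.mem_centralizer_singleton_iff.mpr (Subtype.ext x.2.1)
  let O : Finset M := Finset.univ.filter fun x => ∃ k : K, (k : M) * z * (k : M)⁻¹ = x
  have hO : O.card = j := by
    let f : K ⧸ Subgroup.centralizer ({zK} : Set K) → {x // x ∈ O} :=
      Quotient.lift (fun k : K => (⟨(k : M) * z * (k : M)⁻¹,
        Finset.mem_filter.mpr ⟨Finset.mem_univ _, k, rfl⟩⟩ : {x // x ∈ O})) (fun k k' h => by
          have h' := Subgroup.mem_centralizer_singleton_iff.mp (QuotientGroup.leftRel_apply.mp h)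
          have h'' : ((k : M)⁻¹ * k') * z = z * ((k : M)⁻¹ * k') := congrArg Subtype.val h'
          refine Subtype.ext ?_
          show (k : M) * z * (k : M)⁻¹ = k' * z * (k' : M)⁻¹
          calc (k : M) * z * (k : M)⁻¹ = k * (z * ((k : M)⁻¹ * k')) * (k' : M)⁻¹ := by group
            _ = k' * z * (k' : M)⁻¹ := by rw [← h'']; group)
    have hbij : Function.Bijective f := by
      constructor
      · intro p q
        induction p using QuotientGroup.induction_on with
        | _ k => induction q using QuotientGroup.induction_on with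
          | _ k' =>
            intro e
            have e' : (k : M) * z * (k : M)⁻¹ = k' * z * (k' : M)⁻¹ := congrArg Subtype.val e
            refine QuotientGroup.eq.mpr (Subgroup.mem_centralizer_singleton_iff.mpr (Subtype.ext ?_))
            show (k : M)⁻¹ * k' * z = z * ((k : M)⁻¹ * k')
            calc (k : M)⁻¹ * k' * z = (k : M)⁻¹ * (k' * z * (k' : M)⁻¹) * k' := by group
              _ = z * ((k : M)⁻¹ * k') := by rw [← e']; group
      · rintro ⟨x, hx⟩
        obtain ⟨k, rfl⟩ := (Finset.mem_filter.mp hx).2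
        exact ⟨QuotientGroup.mk k, rfl⟩
    have := Nat.card_congr (Equiv.ofBijective f hbij)
    rw [Nat.card_eq_fintype_card (α := {x // x ∈ O}), Fintype.card_coe] at this
    exact this.symm
  let Wf : Finset M := {a, b, a * b}
  let V : Finset M := insert 1 Wf
  have hOk : ∀ x ∈ O, ∃ k : M, Fix W k ∧ k * z * k⁻¹ = x := fun x hx => by
    obtain ⟨k, hk⟩ := (Finset.mem_filter.mp hx).2
    exact ⟨k, (hKiff _).mp k.2, hk⟩
  have hVW : ∀ v ∈ V, v = 1 ∨ v ∈ W := fun v hv => by
    simpa [V, Wf, hW] using hv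
  have cW : ∀ p ∈ W, ∀ q ∈ W, Commute p q := by
    have hab' : Commute a b := hP.cab
    rintro p (rfl | rfl | rfl) q (rfl | rfl | rfl)
    exacts [Commute.refl _, hab', (Commute.refl _).mul_right hab', hab'.symm, Commute.refl _,
      hab'.symm.mul_right (Commute.refl _), ((Commute.refl _).mul_left hab'.symm), hab'.mul_left (Commute.refl _),
      Commute.refl _]
  have w2 : ∀ w ∈ W, w * w = 1 := by
    rintro w (rfl | rfl | rfl)
    exacts [sq_one hP.oa, sq_one hP.ob, sq_one oab]
  let Y : Finset M := (O ×ˢ V).image fun q => q.1 * q.2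
  have hinj : ∀ p ∈ O ×ˢ V, ∀ q ∈ O ×ˢ V, p.1 * p.2 = q.1 * q.2 → p = q := by
    rintro ⟨x, w⟩ hp ⟨x', w'⟩ hq e
    simp only [Finset.mem_product] at hp hq
    have e' : x = x' * (w' * w⁻¹) := by
      rw [← mul_assoc, ← e, mul_inv_cancel_right]
    obtain ⟨k, hk, rfl⟩ := hOk x hp.1
    obtain ⟨k', hk', rfl⟩ := hOk x' hq.1
    by_cases hww : w' * w⁻¹ = 1
    · have hwe : w' = w := by simpa using mul_eq_one_iff_eq_inv.mp hww
      subst hwe
      rw [show k * z * k⁻¹ = k' * z * k'⁻¹ from mul_right_cancel e]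
    · exfalso
      have hmem : w' * w⁻¹ ∈ W := by
        have e1 : a * (a * b) = b := by rw [← mul_assoc, sq_one hP.oa, one_mul]
        have e2 : a * b * a = b := by rw [hP.cab, mul_assoc, sq_one hP.oa, mul_one]
        have e3 : b * (a * b) = a := by rw [hP.cab, ← mul_assoc, sq_one hP.ob, one_mul]
        have e4 : a * b * b = a := by rw [mul_assoc, sq_one hP.ob, mul_one]
        have inv' : ∀ u ∈ W, u⁻¹ = u := fun u hu => inv_eq_of_mul_eq_one_right (w2 u hu)
        rcases hVW w hp.2 with rfl | h1 <;> rcases hVW w' hq.2 with rfl | h2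
        · exact absurd (by simp) hww
        · simpa using h2
        · simpa [inv' w h1] using h1
        · rw [inv' w h1] at hww ⊢
          simp only [hW, Set.mem_insert_iff, Set.mem_singleton_iff] at h1 h2 ⊢
          rcases h1 with rfl | rfl | rfl <;> rcases h2 with rfl | rfl | rfl <;>
            first
              | exact absurd (by simp [sq_one hP.oa, sq_one hP.ob, sq_one oab]) hww
              | simp [e1, e2, e3, e4, ← hP.cab]
      have hFk : Fix W (k'⁻¹ * k) := hk'.inv.mul hk
      have hk'w : w' * w⁻¹ = k'⁻¹ * (w' * w⁻¹) * k' := by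
        have := hk'.inv.conj_eq hmem
        simpa using this.symm
      refine nW _ hmem (isConj_iff.mpr ⟨k'⁻¹ * k, ?_⟩)
      calc k'⁻¹ * k * z * (k'⁻¹ * k)⁻¹ = k'⁻¹ * (k * z * k⁻¹) * k' := by group
        _ = z * (k'⁻¹ * (w' * w⁻¹) * k') := by rw [e']; group
        _ = z * (w' * w⁻¹) := by rw [← hk'w]
  have one_not : (1 : M) ∉ Wf := by
    simp only [Wf, Finset.mem_insert, Finset.mem_singleton]
    rintro (e | e | e)
    · have := hP.oa; rw [← e, orderOf_one] at this; omega
    · have := hP.ob; rw [← e, orderOf_one] at this; omega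
    · rw [← e, orderOf_one] at oab; omega
  have hWf3 : Wf.card = 3 := by
    have e1 : a ≠ a * b := fun e => by
      have := hP.ob; rw [(mul_eq_left.mp e.symm), orderOf_one] at this; omega
    have e2 : b ≠ a * b := fun e => by
      have := hP.oa; rw [(mul_eq_right.mp e.symm), orderOf_one] at this; omega
    simp [Wf, hP.ne, e1, e2]
  have hYcard : Y.card = 4 * j := by
    rw [Finset.card_image_of_injOn (fun p hp q hq e => hinj p hp q hq e), Finset.card_product, hO,
      Finset.card_insert_of_notMem one_not, hWf3, mul_comm]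
  have hY : ∀ y ∈ Y, Model.Safe z W y ∧ y * y = 1 := by
    intro y hy
    obtain ⟨⟨x, w⟩, hp, rfl⟩ := Finset.mem_image.mp hy
    simp only [Finset.mem_product] at hp
    obtain ⟨k, hk, rfl⟩ := hOk x hp.1
    have hx2 : k * z * k⁻¹ * (k * z * k⁻¹) = 1 := by
      calc _ = k * (z * z) * k⁻¹ := by group
        _ = 1 := by rw [sq_one c.orderOf_z]; group
    have hxW : Fix W (k * z * k⁻¹) := (hk.mul hzW).mul hk.inv
    have hxc : IsConj z (k * z * k⁻¹) := isConj_iff.mpr ⟨k, rfl⟩
    rcases hVW w hp.2 with rfl | hw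
    · simp only [mul_one]
      exact ⟨Model.Safe.of_isConj hxW hxc, hx2⟩
    · refine ⟨Model.Safe.of_mul w (hxW.mul fun u hu => (cW w hw u hu).eq) hw ?_, ?_⟩
      · rw [mul_assoc, w2 w hw, mul_one]
        exact hxc
      · show k * z * k⁻¹ * w * (k * z * k⁻¹ * w) = 1
        rw [← pow_two, (show Commute (k * z * k⁻¹) w from hxW w hw).mul_pow, pow_two, pow_two, hx2, w2 w hw,
          one_mul]
  have hN : Nat.card K = 2 ^ 5 * j := by
    rw [← Subgroup.card_mul_index (Subgroup.centralizer ({zK} : Set K)), h32]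
    norm_num [hj]
  have hjpos : 0 < j := by
    rw [← hO]
    exact Finset.card_pos.mpr ⟨z, Finset.mem_filter.mpr ⟨Finset.mem_univ _, 1, by simp⟩⟩
  have hne : Y.Nonempty := Finset.card_pos.mp (by rw [hYcard]; omega)
  refine Model.Closed.count Y Wf 5 j K (fun y hy => (hY y hy).1) (fun y hy => (hY y hy).2) hne
    (fun w hw => by simpa [Wf, hW] using hw) hKiff hN hjpos ?_ ?_ (by rw [hWf3, hYcard]) ?_
  · intro y hyK hy2 hyW
    have hyF := (hKiff y).mp hyK
    rcases rank_two hF hP.oa hP.ob hP.ne hP.cab hP.na hP.nb hP.nab hy2 (hyF a (Or.inl rfl))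
        (hyF b (Or.inr (Or.inl rfl))) with e | e | e | e | e | e | e
    · exact absurd (Or.inl e) hyW
    · exact absurd (Or.inr (Or.inl e)) hyW
    · exact absurd (Or.inr (Or.inr e)) hyW
    · exact Model.Safe.of_isConj hyF e
    · exact Model.Safe.of_mul a hyF (Or.inl rfl) e
    · exact Model.Safe.of_mul b hyF (Or.inr (Or.inl rfl)) e
    · exact Model.Safe.of_mul (a * b) hyF (Or.inr (Or.inr rfl)) e
  · intro x hx _ hmem
    have hxF := (hKiff x).mp hx
    rw [pow_two] at hmem
    rcases hmem with e | e | e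
    · exact no_root hF hP.oa hP.ob hP.ne hP.cab hP.na hP.nb hP.nab (hxF b (Or.inr (Or.inl rfl))) e
    · exact no_root hF hP.ob hP.oa hP.ne.symm hP.cab.symm hP.nb hP.na (by rw [← hP.cab]; exact hP.nab)
        (hxF a (Or.inl rfl)) e
    · refine no_root hF oab hP.oa (fun e' => ?_) ((cW _ (Or.inr (Or.inr rfl)) a (Or.inl rfl)).eq) hP.nab hP.na ?_
        (hxF a (Or.inl rfl)) e
      · have := hP.ob; rw [(mul_eq_left.mp e'), orderOf_one] at this; omega
      · rw [hP.cab, mul_assoc, sq_one hP.oa, mul_one]; exact hP.nb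
  · intro D hDK hDcard
    by_contra hcon
    push Not at hcon
    obtain ⟨v, a', b', x, y, hpair, hxF, hyF, hy7, hx3, hxy, hne'⟩ := hw
    obtain ⟨g, -, hga, hgb⟩ := hpair.move hF hB
    have hsub := mem_closure_pair (sq_one hP.oa) (sq_one hP.ob) hP.cab hga hgb
      (fun e => hpair.ne (by simpa using e))
    have tr : ∀ u : M, Fix ({a', b'} : Set M) u → g * u * g⁻¹ ∈ K := by
      intro u hu
      rw [hKiff]
      intro w hw
      have hle : Subgroup.closure ({g * a' * g⁻¹, g * b' * g⁻¹} : Set M) ≤
          Subgroup.centralizer ({g * u * g⁻¹} : Set M) := by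
        rw [Subgroup.closure_le]
        rintro _ (rfl | rfl)
        · exact Subgroup.mem_centralizer_singleton_iff.mpr (conj_comm g (hu a' (Or.inl rfl)).symm)
        · exact Subgroup.mem_centralizer_singleton_iff.mpr (conj_comm g (hu b' (Or.inr rfl)).symm)
      exact (Subgroup.mem_centralizer_singleton_iff.mp (hle (hsub hw))).symm
    refine false_of_abelian (D := D.subgroupOf K) ?_ ?_
      (x := (⟨g * x * g⁻¹, tr x hxF⟩ : K)) (y := (⟨g * y * g⁻¹, tr y hyF⟩ : K)) ?_ ?_ ?_ ?_
    · intro u hu w hw
      exact Subtype.ext (hcon _ hu _ hw)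
    · have h1 := Subgroup.card_mul_index (D.subgroupOf K)
      rw [Nat.card_congr (Subgroup.subgroupOfEquivOfLe hDK).toEquiv, hDcard, hYcard, hN] at h1
      have : (D.subgroupOf K).index = 8 := by
        refine Nat.eq_of_mul_eq_mul_left (by omega : 0 < 4 * j) (h1.trans ?_)
        ring
      rw [this]
    · rw [Subgroup.orderOf_mk, orderOf_conj, hy7]
    · rw [Subgroup.orderOf_mk, orderOf_conj, hx3]
    · obtain ⟨n, hn⟩ := Subgroup.mem_zpowers_iff.mp hxy
      refine Subgroup.mem_zpowers_iff.mpr ⟨n, Subtype.ext ?_⟩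
      show (g * y * g⁻¹) ^ n = g * x * g⁻¹ * (g * y * g⁻¹) * (g * x * g⁻¹)⁻¹
      rw [conj_zpow, hn]
      group
    · intro e
      apply hne'
      have e' : g * x * g⁻¹ * (g * y * g⁻¹) = g * y * g⁻¹ * (g * x * g⁻¹) := congrArg Subtype.val e
      rw [conj_mul_conj, conj_mul_conj] at e'
      simpa using e'

/-- The groups of a pair are closed. -/
theorem closed_of_pair [Finite M] {c : Coding z} (hF : c.Fused fusedHe) (hw : HeWitness z) {v a b : M}
    (h : HePair z v a b) : Model.Closed z ({a, b} : Set M) := by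
  obtain ⟨a₀, b₀, hB⟩ := c.exists_base
  have hP := hB.pair hF
  obtain ⟨g, -, hga, hgb⟩ := h.move hF hB
  have hsub := mem_closure_pair (sq_one hP.oa) (sq_one hP.ob) hP.cab hga hgb (fun e => h.ne (by simpa using e))
  refine Model.Closed.mono ?_ (Model.Closed.conj g⁻¹ (closed_base hF hw hB))
  rintro _ ⟨w, hw', rfl⟩
  have hle : Subgroup.closure ({g * a * g⁻¹, g * b * g⁻¹} : Set M) ≤
      (Subgroup.closure ({a, b} : Set M)).map (MulAut.conj g).toMonoidHom := by
    rw [Subgroup.closure_le]
    rintro _ (rfl | rfl)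
    · exact ⟨a, Subgroup.subset_closure (Or.inl rfl), rfl⟩
    · exact ⟨b, Subgroup.subset_closure (Or.inr rfl), rfl⟩
  obtain ⟨u, hu, rfl⟩ := hle (hsub hw')
  show g⁻¹ * (g * u * g⁻¹) * g⁻¹⁻¹ ∈ Subgroup.closure ({a, b} : Set M)
  rw [show g⁻¹ * (g * u * g⁻¹) * g⁻¹⁻¹ = u by group]
  exact hu

/-- The closing certificate for the pattern of the Held group. -/
theorem closed_empty_He [Finite M] {c : Coding z} (hF : c.Fused fusedHe) (hw : HeWitness z) :
    Model.Closed z (∅ : Set M) := by
  obtain ⟨a, b, hB⟩ := c.exists_base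
  have hP := hB.pair hF
  have hfree := check_he_around
  simp only [Bool.and_eq_true, List.all_eq_true, List.contains_iff_mem] at hfree
  have hr := check_he_free
  simp only [Bool.and_eq_true, List.all_eq_true, List.contains_iff_mem, Bool.not_eq_true'] at hr
  obtain ⟨⟨hrel, hrinv⟩, hrP⟩ := hr.1.2 repCq (hfree.1.2 _ (by simp [heSpan]))
  refine closed_empty hF hrel hrinv hrP ?_
  have hS : spanOK [one, repCq] = true := by decide +kernel
  obtain ⟨h2, hc, -⟩ := c.codes_spec hS
  set W := c.codes [one, repCq] with hW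
  have memW : ∀ x, x ∈ W → x = 1 ∨ x = a := by
    rintro x ⟨hx, hm⟩
    rcases List.mem_cons.mp hm with e | e
    · exact Or.inl ((c.ne_one_code hx).mp e)
    · exact Or.inr ((c.eq_iff hx hB.ha).mp ((List.mem_singleton.mp e).trans hB.fa.symm))
  have aW : a ∈ W := ⟨hB.ha, by rw [hB.fa]; simp⟩
  have fixW : ∀ x : M, x * a = a * x → Fix W x := fun x hx w hw => by
    rcases memW w hw with rfl | rfl
    · simp
    · exact hx
  have hexc := exists_commuting hF.odd W h2 hc
  have safe_of : ∀ (y v : M), y * a = a * y → orderOf y = 2 → HePair z v a y → Model.Safe z W y := by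
    intro y v hy ho hp
    refine Model.Safe.of_closed (fixW y hy) (by rw [← ho]; exact pow_orderOf_eq_one y)
      (Model.Closed.mono ?_ (closed_of_pair hF hw hp)) hexc
    rintro x (rfl | rfl)
    · exact Subgroup.subset_closure (Set.mem_insert_of_mem _ aW)
    · exact Subgroup.subset_closure (Set.mem_insert _ _)
  have oab : orderOf (a * b) = 2 := order_two_mul hP.oa hP.ob hP.ne hP.cab
  have hz_a : z * a = a * z := hP.cva
  have e1 : a * (a * b) = b := by rw [← mul_assoc, sq_one hP.oa, one_mul]
  have hsb : Model.Safe z W b := safe_of b z hP.cab.symm hP.ob hP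
  have hpab : HePair z z a (a * b) :=
    { hP with
      ob := oab
      ne := fun e => by
        have := hP.ob; rw [(mul_eq_left.mp e.symm), orderOf_one] at this; omega
      cab := by rw [e1, hP.cab, mul_assoc, sq_one hP.oa, mul_one]
      cvb := (show Commute z a from hP.cva).mul_right (show Commute z b from hP.cvb)
      nb := hP.nab
      nab := by rw [e1]; exact hP.nb
      nvb := hP.nvab
      nvab := by rw [e1]; exact hP.nvb }
  refine Model.Closed.pair b z hsb (sq_one hP.ob) (Model.Safe.of_isConj (fixW z hz_a) (IsConj.refl z))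
    (sq_one c.orderOf_z) (fun h _ e => hP.nb (isConj_iff.mpr ⟨h, e⟩).symm) ?_ ?_
  · intro y hyW hy2 hyb hn
    have hya : y * a = a * y := hyW a aW
    by_cases hy : IsConj z y
    · exact Model.Safe.of_isConj hyW hy
    by_cases hy' : IsConj z (y * a)
    · exact Model.Safe.of_mul a hyW aW hy'
    have key : ∀ w : M, (w = b ∨ w = a * b) → IsConj z (y * w) → Model.Safe z W y := by
      intro w hwmem hconj
      have hwa : w * a = a * w := by
        rcases hwmem with rfl | rfl
        · exact hP.cab.symm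
        · exact ((Commute.refl a).mul_left (show Commute b a from hP.cab.symm))
      have hwb : w * b = b * w := by
        rcases hwmem with rfl | rfl
        · rfl
        · exact ((show Commute a b from hP.cab).mul_left (Commute.refl b))
      have hw2 : w * w = 1 := by
        rcases hwmem with rfl | rfl
        exacts [sq_one hP.ob, sq_one oab]
      have hyw : y * w = w * y := by
        rcases hwmem with rfl | rfl
        · exact hyb
        · exact (show Commute y a from hya).mul_right (show Commute y b from hyb)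
      have hva : y * w * a = a * (y * w) := (show Commute y a from hya).mul_left (show Commute w a from hwa)
      have hvb : y * w * b = b * (y * w) := (show Commute y b from hyb).mul_left (show Commute w b from hwb)
      have hq := hP.of_centralizing hF hconj hva hvb
      have nw : ¬ IsConj z w := by
        rcases hwmem with rfl | rfl
        exacts [hP.nb, hP.nab]
      have naw : ¬ IsConj z (a * w) := by
        rcases hwmem with rfl | rfl
        · exact hP.nab
        · rw [e1]; exact hP.nb
      refine safe_of y (y * w) hya hy2 ?_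
      refine ⟨hconj, hP.oa, hy2, fun e => hn (e ▸ aW), hya.symm, hva, ?_, hP.na, hy, by rw [← hya]; exact hy',
        hq.nva, ?_, ?_⟩
      · exact ((Commute.refl y).mul_left (show Commute w y from hyw.symm))
      · rw [hyw, mul_assoc, sq_one hy2, mul_one]; exact nw
      · rw [← hya, ← mul_assoc, hyw, mul_assoc w y y, sq_one hy2, mul_one, hwa]; exact naw
    rcases rank_two hF hP.oa hP.ob hP.ne hP.cab hP.na hP.nb hP.nab hy2 hya hyb with e | e | e | e | e | e | e
    · exact absurd (e ▸ aW) hn
    · rw [e]; exact hsb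
    · rw [e]
      exact safe_of (a * b) z ((Commute.refl a).mul_left (show Commute b a from hP.cab.symm)) oab hpab
    · exact absurd e hy
    · exact absurd e hy'
    · exact key b (Or.inl rfl) e
    · exact key (a * b) (Or.inr rfl) e
  · intro w hw' hw2
    rcases memW w hw' with rfl | rfl
    · rw [orderOf_one] at hw2; omega
    have hs := check_he_sgn
    simp only [Bool.and_eq_true, bne_iff_ne] at hs
    rw [← hB.fb, ← hB.fa, ← c.map_z, ← c.map_mul z w (Commute.refl z) hB.ha, hB.fa] at hs
    have hzw : Commute (z * w) z := (Commute.refl z).mul_left hB.ha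
    have hSw : spanOK [one, repCq] = true := hS
    refine ⟨Or.inr fun h hh e => hs.2 ?_, fun h hh => Or.inl fun e => hs.1 ?_⟩
    · exact sgn_eq_of_conj hF hSw (Commute.refl z) hzw (fixW z hz_a) (sq_one c.orderOf_z) hh e
    · exact sgn_eq_of_conj hF hSw hB.hb hzw (fixW b hP.cab.symm) (sq_one hP.ob) hh e

end Coding

end Cfsg.Agent.TransvCent
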