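/-
The closing certificates for `SL5(2)` and `M24` inside the coded centraliser.

* `closed_empty_L5`, `closed_empty_M24`, `closed_empty_M24Swap` : the empty set is closed in a group with this fusion
-/
import Cfsg.Agent.Lib.TransvCent.ClosingCode

set_option autoImplicit false
set_option maxRecDepth 10000

namespace Cfsg.Agent.TransvCent

/-- The fused codes of the pattern `L5`. -/
def fusedL5 : ℕ → Bool := inLists [members repA chainA, members repB chainB, members repD chainD]

/-- The nodes for the pattern `L5`, each before those it uses. -/
def nodesL5 : List (List ℕ × ℕ) := [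
  ([34944, 10753], 10756),
  ([34944, 10753, 10794, 34987], 10763),
  ([34944, 10753, 10795, 34986], 10763),
  ([34944, 10753, 10836, 35029], 10756),
  ([34944, 10753, 10837, 35028], 10756),
  ([34944, 10753, 10842, 35035], 10756),
  ([34944, 10753, 10846, 35039], 10756),
  ([34944, 10753, 10847, 35038], 10756),
  ([34944, 10753, 10874, 35067], 10763),
  ([34944, 10753, 10875, 35066], 10763),
  ([34944, 10753, 15904, 40097], 10763),
  ([34944, 10753, 15915, 40106], 10763),
  ([34944, 10753, 15952, 40145], 10763),
  ([34944, 10753, 15953, 40144], 10763),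
  ([34944, 10753, 15962, 40155], 10763),
  ([34944, 10753, 15963, 40154], 10763),
  ([34944, 10753, 15985, 40176], 10763),
  ([34944, 10753, 15994, 40187], 10763),
  ([34944, 10753, 27396, 51589], 10756),
  ([34944, 10753, 27402, 51595], 10756),
  ([34944, 10753, 27403, 51594], 10756),
  ([34944, 10753, 27407, 51598], 10756),
  ([34944, 10753, 27477, 51668], 10756),
  ([34944, 10753, 27482, 51675], 10756),
  ([34944, 10753, 27483, 51674], 10756),
  ([34944, 10753, 27486, 51679], 10756),
  ([34944, 10753, 10794, 34987, 15953, 40144, 40187, 15994], 10763),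
  ([34944, 10753, 10794, 34987, 15962, 40155, 40176, 15985], 10763),
  ([34944, 10753, 10795, 34986, 15952, 40145, 40187, 15994], 10763),
  ([34944, 10753, 10795, 34986, 15963, 40154, 40176, 15985], 10763),
  ([34944, 10753, 10836, 35029, 27403, 51594, 51679, 27486], 10756),
  ([34944, 10753, 10836, 35029, 27407, 51598, 51675, 27482], 10756),
  ([34944, 10753, 10837, 35028, 27402, 51595, 51679, 27486], 10756),
  ([34944, 10753, 10837, 35028, 27407, 51598, 51674, 27483], 10756),
  ([34944, 10753, 10846, 35039, 27396, 51589, 51674, 27483], 10756),
  ([34944, 10753, 10846, 35039, 27402, 51595, 51668, 27477], 10756),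
  ([34944, 10753, 10847, 35038, 27396, 51589, 51675, 27482], 10756),
  ([34944, 10753, 10847, 35038, 27403, 51594, 51668, 27477], 10756),
  ([34944, 10753, 10874, 35067, 15904, 40097, 40154, 15963], 10763),
  ([34944, 10753, 10874, 35067, 15915, 40106, 40145, 15952], 10763),
  ([34944, 10753, 10875, 35066, 15904, 40097, 40155, 15962], 10763),
  ([34944, 10753, 10875, 35066, 15915, 40106, 40144, 15953], 10763)]

theorem check_nodesL5 : (nodesOK fusedL5 nodesL5 && (elts.contains 10753 && isInv 10753 && !fusedL5 10753 &&
    nodesL5.any (fun T => T.1 == [one, 10753]))) = true := by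
  decide +kernel

/-- The closing certificate for the pattern `L5`. -/
theorem closed_empty_L5 {M : Type*} [Group M] [Finite M] {z : M} {c : Coding z} (hF : c.Fused fusedL5) :
    Closing.Model.Closed z (∅ : Set M) := by
  have h := check_nodesL5
  rw [Bool.and_eq_true] at h
  exact Coding.closed_empty_of_nodes hF nodesL5 10753 h.1 h.2

/-- The fused codes of the pattern `M24`. -/
def fusedM24 : ℕ → Bool := inLists [members repA chainA, members repB chainB, members repD chainD, members repH1 chainH1]

/-- The nodes for the pattern `M24`, each before those it uses. -/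
def nodesM24 : List (List ℕ × ℕ) := [
  ([34944, 10753], 10763),
  ([34944, 10753, 10794, 34987], 10763),
  ([34944, 10753, 10795, 34986], 10763),
  ([34944, 10753, 10842, 35035], 10784),
  ([34944, 10753, 10874, 35067], 10763),
  ([34944, 10753, 10875, 35066], 10763),
  ([34944, 10753, 15904, 40097], 10763),
  ([34944, 10753, 15915, 40106], 10763),
  ([34944, 10753, 15952, 40145], 10763),
  ([34944, 10753, 15953, 40144], 10763),
  ([34944, 10753, 15962, 40155], 10763),
  ([34944, 10753, 15963, 40154], 10763),
  ([34944, 10753, 15985, 40176], 10763),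
  ([34944, 10753, 15994, 40187], 10763),
  ([34944, 10753, 10794, 34987, 15953, 40144, 40187, 15994], 10763),
  ([34944, 10753, 10794, 34987, 15962, 40155, 40176, 15985], 10763),
  ([34944, 10753, 10795, 34986, 15952, 40145, 40187, 15994], 10763),
  ([34944, 10753, 10795, 34986, 15963, 40154, 40176, 15985], 10763),
  ([34944, 10753, 10874, 35067, 15904, 40097, 40154, 15963], 10763),
  ([34944, 10753, 10874, 35067, 15915, 40106, 40145, 15952], 10763),
  ([34944, 10753, 10875, 35066, 15904, 40097, 40155, 15962], 10763),
  ([34944, 10753, 10875, 35066, 15915, 40106, 40144, 15953], 10763)]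

theorem check_nodesM24 : (nodesOK fusedM24 nodesM24 && (elts.contains 10753 && isInv 10753 && !fusedM24 10753 &&
    nodesM24.any (fun T => T.1 == [one, 10753]))) = true := by
  decide +kernel

/-- The closing certificate for the pattern `M24`. -/
theorem closed_empty_M24 {M : Type*} [Group M] [Finite M] {z : M} {c : Coding z} (hF : c.Fused fusedM24) :
    Closing.Model.Closed z (∅ : Set M) := by
  have h := check_nodesM24
  rw [Bool.and_eq_true] at h
  exact Coding.closed_empty_of_nodes hF nodesM24 10753 h.1 h.2

/-- The fused codes of the pattern `M24Swap`. -/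
def fusedM24Swap : ℕ → Bool := inLists [members repA chainA, members repB chainB, members repD chainD, members repH2 chainH2]

/-- The nodes for the pattern `M24Swap`, each before those it uses. -/
def nodesM24Swap : List (List ℕ × ℕ) := [
  ([34944, 10753], 10756),
  ([34944, 10753, 10836, 35029], 10756),
  ([34944, 10753, 10837, 35028], 10756),
  ([34944, 10753, 10842, 35035], 10756),
  ([34944, 10753, 10846, 35039], 10756),
  ([34944, 10753, 10847, 35038], 10756),
  ([34944, 10753, 27396, 51589], 10756),
  ([34944, 10753, 27402, 51595], 10756),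
  ([34944, 10753, 27403, 51594], 10756),
  ([34944, 10753, 27407, 51598], 10756),
  ([34944, 10753, 27477, 51668], 10756),
  ([34944, 10753, 27482, 51675], 10756),
  ([34944, 10753, 27483, 51674], 10756),
  ([34944, 10753, 27486, 51679], 10756),
  ([34944, 10753, 10836, 35029, 27403, 51594, 51679, 27486], 10756),
  ([34944, 10753, 10836, 35029, 27407, 51598, 51675, 27482], 10756),
  ([34944, 10753, 10837, 35028, 27402, 51595, 51679, 27486], 10756),
  ([34944, 10753, 10837, 35028, 27407, 51598, 51674, 27483], 10756),
  ([34944, 10753, 10846, 35039, 27396, 51589, 51674, 27483], 10756),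
  ([34944, 10753, 10846, 35039, 27402, 51595, 51668, 27477], 10756),
  ([34944, 10753, 10847, 35038, 27396, 51589, 51675, 27482], 10756),
  ([34944, 10753, 10847, 35038, 27403, 51594, 51668, 27477], 10756)]

theorem check_nodesM24Swap : (nodesOK fusedM24Swap nodesM24Swap && (elts.contains 10753 && isInv 10753 && !fusedM24Swap 10753 &&
    nodesM24Swap.any (fun T => T.1 == [one, 10753]))) = true := by
  decide +kernel

/-- The closing certificate for the pattern `M24Swap`. -/
theorem closed_empty_M24Swap {M : Type*} [Group M] [Finite M] {z : M} {c : Coding z} (hF : c.Fused fusedM24Swap) :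
    Closing.Model.Closed z (∅ : Set M) := by
  have h := check_nodesM24Swap
  rw [Bool.and_eq_true] at h
  exact Coding.closed_empty_of_nodes hF nodesM24Swap 10753 h.1 h.2

end Cfsg.Agent.TransvCent
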