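import Cfsg.Agent.Lib.TransvCent.AmalgamFused
import Cfsg.Agent.Lib.TransvCent.AmalgamCases
import Cfsg.Agent.Lib.TransvCent.ClosingTwo
import Cfsg.Agent.Lib.TransvCent.ClosingHe

/-
The completions are the whole group.

* `top_L5`, `top_M24`, `top_He` : two sides and a completion give an isomorphism with the target
* `amalgam_top` : an orbit of 21 or 45 points leaves three groups
-/

set_option autoImplicit false

universe u

namespace Cfsg.Agent.TransvCent.Amalgam

/-- The word in `x, y` for `z`. -/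
def zWord : List ℕ := gensWords.getD 12 []

theorem check_zWord : (letPQ zWord && xyW zWord == zc) = true := by decide +kernel

/-- The witnesses of fusion for `SL(5, 2)`. -/
def witL5 : List Wit := [(true, [4, 2, 4], 1), (false, [4, 2, 4], 1), (false, [4], 1), (false, [], 18),
  (true, [4], 34), (false, [4], 34), (false, [4], 18)]

/-- The witnesses of fusion for the Mathieu group. -/
def witM24 : List Wit := [(true, [4, 2, 4], 1), (false, [5, 2, 2, 4], 1), (false, [4], 1), (false, [], 18),
  (true, [4], 34), (false, [4, 2, 4], 1), (false, [4], 18)]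

/-- The witnesses of fusion for the Held group. -/
def witHe : List Wit := [(false, [4, 2, 2, 4], 1), (false, [5, 2, 2, 4], 1), (false, [4], 1), (false, [], 18),
  (true, [4, 2, 4], 1), (false, [4, 2, 4], 1), (false, [4], 18)]

theorem check_wit : (witOK kind21 kind21 fusedL5 witL5 && witOK kind45 kind21 fusedM24Swap witM24 &&
    witOK kind45 kind45 fusedHe witHe) = true := by decide +kernel

theorem map_evW {M N : Type*} [Group M] [Group N] (φ : M →* N) (t : Fin 4 → M) (w : List ℕ) :
    φ (evW t w) = evW (fun i => φ (t i)) w := by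
  rw [evW, evW, map_list_prod, List.map_map]
  refine congrArg List.prod (List.map_congr_left fun a _ => ?_)
  simp only [Function.comp_apply, evL]
  split <;> simp

variable {G : Type u} [Group G] [Finite G] {z : G} {c : Coding z}

/-- Two linked sides with a completion: the target is the whole group. -/
theorem top_of_gen4 {pa qa pb qb : ℕ} {KA KB : Kind} {P : ℕ → Bool} {wit : List Wit}
    {T : Type} [Group T] {t : Fin 4 → T} {rels : List (List ℕ)} (hT : Completes.{u} T t rels)
    (SA : Side c (coord c uA) pa qa KA) (SB : Side c (coord c uB) pb qb KB)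
    (hrel : SatRels rels (gen4 c SA.g SB.g)) (hw : witOK KA KB P wit = true)
    (hclosed : ∀ (M : Type u) [Group M] [Finite M] (zM : M) (e : T ≃* M), e (evW t zWord) = zM →
      ∀ {cM : Coding zM}, cM.Fused P → Closing.Model.Closed zM (∅ : Set M)) :
    Nonempty (G ≃* T) := by
  obtain ⟨φ, hφ, hrange, ht⟩ := hT.2 G _ hrel (gen4_zero_ne c _ _)
  set H := Subgroup.closure (Set.range (gen4 c SA.g SB.g))
  have hC : ∀ a, Commute a z → a ∈ H := fun a ha => mem_closure_gen4 c _ _ ha
  let e : T ≃* H := (MonoidHom.ofInjective hφ).trans (MulEquiv.subgroupCongr hrange)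
  have hz : φ (evW t zWord) = z := by
    have hc := check_zWord
    rw [Bool.and_eq_true, beq_iff_eq] at hc
    have h1 := evW_xy c SA.g SB.g zWord hc.1
    have e1 : (fun i => φ (t i)) = gen4 c SA.g SB.g := funext ht
    rw [map_evW, e1]
    exact c.inj _ _ h1.1 (Commute.refl z) ((h1.2.trans hc.2).trans c.map_z.symm)
  have htop : H = ⊤ := eq_top_of_sides SA SB hC (Subgroup.subset_closure ⟨2, rfl⟩)
    (Subgroup.subset_closure ⟨3, rfl⟩) hw (fun hF => hclosed H _ e (Subtype.ext hz) hF)
  exact ⟨((MulEquiv.subgroupCongr htop).trans Subgroup.topEquiv).symm.trans e.symm⟩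

theorem HeWitness_map {M N : Type*} [Group M] [Group N] (e : M ≃* N) {v : M}
    (h : Coding.HeWitness v) : Coding.HeWitness (e v) := by
  obtain ⟨w, a, b, x, y, hP, hx, hy, oy, ox, hn, hxy⟩ := h
  have hc : ∀ p q : M, IsConj (e p) (e q) ↔ IsConj p q := fun p q => by
    constructor
    · intro h
      obtain ⟨g, hg⟩ := isConj_iff.1 h
      refine isConj_iff.2 ⟨e.symm g, e.injective ?_⟩
      simpa using hg
    · intro h
      obtain ⟨g, hg⟩ := isConj_iff.1 h
      exact isConj_iff.2 ⟨e g, by rw [← hg]; simp⟩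
  have ho : ∀ p : M, orderOf (e p) = orderOf p := fun p => MulEquiv.orderOf_eq e p
  have hfix : ∀ p : M, Closing.Fix ({a, b} : Set M) p → Closing.Fix ({e a, e b} : Set N) (e p) := by
    rintro p hp q (rfl | rfl)
    · rw [← map_mul, ← map_mul, hp a (Or.inl rfl)]
    · rw [← map_mul, ← map_mul, hp b (Or.inr rfl)]
  refine ⟨e w, e a, e b, e x, e y, ⟨(hc _ _).2 hP.hv, (ho a).trans hP.oa, (ho b).trans hP.ob,
    fun k => hP.ne (e.injective k), ?_, ?_, ?_, ?_, ?_, ?_, ?_, ?_, ?_⟩, hfix x hx, hfix y hy,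
    (ho y).trans oy, (ho x).trans ox, ?_, fun k => hxy (e.injective (by simpa using k))⟩
  · rw [← map_mul, ← map_mul, hP.cab]
  · rw [← map_mul, ← map_mul, hP.cva]
  · rw [← map_mul, ← map_mul, hP.cvb]
  · rw [hc]; exact hP.na
  · rw [hc]; exact hP.nb
  · rw [← map_mul, hc]; exact hP.nab
  · rw [← map_mul, hc]; exact hP.nva
  · rw [← map_mul, hc]; exact hP.nvb
  · rw [← map_mul, ← map_mul, hc]; exact hP.nvab
  · obtain ⟨n, hn⟩ := hn
    exact ⟨n, by show e y ^ n = _; rw [← map_zpow, show y ^ n = _ from hn]; simp⟩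

theorem top_L5 (SA : Side c (coord c uA) (compA.getD 0 (0, 0)).1 (compA.getD 0 (0, 0)).2 kind21)
    (SB : Side c (coord c uB) (compB.getD 0 (0, 0)).1 (compB.getD 0 (0, 0)).2 kind21)
    {T : Type} [Group T] {t : Fin 4 → T} (hT : Completes.{u} T t relsL5) : Nonempty (G ≃* T) := by
  have h := check_rels
  have hw := check_wit
  rw [Bool.and_eq_true, Bool.and_eq_true] at h hw
  obtain ⟨S, hS⟩ := exists_gen4 dataL5 h.1.1 SA SB
  exact top_of_gen4 (KA := kind21) (KB := kind21) hT S SB hS hw.1.1
    fun _ _ _ _ _ _ _ hF => closed_empty_L5 hF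

theorem top_M24 (SA : Side c (coord c uA) (compA.getD 0 (0, 0)).1 (compA.getD 0 (0, 0)).2 kind45)
    (SB : Side c (coord c uB) (compB.getD 3 (0, 0)).1 (compB.getD 3 (0, 0)).2 kind21)
    {T : Type} [Group T] {t : Fin 4 → T} (hT : Completes.{u} T t relsM24) : Nonempty (G ≃* T) := by
  have h := check_rels
  have hw := check_wit
  rw [Bool.and_eq_true, Bool.and_eq_true] at h hw
  obtain ⟨S, hS⟩ := exists_gen4 dataM24 h.1.2 SA SB
  exact top_of_gen4 (KA := kind45) (KB := kind21) hT S SB hS hw.1.2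
    fun _ _ _ _ _ _ _ hF => closed_empty_M24Swap hF

theorem top_He (SA : Side c (coord c uA) (compA.getD 3 (0, 0)).1 (compA.getD 3 (0, 0)).2 kind45)
    (SB : Side c (coord c uB) (compB.getD 3 (0, 0)).1 (compB.getD 3 (0, 0)).2 kind45)
    {T : Type} [Group T] {t : Fin 4 → T} (hT : Completes.{u} T t relsHe)
    (hwit : Coding.HeWitness (evW t zWord)) : Nonempty (G ≃* T) := by
  have h := check_rels
  have hw := check_wit
  rw [Bool.and_eq_true, Bool.and_eq_true] at h hw
  obtain ⟨S, hS⟩ := exists_gen4 dataHe h.2 SA SB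
  exact top_of_gen4 (KA := kind45) (KB := kind45) hT S SB hS hw.2
    fun _ _ _ _ e he _ hF => Coding.closed_empty_He hF (he ▸ HeWitness_map e hwit)

/-- **The amalgam, closed.** With an orbit of 21 or 45 points the group is one of three targets. -/
theorem amalgam_top (c : Coding z) {h : Bool} (hO : c.orbit = c.codeSet (uSel true true h))
    {T1 T2 T3 : Type} [Group T1] [Group T2] [Group T3] {t1 : Fin 4 → T1} {t2 : Fin 4 → T2} {t3 : Fin 4 → T3}
    (h1 : Completes.{u} T1 t1 relsL5) (h2 : Completes.{u} T2 t2 relsM24) (h3 : Completes.{u} T3 t3 relsHe)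
    (hwit : Coding.HeWitness (evW t3 zWord)) :
    Nonempty (G ≃* T1) ∨ Nonempty (G ≃* T2) ∨ Nonempty (G ≃* T3) := by
  obtain ⟨h', hO2, ⟨SA⟩, ⟨SB⟩⟩ := two_sides c hO
  cases h <;> cases h'
  · exact Or.inl (top_L5 SA SB h1)
  · obtain ⟨k, -, ⟨TA⟩, ⟨TB⟩⟩ := two_sides (frame2 c) hO2
    cases k
    · exact Or.inr (Or.inl (top_M24 TA TB h2))
    · exact Or.inr (Or.inr (top_He TA TB h3 hwit))
  · exact Or.inr (Or.inl (top_M24 SA SB h2))
  · exact Or.inr (Or.inr (top_He SA SB h3 hwit))

end Cfsg.Agent.TransvCent.Amalgam
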