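import Cfsg.Agent.Lib.TransvCent.Check
import Mathlib.GroupTheory.OrderOfElement
import Mathlib.Data.Set.Card
import Mathlib.GroupTheory.Subgroup.Centralizer

/-
A group element whose centraliser is coded by the codes of the transvection centraliser.

* `Coding z` : such a coding
* `Coding.of_iso` : a coding moves along an isomorphism of centralisers
* `Coding.ncard_eq` : counting in the centraliser
-/

set_option autoImplicit false

namespace Cfsg.Agent.TransvCent

theorem incr_pairwise : ∀ {l : List ℕ}, incr l = true → l.Pairwise (· < ·) := by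
  intro l
  induction l with
  | nil => exact fun _ => List.Pairwise.nil
  | cons a l ih =>
    intro h
    match l, ih, h with
    | [], _, _ => exact List.pairwise_singleton _ a
    | b :: l, ih, h =>
      rw [incr, Bool.and_eq_true] at h
      have hp := ih h.2
      refine List.pairwise_cons.2 ⟨fun c hc => ?_, hp⟩
      have hab : a < b := Nat.ble_eq.mp h.1
      rcases List.mem_cons.1 hc with rfl | hc
      · exact hab
      · exact lt_trans hab ((List.pairwise_cons.1 hp).1 c hc)

theorem nodup_elts : elts.Nodup := (incr_pairwise check_incr).imp fun h => Nat.ne_of_lt h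

theorem idem_elts {d : ℕ} (hd : d ∈ elts) (h : mul d d = d) : d = one := by
  have := List.all_eq_true.1 check_one d hd
  simpa [h] using this

/-- A coding of the centraliser of `z`. -/
structure Coding {G : Type*} [Group G] (z : G) where
  f : G → ℕ
  mem : ∀ a, Commute a z → f a ∈ elts
  map_mul : ∀ a b, Commute a z → Commute b z → f (a * b) = mul (f a) (f b)
  inj : ∀ a b, Commute a z → Commute b z → f a = f b → a = b
  surj : ∀ d ∈ elts, ∃ a, Commute a z ∧ f a = d
  map_z : f z = zc

namespace Coding

variable {G : Type*} [Group G] {z : G}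

theorem map_one (c : Coding z) : c.f 1 = one := by
  have h := c.map_mul 1 1 (Commute.one_left z) (Commute.one_left z)
  rw [one_mul] at h
  exact idem_elts (c.mem 1 (Commute.one_left z)) h.symm

theorem eq_iff (c : Coding z) {a b : G} (ha : Commute a z) (hb : Commute b z) :
    c.f a = c.f b ↔ a = b := ⟨c.inj a b ha hb, fun h => h ▸ rfl⟩

theorem comm_iff (c : Coding z) {a b : G} (ha : Commute a z) (hb : Commute b z) :
    comm (c.f a) (c.f b) = true ↔ Commute a b := by
  rw [comm, beq_iff_eq, ← c.map_mul a b ha hb, ← c.map_mul b a hb ha,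
    c.eq_iff (ha.mul_left hb) (hb.mul_left ha)]
  rfl

theorem sq_eq_iff (c : Coding z) {a b : G} (ha : Commute a z) (hb : Commute b z) :
    (mul (c.f a) (c.f a) == c.f b) = true ↔ a * a = b := by
  rw [beq_iff_eq, ← c.map_mul a a ha ha, c.eq_iff (ha.mul_left ha) hb]

theorem isInv_iff (c : Coding z) {a : G} (ha : Commute a z) :
    isInv (c.f a) = true ↔ orderOf a = 2 := by
  rw [orderOf_eq_prime_iff, pow_two, isInv, Bool.and_eq_true, ← c.map_one,
    c.sq_eq_iff ha (Commute.one_left z), bne_iff_ne, Ne, c.eq_iff ha (Commute.one_left z)]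

theorem ncard_eq (c : Coding z) (P : G → Prop) (Q : ℕ → Bool)
    (h : ∀ a, Commute a z → (P a ↔ Q (c.f a) = true)) :
    {a | Commute a z ∧ P a}.ncard = elts.countP Q := by
  rw [List.countP_eq_length_filter, ← List.toFinset_card_of_nodup (nodup_elts.filter Q),
    ← Set.ncard_coe_finset]
  refine Set.ncard_congr (fun a _ => c.f a) ?_ ?_ ?_
  · intro a ha
    simp only [List.coe_toFinset, Set.mem_ofPred_eq, List.mem_filter]
    exact ⟨c.mem a ha.1, (h a ha.1).1 ha.2⟩
  · exact fun a b ha hb e => c.inj a b ha.1 hb.1 e
  · intro d hd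
    simp only [List.coe_toFinset, Set.mem_ofPred_eq, List.mem_filter] at hd
    obtain ⟨a, ha, rfl⟩ := c.surj d hd.1
    exact ⟨a, ⟨ha, (h a ha).2 hd.2⟩, rfl⟩

/-- A coding moves along an isomorphism of the centralisers of two involutions. -/
theorem of_iso {H : Type*} [Group H] {u : H} (c : Coding u) {t : G} (ht : orderOf t = 2)
    (e : ↥(Subgroup.centralizer ({t} : Set G)) ≃* ↥(Subgroup.centralizer ({u} : Set H))) :
    Nonempty (Coding t) := by
  classical
  have hin : ∀ {a : G}, Commute a t → a ∈ Subgroup.centralizer ({t} : Set G) := fun ha =>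
    Subgroup.mem_centralizer_singleton_iff.2 ha
  have hu : ∀ x : ↥(Subgroup.centralizer ({u} : Set H)), Commute (x : H) u := fun x =>
    Subgroup.mem_centralizer_singleton_iff.1 x.2
  let f : G → ℕ := fun a => if h : Commute a t then c.f (e ⟨a, hin h⟩ : H) else 0
  have hf : ∀ a (h : Commute a t), f a = c.f (e ⟨a, hin h⟩ : H) := fun a h => dif_pos h
  have hmem : ∀ a, Commute a t → f a ∈ elts := fun a h => by
    rw [hf a h]; exact c.mem _ (hu _)
  have hmul : ∀ a b, Commute a t → Commute b t → f (a * b) = mul (f a) (f b) := by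
    intro a b ha hb
    rw [hf a ha, hf b hb, hf _ (ha.mul_left hb), ← c.map_mul _ _ (hu _) (hu _), ← Subgroup.coe_mul,
      ← _root_.map_mul e]
    rfl
  have hinj : ∀ a b, Commute a t → Commute b t → f a = f b → a = b := by
    intro a b ha hb h
    rw [hf a ha, hf b hb] at h
    exact congrArg Subtype.val (e.injective (Subtype.ext (c.inj _ _ (hu _) (hu _) h)))
  have hsurj : ∀ d ∈ elts, ∃ a, Commute a t ∧ f a = d := by
    intro d hd
    obtain ⟨x, hx, rfl⟩ := c.surj d hd
    set y := e.symm ⟨x, Subgroup.mem_centralizer_singleton_iff.2 hx⟩ with hy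
    have hyt : Commute (y : G) t := Subgroup.mem_centralizer_singleton_iff.1 y.2
    refine ⟨y, hyt, ?_⟩
    rw [hf _ hyt]
    simp [hy]
  refine ⟨⟨f, hmem, hmul, hinj, hsurj, ?_⟩⟩
  have h1 : f 1 = one := by
    have h := hmul 1 1 (Commute.one_left t) (Commute.one_left t)
    rw [one_mul] at h
    exact idem_elts (hmem 1 (Commute.one_left t)) h.symm
  have hall : (gens.all fun g => comm (f t) g) = true := by
    refine List.all_eq_true.2 fun d hd => ?_
    have hd' : d ∈ elts := by
      have := List.all_eq_true.1 check_gens d hd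
      rw [Bool.and_eq_true, List.contains_iff_mem] at this
      exact this.1
    obtain ⟨a, ha, rfl⟩ := hsurj d hd'
    rw [comm, beq_iff_eq, ← hmul _ _ (Commute.refl t) ha, ← hmul _ _ ha (Commute.refl t), ha.eq]
  have hc := List.all_eq_true.1 check_centre (f t) (hmem t (Commute.refl t))
  rw [hall] at hc
  simp only [Bool.not_true, Bool.false_or, Bool.or_eq_true, beq_iff_eq] at hc
  refine hc.resolve_left fun hid => ?_
  have := hinj t 1 (Commute.refl t) (Commute.one_left t) (hid.trans h1.symm)
  rw [this, orderOf_one] at ht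
  omega

end Coding

end Cfsg.Agent.TransvCent
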