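import Cfsg.Agent.Lib.TransvCent.RecogComplement
import Cfsg.Agent.Lib.TransvCent.Coding

/-!
# Recognition of the coded centraliser

* `coding_of_split` : a recognition setting with a fused elementary half and no other fused element of `Q`
  gives a coding
* `coding_of_setting` : a recognition setting with fused marked elements gives a coding
* `coding_of_count` : an involution whose centraliser is an extraspecial group of order `2^7` by
  `SL(3,2)`, with 29 fused elements in it, has a coded centraliser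
-/

set_option autoImplicit false
set_option linter.style.haveILetI false
open scoped commutatorElement

namespace Cfsg.Agent.TransvCent

theorem fields_pack {c u f r0 r1 r2 : ℕ} (hc : c < 2) (hu : u < 8) (hf : f < 8) (h0 : r0 < 8) (h1 : r1 < 8)
    (h2 : r2 < 8) :
    pack c u f r0 r1 r2 &&& 1 = c ∧ fld (pack c u f r0 r1 r2) 1 = u ∧
      fld (pack c u f r0 r1 r2) 4 = f ∧ fld (pack c u f r0 r1 r2) 7 = r0 ∧
      fld (pack c u f r0 r1 r2) 10 = r1 ∧ fld (pack c u f r0 r1 r2) 13 = r2 := by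
  have h7 : ∀ d k : ℕ, fld d k = d / 2 ^ k % 2 ^ 3 := fun d k => by
    rw [fld, Nat.shiftRight_eq_div_pow, show (7 : ℕ) = 2 ^ 3 - 1 from rfl,
      Nat.and_two_pow_sub_one_eq_mod]
  simp only [h7, Nat.and_one_is_mod, pack]
  omega

theorem mem_elts_pack {d : ℕ} (hd : d ∈ elts) : ∃ c u f r0 r1 r2, c < 2 ∧ u < 8 ∧ f < 8 ∧ r0 < 8 ∧ r1 < 8 ∧
    r2 < 8 ∧ pack 0 0 0 r0 r1 r2 ∈ levi ∧ d = pack c u f r0 r1 r2 := by
  simp only [elts, List.mem_flatMap, List.mem_map, List.mem_range] at hd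
  obtain ⟨m, hm, q, hq, rfl⟩ := hd
  obtain ⟨r0, r1, r2, h0, h1, h2, rfl⟩ := mem_levi hm
  exact ⟨q % 2, q / 2 % 8, q / 16, r0, r1, r2, by omega, by omega, by omega, h0, h1, h2, hm,
    by simp only [pack]; omega⟩

theorem pack_mem_elts {c u f r0 r1 r2 : ℕ} (hc : c < 2) (hu : u < 8) (hf : f < 8)
    (hm : pack 0 0 0 r0 r1 r2 ∈ levi) : pack c u f r0 r1 r2 ∈ elts := by
  simp only [elts, List.mem_flatMap, List.mem_map, List.mem_range]
  exact ⟨_, hm, c + 2 * u + 16 * f, by omega, by simp only [pack]; omega⟩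

namespace RecogSetting

variable {C : Type*} [Group C] {D : RecogSetting C}

theorem z_pow_xor {a b : ℕ} (ha : a < 2) (hb : b < 2) : D.z ^ (a ^^^ b) = D.z ^ a * D.z ^ b := by
  interval_cases a <;> interval_cases b <;> simp [D.z_sq]

theorem z_pow_comm (n : ℕ) (g : C) : g * D.z ^ n = D.z ^ n * g :=
  D.Zs_comm (pow_mem D.z_mem_Zs n) g

/-- A recognition setting with one fused elementary half gives a coding. -/
theorem coding_of_split [Finite C] (D : RecogSetting C) (P : D.Split) {G : Type*} [Group G] (ι : C →* G)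
    (hι : Function.Injective ι) (hcent : ∀ g : G, g * ι D.z = ι D.z * g → ∃ c, ι c = g)
    (hS : ∀ a ∈ P.E, a ∉ D.Zs → IsConj (ι a) (ι D.z))
    (hfull : ∀ x ∈ D.Q, IsConj (ι x) (ι D.z) → x ≠ D.z → x ∈ D.S) : Nonempty (Coding (ι D.z)) := by
  classical
  obtain ⟨Fr⟩ := exists_frame P
  obtain ⟨K, hKT, hKone, hKQ, hKsurj⟩ := Fr.exists_complement ι hι hcent hS hfull
  choose kf hkf hkρ using hKsurj
  have huniq : ∀ {a b : C}, a ∈ K → b ∈ K → Fr.rho a = Fr.rho b → a = b := fun ha hb e =>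
    inv_mul_eq_one.1 (hKone _ (mul_mem (inv_mem ha) hb) (Fr.rho_eq_iff e))
  let kM : ℕ → C := fun d => if h : d ∈ levi then kf d h else 1
  have hkM : ∀ {d}, d ∈ levi → kM d ∈ K ∧ Fr.rho (kM d) = d := fun {d} h => by
    simp only [kM, dif_pos h]; exact ⟨hkf d h, hkρ d h⟩
  let Φ : ℕ → C := fun d => D.z ^ (d &&& 1) * Fr.W (fld d 4) *
    kM (pack 0 0 0 (fld d 7) (fld d 10) (fld d 13)) * Fr.U (fld d 1)
  have hΦ : ∀ {c u f r0 r1 r2}, c < 2 → u < 8 → f < 8 → r0 < 8 → r1 < 8 → r2 < 8 →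
      Φ (pack c u f r0 r1 r2) = D.z ^ c * Fr.W f * kM (pack 0 0 0 r0 r1 r2) * Fr.U u := by
    intro c u f r0 r1 r2 hc hu hf h0 h1 h2
    obtain ⟨e0, e1, e2, e3, e4, e5⟩ := fields_pack hc hu hf h0 h1 h2
    simp only [Φ, e0, e1, e2, e3, e4, e5]
  have hmul : ∀ d ∈ elts, ∀ e ∈ elts, mul d e ∈ elts ∧ Φ (mul d e) = Φ d * Φ e := by
    intro d hd e he
    obtain ⟨c, u, f, r0, r1, r2, hc, hu, hf, h0, h1, h2, hm, rfl⟩ := mem_elts_pack hd
    obtain ⟨c', u', f', s0, s1, s2, hc', hu', hf', g0, g1, g2, hn, rfl⟩ := mem_elts_pack he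
    obtain ⟨hka, hra⟩ := hkM hm
    obtain ⟨hkb, hrb⟩ := hkM hn
    set ka := kM (pack 0 0 0 r0 r1 r2)
    set kb := kM (pack 0 0 0 s0 s1 s2)
    have hab : Fr.rho (ka * kb) = pack 0 0 0 (sel r0 s0 s1 s2) (sel r1 s0 s1 s2) (sel r2 s0 s1 s2) := by
      rw [Fr.rho_mul, hra, hrb, mul_pack h0 h1 h2 g0 g1 g2]
    have hl : pack 0 0 0 (sel r0 s0 s1 s2) (sel r1 s0 s1 s2) (sel r2 s0 s1 s2) ∈ levi :=
      hab ▸ Fr.rho_mem _
    have hkab : kM (pack 0 0 0 (sel r0 s0 s1 s2) (sel r1 s0 s1 s2) (sel r2 s0 s1 s2)) = ka * kb :=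
      huniq (hkM hl).1 (mul_mem hka hkb) (by rw [(hkM hl).2, hab])
    obtain ⟨e0, e1, e2, e3, e4, e5⟩ := fields_pack hc hu hf h0 h1 h2
    obtain ⟨b0, b1, b2, b3, b4, b5⟩ := fields_pack hc' hu' hf' g0 g1 g2
    have hem : mul (pack c u f r0 r1 r2) (pack c' u' f' s0 s1 s2) =
        pack ((c ^^^ c') ^^^ par (u &&& f')) (u' ^^^ sel u s0 s1 s2) (f ^^^ wmap r0 r1 r2 f')
          (sel r0 s0 s1 s2) (sel r1 s0 s1 s2) (sel r2 s0 s1 s2) := by
      simp only [mul, wmap, e0, e1, e2, e3, e4, e5, b0, b1, b2, b3, b4, b5]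
    have hcc : c ^^^ c' < 2 := by simpa using Nat.xor_lt_two_pow (n := 1) hc hc'
    have hC : (c ^^^ c') ^^^ par (u &&& f') < 2 := by
      simpa using Nat.xor_lt_two_pow (n := 1) hcc (par_lt_two _)
    have hs := sel_lt (r := u) g0 g1 g2
    have hU := xor_lt_eight hu' hs
    have hF := xor_lt_eight hf (wmap_lt r0 r1 r2 f')
    rw [hem]
    refine ⟨pack_mem_elts hC hU hF hl, ?_⟩
    rw [hΦ hc hu hf h0 h1 h2, hΦ hc' hu' hf' g0 g1 g2,
      hΦ hC hU hF (sel_lt g0 g1 g2) (sel_lt g0 g1 g2) (sel_lt g0 g1 g2), hkab, z_pow_xor hcc (par_lt_two _),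
      z_pow_xor hc hc', Nat.xor_comm u', Fr.U_xor, Fr.W_xor]
    -- moving the coordinates past the Levi parts
    have hUW : Fr.U u * Fr.W f' = D.z ^ par (u &&& f') * (Fr.W f' * Fr.U u) := by
      rw [← Fr.pair u hu f' hf', commutatorElement_def]; group
    obtain ⟨a0, a1, a2⟩ := pack_inj_rows (Fr.ur_lt ka 1) (Fr.ur_lt ka 2) (Fr.ur_lt ka 4) h0 h1 h2 hra
    have hkW : ka * Fr.W f' = Fr.W (wmap r0 r1 r2 f') * ka := by
      have h := Fr.stab_W (hKT hka) hf'
      rw [a0, a1, a2] at h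
      exact mul_inv_eq_iff_eq_mul.1 h
    obtain ⟨q0, q1, q2⟩ := pack_inj_rows (Fr.ur_lt kb 1) (Fr.ur_lt kb 2) (Fr.ur_lt kb 4) g0 g1 g2 hrb
    have hUk : Fr.U u * kb = kb * Fr.U (sel u s0 s1 s2) := by
      have h := Fr.stab_U (hKT hkb) hu
      rw [Fr.ur_sel kb hu, q0, q1, q2] at h
      rw [← h]; simp only [cj]; group
    symm
    calc D.z ^ c * Fr.W f * ka * Fr.U u * (D.z ^ c' * Fr.W f' * kb * Fr.U u')
        = D.z ^ c * (Fr.W f * ka * Fr.U u * D.z ^ c') * Fr.W f' * kb * Fr.U u' := by group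
      _ = D.z ^ c * D.z ^ c' * Fr.W f * ka * (Fr.U u * Fr.W f') * kb * Fr.U u' := by
          rw [z_pow_comm c' (Fr.W f * ka * Fr.U u)]; group
      _ = D.z ^ c * D.z ^ c' * (Fr.W f * ka * D.z ^ par (u &&& f')) * (Fr.W f' * Fr.U u) * kb * Fr.U u' := by
          rw [hUW]; group
      _ = D.z ^ c * D.z ^ c' * D.z ^ par (u &&& f') * Fr.W f * (ka * Fr.W f') * (Fr.U u * kb) * Fr.U u' := by
          rw [z_pow_comm (par (u &&& f')) (Fr.W f * ka)]; group
      _ = _ := by rw [hkW, hUk]; group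
  have hsurj : ∀ g : C, ∃ d ∈ elts, Φ d = g := by
    intro g
    obtain ⟨q, hq, k, hk, rfl⟩ := hKQ g
    obtain ⟨a, u, f, ha, hu, hf, rfl⟩ := Fr.decomp q hq
    have hl := Fr.rho_mem k
    refine ⟨pack a (Fr.ur k u) f (Fr.ur k 1) (Fr.ur k 2) (Fr.ur k 4),
      pack_mem_elts ha (Fr.ur_lt _ _) hf hl, ?_⟩
    rw [hΦ ha (Fr.ur_lt _ _) hf (Fr.ur_lt _ _) (Fr.ur_lt _ _) (Fr.ur_lt _ _),
      (huniq (hkM hl).1 hk (hkM hl).2 : kM (pack 0 0 0 (Fr.ur k 1) (Fr.ur k 2) (Fr.ur k 4)) = k),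
      ← Fr.stab_U (hKT hk) hu]
    simp only [cj]
    group
  have hinj : ∀ a ∈ elts, ∀ b ∈ elts, Φ a = Φ b → a = b := by
    haveI := Fintype.ofFinite C
    have hcard : Fintype.card C = 21504 := by
      haveI := D.normal
      obtain ⟨i⟩ := D.iso
      rw [← Nat.card_eq_fintype_card, Subgroup.card_eq_card_quotient_mul_card_subgroup D.Q, D.cardQ,
        Nat.card_congr i.toEquiv, natCard_recogSL32]
    have hle : elts.toFinset.card ≤ (elts.toFinset.image Φ).card := by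
      have heq : elts.toFinset.image Φ = Finset.univ := Finset.eq_univ_of_forall fun g => by
        obtain ⟨d, hd, e⟩ := hsurj g
        exact Finset.mem_image.2 ⟨d, List.mem_toFinset.2 hd, e⟩
      rw [heq, Finset.card_univ, hcard, ← check_elts.1]
      exact List.toFinset_card_le _
    have hinj' := Finset.injOn_of_card_image_eq (le_antisymm Finset.card_image_le hle)
    intro a ha b hb e
    exact hinj' (List.mem_toFinset.2 ha) (List.mem_toFinset.2 hb) e
  choose ψ hψ hΦψ using hsurj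
  choose pre hpre using hcent
  let f : G → ℕ := fun g => if h : g * ι D.z = ι D.z * g then ψ (pre g h) else 0
  have hf : ∀ x : C, f (ι x) = ψ x := fun x => by
    have h : ι x * ι D.z = ι D.z * ι x := by rw [← map_mul, D.z_comm, map_mul]
    simp only [f, dif_pos h]
    rw [hι (hpre _ h)]
  have hin : ∀ {g : G}, Commute g (ι D.z) → ∃ x, ι x = g := fun {g} h => ⟨pre g h, hpre g h⟩
  have hψeq : ∀ {x : C} {d}, d ∈ elts → Φ d = x → ψ x = d := fun {x d} hd e =>
    hinj _ (hψ x) _ hd ((hΦψ x).trans e.symm)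
  refine ⟨⟨f, fun g hg => ?_, fun a b ha hb => ?_, fun a b ha hb h => ?_, fun d hd => ?_, ?_⟩⟩
  · obtain ⟨x, rfl⟩ := hin hg
    rw [hf]; exact hψ x
  · obtain ⟨x, rfl⟩ := hin ha
    obtain ⟨y, rfl⟩ := hin hb
    rw [← map_mul, hf, hf, hf]
    obtain ⟨h1, h2⟩ := hmul _ (hψ x) _ (hψ y)
    exact hψeq h1 (by rw [h2, hΦψ, hΦψ])
  · obtain ⟨x, rfl⟩ := hin ha
    obtain ⟨y, rfl⟩ := hin hb
    rw [hf, hf] at h
    rw [← hΦψ x, ← hΦψ y, h]
  · refine ⟨ι (Φ d), ?_, ?_⟩
    · show ι (Φ d) * ι D.z = ι D.z * ι (Φ d)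
      rw [← map_mul, D.z_comm, map_mul]
    · rw [hf]; exact hψeq hd rfl
  · rw [hf]
    refine hψeq check_elts.2.2.1 ?_
    have hone : pack 0 0 0 1 2 4 ∈ levi := mem_levi_of_rows (by norm_num) (by norm_num) (by norm_num)
      (by norm_num) (by norm_num) (by norm_num) (by norm_num) (by norm_num) (by norm_num) (by decide)
    rw [zc, hΦ (by norm_num) (by norm_num) (by norm_num) (by norm_num) (by norm_num) (by norm_num),
      pow_one, Fr.W_zero, Fr.U_zero, hKone _ (hkM hone).1 ((hkM hone).2.trans rfl), mul_one, mul_one,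
      mul_one]

/-- A recognition setting with fused marked elements gives a coding. -/
theorem coding_of_setting [Finite C] (D : RecogSetting C) {G : Type*} [Group G] (ι : C →* G)
    (hι : Function.Injective ι) (hcent : ∀ g : G, g * ι D.z = ι D.z * g → ∃ c, ι c = g)
    (hS : ∀ a ∈ D.S, IsConj (ι a) (ι D.z))
    (hfull : ∀ x ∈ D.Q, IsConj (ι x) (ι D.z) → x ≠ D.z → x ∈ D.S) : Nonempty (Coding (ι D.z)) := by
  obtain ⟨P⟩ := D.exists_split
  exact coding_of_split D P ι hι hcent (fun a ha hn => hS a (P.E_S a ha hn)) hfull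

end RecogSetting

/-- An involution `z` with centraliser an extraspecial group of order `2^7` by `SL(3,2)` in which `z`
has 29 conjugates has a coded centraliser. -/
theorem coding_of_count {G : Type*} [Group G] [Finite G] {z : G} (hz : orderOf z = 2)
    (Q : Subgroup ↥(Subgroup.centralizer ({z} : Set G))) [Q.Normal] (hQ : Cfsg.IsExtraspecial 2 Q)
    (hcard : Nat.card Q = 2 ^ 7)
    (hself : Subgroup.centralizer (Q : Set ↥(Subgroup.centralizer ({z} : Set G))) ≤ Q)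
    (e : ↥(Subgroup.centralizer ({z} : Set G)) ⧸ Q ≃* Matrix.SpecialLinearGroup (Fin 3) (ZMod 2))
    (h29 : {x : ↥(Subgroup.centralizer ({z} : Set G)) | x ∈ Q ∧ IsConj z (x : G)}.ncard = 29) :
    Nonempty (Coding z) := by
  classical
  let zC : ↥(Subgroup.centralizer ({z} : Set G)) := ⟨z, Subgroup.mem_centralizer_singleton_iff.2 rfl⟩
  have hz2 : z * z = 1 := by rw [← pow_two, ← hz]; exact pow_orderOf_eq_one z
  have hz1 : z ≠ 1 := fun h => by rw [h, orderOf_one] at hz; omega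
  have hzsq : zC * zC = 1 := Subtype.ext hz2
  have hzne : zC ≠ 1 := fun h => hz1 (congrArg Subtype.val h)
  have hzcomm : ∀ g : ↥(Subgroup.centralizer ({z} : Set G)), g * zC = zC * g := fun g =>
    Subtype.ext (Subgroup.mem_centralizer_singleton_iff.1 g.2)
  have hzQ : zC ∈ Q := hself (Subgroup.mem_centralizer_iff.2 fun q _ => hzcomm q)
  let S : Set ↥(Subgroup.centralizer ({z} : Set G)) := {x | (x ∈ Q ∧ IsConj z (x : G)) ∧ x ≠ zC}
  have hconj2 : ∀ {x : ↥(Subgroup.centralizer ({z} : Set G))}, IsConj z (x : G) → x * x = 1 ∧ x ≠ 1 := fun {x} h => by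
    obtain ⟨c, hc⟩ := isConj_iff.1 h
    refine ⟨Subtype.ext ?_, fun e => hz1 ?_⟩
    · show (x : G) * x = 1
      rw [← hc, show c * z * c⁻¹ * (c * z * c⁻¹) = c * (z * z) * c⁻¹ by group, hz2, mul_one, mul_inv_cancel]
    · rw [e] at hc
      exact conj_eq_one_iff.1 hc
  have hScard : S.ncard = 28 := by
    have he : S = {x : ↥(Subgroup.centralizer ({z} : Set G)) | x ∈ Q ∧ IsConj z (x : G)} \ {zC} := by
      ext x; simp [S]
    rw [he, Set.ncard_sdiff_singleton_of_mem, h29]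
    exact ⟨hzQ, IsConj.refl _⟩
  let D : RecogSetting ↥(Subgroup.centralizer ({z} : Set G)) :=
    { z := zC
      Q := Q
      normal := inferInstance
      z_mem := hzQ
      z_sq := hzsq
      z_ne := hzne
      z_comm := hzcomm
      cardQ := hcard.trans (by norm_num)
      ext := hQ
      self_cent := fun g h => hself (Subgroup.mem_centralizer_iff.2 fun q hq => (h q hq).symm)
      iso := ⟨e⟩
      S := S
      S_mem := fun a ha => ⟨ha.1.1, (hconj2 ha.1.2).1, (hconj2 ha.1.2).2, ha.2⟩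
      S_conj := fun g a ha => ⟨⟨‹Q.Normal›.conj_mem a ha.1.1 g,
        ha.1.2.trans (isConj_iff.2 ⟨(g : G), rfl⟩)⟩, fun h => ha.2 (by
          have h2 : g * a * g⁻¹ = g * zC * g⁻¹ := by rw [h, hzcomm, mul_inv_cancel_right]
          exact mul_left_cancel (mul_right_cancel h2))⟩
      S_card := hScard }
  exact RecogSetting.coding_of_setting D (Subgroup.centralizer ({z} : Set G)).subtype (Subgroup.subtype_injective _)
    (fun g hg => ⟨⟨g, Subgroup.mem_centralizer_singleton_iff.2 hg⟩, rfl⟩)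
    (fun a ha => ha.1.2.symm) (fun x hx hxc hne => ⟨⟨hx, hxc.symm⟩, hne⟩)

end Cfsg.Agent.TransvCent
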