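import Cfsg.Agent.Lib.TransvCent.Model
import Cfsg.Agent.Lib.TransvCent.Fusion
import Cfsg.Agent.Lib.Cores.Basic

/-
Generators and the radical of a coded centraliser.

* `Coding.mem_closure` : the centraliser is generated by the elements coded in `gens ++ [zc]`
* `Coding.radical_le_pCore` : the elements with codes in `radCodes` lie in `O₂` of the centraliser
-/

set_option autoImplicit false

namespace Cfsg.Agent.TransvCent

/-- The code lies in the radical `2^(1+6)`: its Levi part is trivial. -/
def isRad (d : ℕ) : Bool := Nat.beq (d / 128) 273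

/-- The codes of the radical `2^(1+6)`. -/
def radCodes : List ℕ := (List.range 128).map fun q => one + q

theorem mem_radCodes {d : ℕ} (h : isRad d = true) : d ∈ radCodes := by
  have h' : d / 128 = 273 := Nat.eq_of_beq_eq_true h
  have h1 : one = 34944 := by decide
  exact List.mem_map.2 ⟨d % 128, List.mem_range.2 (Nat.mod_lt _ (by norm_num)), by omega⟩

theorem check_radCodes :
    (radCodes.all fun q => radCodes.all fun r => isRad (mul q r)) = true := by
  decide +kernel

theorem check_rad_pow :
    (radCodes.all fun q => mul q (mul q (mul q q)) == one) = true := by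
  decide +kernel

theorem check_rad_conj :
    ((gens ++ [zc]).all fun g => radCodes.all fun q => isRad (mul g (mul q g))) = true := by
  decide +kernel

theorem check_gen_zc : ((gens ++ [zc]).all fun g => mul g g == one) = true ∧ isRad one = true := by
  decide +kernel

theorem gen_mem_elts {g : ℕ} (hg : g ∈ gens ++ [zc]) : g ∈ elts := by
  rcases List.mem_append.1 hg with h | h
  · have := List.all_eq_true.1 check_gens g h
    rw [Bool.and_eq_true, List.contains_iff_mem] at this
    exact this.1
  · rw [List.mem_singleton.1 h]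
    exact check_elts.2.2.1

theorem check_rad_AB :
    ((members repA chainA).all isRad) = true ∧ ((members repB chainB).all isRad) = true := by
  decide +kernel

namespace Coding

variable {G : Type*} [Group G] {z : G}

/-- The elements coded by the generators. -/
def genSet (c : Coding z) : Set G := {g | Commute g z ∧ c.f g ∈ gens ++ [zc]}

theorem exists_of_grown (c : Coding z) : ∀ L : List (ℕ × ℕ × ℕ), grown (gens ++ [zc]) L = true →
    ∀ d ∈ one :: L.map Prod.fst,
      ∃ a, a ∈ Subgroup.closure c.genSet ∧ Commute a z ∧ c.f a = d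
  | [], _ => fun d hd =>
    ⟨1, one_mem _, Commute.one_left z, c.map_one.trans (List.mem_singleton.1 hd).symm⟩
  | (x, p, k) :: rest, h => by
    simp only [grown, Bool.and_eq_true, Bool.or_eq_true, beq_iff_eq, List.contains_iff_mem] at h
    obtain ⟨⟨hx, hp⟩, hrest⟩ := h
    intro d hd
    simp only [List.map_cons, List.mem_cons] at hd
    rcases hd with hd | hd | hd
    · exact c.exists_of_grown rest hrest d (hd ▸ List.mem_cons_self)
    swap
    · exact c.exists_of_grown rest hrest d (List.mem_cons_of_mem _ hd)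
    obtain ⟨a, ha, haz, hac⟩ := c.exists_of_grown rest hrest p (List.mem_cons.2 hp)
    split at hx
    next g hk =>
      have hg : g ∈ gens ++ [zc] := List.mem_of_getElem? hk
      obtain ⟨b, hb, rfl⟩ := c.surj g (gen_mem_elts hg)
      exact ⟨a * b, mul_mem ha (Subgroup.subset_closure ⟨hb, hg⟩), haz.mul_left hb,
        by rw [c.map_mul _ _ haz hb, hac, hd, beq_iff_eq.1 hx]⟩
    next => exact Bool.noConfusion hx

/-- The centraliser is generated by the elements coded in `gens ++ [zc]`. -/
theorem mem_closure (c : Coding z) {x : G} (hx : Commute x z) : x ∈ Subgroup.closure c.genSet := by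
  obtain ⟨m, hm, hd⟩ := List.mem_flatMap.1 (c.mem x hx)
  obtain ⟨q, hq, he'⟩ := List.mem_map.1 hd
  have he := List.all_eq_true.1 (List.all_eq_true.1 check_decomp m hm) q hq
  rw [beq_iff_eq] at he
  rw [List.mem_range] at hq
  have hl := List.all_eq_true.1 check_tree_levi m hm
  have hv := List.all_eq_true.1 check_tree_q (q / 2 % 8) (List.mem_range.2 (by omega))
  have hf := List.all_eq_true.1 check_tree_q (q / 16) (List.mem_range.2 (by omega))
  simp only [Bool.and_eq_true] at hv hf
  have hf' := List.all_eq_true.1 hf.2 (q % 2) (List.mem_range.2 (by omega))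
  simp only [List.contains_iff_mem] at hl hv hf'
  obtain ⟨a, ha, haz, hac⟩ := c.exists_of_grown tree check_tree _ hf'
  obtain ⟨b, hb, hbz, hbc⟩ := c.exists_of_grown tree check_tree _ hl
  obtain ⟨w, hw, hwz, hwc⟩ := c.exists_of_grown tree check_tree _ hv.1
  have hxe : x = a * (b * w) := c.inj _ _ hx (haz.mul_left (hbz.mul_left hwz)) (by
    rw [c.map_mul _ _ haz (hbz.mul_left hwz), c.map_mul _ _ hbz hwz, hac, hbc, hwc, ← he', he])
  rw [hxe]
  exact mul_mem ha (mul_mem hb hw)

/-- The elements coded in the radical. -/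
def radSet (c : Coding z) : Set G := {a | Commute a z ∧ c.f a ∈ radCodes}

theorem radSet_mul (c : Coding z) {a b : G} (ha : a ∈ c.radSet) (hb : b ∈ c.radSet) :
    a * b ∈ c.radSet := by
  have h := mem_radCodes (List.all_eq_true.1 (List.all_eq_true.1 check_radCodes _ ha.2) _ hb.2)
  exact ⟨ha.1.mul_left hb.1, by rw [c.map_mul _ _ ha.1 hb.1]; exact h⟩

theorem radSet_pow_four (c : Coding z) {a : G} (ha : a ∈ c.radSet) : a * (a * (a * a)) = 1 := by
  obtain ⟨hz, hm⟩ := ha
  have h := List.all_eq_true.1 check_rad_pow _ hm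
  rw [beq_iff_eq] at h
  have h2 := hz.mul_left hz
  exact (c.eq_iff (hz.mul_left (hz.mul_left h2)) (Commute.one_left z)).1 (by
    rw [c.map_mul _ _ hz (hz.mul_left h2), c.map_mul _ _ hz h2, c.map_mul _ _ hz hz, h, c.map_one])

theorem radSet_inv (c : Coding z) {a : G} (ha : a ∈ c.radSet) : a⁻¹ ∈ c.radSet := by
  rw [inv_eq_of_mul_eq_one_right (c.radSet_pow_four ha)]
  exact c.radSet_mul ha (c.radSet_mul ha ha)

/-- The radical of the coded centraliser. -/
def radical (c : Coding z) : Subgroup (Subgroup.centralizer ({z} : Set G)) where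
  carrier := {a | (a : G) ∈ c.radSet}
  one_mem' := ⟨Commute.one_left z, by rw [OneMemClass.coe_one, c.map_one]; exact mem_radCodes check_gen_zc.2⟩
  mul_mem' ha hb := c.radSet_mul ha hb
  inv_mem' ha := c.radSet_inv ha

theorem mem_radical {c : Coding z} {a : Subgroup.centralizer ({z} : Set G)} :
    a ∈ c.radical ↔ (a : G) ∈ c.radSet := Iff.rfl

theorem radSet_conj_gen (c : Coding z) {g a : G} (hg : g ∈ c.genSet) (ha : a ∈ c.radSet) :
    g * a * g⁻¹ ∈ c.radSet ∧ g⁻¹ * a * g ∈ c.radSet := by
  have hge := List.all_eq_true.1 check_gen_zc.1 _ hg.2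
  rw [beq_iff_eq] at hge
  have hinv : g⁻¹ = g := inv_eq_of_mul_eq_one_left
    ((c.eq_iff (hg.1.mul_left hg.1) (Commute.one_left z)).1
      (by rw [c.map_mul _ _ hg.1 hg.1, hge, c.map_one]))
  have h := mem_radCodes (List.all_eq_true.1 (List.all_eq_true.1 check_rad_conj _ hg.2) _ ha.2)
  have key : g * a * g ∈ c.radSet := ⟨(hg.1.mul_left ha.1).mul_left hg.1, by
    rw [mul_assoc, c.map_mul _ _ hg.1 (ha.1.mul_left hg.1), c.map_mul _ _ ha.1 hg.1]; exact h⟩
  rw [hinv]
  exact ⟨key, key⟩

theorem radSet_conj_closure (c : Coding z) {x : G} (hx : x ∈ Subgroup.closure c.genSet) :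
    ∀ a ∈ c.radSet, x * a * x⁻¹ ∈ c.radSet := by
  induction hx using Subgroup.closure_induction'' with
  | mem g hg => exact fun a ha => (c.radSet_conj_gen hg ha).1
  | inv_mem g hg => exact fun a ha => by simpa using (c.radSet_conj_gen hg ha).2
  | one => exact fun a ha => by simpa using ha
  | mul u v _ _ hu hv =>
    intro a ha
    have e : u * v * a * (u * v)⁻¹ = u * (v * a * v⁻¹) * u⁻¹ := by group
    rw [e]
    exact hu _ (hv a ha)

theorem radSet_conj (c : Coding z) {x a : G} (hx : Commute x z) (ha : a ∈ c.radSet) :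
    x * a * x⁻¹ ∈ c.radSet :=
  c.radSet_conj_closure (c.mem_closure hx) a ha

theorem radical_le_pCore (c : Coding z) :
    c.radical ≤ Cfsg.pCore 2 (Subgroup.centralizer ({z} : Set G)) := by
  refine Cores.le_pCore ⟨fun a ha g => ?_⟩ fun a => ⟨2, Subtype.ext (Subtype.ext ?_)⟩
  · have := c.radSet_conj (Subgroup.mem_centralizer_singleton_iff.1 g.2) ha
    simpa [mem_radical] using this
  · have := c.radSet_pow_four a.2
    simpa [pow_succ, mul_assoc] using this

/-- The classes `A` and `B` lie in the radical. -/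
theorem InCls.mem_radSet {c : Coding z} {a : G} (h : c.InCls repA a ∨ c.InCls repB a) : a ∈ c.radSet := by
  have key : ∀ {r : ℕ}, r ∈ radCodes → c.InCls r a → a ∈ c.radSet := by
    rintro r hr ⟨haz, k, hk, he⟩
    have h1 : k * a * k⁻¹ ∈ c.radSet := ⟨commute_conj hk haz, by rw [he]; exact hr⟩
    have h2 := c.radSet_conj hk.inv_left h1
    have e : k⁻¹ * (k * a * k⁻¹) * k⁻¹⁻¹ = a := by group
    rwa [e] at h2
  rcases h with h | h
  · exact key (mem_radCodes (List.all_eq_true.1 check_rad_AB.1 _ List.mem_cons_self)) h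
  · exact key (mem_radCodes (List.all_eq_true.1 check_rad_AB.2 _ List.mem_cons_self)) h

end Coding

end Cfsg.Agent.TransvCent
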