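import Cfsg.Agent.Lib.TransvCent.Assembly
import Cfsg.Agent.Lib.TransvCent.Gen

/-
A criterion selecting the Held group: two radicals meeting in no further conjugates.

* `Mixed` : for a conjugate `a ≠ z` in `O₂(C(z))` the only conjugates of `z` in both radicals are `z`, `a`, `z * a`
* `he_of_mixed` : then only the pattern with two orbits of 45 points is left
-/

set_option autoImplicit false

open Cfsg

namespace Cfsg.Agent.TransvCent

variable {G : Type*} [Group G] {z : G}

/-- `O₂` of the centraliser, in the ambient group. -/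
def radOf (z : G) : Subgroup G :=
  (Cfsg.pCore 2 (Subgroup.centralizer ({z} : Set G))).map (Subgroup.centralizer ({z} : Set G)).subtype

theorem radSet_subset_radOf (c : Coding z) {x : G} (hx : x ∈ c.radSet) : x ∈ radOf z :=
  ⟨⟨x, Subgroup.mem_centralizer_singleton_iff.2 hx.1⟩, c.radical_le_pCore (Coding.mem_radical.2 hx), rfl⟩

/-- No further conjugates of `z` lie in two of the radicals. -/
def Mixed (z : G) : Prop :=
  ∀ g s : G, g * z * g⁻¹ ∈ radOf z → g * z * g⁻¹ ≠ z → s ∈ radOf z → IsConj z s → g * s * g⁻¹ ∈ radOf z →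
    g * s * g⁻¹ = z ∨ g * s * g⁻¹ = g * z * g⁻¹ ∨ g * s * g⁻¹ = z * (g * z * g⁻¹)

open Amalgam in
theorem check_mixed21 :
    (([32, 16, 48] : List ℕ).all fun j => isRad (uA.getD j 0)) = true ∧ letW [4, 2, 4] = true ∧
      letW [4, 4, 2, 2, 4] = true ∧ actW kind21.g kind21.g' [4, 2, 4] 1 = 32 ∧
      actW kind21.g kind21.g' [4, 2, 4] 16 = 48 ∧ actW kind21.g kind21.g' [4, 4, 2, 2, 4] 1 = 16 := by
  decide +kernel

open Amalgam in
/-- A side with an orbit of 21 points has two radicals meeting in more conjugates. -/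
theorem not_mixed_of_side21 {c : Coding z} {pc qc : ℕ} (S : Side c (coord c uA) pc qc kind21) :
    ¬ Mixed z := by
  intro hM
  obtain ⟨hrad, hw, hv, e1, e2, e3⟩ := check_mixed21
  have E := coord_elem c check_coords_uA
  have mem : ∀ j ∈ ([32, 16, 48] : List ℕ), coord c uA j ∈ radOf z := fun j hj => by
    have hj64 : j < 64 := by
      fin_cases hj <;> decide
    obtain ⟨h1, h2⟩ := coord_spec c check_coords_uA hj64
    refine radSet_subset_radOf c ⟨h1, ?_⟩
    rw [h2]
    exact mem_radCodes (List.all_eq_true.1 hrad j hj)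
  have ha := ((S.maps hw) 1 (by decide)).2
  rw [e1, E.one_eq] at ha
  have ht := ((S.maps hw) 16 (by decide)).2
  rw [e2] at ht
  have hs := ((S.maps hv) 1 (by decide)).2
  rw [e3, E.one_eq] at hs
  have hne : ∀ i < 64, i ≠ 48 → coord c uA 48 ≠ coord c uA i := fun i hi h e =>
    h (E.inj (by decide) hi e).symm
  have := hM (S.ev [4, 2, 4]) (coord c uA 16) (by rw [ha]; exact mem 32 (by simp))
    (by rw [ha]; exact fun e =>
      absurd (E.inj (i := 32) (j := 1) (by decide) (by decide) (e.trans E.one_eq.symm)) (by decide))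
    (mem 16 (by simp)) (isConj_iff.2 ⟨_, hs⟩) (by rw [ht]; exact mem 48 (by simp))
  rw [ha, ht] at this
  rcases this with e | e | e
  · exact hne 1 (by decide) (by decide) (e.trans E.one_eq.symm)
  · exact hne 32 (by decide) (by decide) e
  · have h33 := E.add 1 (by decide) 32 (by decide)
    rw [E.one_eq] at h33
    exact hne (1 ^^^ 32) (by decide) (by decide) (e.trans h33)

theorem check_eList_rad : eList.all isRad = true := by decide +kernel

/-- The affine case has two radicals meeting in more conjugates. -/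
theorem not_mixed_of_affine [Finite G] {c : Coding z} (h : c.AffineHyp) : ¬ Mixed z := by
  intro hM
  have hsub : ∀ x ∈ c.eSub, x ∈ radOf z := fun x hx =>
    radSet_subset_radOf c ⟨hx.1, mem_radCodes (List.all_eq_true.1 check_eList_rad _ hx.2)⟩
  obtain ⟨a, ha, -⟩ := h.hA
  have haE := ha.mem_eSub
  have haz : a ≠ z := ha.ne_z (by decide)
  have ha1 : a ≠ 1 := fun e => by
    obtain ⟨-, k, hk, he⟩ := ha
    rw [e, mul_one, mul_inv_cancel, c.map_one] at he
    exact absurd he (by decide)
  obtain ⟨g, hgN, hg⟩ := h.transitive haE ha1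
  obtain ⟨t, htE, ht⟩ := Set.exists_mem_notMem_of_ncard_lt_ncard (s := ({1, z, a, z * a} : Set G))
    (t := (c.eSub : Set G)) (lt_of_le_of_lt (b := 4) (by
      refine (Set.ncard_insert_le _ _).trans (Nat.succ_le_succ ?_)
      refine (Set.ncard_insert_le _ _).trans (Nat.succ_le_succ ?_)
      refine (Set.ncard_insert_le _ _).trans (Nat.succ_le_succ ?_)
      simp) (by rw [c.ncard_eSub]; decide))
  simp only [Set.mem_insert_iff, Set.mem_singleton_iff, not_or] at ht
  have hsE : g⁻¹ * t * g ∈ c.eSub :=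
    (Subgroup.mem_normalizer_iff.1 hgN _).2 (by rw [show g * (g⁻¹ * t * g) * g⁻¹ = t by group]; exact htE)
  have hs1 : g⁻¹ * t * g ≠ 1 := fun e => ht.1 (by
    rw [show t = g * (g⁻¹ * t * g) * g⁻¹ by group, e]; group)
  have e : g * (g⁻¹ * t * g) * g⁻¹ = t := by group
  have := hM g _ (hg.symm ▸ hsub _ haE) (by rw [hg]; exact haz) (hsub _ hsE) (h.fused hsE hs1)
    (e.symm ▸ hsub _ htE)
  rw [e, hg] at this
  tauto

open Amalgam in
/-- With the criterion only the Held pattern is left. -/
theorem he_of_mixed [Finite G]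
    (hHe : ∀ c : Coding z,
      Side c (coord c uA) (compA.getD 3 (0, 0)).1 (compA.getD 3 (0, 0)).2 kind45 →
      Side c (coord c uB) (compB.getD 3 (0, 0)).1 (compB.getD 3 (0, 0)).2 kind45 →
      Cfsg.Spor.IsoHe G)
    (c : Coding z) {x : G} (hx : Commute x z) (hne : x ≠ z) (hcon : IsConj z x) (hM : Mixed z) :
    Cfsg.Spor.IsoHe G := by
  obtain ⟨a, ha, haz⟩ := c.exists_conj_A_or_B hx hne hcon
  obtain ⟨d, hda⟩ : ∃ d : Coding z, d.InCls repA a := by
    rcases ha with ha | ha
    · exact ⟨c, ha⟩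
    · exact ⟨c.dual, c.inCls_dual_A.2 ha⟩
  have no21 : ∀ d : Coding z, d.orbit = d.codeSet (uSel true true false) → False := fun d hO => by
    obtain ⟨i, -, ⟨S⟩⟩ := side_of_orbit d hO
    exact not_mixed_of_side21 S hM
  rcases d.orbit_cases hda haz with hO | hO | hO
  · exact absurd hM (not_mixed_of_affine (d.affineHyp_of_orbit_three hda haz hO))
  · exact (no21 d hO).elim
  · obtain ⟨h', hO2, ⟨SA⟩, ⟨SB⟩⟩ := two_sides d hO
    cases h'
    · exact (no21 _ hO2).elim
    · exact hHe d SA SB

end Cfsg.Agent.TransvCent
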