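import Cfsg.Prelude.Def_Transfer
import Cfsg.Agent.EqLemmas
import Cfsg.Agent.Lib.Extraspecial.Basic
import Cfsg.Agent.Lib.Linear.SLn
import Cfsg.Agent.Lib.GLOrder.Basic
import Mathlib.GroupTheory.PGroup
import Mathlib.GroupTheory.QuotientGroup.Basic

/-!
# Recognition of the coded centraliser: the setting and the fixed-point free element of order seven

* `RecogBase` : an extraspecial `Q` of order `2^7` with quotient `SL(3,2)`
* `RecogSetting` : the same with 28 marked involutions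
* `RecogBase.exists_seven` : elements realising `7 : 3`
* `RecogBase.Seven.fixed_mem_Zs` : the element of order seven fixes only the centre of `Q`
-/

set_option autoImplicit false
set_option linter.style.haveILetI false
open scoped commutatorElement

namespace Cfsg.Agent.TransvCent

local notation "SL32" => Matrix.SpecialLinearGroup (Fin 3) (ZMod 2)

/-- An extraspecial group of order `2^7` with quotient `SL(3,2)`, inside the centraliser of its centre. -/
structure RecogBase (C : Type*) [Group C] where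
  z : C
  Q : Subgroup C
  normal : Q.Normal
  z_mem : z ∈ Q
  z_sq : z * z = 1
  z_ne : z ≠ 1
  z_comm : ∀ g : C, g * z = z * g
  cardQ : Nat.card Q = 128
  ext : Cfsg.IsExtraspecial 2 Q
  self_cent : ∀ g : C, (∀ q ∈ Q, g * q = q * g) → g ∈ Q
  iso : letI := normal; Nonempty (C ⧸ Q ≃* SL32)

/-- The setting inside the centraliser. -/
structure RecogSetting (C : Type*) [Group C] extends RecogBase C where
  S : Set C
  S_mem : ∀ a ∈ S, a ∈ Q ∧ a * a = 1 ∧ a ≠ 1 ∧ a ≠ z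
  S_conj : ∀ (g : C), ∀ a ∈ S, g * a * g⁻¹ ∈ S
  S_card : S.ncard = 28

/-- Conjugation. -/
def cj {C : Type*} [Group C] (g x : C) : C := g * x * g⁻¹

theorem cj_mul {C : Type*} [Group C] (g x y : C) : cj g (x * y) = cj g x * cj g y := by
  simp only [cj]; group

theorem cj_cj {C : Type*} [Group C] (g h x : C) : cj g (cj h x) = cj (g * h) x := by
  simp only [cj]; group

theorem cj_one {C : Type*} [Group C] (x : C) : cj 1 x = x := by simp [cj]

theorem cj_comm {C : Type*} [Group C] (g x y : C) : cj g ⁅x, y⁆ = ⁅cj g x, cj g y⁆ := by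
  simp only [cj, commutatorElement_def]; group

/-- A finite check in `SL(3,2)`. -/
theorem exists_seven_SL32 : ∃ D H : SL32, D ≠ 1 ∧ D ^ 7 = 1 ∧ H ^ 3 = 1 ∧ H * D = D ^ 2 * H := by
  refine ⟨⟨!![0, 0, 1; 1, 0, 1; 0, 1, 0], by decide⟩, ⟨!![1, 0, 0; 0, 0, 1; 0, 1, 1], by decide⟩, ?_, ?_, ?_, ?_⟩
  · intro e
    have := congrArg Subtype.val e
    revert this
    decide
  all_goals apply Subtype.ext; decide

theorem natCard_recogSL32 : Nat.card SL32 = 168 := by
  rw [GLOrder.card_SL, Nat.card_zmod]; decide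

theorem isSimpleGroup_recogSL32 : IsSimpleGroup SL32 := by
  haveI : IsSimpleGroup (Matrix.ProjectiveSpecialLinearGroup (Fin 3) (ZMod 2)) :=
    Linear.isSimpleGroup_psl (by simp)
  have hP : Nat.card (Matrix.ProjectiveSpecialLinearGroup (Fin 3) (ZMod 2)) = 168 := by
    rw [GLOrder.card_PSL, natCard_recogSL32, Nat.card_zmod, Fintype.card_fin]; decide
  have e : SL32 ≃* Matrix.ProjectiveSpecialLinearGroup (Fin 3) (ZMod 2) :=
    MulEquiv.ofBijective (QuotientGroup.mk' _) ((Nat.bijective_iff_surjective_and_card _).2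
      ⟨QuotientGroup.mk'_surjective _, by rw [natCard_recogSL32]; exact hP.symm⟩)
  exact e.isSimpleGroup

namespace RecogBase

variable {C : Type*} [Group C] (D : RecogBase C)

/-- The centre of `Q`. -/
def Zs : Subgroup C where
  carrier := {x | x = 1 ∨ x = D.z}
  one_mem' := Or.inl rfl
  mul_mem' := by
    rintro a b (rfl | rfl) (rfl | rfl) <;> simp [D.z_sq]
  inv_mem' := by
    rintro a (rfl | rfl)
    · simp
    · exact Or.inr (inv_eq_of_mul_eq_one_right D.z_sq)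

theorem mem_Zs {x : C} : x ∈ D.Zs ↔ x = 1 ∨ x = D.z := Iff.rfl

theorem z_mem_Zs : D.z ∈ D.Zs := Or.inr rfl

theorem Zs_le : D.Zs ≤ D.Q := by
  rintro x (rfl | rfl)
  · exact one_mem _
  · exact D.z_mem

theorem Zs_comm {x : C} (hx : x ∈ D.Zs) (g : C) : g * x = x * g := by
  rcases hx with rfl | rfl
  · simp
  · exact D.z_comm g

instance Zs_normal : D.Zs.Normal :=
  ⟨fun x hx g => by rwa [D.Zs_comm hx g, mul_inv_cancel_right]⟩

theorem Zs_sq {x : C} (hx : x ∈ D.Zs) : x * x = 1 := by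
  rcases hx with rfl | rfl
  · simp
  · exact D.z_sq

theorem cj_mem {q : C} (hq : q ∈ D.Q) (g : C) : cj g q ∈ D.Q := D.normal.conj_mem q hq g

theorem central_mem_Zs {q : C} (hq : q ∈ D.Q) (h : ∀ r ∈ D.Q, r * q = q * r) : q ∈ D.Zs := by
  have hz : (⟨D.z, D.z_mem⟩ : D.Q) ∈ Subgroup.center D.Q :=
    Subgroup.mem_center_iff.2 fun r => Subtype.ext (D.z_comm r)
  have hc : (⟨q, hq⟩ : D.Q) ∈ Subgroup.center D.Q :=
    Subgroup.mem_center_iff.2 fun r => Subtype.ext (h r r.2)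
  have hn1 : (⟨D.z, D.z_mem⟩ : D.Q) ≠ 1 := fun e => D.z_ne (congrArg Subtype.val e)
  by_contra hne
  rw [mem_Zs, not_or] at hne
  haveI : Finite D.Q := Nat.finite_of_card_ne_zero (by rw [D.cardQ]; norm_num)
  have hsub : ({1, ⟨D.z, D.z_mem⟩, ⟨q, hq⟩} : Set D.Q) ⊆ Subgroup.center D.Q := by
    rintro x (rfl | rfl | rfl)
    · exact one_mem _
    · exact hz
    · exact hc
  have h3 : ({1, ⟨D.z, D.z_mem⟩, ⟨q, hq⟩} : Set D.Q).ncard = 3 := by
    rw [Set.ncard_eq_three]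
    exact ⟨_, _, _, hn1.symm, fun e => hne.1 (congrArg Subtype.val e).symm,
      fun e => hne.2 (congrArg Subtype.val e).symm, rfl⟩
  have := Set.ncard_le_ncard hsub (Set.toFinite _)
  rw [h3, ← Nat.card_coe_set_eq] at this
  have h2 : Nat.card (Subgroup.center D.Q : Set D.Q) = 2 := D.ext.2
  omega

theorem sq_mem_Zs {q : C} (hq : q ∈ D.Q) : q * q ∈ D.Zs := by
  haveI : Finite D.Q := Nat.finite_of_card_ne_zero (by rw [D.cardQ]; norm_num)
  haveI : Fact (Nat.Prime 2) := ⟨Nat.prime_two⟩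
  have h := Extraspecial.pow_mem_center D.ext ⟨q, hq⟩
  rw [pow_two] at h
  exact D.central_mem_Zs (mul_mem hq hq) fun r hr =>
    congrArg Subtype.val (Subgroup.mem_center_iff.1 h ⟨r, hr⟩)

theorem comm_mem_Zs {q r : C} (hq : q ∈ D.Q) (hr : r ∈ D.Q) : ⁅q, r⁆ ∈ D.Zs := by
  haveI : Fact (Nat.Prime 2) := ⟨Nat.prime_two⟩
  have h := Extraspecial.commutatorElement_mem_center D.ext ⟨q, hq⟩ ⟨r, hr⟩
  refine D.central_mem_Zs ?_ fun s hs => congrArg Subtype.val (Subgroup.mem_center_iff.1 h ⟨s, hs⟩)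
  exact (⁅(⟨q, hq⟩ : D.Q), (⟨r, hr⟩ : D.Q)⁆).2

theorem comm_symm {q r : C} (hq : q ∈ D.Q) (hr : r ∈ D.Q) : ⁅r, q⁆ = ⁅q, r⁆ := by
  rw [← commutatorElement_inv q r]
  exact inv_eq_of_mul_eq_one_right (D.Zs_sq (D.comm_mem_Zs hq hr))

theorem comm_mul_right {x q r : C} (hx : x ∈ D.Q) (hq : q ∈ D.Q) (hr : r ∈ D.Q) :
    ⁅x, q * r⁆ = ⁅x, q⁆ * ⁅x, r⁆ := by
  have h : ⁅x, q * r⁆ = ⁅x, q⁆ * (q * ⁅x, r⁆ * q⁻¹) := by simp only [commutatorElement_def]; group
  rw [h, D.Zs_comm (D.comm_mem_Zs hx hr) q, mul_inv_cancel_right]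

theorem comm_congr_right {x q r : C} (hx : x ∈ D.Q) (hq : q ∈ D.Q) (hr : r ∈ D.Q) (h : q⁻¹ * r ∈ D.Zs) :
    ⁅x, r⁆ = ⁅x, q⁆ := by
  have e : r = q * (q⁻¹ * r) := by group
  rw [e, D.comm_mul_right hx hq (mul_mem (inv_mem hq) hr)]
  have : ⁅x, q⁻¹ * r⁆ = 1 := commutatorElement_eq_one_iff_mul_comm.2 (D.Zs_comm h x)
  rw [this, mul_one]

theorem cj_eq_of_Zs {x : C} (hx : x ∈ D.Zs) (g : C) : cj g x = x := by
  rw [cj, D.Zs_comm hx g, mul_inv_cancel_right]

theorem cj_congr {x y : C} (g : C) (h : x⁻¹ * y ∈ D.Zs) : (cj g x)⁻¹ * cj g y ∈ D.Zs := by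
  have e : (cj g x)⁻¹ * cj g y = cj g (x⁻¹ * y) := by simp only [cj]; group
  rw [e, D.cj_eq_of_Zs h]; exact h

/-- The image modulo the centre of `Q`. -/
def π : C →* C ⧸ D.Zs := QuotientGroup.mk' D.Zs

theorem π_eq_iff {x y : C} : D.π x = D.π y ↔ x⁻¹ * y ∈ D.Zs := QuotientGroup.eq

theorem π_mul_comm {x y : C} (hx : x ∈ D.Q) (hy : y ∈ D.Q) : D.π x * D.π y = D.π y * D.π x := by
  rw [← map_mul, ← map_mul, π_eq_iff]
  have : (x * y)⁻¹ * (y * x) = ⁅y⁻¹, x⁻¹⁆ := by simp only [commutatorElement_def]; group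
  rw [this]
  exact D.comm_mem_Zs (inv_mem hy) (inv_mem hx)

theorem π_cj_congr {x y : C} (g : C) (h : D.π x = D.π y) : D.π (cj g x) = D.π (cj g y) :=
  D.π_eq_iff.2 (D.cj_congr g (D.π_eq_iff.1 h))

/-- An element of `Q` acts trivially modulo the centre. -/
theorem π_cj_of_mem {q x : C} (hq : q ∈ D.Q) (hx : x ∈ D.Q) : D.π (cj q x) = D.π x := by
  rw [cj, map_mul, map_mul, D.π_mul_comm hq hx, map_inv, mul_inv_cancel_right]

theorem mul_sq {x y : C} (hx : x ∈ D.Q) (hy : y ∈ D.Q) :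
    (x * y) * (x * y) = x * x * (y * y) * ⁅x, y⁆ := by
  have h1 : y * x = ⁅y, x⁆ * (x * y) := by simp only [commutatorElement_def]; group
  calc (x * y) * (x * y) = x * (y * x) * y := by group
    _ = x * ⁅y, x⁆ * (x * y * y) := by rw [h1]; group
    _ = ⁅y, x⁆ * x * (x * y * y) := by rw [D.Zs_comm (D.comm_mem_Zs hy hx) x]
    _ = ⁅x, y⁆ * (x * x * (y * y)) := by rw [D.comm_symm hx hy]; group
    _ = _ := (D.Zs_comm (D.comm_mem_Zs hx hy) _).symm

/-- Elements realising `7 : 3` on `Q` modulo its centre. -/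
structure Seven where
  d : C
  h : C
  d_pow : d ^ 7 = 1
  d_not_mem : d ∉ D.Q
  h_pow : h ^ 3 ∈ D.Q
  rel : ∀ x ∈ D.Q, D.π (cj h (cj d x)) = D.π (cj (d ^ 2) (cj h x))

theorem exists_seven [Finite C] : Nonempty D.Seven := by
  haveI := D.normal
  obtain ⟨e⟩ := D.iso
  obtain ⟨A, B, hA, hA7, hB3, hAB⟩ := exists_seven_SL32
  obtain ⟨c, hc⟩ := QuotientGroup.mk'_surjective D.Q (e.symm A)
  obtain ⟨h, hh⟩ := QuotientGroup.mk'_surjective D.Q (e.symm B)
  set μ := QuotientGroup.mk' D.Q with hμ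
  have hker : ∀ x : C, μ x = 1 ↔ x ∈ D.Q := fun x => QuotientGroup.eq_one_iff x
  have hq : ∀ x ∈ D.Q, x ^ 4 = 1 := fun x hx => by
    rw [show (4 : ℕ) = 2 * 2 from rfl, pow_mul, pow_two, pow_two, D.Zs_sq (D.sq_mem_Zs hx)]
  have hc7 : c ^ 7 ∈ D.Q := by
    rw [← hker, map_pow, hc, ← map_pow, hA7, map_one]
  have hd : μ (c ^ 8) = e.symm A := by
    rw [pow_succ, map_mul, (hker _).2 hc7, one_mul, hc]
  have hd' : μ ((c ^ 8) ^ 64) = e.symm A := by
    rw [map_pow, hd, ← map_pow, show (64 : ℕ) = 7 * 9 + 1 from rfl, pow_succ, pow_mul, hA7, one_pow,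
      one_mul]
  refine ⟨⟨(c ^ 8) ^ 64, h, ?_, ?_, ?_, ?_⟩⟩
  · rw [← pow_mul, ← pow_mul, show 8 * (64 * 7) = 7 * (4 * 128) from rfl, pow_mul, pow_mul,
      hq _ hc7, one_pow]
  · intro hm
    rw [← hker, hd'] at hm
    exact hA (e.symm.injective (hm.trans (map_one _).symm))
  · rw [← hker, map_pow, hh, ← map_pow, hB3, map_one]
  · intro x hx
    set d := (c ^ 8) ^ 64
    have hk : (d ^ 2 * h)⁻¹ * (h * d) ∈ D.Q := by
      rw [← hker, map_mul, map_inv, map_mul, map_mul, map_pow, hd', hh, ← map_pow, ← map_mul,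
        ← map_mul, hAB, inv_mul_cancel]
    rw [cj_cj, cj_cj, show h * d = d ^ 2 * h * ((d ^ 2 * h)⁻¹ * (h * d)) by group, ← cj_cj (d ^ 2 * h)]
    exact D.π_cj_congr _ (D.π_cj_of_mem hk hx)

variable {D} (T : D.Seven)

theorem Seven.cj_pow_seven (x : C) : cj (T.d ^ 7) x = x := by rw [T.d_pow, cj_one]

/-- A fixed point modulo the centre is a fixed point. -/
theorem Seven.fixed_of_π {x : C} (h : D.π (cj T.d x) = D.π x) : cj T.d x = x := by
  have hm := D.π_eq_iff.1 h.symm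
  rcases hm with hm | hm
  · exact (inv_mul_eq_one.1 hm).symm
  · exfalso
    have e : cj T.d x = x * D.z := by rw [← hm]; group
    have key : ∀ n, cj (T.d ^ n) x = x * D.z ^ n := by
      intro n
      induction n with
      | zero => simp [cj]
      | succ n ih =>
        rw [pow_succ', ← cj_cj, ih, cj_mul, e,
          D.cj_eq_of_Zs (pow_mem D.z_mem_Zs n) T.d, mul_assoc, ← pow_succ']
    have h7 := key 7
    rw [T.cj_pow_seven] at h7
    have hz7 : D.z ^ 7 = D.z := by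
      rw [show (7 : ℕ) = 2 * 3 + 1 from rfl, pow_succ, pow_mul, pow_two, D.z_sq, one_pow, one_mul]
    rw [hz7] at h7
    exact D.z_ne (left_eq_mul.1 h7)

/-- The orbit product is fixed. -/
def Seven.norm (q : C) : C := ((List.range 7).map fun i => cj (T.d ^ i) q).prod

theorem Seven.norm_eq (q : C) : T.norm q = q * cj T.d q * cj (T.d ^ 2) q * cj (T.d ^ 3) q *
    cj (T.d ^ 4) q * cj (T.d ^ 5) q * cj (T.d ^ 6) q := by
  simp only [Seven.norm, List.range_succ, List.range_zero, List.nil_append, List.map_append, List.map_cons,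
    List.map_nil, List.prod_append, List.prod_cons, List.prod_nil, mul_one, one_mul, pow_zero, pow_one,
    cj_one]

theorem Seven.norm_mem {q : C} (hq : q ∈ D.Q) : T.norm q ∈ D.Q := by
  rw [T.norm_eq]
  exact mul_mem (mul_mem (mul_mem (mul_mem (mul_mem (mul_mem hq (D.cj_mem hq _)) (D.cj_mem hq _))
    (D.cj_mem hq _)) (D.cj_mem hq _)) (D.cj_mem hq _)) (D.cj_mem hq _)

theorem Seven.norm_fixed {q : C} (hq : q ∈ D.Q) : cj T.d (T.norm q) = T.norm q := by
  refine T.fixed_of_π ?_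
  have hs : ∀ i, cj T.d (cj (T.d ^ i) q) = cj (T.d ^ (i + 1)) q := fun i => by rw [cj_cj, pow_succ']
  have h6 : cj T.d (cj (T.d ^ 6) q) = q := by rw [hs, T.cj_pow_seven]
  have h0 : cj T.d q = cj (T.d ^ 1) q := by rw [pow_one]
  rw [T.norm_eq, cj_mul, cj_mul, cj_mul, cj_mul, cj_mul, cj_mul, h6, hs, hs, hs, hs,
    show cj T.d (cj T.d q) = cj (T.d ^ 2) q by rw [cj_cj, pow_two]]
  simp only [Nat.reduceAdd]
  rw [map_mul]
  rw [D.π_mul_comm (mul_mem (mul_mem (mul_mem (mul_mem (mul_mem (D.cj_mem hq _) (D.cj_mem hq _))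
    (D.cj_mem hq _)) (D.cj_mem hq _)) (D.cj_mem hq _)) (D.cj_mem hq _)) hq, ← map_mul]
  congr 1
  group

/-- The fixed points of `d` in `Q`. -/
def Seven.fix : Subgroup C := D.Q ⊓ Subgroup.centralizer {T.d}

theorem Seven.mem_fix {x : C} : x ∈ T.fix ↔ x ∈ D.Q ∧ cj T.d x = x := by
  rw [Seven.fix, Subgroup.mem_inf, Subgroup.mem_centralizer_singleton_iff, cj, mul_inv_eq_iff_eq_mul]
  exact and_congr_right fun _ => eq_comm

theorem Seven.central_fix {x : C} (hx : x ∈ T.fix) (hc : ∀ y ∈ T.fix, y * x = x * y) : x ∈ D.Zs := by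
  obtain ⟨hxQ, hxd⟩ := T.mem_fix.1 hx
  have hxn : ∀ n, cj (T.d ^ n) x = x := by
    intro n
    induction n with
    | zero => simp [cj]
    | succ n ih => rw [pow_succ', ← cj_cj, ih, hxd]
  refine D.central_mem_Zs hxQ fun q hq => ?_
  have hN : ⁅x, T.norm q⁆ = 1 := commutatorElement_eq_one_iff_mul_comm.2
    (hc _ (T.mem_fix.2 ⟨T.norm_mem hq, T.norm_fixed hq⟩)).symm
  have hi : ∀ i, ⁅x, cj (T.d ^ i) q⁆ = ⁅x, q⁆ := fun i => by
    conv_lhs => rw [← hxn i]
    rw [← cj_comm, D.cj_eq_of_Zs (D.comm_mem_Zs hxQ hq)]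
  have h1 : ⁅x, cj T.d q⁆ = ⁅x, q⁆ := by simpa using hi 1
  have m := fun i => D.cj_mem hq (T.d ^ i)
  rw [T.norm_eq] at hN
  have m1 := mul_mem hq (D.cj_mem hq T.d)
  have m2 := mul_mem m1 (m 2)
  have m3 := mul_mem m2 (m 3)
  have m4 := mul_mem m3 (m 4)
  have m5 := mul_mem m4 (m 5)
  rw [D.comm_mul_right hxQ m5 (m 6), D.comm_mul_right hxQ m4 (m 5), D.comm_mul_right hxQ m3 (m 4),
    D.comm_mul_right hxQ m2 (m 3), D.comm_mul_right hxQ m1 (m 2),
    D.comm_mul_right hxQ hq (D.cj_mem hq T.d), h1, hi, hi, hi, hi, hi,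
    D.Zs_sq (D.comm_mem_Zs hxQ hq), one_mul, D.Zs_sq (D.comm_mem_Zs hxQ hq), one_mul,
    D.Zs_sq (D.comm_mem_Zs hxQ hq), one_mul] at hN
  exact (commutatorElement_eq_one_iff_mul_comm.1 hN).symm

theorem Seven.card_fix_mod [Finite C] : Nat.card T.fix % 7 = 2 := by
  classical
  haveI : Fact (Nat.Prime 7) := ⟨by norm_num⟩
  haveI := D.normal
  let P : Subgroup C := Subgroup.zpowers T.d
  letI : MulAction ↥P ↥D.Q :=
    MulAction.compHom ↥D.Q ((MulAut.conjNormal (H := D.Q)).comp P.subtype)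
  have hP : IsPGroup 7 ↥P := by
    refine IsPGroup.of_card (n := 1) ?_
    rw [Nat.card_zpowers, pow_one, orderOf_eq_prime T.d_pow fun e => T.d_not_mem (e ▸ one_mem _)]
  have hcoe : ∀ (p : P) (x : D.Q), ((p • x : D.Q) : C) = cj (p : C) (x : C) := fun p x =>
    MulAut.conjNormal_apply _ _
  have h := hP.card_modEq_card_fixedPoints ↥D.Q
  have e : Nat.card (MulAction.fixedPoints ↥P ↥D.Q) = Nat.card T.fix := by
    refine Nat.card_congr
      { toFun := fun x => ⟨(x.1 : C), T.mem_fix.2 ⟨x.1.2, ?_⟩⟩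
        invFun := fun x => ⟨⟨(x : C), (T.mem_fix.1 x.2).1⟩, ?_⟩
        left_inv := fun x => rfl
        right_inv := fun x => rfl }
    · have := congrArg (fun y : D.Q => (y : C)) (x.2 ⟨T.d, Subgroup.mem_zpowers _⟩)
      simpa [hcoe] using this
    · intro p
      refine Subtype.ext ?_
      rw [hcoe]
      have hc : (p : C) ∈ Subgroup.centralizer {(x : C)} :=
        Subgroup.zpowers_le.2 (Subgroup.mem_centralizer_singleton_iff.2
          (mul_inv_eq_iff_eq_mul.1 (T.mem_fix.1 x.2).2)) p.2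
      exact mul_inv_eq_iff_eq_mul.2 (Subgroup.mem_centralizer_singleton_iff.1 hc)
  rw [e, D.cardQ] at h
  exact h.symm

theorem Seven.card_fix_ne [Finite C] : Nat.card T.fix ≠ 128 := by
  intro h
  refine T.d_not_mem (D.self_cent _ fun q hq => ?_)
  have hle : T.fix ≤ D.Q := inf_le_left
  have he : T.fix = D.Q := Subgroup.eq_of_le_of_card_ge hle (by rw [h, D.cardQ])
  exact mul_inv_eq_iff_eq_mul.1 (T.mem_fix.1 (he ▸ hq)).2

theorem Seven.fixed_mem_Zs [Finite C] {x : C} (hx : x ∈ D.Q) (hd : cj T.d x = x) : x ∈ D.Zs := by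
  classical
  haveI : Fact (Nat.Prime 2) := ⟨Nat.prime_two⟩
  have hxF : x ∈ T.fix := T.mem_fix.2 ⟨hx, hd⟩
  have hzF : D.z ∈ T.fix := T.mem_fix.2 ⟨D.z_mem, D.cj_eq_of_Zs D.z_mem_Zs _⟩
  by_contra hxZ
  -- the number of fixed points is 16
  have hdvd : Nat.card T.fix ∣ 2 ^ 7 := by
    rw [show (2 : ℕ) ^ 7 = Nat.card D.Q from D.cardQ.symm]
    exact Subgroup.card_dvd_of_le inf_le_left
  obtain ⟨k, hk, hcard⟩ := (Nat.dvd_prime_pow Nat.prime_two).1 hdvd
  have h3 : 2 < Nat.card T.fix := by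
    have hs : ({1, D.z, x} : Set C) ⊆ (T.fix : Set C) := by
      rintro y (rfl | rfl | rfl)
      exacts [one_mem _, hzF, hxF]
    have h3 : ({1, D.z, x} : Set C).ncard = 3 := by
      rw [Set.ncard_eq_three]
      exact ⟨_, _, _, D.z_ne.symm, fun e => hxZ (Or.inl e.symm), fun e => hxZ (Or.inr e.symm), rfl⟩
    have := Set.ncard_le_ncard hs (Set.toFinite _)
    rw [h3, ← Nat.card_coe_set_eq] at this
    simp only [SetLike.coe_sort_coe] at this
    omega
  have h16 : Nat.card T.fix = 16 := by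
    have hm := T.card_fix_mod
    have hne := T.card_fix_ne
    rw [hcard] at hm hne h3 ⊢
    interval_cases k <;> simp_all
  -- commutation with a fixed element is a homomorphism to the centre
  have hQ : ∀ {y : C}, y ∈ T.fix → y ∈ D.Q := fun hy => (T.mem_fix.1 hy).1
  let cen : C → Subgroup C := fun y => T.fix ⊓ Subgroup.centralizer {y}
  have hcen : ∀ {y w : C}, w ∈ cen y ↔ w ∈ T.fix ∧ w * y = y * w := fun {y w} => by
    rw [Subgroup.mem_inf, Subgroup.mem_centralizer_singleton_iff]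
  have htwo : ∀ y ∈ T.fix, ∀ v ∈ T.fix, ∀ w ∈ T.fix, v ∉ cen y → w ∉ cen y → v⁻¹ * w ∈ cen y := by
    intro y hy v hv w hw hv' hw'
    have hne : ∀ u ∈ T.fix, u ∉ cen y → ⁅y, u⁆ = D.z := fun u hu hu' => by
      refine ((D.comm_mem_Zs (hQ hy) (hQ hu)).resolve_left fun e => hu' ?_)
      exact hcen.2 ⟨hu, (commutatorElement_eq_one_iff_mul_comm.1 e).symm⟩
    refine hcen.2 ⟨mul_mem (inv_mem hv) hw, (commutatorElement_eq_one_iff_mul_comm.1 ?_).symm⟩
    have h1 : ⁅y, v⁆ * ⁅y, v⁻¹⁆ = 1 := by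
      rw [← D.comm_mul_right (hQ hy) (hQ hv) (inv_mem (hQ hv)), mul_inv_cancel, commutatorElement_one_right]
    rw [D.comm_mul_right (hQ hy) (inv_mem (hQ hv)) (hQ hw), hne w hw hw']
    rw [hne v hv hv'] at h1
    rw [← inv_eq_of_mul_eq_one_right h1, inv_mul_cancel]
  -- a second element commuting with `x`
  let L0 : Set C := {1, D.z, x, x * D.z}
  have hL0 : L0.ncard ≤ 4 := by
    refine (Set.ncard_insert_le _ _).trans ?_
    refine (Nat.succ_le_succ (Set.ncard_insert_le _ _)).trans ?_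
    refine (Nat.succ_le_succ (Nat.succ_le_succ (Set.ncard_insert_le _ _))).trans ?_
    simp
  have hhalf : ∀ y ∈ T.fix, 8 ≤ Nat.card (cen y) := by
    intro y hy
    by_cases hall : ∀ w ∈ T.fix, w ∈ cen y
    · have hc16 := Subgroup.card_le_of_le (fun w hw => hall w hw : T.fix ≤ cen y)
      omega
    push Not at hall
    obtain ⟨v, hv, hv'⟩ := hall
    have hs : (T.fix : Set C) ⊆ (cen y : Set C) ∪ (fun w => v * w) '' (cen y : Set C) := by
      intro w hw
      by_cases hw' : w ∈ cen y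
      · exact Or.inl hw'
      · exact Or.inr ⟨v⁻¹ * w, htwo y hy v hv w hw hv' hw', by group⟩
    have h1 := (Set.ncard_le_ncard hs (Set.toFinite _)).trans ((Set.ncard_union_le _ _).trans
      (Nat.add_le_add_left (Set.ncard_image_le (Set.toFinite _)) _))
    rw [← Nat.card_coe_set_eq, ← Nat.card_coe_set_eq] at h1
    simp only [SetLike.coe_sort_coe, h16] at h1
    omega
  obtain ⟨y, hy, hy'⟩ : ∃ y ∈ cen x, y ∉ L0 := by
    by_contra hne
    push Not at hne
    have := Set.ncard_le_ncard (fun w hw => hne w hw : (cen x : Set C) ⊆ L0) (Set.toFinite _)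
    rw [← Nat.card_coe_set_eq] at this
    have := hhalf x hxF
    simp only [SetLike.coe_sort_coe] at *
    omega
  obtain ⟨hyF, hyx⟩ := hcen.1 hy
  -- the group generated by `z, x, y`
  let L : Subgroup C := cen x ⊓ cen y
  have hxy : x * y ∈ T.fix := mul_mem hxF hyF
  suffices hcomm : ∀ w ∈ T.fix, w * (x * y) = x * y * w by
    have hxyZ := T.central_fix hxy hcomm
    rcases hxyZ with e | e
    · refine hy' ?_
      have hxx := D.sq_mem_Zs hx
      have : y = x⁻¹ := eq_inv_of_mul_eq_one_right e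
      rcases hxx with e2 | e2
      · exact Or.inr (Or.inr (Or.inl (by rw [this, inv_eq_of_mul_eq_one_right e2])))
      · refine Or.inr (Or.inr (Or.inr ?_))
        rw [this]
        exact Set.mem_singleton_iff.2 (inv_eq_of_mul_eq_one_right (by rw [← mul_assoc, e2, D.z_sq]))
    · refine hy' ?_
      have hxx := D.sq_mem_Zs hx
      have hy2 : y = x⁻¹ * D.z := by rw [← e]; group
      rcases hxx with e2 | e2
      · refine Or.inr (Or.inr (Or.inr ?_))
        rw [hy2, inv_eq_of_mul_eq_one_right e2]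
        exact Set.mem_singleton _
      · refine Or.inr (Or.inr (Or.inl ?_))
        rw [hy2, inv_mul_eq_iff_eq_mul, e2]
  intro w hw
  have hdiv16 : ∀ {K : Subgroup C}, K ≤ T.fix → Nat.card K ∣ 2 ^ 4 := fun hK => by
    rw [show (2 : ℕ) ^ 4 = Nat.card T.fix from h16.symm]; exact Subgroup.card_dvd_of_le hK
  have hL8 : 8 ≤ Nat.card L := by
    have hs : insert y L0 ⊆ (L : Set C) := by
      have hmem : ∀ {u : C}, u ∈ T.fix → u * x = x * u → u * y = y * u → u ∈ L := fun hu h1 h2 =>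
        Subgroup.mem_inf.2 ⟨hcen.2 ⟨hu, h1⟩, hcen.2 ⟨hu, h2⟩⟩
      have hxL : x ∈ L := hmem hxF rfl hyx.symm
      have hzL : D.z ∈ L := hmem hzF (D.z_comm x).symm (D.z_comm y).symm
      rintro u (rfl | rfl | rfl | rfl | rfl)
      exacts [hmem hyF hyx rfl, one_mem _, hzL, hxL, mul_mem hxL hzL]
    have h4 : L0.ncard = 4 := by
      have hxz : x * D.z ≠ 1 := fun e => hxZ (Or.inr (by
        rw [eq_inv_of_mul_eq_one_left e, inv_eq_of_mul_eq_one_right D.z_sq]))
      have hx1 : x ≠ 1 := fun e => hxZ (Or.inl e)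
      have hxz' : x ≠ D.z := fun e => hxZ (Or.inr e)
      rw [Set.ncard_eq_four]
      exact ⟨_, _, _, _, D.z_ne.symm, hx1.symm, hxz.symm, hxz'.symm,
        fun e => hx1 (right_eq_mul.1 e), fun e => D.z_ne (left_eq_mul.1 e), rfl⟩
    have := Set.ncard_le_ncard hs (Set.toFinite _)
    rw [Set.ncard_insert_of_notMem hy' (Set.toFinite _), h4, ← Nat.card_coe_set_eq] at this
    simp only [SetLike.coe_sort_coe] at this
    obtain ⟨j, hj, hjc⟩ := (Nat.dvd_prime_pow Nat.prime_two).1 (hdiv16 (K := L) (inf_le_left.trans inf_le_left))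
    rw [hjc] at this ⊢
    interval_cases j <;> simp_all
  have hsame : ∀ u ∈ T.fix, u ∉ D.Zs → L ≤ cen u → cen u = L := by
    intro u hu huZ hle
    refine (Subgroup.eq_of_le_of_card_ge hle ?_).symm
    have hne : Nat.card (cen u) ≠ 16 := fun e => huZ (T.central_fix hu fun v hv => by
      have he : cen u = T.fix := Subgroup.eq_of_le_of_card_ge inf_le_left (by rw [e, h16])
      exact (hcen.1 (he ▸ hv : v ∈ cen u)).2)
    obtain ⟨j, hj, hjc⟩ := (Nat.dvd_prime_pow Nat.prime_two).1 (hdiv16 (K := cen u) inf_le_left)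
    rw [hjc] at hne ⊢
    interval_cases j <;> omega
  have hex := hsame x hxF hxZ inf_le_left
  have hey := hsame y hyF (fun h => hy' (h.elim Or.inl fun e => Or.inr (Or.inl e))) inf_le_right
  by_cases hwx : w ∈ cen x
  · have hwy : w ∈ cen y := by rw [hey, ← hex]; exact hwx
    rw [← mul_assoc, (hcen.1 hwx).2, mul_assoc, (hcen.1 hwy).2, mul_assoc]
  · have hwy : w ∉ cen y := by rw [hey, ← hex]; exact hwx
    refine (commutatorElement_eq_one_iff_mul_comm.1 ?_)
    have h1 : ⁅x, w⁆ = D.z := (D.comm_mem_Zs hx (hQ hw)).resolve_left fun e =>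
      hwx (hcen.2 ⟨hw, (commutatorElement_eq_one_iff_mul_comm.1 e).symm⟩)
    have h2 : ⁅y, w⁆ = D.z := (D.comm_mem_Zs (hQ hyF) (hQ hw)).resolve_left fun e =>
      hwy (hcen.2 ⟨hw, (commutatorElement_eq_one_iff_mul_comm.1 e).symm⟩)
    rw [D.comm_mul_right (hQ hw) hx (hQ hyF), D.comm_symm hx (hQ hw), D.comm_symm (hQ hyF) (hQ hw), h1,
      h2, D.z_sq]

end RecogBase

end Cfsg.Agent.TransvCent
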