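import Cfsg.Agent.Lib.TransvCent.AffineFusion

/-
The elementary subgroup `E` of order `16` made of `1`, `z` and the class `A`, and its normaliser when
the class `B` is not fused to `z`.

* `Coding.eSub`, `Coding.centralizer_eSub`
* `Coding.AffineHyp` : some element of class `A` and none of class `B` is conjugate to `z`
* `Coding.AffineHyp.le_normalizer`, `.transitive`, `.fuse`, `.orbit_card` : `N(E)` contains `C(z)`, is
  transitive on the `15` involutions of `E` and contains no other conjugate of `z`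
-/

set_option autoImplicit false

namespace Cfsg.Agent.TransvCent

/-- The codes of the subgroup. -/
def eList : List ℕ := (List.range 16).map (· + 34944)

theorem check_e_group : ((eList.all fun d => eList.all fun e => comm d e && eList.contains (mul d e)) &&
    (eList.all fun d => elts.contains d && mul d d == one && comm d repA) &&
    eList.contains one && eList.contains zc &&
    ((members repA chainA).all fun d => eList.contains d) &&
    eList.all fun d => d == one || d == zc || (members repA chainA).contains d) = true := by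
  decide +kernel

theorem check_e_cent :
    (elts.all fun d => !(eList.all fun e => comm d e) || eList.contains d) = true := by decide +kernel

theorem nodup_eList : eList.Nodup := by decide +kernel

namespace Coding

variable {G : Type*} [Group G] {z : G}

theorem eList_facts {d : ℕ} (hd : d ∈ eList) :
    d ∈ elts ∧ mul d d = one ∧ comm d repA = true ∧
      (d = one ∨ d = zc ∨ d ∈ members repA chainA) ∧
      ∀ e ∈ eList, comm d e = true ∧ mul d e ∈ eList := by
  have h := check_e_group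
  simp only [Bool.and_eq_true, List.all_eq_true, Bool.or_eq_true, beq_iff_eq, List.contains_iff_mem] at h
  obtain ⟨⟨⟨⟨⟨h1, h2⟩, -⟩, -⟩, -⟩, h6⟩ := h
  exact ⟨(h2 d hd).1.1, (h2 d hd).1.2, (h2 d hd).2, (or_assoc).1 (h6 d hd), h1 d hd⟩

theorem mem_eList : one ∈ eList ∧ zc ∈ eList ∧ ∀ d ∈ members repA chainA, d ∈ eList := by
  have h := check_e_group
  simp only [Bool.and_eq_true, List.all_eq_true, List.contains_iff_mem] at h
  exact ⟨h.1.1.1.2, h.1.1.2, h.1.2⟩

theorem e_mul_self (c : Coding z) {x : G} (hx : x ∈ c.codeSet eList) : x * x = 1 :=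
  (c.sq_eq_iff hx.1 (Commute.one_left z)).1 (by rw [c.map_one]; exact beq_iff_eq.2 (eList_facts hx.2).2.1)

/-- The subgroup of `1`, `z` and the class `A`. -/
def eSub (c : Coding z) : Subgroup G where
  carrier := c.codeSet eList
  one_mem' := ⟨Commute.one_left z, c.map_one ▸ mem_eList.1⟩
  mul_mem' {x y} hx hy := ⟨hx.1.mul_left hy.1, by
    rw [c.map_mul x y hx.1 hy.1]; exact ((eList_facts hx.2).2.2.2.2 _ hy.2).2⟩
  inv_mem' {x} hx := by
    rw [inv_eq_of_mul_eq_one_left (c.e_mul_self hx)]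
    exact hx

theorem z_mem_eSub (c : Coding z) : z ∈ c.eSub := ⟨Commute.refl z, c.map_z ▸ mem_eList.2.1⟩

theorem commute_of_mem_eSub (c : Coding z) {x y : G} (hx : x ∈ c.eSub) (hy : y ∈ c.eSub) :
    Commute x y := (c.comm_iff hx.1 hy.1).1 ((eList_facts hx.2).2.2.2.2 _ hy.2).1

theorem InCls.mem_eSub {c : Coding z} {x : G} (hx : c.InCls repA x) : x ∈ c.eSub :=
  ⟨hx.1, mem_eList.2.2 _ hx.mem_A⟩

theorem ncard_eSub (c : Coding z) : (c.eSub : Set G).ncard = 16 :=
  c.ncard_codeSet (fun _ hd => (eList_facts hd).1) nodup_eList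

/-- The subgroup is its own centraliser. -/
theorem centralizer_eSub (c : Coding z) : Subgroup.centralizer (c.eSub : Set G) = c.eSub := by
  ext y
  rw [Subgroup.mem_centralizer_iff]
  refine ⟨fun hy => ?_, fun hy x hx => (c.commute_of_mem_eSub hx hy).eq⟩
  have hyz : Commute y z := (hy z c.z_mem_eSub).symm
  refine ⟨hyz, ?_⟩
  have h := List.all_eq_true.1 check_e_cent _ (c.mem y hyz)
  have hb : (eList.all fun e => comm (c.f y) e) = true := by
    refine List.all_eq_true.2 fun e he => ?_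
    obtain ⟨x, hx, rfl⟩ := c.surj e (eList_facts he).1
    exact (c.comm_iff hyz hx).2 (hy x ⟨hx, he⟩).symm
  rwa [hb, Bool.not_true, Bool.false_or, List.contains_iff_mem] at h

/-- Some element of class `A` and none of class `B` is conjugate to `z`. -/
structure AffineHyp (c : Coding z) : Prop where
  hA : ∃ a, c.InCls repA a ∧ IsConj z a
  hB : ∀ y, c.InCls repB y → ¬ IsConj z y

namespace AffineHyp

variable {c : Coding z}

theorem fused (h : c.AffineHyp) {x : G} (hx : x ∈ c.eSub) (h1 : x ≠ 1) : IsConj z x := by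
  rcases (eList_facts hx.2).2.2.2.1 with e | e | e
  · exact absurd ((c.eq_iff hx.1 (Commute.one_left z)).1 (e.trans c.map_one.symm)) h1
  · rw [(c.eq_iff hx.1 (Commute.refl z)).1 (e.trans c.map_z.symm)]
  · obtain ⟨a, ha, haz⟩ := h.hA
    have hd := check_derived
    simp only [Bool.and_eq_true] at hd
    exact haz.trans (ha.isConj (c.chain_sound _ hd.1.1.1.1.1.1 x hx.1 e))

theorem mem_of_isConj (h : c.AffineHyp) {x : G} (hx : Commute x z) (hc : IsConj z x) : x ∈ c.eSub :=
  (c.eq_or_A_of_isConj h.hB hx hc).elim (fun e => e ▸ c.z_mem_eSub) InCls.mem_eSub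

theorem le_normalizer (h : c.AffineHyp) {g : G} (hg : Commute g z) :
    g ∈ Subgroup.normalizer (c.eSub : Set G) := by
  have key : ∀ {k u : G}, Commute k z → u ∈ c.eSub → k * u * k⁻¹ ∈ c.eSub := by
    intro k u hk hu
    by_cases h1 : u = 1
    · simp [h1, c.eSub.one_mem]
    · exact h.mem_of_isConj (commute_conj hk hu.1) ((h.fused hu h1).trans (isConj_iff.2 ⟨k, rfl⟩))
  rw [Subgroup.mem_normalizer_iff]
  refine fun u => ⟨key hg, fun hu => ?_⟩
  have := key hg.inv_left hu
  rwa [show g⁻¹ * (g * u * g⁻¹) * g⁻¹⁻¹ = u by group] at this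

theorem transitive (h : c.AffineHyp) {x : G} (hx : x ∈ c.eSub) (h1 : x ≠ 1) :
    ∃ g ∈ Subgroup.normalizer (c.eSub : Set G), g * z * g⁻¹ = x := by
  rcases c.eq_or_A_of_isConj h.hB hx.1 (h.fused hx h1) with e | e
  · exact ⟨1, one_mem _, by simp [e]⟩
  obtain ⟨a, ha, haz⟩ := h.hA
  obtain ⟨b, g, hb, hfb, hg1, hg2, -⟩ := c.exists_swap ha haz
  have hbA : b ∈ c.eSub := ⟨hb, hfb ▸ mem_eList.2.2 _ List.mem_cons_self⟩
  have hconj : ∀ {k u : G}, k * z * k⁻¹ = b → k * b * k⁻¹ = z → u ∈ c.eSub → k * u * k⁻¹ ∈ c.eSub := by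
    intro k u e1 e2 hu
    by_cases h1 : u = 1
    · simp [h1, c.eSub.one_mem]
    · refine h.mem_of_isConj ?_ ((h.fused hu h1).trans (isConj_iff.2 ⟨k, rfl⟩))
      rw [← e2]
      exact (Commute.conj_iff k).2 (c.commute_of_mem_eSub hu hbA)
  have hgN : g ∈ Subgroup.normalizer (c.eSub : Set G) := by
    rw [Subgroup.mem_normalizer_iff]
    refine fun u => ⟨hconj hg1 hg2, fun hu => ?_⟩
    have := hconj (k := g⁻¹) (by rw [← hg2]; group) (by rw [← hg1]; group) hu
    rwa [show g⁻¹ * (g * u * g⁻¹) * g⁻¹⁻¹ = u by group] at this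
  obtain ⟨hxz, k, hk, hke⟩ := e
  refine ⟨k⁻¹ * g, mul_mem (h.le_normalizer hk.inv_left) hgN, ?_⟩
  have hkx : k * x * k⁻¹ = b := (c.eq_iff (commute_conj hk hxz) hb).1 (hke.trans hfb.symm)
  calc k⁻¹ * g * z * (k⁻¹ * g)⁻¹ = k⁻¹ * (g * z * g⁻¹) * k := by group
    _ = x := by rw [hg1, ← hkx]; group

/-- Every conjugate of `z` in the normaliser lies in `E`. -/
theorem mem_of_conj_mem (h : c.AffineHyp) {x : G} (hc : IsConj z x)
    (hN : x ∈ Subgroup.normalizer (c.eSub : Set G)) : x ∈ c.eSub := by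
  have hx2 : x * x = 1 := by
    obtain ⟨g, rfl⟩ := isConj_iff.1 hc
    rw [show g * z * g⁻¹ * (g * z * g⁻¹) = g * (z * z) * g⁻¹ by group,
      c.mul_self_of_mem c.z_mem_uSub]
    group
  have hxi : x⁻¹ = x := inv_eq_of_mul_eq_one_left hx2
  -- `x` fixes an involution of `E`
  obtain ⟨v, hv, hv1, hvx⟩ : ∃ v ∈ c.eSub, v ≠ 1 ∧ Commute x v := by
    have hu := (Subgroup.mem_normalizer_iff.1 hN z).1 c.z_mem_eSub
    by_cases hz : x * z * x⁻¹ = z
    · exact ⟨z, c.z_mem_eSub, fun e => by
        have := c.orderOf_z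
        rw [e, orderOf_one] at this
        omega, mul_inv_eq_iff_eq_mul.1 hz⟩
    · refine ⟨z * (x * z * x⁻¹), mul_mem c.z_mem_eSub hu, fun e => hz ?_, ?_⟩
      · rw [← mul_left_cancel_iff (a := z), e, c.mul_self_of_mem c.z_mem_uSub]
      · refine mul_inv_eq_iff_eq_mul.1 ?_
        calc x * (z * (x * z * x⁻¹)) * x⁻¹ = x * z * x⁻¹ * ((x * x) * z * (x⁻¹ * x⁻¹)) := by group
          _ = x * z * x⁻¹ * z := by rw [hx2, hxi, hx2, one_mul, mul_one]
          _ = _ := (c.commute_of_mem_eSub hu c.z_mem_eSub).eq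
  obtain ⟨k, hk, hkz⟩ := h.transitive hv hv1
  have hy : Commute (k⁻¹ * x * k) z := by
    rw [← Commute.conj_iff k, show k * (k⁻¹ * x * k) * k⁻¹ = x by group, hkz]
    exact hvx
  have hyE := h.mem_of_isConj hy (hc.trans (isConj_iff.2 ⟨k⁻¹, by rw [inv_inv]⟩))
  have := (Subgroup.mem_normalizer_iff.1 hk _).1 hyE
  rwa [show k * (k⁻¹ * x * k) * k⁻¹ = x by group] at this

/-- The fusion condition for the closing step. -/
theorem fuse (h : c.AffineHyp) {g : G}
    (hN : g * z * g⁻¹ ∈ Subgroup.normalizer (c.eSub : Set G)) :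
    ∃ k ∈ Subgroup.normalizer (c.eSub : Set G), k * z * k⁻¹ = g * z * g⁻¹ := by
  refine h.transitive (h.mem_of_conj_mem (isConj_iff.2 ⟨g, rfl⟩) hN) fun e => ?_
  have := orderOf_conj g z
  rw [e, orderOf_one, c.orderOf_z] at this
  omega

/-- The normaliser has `15` conjugates of `z`. -/
theorem orbit_card (h : c.AffineHyp) :
    {x | ∃ g ∈ Subgroup.normalizer (c.eSub : Set G), g * z * g⁻¹ = x}.ncard = 15 := by
  have e : {x | ∃ g ∈ Subgroup.normalizer (c.eSub : Set G), g * z * g⁻¹ = x} =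
      (c.eSub : Set G) \ {1} := by
    ext x
    simp only [Set.mem_ofPred_eq, Set.mem_sdiff, Set.mem_singleton_iff, SetLike.mem_coe]
    constructor
    · rintro ⟨g, hg, rfl⟩
      refine ⟨(Subgroup.mem_normalizer_iff.1 hg z).1 c.z_mem_eSub, fun e => ?_⟩
      have := orderOf_conj g z
      rw [e, orderOf_one, c.orderOf_z] at this
      omega
    · exact fun hx => h.transitive hx.1 hx.2
  rw [e, Set.ncard_sdiff_singleton_of_mem c.eSub.one_mem, c.ncard_eSub]

end AffineHyp

end Coding

end Cfsg.Agent.TransvCent
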