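import Cfsg.Agent.Lib.TransvCent.Model
import Cfsg.Agent.Lib.TransvCent.Fusion

/-
The outer automorphism of the coded transvection centraliser.

* `transp` : transpose followed by the exchange of the first two indices, on codes
* `Coding.dual` : the coding twisted by inverse transpose; it exchanges the classes `A` and `B`
-/

set_option autoImplicit false

open Matrix

namespace Cfsg.Agent.TransvCent

local notation "K" => ZMod 2

/-- The three bit word made of bit `k` of the three rows. -/
def colBits (k r0 r1 r2 : ℕ) : ℕ :=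
  ((r0 >>> k) &&& 1) + 2 * ((r1 >>> k) &&& 1) + 4 * ((r2 >>> k) &&& 1)

/-- Transposition twisted by the exchange of the first two indices, on codes. -/
def transp (d : ℕ) : ℕ :=
  pack (d &&& 1) (fld d 4) (fld d 1) (colBits 0 (fld d 7) (fld d 10) (fld d 13))
    (colBits 1 (fld d 7) (fld d 10) (fld d 13)) (colBits 2 (fld d 7) (fld d 10) (fld d 13))

/-- The matrix form of `transp`. -/
def twist (M : Matrix (Fin 5) (Fin 5) K) : Matrix (Fin 5) (Fin 5) K :=
  Mᵀ.submatrix (Equiv.swap 0 1) (Equiv.swap 0 1)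

theorem twist_apply (M : Matrix (Fin 5) (Fin 5) K) (i j : Fin 5) :
    twist M i j = M (Equiv.swap 0 1 j) (Equiv.swap 0 1 i) := rfl

theorem twist_mul (M N : Matrix (Fin 5) (Fin 5) K) : twist (M * N) = twist N * twist M := by
  rw [twist, twist, twist, transpose_mul, submatrix_mul_equiv]

theorem twist_twist (M : Matrix (Fin 5) (Fin 5) K) : twist (twist M) = M := by
  ext i j
  simp [twist_apply, Equiv.swap_apply_self]

theorem det_twist (M : Matrix (Fin 5) (Fin 5) K) : (twist M).det = M.det := by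
  rw [twist, det_submatrix_equiv_self, det_transpose]

theorem Shape.twist {M : Matrix (Fin 5) (Fin 5) K} (hM : Shape M) : Shape (TransvCent.twist M) := by
  refine ⟨fun i => ?_, fun j => ?_⟩
  · rw [twist_apply, Equiv.swap_apply_left, hM.row]
    exact if_congr (by rw [Equiv.swap_apply_eq_iff, Equiv.swap_apply_right]) rfl rfl
  · rw [twist_apply, Equiv.swap_apply_right, hM.col]
    exact if_congr (by rw [Equiv.swap_apply_eq_iff, Equiv.swap_apply_left]) rfl rfl

theorem colBits_enc : ∀ a b c x y w p q r : K,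
    colBits 0 (enc a b c) (enc x y w) (enc p q r) = enc a x p ∧
      colBits 1 (enc a b c) (enc x y w) (enc p q r) = enc b y q ∧
      colBits 2 (enc a b c) (enc x y w) (enc p q r) = enc c w r := by
  decide +kernel

theorem transp_code (M : Matrix (Fin 5) (Fin 5) K) : transp (code M) = code (twist M) := by
  obtain ⟨f0, f1, f2, f3, f4, f5⟩ := fields (ZMod.val_lt (M 0 1)) (enc_lt (M 0 2) (M 0 3) (M 0 4))
    (enc_lt (M 2 1) (M 3 1) (M 4 1)) (enc_lt (M 2 2) (M 2 3) (M 2 4)) (enc_lt (M 3 2) (M 3 3) (M 3 4))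
    (enc_lt (M 4 2) (M 4 3) (M 4 4))
  obtain ⟨b0, b1, b2⟩ := colBits_enc (M 2 2) (M 2 3) (M 2 4) (M 3 2) (M 3 3) (M 3 4) (M 4 2) (M 4 3) (M 4 4)
  simp only [code, transp, f0, f1, f2, f3, f4, f5, b0, b1, b2, twist_apply]
  rfl

theorem transp_mul {d e : ℕ} (hd : d ∈ elts) (he : e ∈ elts) :
    transp (mul d e) = mul (transp e) (transp d) := by
  obtain ⟨g, hg, rfl⟩ := exists_of_mem hd
  obtain ⟨h, hh, rfl⟩ := exists_of_mem he
  rw [← hg.mul hh, transp_code, twist_mul, hh.twist.mul hg.twist, transp_code, transp_code]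

theorem transp_mem {d : ℕ} (hd : d ∈ elts) : transp d ∈ elts := by
  obtain ⟨g, hg, rfl⟩ := exists_of_mem hd
  rw [transp_code]
  exact mem_elts_of_shape hg.twist (by rw [det_twist, g.2]; exact one_ne_zero)

theorem transp_transp {d : ℕ} (hd : d ∈ elts) : transp (transp d) = d := by
  obtain ⟨g, -, rfl⟩ := exists_of_mem hd
  rw [transp_code, transp_code, twist_twist]

theorem check_transp_reps :
    transp zc = zc ∧ transp one = one ∧ transp repA = repB ∧ transp repB = repA ∧
      mul repA repA = one ∧ mul repB repB = one ∧ repA ∈ elts ∧ repB ∈ elts := by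
  decide +kernel

namespace Coding

variable {G : Type*} [Group G] {z : G}

theorem inv_z (c : Coding z) : z⁻¹ = z :=
  inv_eq_of_mul_eq_one_left (by rw [← pow_two, ← c.orderOf_z, pow_orderOf_eq_one])

/-- The coding composed with inverse transpose. -/
def dual (c : Coding z) : Coding z where
  f a := transp (c.f a⁻¹)
  mem a ha := transp_mem (c.mem _ ha.inv_left)
  map_mul a b ha hb := by
    rw [_root_.mul_inv_rev, c.map_mul _ _ hb.inv_left ha.inv_left,
      transp_mul (c.mem _ hb.inv_left) (c.mem _ ha.inv_left)]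
  inj a b ha hb h := inv_injective (c.inj _ _ ha.inv_left hb.inv_left (by
    rw [← transp_transp (c.mem _ ha.inv_left), h, transp_transp (c.mem _ hb.inv_left)]))
  surj d hd := by
    obtain ⟨a, ha, he⟩ := c.surj _ (transp_mem hd)
    exact ⟨a⁻¹, ha.inv_left, by rw [inv_inv, he, transp_transp hd]⟩
  map_z := by rw [c.inv_z, c.map_z, check_transp_reps.1]

theorem dual_f (c : Coding z) (a : G) : c.dual.f a = transp (c.f a⁻¹) := rfl

theorem InCls.inv_eq {c : Coding z} {r : ℕ} {x : G} (h : c.InCls r x) (hr : mul r r = one) :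
    x⁻¹ = x := by
  obtain ⟨hx, k, hk, he⟩ := h
  have hy := commute_conj hk hx
  have h2 : (k * x * k⁻¹) * (k * x * k⁻¹) = 1 :=
    (c.eq_iff (hy.mul_left hy) (Commute.one_left z)).1 (by rw [c.map_mul _ _ hy hy, he, hr, c.map_one])
  refine inv_eq_of_mul_eq_one_left ?_
  calc x * x = k⁻¹ * (k * x * k⁻¹ * (k * x * k⁻¹)) * k := by group
    _ = 1 := by rw [h2]; group

theorem InCls.dual {c : Coding z} {r : ℕ} {x : G} (h : c.InCls r x) (hr : mul r r = one) :
    c.dual.InCls (transp r) x := by
  have hi := h.inv_eq hr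
  obtain ⟨hx, k, hk, he⟩ := h
  refine ⟨hx, k, hk, ?_⟩
  rw [dual_f, show (k * x * k⁻¹)⁻¹ = k * x⁻¹ * k⁻¹ by group, hi, he]

theorem InCls.of_dual {c : Coding z} {r : ℕ} {x : G} (h : c.dual.InCls r x) (hr : mul r r = one) :
    c.InCls (transp r) x := by
  have hi := h.inv_eq hr
  obtain ⟨hx, k, hk, he⟩ := h
  refine ⟨hx, k, hk, ?_⟩
  rw [← he, dual_f, show (k * x * k⁻¹)⁻¹ = k * x⁻¹ * k⁻¹ by group, hi,
    transp_transp (c.mem _ (commute_conj hk hx))]

theorem inCls_dual_A (c : Coding z) {x : G} : c.dual.InCls repA x ↔ c.InCls repB x := by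
  obtain ⟨-, -, hAB, hBA, hA, hB, -⟩ := check_transp_reps
  refine ⟨fun h => ?_, fun h => ?_⟩
  · have := h.of_dual hA
    rwa [hAB] at this
  · have := h.dual hB
    rwa [hBA] at this

theorem inCls_dual_B (c : Coding z) {x : G} : c.dual.InCls repB x ↔ c.InCls repA x := by
  obtain ⟨-, -, hAB, hBA, hA, hB, -⟩ := check_transp_reps
  refine ⟨fun h => ?_, fun h => ?_⟩
  · have := h.of_dual hB
    rwa [hBA] at this
  · have := h.dual hA
    rwa [hAB] at this

end Coding

end Cfsg.Agent.TransvCent
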