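import Cfsg.Agent.Lib.TransvCent.Data

/-
Generated data for the normal elementary subgroup of order `64` of `C(z, a)`, `a` of class `A`.

* `uList`, `uBasis` : its codes and generators
* `candList` : the involutions of `C(z, a)` commuting with all their conjugates there
* `uNorm` : generators of its normaliser in `C(z)` with their inverses
-/

set_option autoImplicit false

namespace Cfsg.Agent.TransvCent

/-- The codes of the subgroup. -/
def uList : List ℕ := [
  34944, 34945, 34946, 34947, 34976, 34977, 34978, 34979, 35008, 35009,
  35010, 35011, 35040, 35041, 35042, 35043, 35968, 35969, 35970, 35971,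
  36000, 36001, 36002, 36003, 36032, 36033, 36034, 36035, 36064, 36065,
  36066, 36067, 43136, 43137, 43138, 43139, 43168, 43169, 43170, 43171,
  43200, 43201, 43202, 43203, 43232, 43233, 43234, 43235, 44160, 44161,
  44162, 44163, 44192, 44193, 44194, 44195, 44224, 44225, 44226, 44227,
  44256, 44257, 44258, 44259]

/-- Generators of the subgroup. -/
def uBasis : List ℕ := [34945, 34946, 34976, 35008, 35968, 43136]

/-- The involutions commuting with all their conjugates under `C(z, a)`. -/
def candList : List ℕ := [
  34945, 34946, 34947, 34948, 34949, 34950, 34951, 34952, 34953, 34954,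
  34955, 34956, 34957, 34958, 34959, 34976, 34977, 34978, 34979, 34984,
  34985, 34986, 34987, 35008, 35009, 35010, 35011, 35012, 35013, 35014,
  35015, 35040, 35041, 35042, 35043, 35052, 35053, 35054, 35055, 35968,
  35969, 35970, 35971, 35976, 35977, 35978, 35979, 36000, 36001, 36002,
  36003, 36008, 36009, 36010, 36011, 36032, 36033, 36034, 36035, 36064,
  36065, 36066, 36067, 43136, 43137, 43138, 43139, 43140, 43141, 43142,
  43143, 43168, 43169, 43170, 43171, 43200, 43201, 43202, 43203, 43204,
  43205, 43206, 43207, 43232, 43233, 43234, 43235, 44160, 44161, 44162,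
  44163, 44172, 44173, 44174, 44175, 44192, 44193, 44194, 44195, 44224,
  44225, 44226, 44227, 44256, 44257, 44258, 44259, 44268, 44269, 44270,
  44271]

/-- An element of `C(z, a)` telling the other involutions apart, with its inverse. -/
def uWit : ℕ × ℕ := (22659, 53379)

/-- Generators of the normaliser, with their inverses. -/
def uNorm : List (ℕ × ℕ) := [(20654, 20687), (31984, 54416)]

/-- The representative of a part of the subgroup. -/
def uARep : ℕ := 34946

/-- A part of the subgroup, each entry a conjugate of a later one. -/
def uAChain : List (ℕ × ℕ × ℕ) := [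
  (34947, 34946, 1)]

/-- The representative of a part of the subgroup. -/
def uBRep : ℕ := 34976

/-- A part of the subgroup, each entry a conjugate of a later one. -/
def uBChain : List (ℕ × ℕ × ℕ) := [
  (35041, 34977, 1), (35008, 35040, 1), (34977, 35009, 1), (35040, 34976, 1), (35009, 34976, 0)]

/-- The representative of a part of the subgroup. -/
def uDRep : ℕ := 35968

/-- A part of the subgroup, each entry a conjugate of a later one. -/
def uDChain : List (ℕ × ℕ × ℕ) := [
  (44160, 36000, 1), (44259, 35970, 1), (43203, 44162, 1), (36000, 43136, 1), (35970, 43136, 0), (44162, 36003, 1),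
  (43200, 36003, 0), (43136, 44256, 1), (36003, 43138, 1), (44256, 35968, 1), (43138, 35968, 0)]

/-- The representative of a part of the subgroup. -/
def uH2Rep : ℕ := 36032

/-- A part of the subgroup, each entry a conjugate of a later one. -/
def uH2Chain : List (ℕ × ℕ × ℕ) := [
  (36065, 43233, 1), (43235, 44226, 1), (43233, 44225, 1), (36035, 43170, 1), (43168, 44192, 1), (44226, 44195, 0),
  (36067, 43234, 1), (44225, 36033, 1), (43170, 36033, 0), (44192, 36064, 1), (44195, 36066, 1), (43234, 44227, 1),
  (44194, 44227, 0), (36033, 43169, 1), (36064, 43232, 1), (36066, 43232, 0), (44227, 36034, 1), (43169, 36034, 0),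
  (43232, 44224, 1), (44193, 44224, 0), (36034, 43171, 1), (44224, 36032, 1), (43171, 36032, 0)]

end Cfsg.Agent.TransvCent
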