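import Cfsg.Agent.Lib.TransvCent.FusionCheck
import Cfsg.Agent.Lib.TransvCent.UData

/-
Kernel checks on the normal elementary subgroup of order `64` of `C(z, a)`, `a` of class `A`.

* `check_u_group`, `check_u_cent`, `check_cand`, `check_cand_count` : the subgroup
* `check_norm_count` : its normaliser in the centraliser of `z`
* `check_homog` : the possible orbits
* `check_h2` : centres behind the fusion of the class `H2`
-/

set_option autoImplicit false

namespace Cfsg.Agent.TransvCent

/-- Each entry is a conjugate of a later one or of `r` by an entry of `uNorm`. -/
def uDerived (r : ℕ) : List (ℕ × ℕ × ℕ) → Bool
  | [] => true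
  | (x, p, k) :: rest =>
    (match uNorm[k]? with
      | some g => x == mul g.1 (mul p g.2)
      | none => false) &&
    (p == r || (rest.map Prod.fst).contains p) && uDerived r rest

/-- The union of `z`, the `A` part and the chosen ones of the parts `B`, `D`, `H2`. -/
def uSel (bB bD bH : Bool) : List ℕ :=
  zc :: (members uARep uAChain ++ (if bB then members uBRep uBChain else []) ++
    (if bD then members uDRep uDChain else []) ++ if bH then members uH2Rep uH2Chain else [])

/-- The number of `q` in `L` with `p * q` in `L`. -/
def lineNum (L : List ℕ) (p : ℕ) : ℕ := L.countP fun q => L.contains (mul p q)

/-- All points of `L` are on as many lines inside `L` as `zc`. -/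
def homog (L : List ℕ) : Bool := L.all fun p => lineNum L p == lineNum L zc

/-- The normalising condition. -/
def normA (d : ℕ) : Bool := mul d repA == mul repA d || mul d repA == mul (mul zc repA) d

/-- The involutions central in the centraliser of `s` outside `zc`, the class `A` and that of `s`. -/
def maybeUnfused (s : ℕ) (L : List (ℕ × ℕ × ℕ)) (gs : List ℕ) : List ℕ :=
  elts.filter fun d => isInv d && comm d s && (gs.all fun g => comm d g) &&
    !(d == zc || (members repA chainA).contains d || (members s L).contains d)

theorem check_u_elts : (uList.all fun d => elts.contains d && comm d repA &&
    (isInv d || d == one)) = true := by decide +kernel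

theorem check_u_group : (uList.all fun d => uList.all fun e => comm d e && uList.contains (mul d e)) = true ∧
    incr uList = true ∧ uList.length = 64 ∧ one ∈ uList ∧ zc ∈ uList ∧ repA ∈ uList ∧
    (uBasis.all fun d => uList.contains d) = true := by decide +kernel

theorem check_u_cent :
    (elts.all fun d => !(uBasis.all fun e => comm d e) || uList.contains d) = true := by decide +kernel

theorem check_wit : (elts.contains uWit.1 && elts.contains uWit.2 && comm uWit.1 repA &&
    mul uWit.1 uWit.2 == one) = true := by decide +kernel

theorem check_cand : (elts.all fun d => !(isInv d && comm d repA) || candList.contains d ||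
    !comm d (mul uWit.1 (mul d uWit.2))) = true := by decide +kernel

theorem check_cand_count : (candList.all fun d => uList.contains d ||
    candList.countP (fun e => comm d e) < 63) = true := by decide +kernel

theorem check_norm : (uNorm.all fun g => elts.contains g.1 && elts.contains g.2 &&
    mul g.1 g.2 == one && normA g.1) = true := by decide +kernel

theorem check_u_normal : (elts.all fun d => !normA d || uBasis.all fun e =>
    uList.any fun e' => mul d e == mul e' d) = true := by decide +kernel

theorem check_norm_count : elts.countP normA = 3072 := by decide +kernel

theorem check_u_parts : (uDerived uARep uAChain && uDerived uBRep uBChain && uDerived uDRep uDChain &&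
    uDerived uH2Rep uH2Chain) = true := by decide +kernel

theorem check_u_cover : (uList.all fun d => d == one || d == zc ||
    (members uARep uAChain).contains d || (members uBRep uBChain).contains d ||
    (members uDRep uDChain).contains d || (members uH2Rep uH2Chain).contains d ||
    (members repCq chainCq).contains d || (members repF chainF).contains d) = true := by decide +kernel

theorem check_u_A : (uList.all fun d => !(members repA chainA).contains d || d == repA ||
    d == mul zc repA) = true ∧ ((members uARep uAChain).all fun d => d == repA || d == mul zc repA) = true := by
  decide +kernel

theorem check_u_sel : (uSel true true true).all (fun d => uList.contains d && d != one) = true ∧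
    ((members uBRep uBChain).all fun d => (members repB chainB).contains d) = true ∧
    ((members uDRep uDChain).all fun d => (members repD chainD).contains d) = true ∧
    ((members uH2Rep uH2Chain).all fun d => (members repH2 chainH2).contains d) = true ∧
    incr uList = true := by decide +kernel

theorem check_homog : ∀ bB bD bH : Bool,
    homog (uSel bB bD bH) = ((!bB && !bD && !bH) || (bB && bD)) := by decide +kernel

theorem check_uSel_card : (uSel false false false).length = 3 ∧ (uSel true true false).length = 21 ∧
    (uSel true true true).length = 45 ∧ (uSel true true true).Nodup := by decide +kernel

theorem check_h2_src : (elts.contains 35024 && comm 35024 repH2 && isInv 35024 &&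
    (members repB chainB).contains 35024 && (members repB chainB).contains (mul zc 35024) &&
    elts.all fun a => !comm a repH2 || comm a 35024) = true := by decide +kernel

theorem check_h2 : ((maybeUnfused repH1 chainH1 gsH1).all fun d =>
      !(maybeUnfused repH1 chainH1 gsH1).contains (mul repH1 d)) = true ∧
    ((maybeUnfused repH2 chainH2 gsH2).all fun d =>
      !(maybeUnfused repH2 chainH2 gsH2).contains (mul repH2 d)) = true := by decide +kernel

end Cfsg.Agent.TransvCent
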