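import Cfsg.Agent.Lib.TransvCent.ElemData
import Cfsg.Agent.Lib.TransvCent.Swap
import Cfsg.Agent.Lib.TransvCent.UCheck

/-
Kernel checks behind the list of elementary subgroups of order `64` of the coded centraliser.

* `check_elem_q` : the radical has none
* `check_elem_D`, `check_elem_F`, `check_elem_H1`, `check_elem_H2` : those through the outer representatives
-/

set_option autoImplicit false

namespace Cfsg.Agent.TransvCent

/-- The codes of the radical. -/
def qList : List ℕ := (List.range 128).map (· + 34944)

/-- The code `d` is moved by `g` into the first or by `g'` into the second standard subgroup. -/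
def inMoved (gs : (ℕ × ℕ) × (ℕ × ℕ)) (d : ℕ) : Bool :=
  uList.contains (mul gs.1.1 (mul d gs.1.2)) || uList.contains (transp (mul gs.2.1 (mul d gs.2.2)))

/-- The data for a representative `r` are complete. -/
def elemOK (r : ℕ) (S : List ℕ) (gs : (ℕ × ℕ) × (ℕ × ℕ)) : Bool :=
  (elts.all fun d => !(isInv d && comm d r) || S.contains d) &&
    elts.contains gs.1.1 && elts.contains gs.1.2 && mul gs.1.1 gs.1.2 == one &&
    elts.contains gs.2.1 && elts.contains gs.2.2 && mul gs.2.1 gs.2.2 == one &&
    S.all fun d => inMoved gs d || S.countP (fun e => comm d e) < 63

theorem check_elem_q : ((elts.all fun d => !(isInv d) || !(d / 128 == 273) || qList.contains d) &&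
    qList.all fun d => !(isInv d) || d == zc ||
      (qList.filter fun e => isInv e && comm d e).length < 63) = true := by decide +kernel

theorem check_elem_radical : ((members repA chainA ++ members repB chainB ++ members repCq chainCq).all
    fun d => d / 128 == 273) = true := by decide +kernel

theorem check_elem_D : elemOK repD elemInvD elemMoveD = true := by decide +kernel

theorem check_elem_F : elemOK repF elemInvF elemMoveF = true := by decide +kernel

theorem check_elem_H1 : elemOK repH1 elemInvH1 elemMoveH1 = true := by decide +kernel

theorem check_elem_H2 : elemOK repH2 elemInvH2 elemMoveH2 = true := by decide +kernel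

end Cfsg.Agent.TransvCent
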