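import Cfsg.Agent.Lib.TransvCent.U
import Cfsg.Agent.Lib.TransvCent.Swap
import Cfsg.Agent.Lib.TransvCent.ElemCheck

/-
The elementary subgroups of order `64` of the centraliser.

* `Coding.map_conj_eq_uSub` : each is conjugate there to `U` or to `U` of the dual coding
-/

set_option autoImplicit false

namespace Cfsg.Agent.TransvCent

namespace Coding

variable {G : Type*} [Group G] {z : G}

/-- A subgroup inside the union of two is inside one of them. -/
theorem le_or_le_of_union {V A B : Subgroup G} (h : ∀ v ∈ V, v ∈ A ∨ v ∈ B) : V ≤ A ∨ V ≤ B := by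
  by_contra hne
  rw [not_or, SetLike.not_le_iff_exists, SetLike.not_le_iff_exists] at hne
  obtain ⟨⟨x, hx, hxA⟩, ⟨y, hy, hyB⟩⟩ := hne
  have hxB := (h x hx).resolve_left hxA
  have hyA := (h y hy).resolve_right hyB
  rcases h (x * y) (mul_mem hx hy) with k | k
  · exact hxA ((A.mul_mem_cancel_right hyA).1 k)
  · exact hyB ((B.mul_mem_cancel_left hxB).1 k)

/-- Every elementary subgroup of order `64` of the centraliser is conjugate to one of the two standard
ones. -/
theorem map_conj_eq_uSub (c : Coding z) {V : Subgroup G} (hV : ∀ v ∈ V, Commute v z ∧ v * v = 1)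
    (hab : ∀ v ∈ V, ∀ w ∈ V, Commute v w) (hcard : (V : Set G).ncard = 64) :
    ∃ h, Commute h z ∧ (V.map (MulAut.conj h).toMonoidHom = c.uSub ∨
      V.map (MulAut.conj h).toMonoidHom = c.dual.uSub) := by
  classical
  have hinv : ∀ v ∈ V, v ≠ 1 → isInv (c.f v) = true := fun v hv h1 => by
    rw [c.isInv_iff (hV v hv).1, orderOf_eq_prime_iff, pow_two]
    exact ⟨(hV v hv).2, h1⟩
  -- some element lies outside the radical
  obtain ⟨x, hx, hx1, hxQ⟩ : ∃ x ∈ V, x ≠ 1 ∧ c.f x / 128 ≠ 273 := by
    by_contra hne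
    push Not at hne
    have hq : ∀ v ∈ V, v ≠ 1 → c.f v ∈ qList := fun v hv h1 => by
      have h := check_elem_q
      rw [Bool.and_eq_true] at h
      have := List.all_eq_true.1 h.1 _ (c.mem v (hV v hv).1)
      simpa [hinv v hv h1, hne v hv h1] using this
    obtain ⟨v, hv, hv1, hvz⟩ : ∃ v ∈ V, v ≠ 1 ∧ v ≠ z := by
      by_contra hne'
      push Not at hne'
      have hsub : (V : Set G) ⊆ {1, z} := fun v hv => by
        by_cases h1 : v = 1
        · exact Or.inl h1
        · exact Or.inr (hne' v hv h1)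
      have h3 := Set.ncard_le_ncard hsub (Set.toFinite _)
      rw [hcard] at h3
      have h2 := Set.ncard_insert_le (1 : G) ({z} : Set G)
      rw [Set.ncard_singleton] at h2
      omega
    have h := check_elem_q
    rw [Bool.and_eq_true] at h
    have hcnt := List.all_eq_true.1 h.2 _ (hq v hv hv1)
    rw [hinv v hv hv1, Bool.not_true, Bool.false_or, Bool.or_eq_true, beq_iff_eq, decide_eq_true_eq] at hcnt
    have hlt := hcnt.resolve_left fun e =>
      hvz ((c.eq_iff (hV v hv).1 (Commute.refl z)).1 (e.trans c.map_z.symm))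
    have hsub : c.f '' ((V : Set G) \ {1}) ⊆
        ↑(qList.filter fun e => isInv e && comm (c.f v) e).toFinset := by
      rintro _ ⟨w, ⟨hw, hw1⟩, rfl⟩
      simp only [List.coe_toFinset, Set.mem_ofPred_eq, List.mem_filter, Bool.and_eq_true]
      exact ⟨hq w hw hw1, hinv w hw hw1, (c.comm_iff (hV v hv).1 (hV w hw).1).2 (hab v hv w hw)⟩
    have h3 := Set.ncard_le_ncard hsub (Finset.finite_toSet _)
    rw [Set.InjOn.ncard_image fun x hx y hy e => c.inj x y (hV x hx.1).1 (hV y hy.1).1 e,
      Set.ncard_sdiff_singleton_of_mem V.one_mem, hcard, Set.ncard_coe_finset] at h3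
    have h2 := List.toFinset_card_le (qList.filter fun e => isInv e && comm (c.f v) e)
    omega
  obtain ⟨hxz, hx2⟩ := hV x hx
  -- the finite part
  have main : ∀ {r : ℕ} {S : List ℕ} {gs : (ℕ × ℕ) × (ℕ × ℕ)}, elemOK r S gs = true → c.InCls r x →
      ∃ h, Commute h z ∧ (V.map (MulAut.conj h).toMonoidHom = c.uSub ∨
        V.map (MulAut.conj h).toMonoidHom = c.dual.uSub) := by
    rintro r S ⟨⟨g1, g1'⟩, ⟨g2, g2'⟩⟩ hok ⟨-, k, hk, hkr⟩
    simp only [elemOK, Bool.and_eq_true, List.contains_iff_mem, beq_iff_eq] at hok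
    obtain ⟨⟨⟨⟨⟨⟨⟨hS, h11⟩, h12⟩, h1e⟩, h21⟩, h22⟩, h2e⟩, hall⟩ := hok
    obtain ⟨η, hη, rfl⟩ := c.surj _ h11
    obtain ⟨η', hη', rfl⟩ := c.surj _ h12
    obtain ⟨θ, hθ, rfl⟩ := c.surj _ h21
    obtain ⟨θ', hθ', rfl⟩ := c.surj _ h22
    rw [← c.map_mul _ _ hη hη', ← c.map_one, c.eq_iff (hη.mul_left hη') (Commute.one_left z)] at h1e
    rw [← c.map_mul _ _ hθ hθ', ← c.map_one, c.eq_iff (hθ.mul_left hθ') (Commute.one_left z)] at h2e
    have eη : η⁻¹ = η' := inv_eq_of_mul_eq_one_right h1e
    have eθ : θ⁻¹ = θ' := inv_eq_of_mul_eq_one_right h2e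
    set W := V.map (MulAut.conj k).toMonoidHom with hW
    have hcardW : (W : Set G).ncard = 64 := by
      rw [hW, Subgroup.coe_map, MulEquiv.coe_toMonoidHom,
        Set.ncard_image_of_injective _ (MulEquiv.injective _), hcard]
    have hWfin : (W : Set G).Finite := Set.finite_of_ncard_ne_zero (by rw [hcardW]; decide)
    have hWV : ∀ w ∈ W, Commute w z ∧ w * w = 1 ∧ Commute w (k * x * k⁻¹) := by
      rintro _ ⟨v, hv, rfl⟩
      simp only [MulEquiv.coe_toMonoidHom, MulAut.conj_apply]
      refine ⟨commute_conj hk (hV v hv).1, ?_, (Commute.conj_iff k).2 (hab v hv x hx)⟩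
      rw [show k * v * k⁻¹ * (k * v * k⁻¹) = k * (v * v) * k⁻¹ by group, (hV v hv).2]
      group
    have hWab : ∀ v ∈ W, ∀ w ∈ W, Commute v w := by
      rintro _ ⟨v, hv, rfl⟩ _ ⟨w, hw, rfl⟩
      exact (hab v hv w hw).map _
    have hxk : Commute (k * x * k⁻¹) z := commute_conj hk hxz
    have hWS : ∀ w ∈ W, w ≠ 1 → c.f w ∈ S := fun w hw h1 => by
      have hwi : isInv (c.f w) = true := by
        rw [c.isInv_iff (hWV w hw).1, orderOf_eq_prime_iff, pow_two]
        exact ⟨(hWV w hw).2.1, h1⟩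
      have hwr : comm (c.f w) r = true := by
        rw [← hkr, c.comm_iff (hWV w hw).1 hxk]; exact (hWV w hw).2.2
      have := List.all_eq_true.1 hS _ (c.mem w (hWV w hw).1)
      simpa [hwi, hwr] using this
    have hin : ∀ w ∈ W, w ∈ c.uSub.comap (MulAut.conj η).toMonoidHom ∨
        w ∈ c.dual.uSub.comap (MulAut.conj θ).toMonoidHom := by
      intro w hw
      by_cases h1 : w = 1
      · exact Or.inl (h1 ▸ one_mem _)
      obtain ⟨hwz, hw2, -⟩ := hWV w hw
      have h := List.all_eq_true.1 hall _ (hWS w hw h1)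
      rw [Bool.or_eq_true, decide_eq_true_eq] at h
      have hge : ¬ S.countP (fun e => comm (c.f w) e) < 63 := by
        have hsub : c.f '' ((W : Set G) \ {1}) ⊆ ↑(S.filter fun e => comm (c.f w) e).toFinset := by
          rintro _ ⟨v, ⟨hv, hv1⟩, rfl⟩
          simp only [List.coe_toFinset, Set.mem_ofPred_eq, List.mem_filter]
          exact ⟨hWS v hv hv1, (c.comm_iff hwz (hWV v hv).1).2 (hWab w hw v hv)⟩
        have h3 := Set.ncard_le_ncard hsub (Finset.finite_toSet _)
        rw [Set.InjOn.ncard_image fun x hx y hy e => c.inj x y (hWV x hx.1).1 (hWV y hy.1).1 e,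
          Set.ncard_sdiff_singleton_of_mem W.one_mem, hcardW, Set.ncard_coe_finset] at h3
        have h2 := List.toFinset_card_le (S.filter fun e => comm (c.f w) e)
        rw [← List.countP_eq_length_filter] at h2
        omega
      have h' := h.resolve_right hge
      simp only [inMoved, Bool.or_eq_true, List.contains_iff_mem] at h'
      rcases h' with h' | h'
      · refine Or.inl ⟨commute_conj hη hwz, ?_⟩
        show c.f (η * w * η⁻¹) ∈ uList
        rw [eη, mul_assoc, c.map_mul _ _ hη (hwz.mul_left hη'), c.map_mul _ _ hwz hη']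
        exact h'
      · refine Or.inr ⟨commute_conj hθ hwz, ?_⟩
        show c.dual.f (θ * w * θ⁻¹) ∈ uList
        rw [dual_f, show (θ * w * θ⁻¹)⁻¹ = θ * w⁻¹ * θ⁻¹ by group, inv_eq_of_mul_eq_one_left hw2, eθ,
          mul_assoc, c.map_mul _ _ hθ (hwz.mul_left hθ'), c.map_mul _ _ hwz hθ']
        exact h'
    have fin : ∀ {h : G} {d : Coding z}, Commute h z →
        W ≤ d.uSub.comap (MulAut.conj h).toMonoidHom →
        V.map (MulAut.conj (h * k)).toMonoidHom = d.uSub := by
      intro h d hh hle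
      refine SetLike.coe_injective (Set.eq_of_subset_of_ncard_le ?_ ?_ d.finite_uSub)
      · rintro _ ⟨v, hv, rfl⟩
        have := hle ⟨v, hv, rfl⟩
        simp only [MulEquiv.coe_toMonoidHom, Subgroup.mem_comap, MulAut.conj_apply] at this
        simp only [MulEquiv.coe_toMonoidHom, MulAut.conj_apply, SetLike.mem_coe]
        rwa [show h * k * v * (h * k)⁻¹ = h * (k * v * k⁻¹) * h⁻¹ by group]
      · rw [Subgroup.coe_map, MulEquiv.coe_toMonoidHom,
          Set.ncard_image_of_injective _ (MulEquiv.injective _), hcard, d.ncard_uSub]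
    rcases le_or_le_of_union hin with hle | hle
    · exact ⟨η * k, hη.mul_left hk, Or.inl (fin hη hle)⟩
    · exact ⟨θ * k, hθ.mul_left hk, Or.inr (fin hθ hle)⟩
  have hd := check_derived
  simp only [Bool.and_eq_true] at hd
  obtain ⟨⟨⟨⟨⟨⟨hA, hB⟩, hD⟩, hC⟩, h1⟩, h2⟩, hF⟩ := hd
  have h := List.all_eq_true.1 check_classes _ (c.mem x hxz)
  rw [hinv x hx hx1] at h
  simp only [Bool.not_true, Bool.false_or, Bool.or_eq_true, beq_iff_eq, List.contains_iff_mem] at h
  have rad : ∀ d ∈ members repA chainA ++ members repB chainB ++ members repCq chainCq, d / 128 = 273 :=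
    fun d hd => beq_iff_eq.1 (List.all_eq_true.1 check_elem_radical d hd)
  rcases h with ((((((h | h) | h) | h) | h) | h) | h) | h
  · exact absurd (by rw [h]; decide +kernel) hxQ
  · exact absurd (rad _ (List.mem_append_left _ (List.mem_append_left _ h))) hxQ
  · exact absurd (rad _ (List.mem_append_left _ (List.mem_append_right _ h))) hxQ
  · exact main check_elem_D (c.chain_sound _ hD x hxz h)
  · exact absurd (rad _ (List.mem_append_right _ h)) hxQ
  · exact main check_elem_H1 (c.chain_sound _ h1 x hxz h)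
  · exact main check_elem_H2 (c.chain_sound _ h2 x hxz h)
  · exact main check_elem_F (c.chain_sound _ hF x hxz h)

end Coding

end Cfsg.Agent.TransvCent
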