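import Cfsg.Agent.Lib.TransvCent.Orbit
import Cfsg.Agent.Lib.TransvCent.Elem
import Cfsg.Agent.Lib.TransvCent.AffineNorm

/-
An orbit of length three means the affine case.

* `Coding.not_isConj_B_of_orbit_three` : then no element of class `B` is conjugate to `z`
* `Coding.orbit_three_iff`, `Coding.affineHyp_of_orbit_three`
-/

set_option autoImplicit false

namespace Cfsg.Agent.TransvCent

theorem check_parts_even : ∀ bD bH : Bool,
    Even ((members uBRep uBChain ++ (if bD then members uDRep uDChain else []) ++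
      if bH then members uH2Rep uH2Chain else []).length) ∧
    (members uBRep uBChain ++ (if bD then members uDRep uDChain else []) ++
      if bH then members uH2Rep uH2Chain else []).Nodup := by decide +kernel

namespace Coding

variable {G : Type*} [Group G] {z : G}

/-- Conjugation between the normalisers of two conjugate subgroups. -/
theorem conj_mem_normalizer {S T : Subgroup G} {n g : G}
    (h : S.map (MulAut.conj n).toMonoidHom = T) (hg : g ∈ Subgroup.normalizer (S : Set G)) :
    n * g * n⁻¹ ∈ Subgroup.normalizer (T : Set G) := by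
  subst h
  rw [Subgroup.mem_normalizer_iff] at hg ⊢
  intro x
  simp only [Subgroup.mem_map_equiv, MulAut.conj_symm_apply, hg (n⁻¹ * x * n)]
  rw [show n⁻¹ * (n * g * n⁻¹ * x * (n * g * n⁻¹)⁻¹) * n = g * (n⁻¹ * x * n) * g⁻¹ by group]

theorem not_isConj_B_of_orbit_three (c : Coding z) {a : G} (ha : c.InCls repA a) (haz : IsConj z a)
    (hO : c.orbit = c.codeSet (uSel false false false)) {y : G} (hy : c.InCls repB y) :
    ¬ IsConj z y := by
  classical
  intro hyz
  have hd := check_derived
  simp only [Bool.and_eq_true] at hd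
  obtain ⟨⟨⟨⟨⟨⟨hdA, hdB⟩, -⟩, hC⟩, -⟩, -⟩, hF⟩ := hd
  have hp := check_u_parts
  simp only [Bool.and_eq_true] at hp
  obtain ⟨⟨⟨-, hpB⟩, hpD⟩, hpH⟩ := hp
  have hall : ∀ d ∈ uSel true true true, d ∈ uList := fun d hd =>
    List.contains_iff_mem.1 (List.all_eq_true.1 (check_uSel_sub true true true).2 d hd)
  have subB : ∀ d ∈ members uBRep uBChain, d ∈ uList := fun d hd => hall d (by simp [uSel, hd])
  have subD : ∀ d ∈ members uDRep uDChain, d ∈ uList := fun d hd => hall d (by simp [uSel, hd])
  have subH : ∀ d ∈ members uH2Rep uH2Chain, d ∈ uList := fun d hd => hall d (by simp [uSel, hd])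
  obtain ⟨R, hR, hRc⟩ := c.surj _ (uList_elts (subB _ List.mem_cons_self)).1
  obtain ⟨RD, hRD, hRDc⟩ := c.surj _ (uList_elts (subD _ List.mem_cons_self)).1
  obtain ⟨RH, hRH, hRHc⟩ := c.surj _ (uList_elts (subH _ List.mem_cons_self)).1
  have hRU : R ∈ c.uSub := ⟨hR, hRc ▸ subB _ List.mem_cons_self⟩
  have hRB : c.InCls repB R := c.chain_sound _ hdB R hR
    (hRc ▸ List.contains_iff_mem.1 (List.all_eq_true.1 check_u_sel.2.1 _ List.mem_cons_self))
  have hRz : IsConj z R := hyz.trans (hy.isConj hRB)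
  -- `R` is outside the orbit of `z`
  have hRO : R ∉ c.orbit := by
    intro h
    rw [hO] at h
    have := h.2
    rw [hRc] at this
    revert this
    decide +kernel
  obtain ⟨g, hg⟩ := isConj_iff.1 hRz
  -- pull `U` back along `g`
  set V := c.uSub.map (MulAut.conj g⁻¹).toMonoidHom with hV
  have hVz : ∀ v ∈ V, Commute v z ∧ v * v = 1 := by
    rintro _ ⟨u, hu, rfl⟩
    simp only [MulEquiv.coe_toMonoidHom, MulAut.conj_apply, inv_inv]
    refine ⟨?_, ?_⟩
    · rw [← Commute.conj_iff g, hg, show g * (g⁻¹ * u * g) * g⁻¹ = u by group]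
      exact c.commute_of_mem_uSub hu hRU
    · rw [show g⁻¹ * u * g * (g⁻¹ * u * g) = g⁻¹ * (u * u) * g by group, c.mul_self_of_mem_uSub hu]
      group
  have hVab : ∀ v ∈ V, ∀ w ∈ V, Commute v w := by
    rintro _ ⟨u, hu, rfl⟩ _ ⟨w, hw, rfl⟩
    exact (c.commute_of_mem_uSub hu hw).map _
  have hVc : (V : Set G).ncard = 64 := by
    rw [hV, Subgroup.coe_map, MulEquiv.coe_toMonoidHom,
      Set.ncard_image_of_injective _ (MulEquiv.injective _), c.ncard_uSub]
  obtain ⟨k, hk, hmap⟩ := c.map_conj_eq_uSub hVz hVab hVc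
  set n := k * g⁻¹ with hn
  have hnR : n * R * n⁻¹ = z := by
    rw [hn, ← hg, show k * g⁻¹ * (g * z * g⁻¹) * (k * g⁻¹)⁻¹ = k * z * k⁻¹ by group, hk.eq,
      mul_inv_cancel_right]
  have hcomp : V.map (MulAut.conj k).toMonoidHom = c.uSub.map (MulAut.conj n).toMonoidHom := by
    rw [hV, Subgroup.map_map]
    congr 1
    ext x
    simp [hn, mul_assoc]
  rw [hcomp] at hmap
  rcases hmap with hmap | hmap
  · -- `n` normalises `U`
    refine hRO ⟨n⁻¹, inv_mem (Subgroup.mem_normalizer_iff_map_conj_eq.2 hmap), ?_⟩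
    rw [← hnR]; group
  -- `n` moves `U` to the other side and the orbit of `R` to that of `z`
  set P : Set G := {x | ∃ h ∈ Subgroup.normalizer (c.uSub : Set G), h * R * h⁻¹ = x} with hP
  have hPinv : ∀ h ∈ Subgroup.normalizer (c.uSub : Set G), ∀ x, h * x * h⁻¹ ∈ P ↔ x ∈ P := by
    intro h hh x
    constructor
    · rintro ⟨m, hm, e⟩
      exact ⟨h⁻¹ * m, mul_mem (inv_mem hh) hm, by
        rw [show h⁻¹ * m * R * (h⁻¹ * m)⁻¹ = h⁻¹ * (m * R * m⁻¹) * h by group, e]; group⟩
    · rintro ⟨m, hm, rfl⟩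
      exact ⟨h * m, mul_mem hh hm, by group⟩
  have hRP : R ∈ P := ⟨1, one_mem _, by simp⟩
  have himg : (fun x => n * x * n⁻¹) '' P = c.dual.orbit := by
    have hback : c.dual.uSub.map (MulAut.conj n⁻¹).toMonoidHom = c.uSub := by
      rw [← hmap, Subgroup.map_map]
      convert Subgroup.map_id c.uSub
      ext x
      simp [mul_assoc]
    ext x
    constructor
    · rintro ⟨_, ⟨h, hh, rfl⟩, rfl⟩
      exact ⟨n * h * n⁻¹, conj_mem_normalizer hmap hh, by rw [← hnR]; group⟩
    · rintro ⟨h, hh, rfl⟩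
      refine ⟨n⁻¹ * h * n * R * (n⁻¹ * h * n)⁻¹, ⟨_, ?_, rfl⟩, ?_⟩
      · have := conj_mem_normalizer hback hh
        rwa [inv_inv] at this
      · rw [← hnR]; group
  have hcard : P.ncard = c.dual.orbit.ncard := by
    rw [← himg, Set.ncard_image_of_injective _ fun x y e => mul_left_cancel (mul_right_cancel e)]
  -- the orbit of `R` is made of parts of even size
  have hPU : ∀ x ∈ P, x ∈ c.uSub ∧ IsConj z x ∧ x ∉ c.orbit ∧ x ≠ 1 := by
    rintro _ ⟨h, hh, rfl⟩
    refine ⟨(Subgroup.mem_normalizer_iff.1 hh R).1 hRU, hRz.trans (isConj_iff.2 ⟨h, rfl⟩),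
      fun k => hRO ((c.conj_mem_orbit_iff hh).1 k), fun e => ?_⟩
    have := orderOf_conj h R
    rw [e, orderOf_one, ← hg, orderOf_conj, c.orderOf_z] at this
    omega
  have hpart : ∀ {r : ℕ} {S : G} {L : List (ℕ × ℕ × ℕ)}, Commute S z → c.f S = r →
      uDerived r L = true → (∀ d ∈ members r L, d ∈ uList) →
      ∀ x, Commute x z → c.f x ∈ members r L → (x ∈ P ↔ S ∈ P) := fun hS hSr hL hsub =>
    c.derived_invariant (P := fun x => x ∈ P) hPinv hS hSr _ hL fun d hd => (uList_elts (hsub d hd)).1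
  set L := members uBRep uBChain ++ (if decide (RD ∈ P) then members uDRep uDChain else []) ++
    if decide (RH ∈ P) then members uH2Rep uH2Chain else [] with hL
  have hPL : P = c.codeSet L := by
    ext x
    constructor
    · intro hx
      obtain ⟨hxU, hxc, hxO, hx1⟩ := hPU x hx
      refine ⟨hxU.1, ?_⟩
      have h := List.all_eq_true.1 check_u_cover _ hxU.2
      simp only [Bool.or_eq_true, beq_iff_eq, List.contains_iff_mem] at h
      simp only [hL, List.mem_append]
      rcases h with ((((((h | h) | h) | h) | h) | h) | h) | h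
      · exact absurd ((c.eq_iff hxU.1 (Commute.one_left z)).1 (h.trans c.map_one.symm)) hx1
      · exact absurd (hO ▸ ⟨hxU.1, by simp [uSel, h]⟩) hxO
      · exact absurd (hO ▸ ⟨hxU.1, by simp [uSel, h]⟩) hxO
      · exact Or.inl (Or.inl h)
      · have := (hpart hRD hRDc hpD subD x hxU.1 h).1 hx
        simp [this, h]
      · have := (hpart hRH hRHc hpH subH x hxU.1 h).1 hx
        simp [this, h]
      · exact absurd hxc (c.not_isConj_Cq_F (Or.inl (c.chain_sound _ hC x hxU.1 h)))
      · exact absurd hxc (c.not_isConj_Cq_F (Or.inr (c.chain_sound _ hF x hxU.1 h)))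
    · rintro ⟨hxz, hx⟩
      simp only [hL, List.mem_append] at hx
      rcases hx with (h | h) | h
      · exact (hpart hR hRc hpB subB x hxz h).2 hRP
      · by_cases hb : RD ∈ P
        · simp only [hb, decide_true, if_true] at h
          exact (hpart hRD hRDc hpD subD x hxz h).2 hb
        · simp [hb] at h
      · by_cases hb : RH ∈ P
        · simp only [hb, decide_true, if_true] at h
          exact (hpart hRH hRHc hpH subH x hxz h).2 hb
        · simp [hb] at h
  have hLsub : ∀ d ∈ L, d ∈ elts := by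
    intro d hd
    refine (uList_elts ?_).1
    simp only [hL, List.mem_append] at hd
    rcases hd with (h | h) | h
    · exact subB d h
    · split_ifs at h
      · exact subD d h
      · simp at h
    · split_ifs at h
      · exact subH d h
      · simp at h
  obtain ⟨heven, hnd⟩ := check_parts_even (decide (RD ∈ P)) (decide (RH ∈ P))
  rw [hPL, c.ncard_codeSet hLsub hnd] at hcard
  obtain ⟨m, hm⟩ := heven
  rw [← hL] at hm
  have hodd := c.dual.orbit_ncard (x := R) (c.inCls_dual_A.2 hRB) hRz
  omega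

theorem affineHyp_of_orbit_three (c : Coding z) {a : G} (ha : c.InCls repA a) (haz : IsConj z a)
    (hO : c.orbit = c.codeSet (uSel false false false)) : c.AffineHyp :=
  ⟨⟨a, ha, haz⟩, fun _ hy => c.not_isConj_B_of_orbit_three ha haz hO hy⟩

theorem orbit_three_iff (c : Coding z) {a : G} (ha : c.InCls repA a) (haz : IsConj z a) :
    c.orbit = c.codeSet (uSel false false false) ↔ ∀ y, c.InCls repB y → ¬ IsConj z y :=
  ⟨fun h _ hy => c.not_isConj_B_of_orbit_three ha haz h hy, fun h => c.orbit_eq_three_of_not_B ha haz h⟩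

end Coding

end Cfsg.Agent.TransvCent
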