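import Cfsg.Agent.Lib.TransvCent.AffineTop
import Cfsg.Agent.Lib.TransvCent.AmalgamTop
import Cfsg.Agent.Lib.TransvCent.Three
import Cfsg.Agent.Lib.TransvCent.Model
import Cfsg.Prelude.Def_Spor_He

/-
The four cases of a coded involution centraliser with `z` not weakly closed.

* `affine_iso` : the affine case is the stabiliser of a vector
* `four_of_completes` : the four cases, given the three completions and the witness in the Held group
* `four_of_iso` : the same from the hypotheses on the centraliser of a transvection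
-/

set_option autoImplicit false

open Cfsg

universe u

namespace Cfsg.Agent.TransvCent

local notation "SL5" => Matrix.SpecialLinearGroup (Fin 5) (ZMod 2)

variable {G : Type u} [Group G] [Finite G] {z : G}

/-- The affine case. -/
theorem affine_iso {c : Coding z} (h : c.AffineHyp) :
    ∃ v : Fin 5 → ZMod 2, v ≠ 0 ∧ Nonempty (G ≃* MulAction.stabilizer SL5 v) := by
  refine ⟨e0, fun e => ?_, ?_⟩
  · have := congrFun e 0
    simp [e0] at this
  · obtain ⟨φ, hinj, -, hrange⟩ := h.exists_stab_hom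
    rw [h.normalizer_eq_top] at hrange
    exact ⟨(MulEquiv.ofBijective φ ⟨hinj, MonoidHom.range_eq_top.1 hrange⟩).symm⟩

/-- **The four cases.** -/
theorem four_of_completes {tL : Fin 4 → SL5} {tM : Fin 4 → ↥Cfsg.M24} {tH : Fin 4 → Cfsg.Spor.He}
    (h1 : Completes.{u} SL5 tL relsL5) (h2 : Completes.{u} (↥Cfsg.M24) tM relsM24)
    (h3 : Completes.{u} Cfsg.Spor.He tH relsHe) (hwit : Coding.HeWitness (evW tH Amalgam.zWord))
    (c : Coding z) {x : G} (hx : Commute x z) (hne : x ≠ z) (hcon : IsConj z x) :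
    (∃ v : Fin 5 → ZMod 2, v ≠ 0 ∧ Nonempty (G ≃* MulAction.stabilizer SL5 v)) ∨
      Nonempty (G ≃* SL5) ∨ Nonempty (G ≃* Cfsg.M24) ∨ Cfsg.Spor.IsoHe G := by
  obtain ⟨a, ha, haz⟩ := c.exists_conj_A_or_B hx hne hcon
  -- the coding may be chosen with the class `A` fused
  obtain ⟨d, hda⟩ : ∃ d : Coding z, d.InCls repA a := by
    rcases ha with ha | ha
    · exact ⟨c, ha⟩
    · exact ⟨c.dual, c.inCls_dual_A.2 ha⟩
  rcases d.orbit_cases hda haz with hO | hO | hO
  · exact Or.inl (affine_iso (d.affineHyp_of_orbit_three hda haz hO))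
  · exact Or.inr (Amalgam.amalgam_top d hO h1 h2 h3 hwit)
  · exact Or.inr (Amalgam.amalgam_top d hO h1 h2 h3 hwit)

/-- The four cases from the hypotheses on the centraliser of a transvection. -/
theorem four_of_iso {tL : Fin 4 → SL5} {tM : Fin 4 → ↥Cfsg.M24} {tH : Fin 4 → Cfsg.Spor.He}
    (h1 : Completes.{u} SL5 tL relsL5) (h2 : Completes.{u} (↥Cfsg.M24) tM relsM24)
    (h3 : Completes.{u} Cfsg.Spor.He tH relsHe) (hwit : Coding.HeWitness (evW tH Amalgam.zWord))
    (s : SL5) (hs : (s : Matrix (Fin 5) (Fin 5) (ZMod 2)) = Matrix.transvection 0 1 1) (hz : orderOf z = 2)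
    (e : Subgroup.centralizer ({z} : Set G) ≃* Subgroup.centralizer ({s} : Set SL5)) {x : G}
    (hx : Commute x z) (hne : x ≠ z) (hcon : IsConj z x) :
    (∃ v : Fin 5 → ZMod 2, v ≠ 0 ∧ Nonempty (G ≃* MulAction.stabilizer SL5 v)) ∨
      Nonempty (G ≃* SL5) ∨ Nonempty (G ≃* Cfsg.M24) ∨ Cfsg.Spor.IsoHe G := by
  obtain ⟨c⟩ := coding_of_iso s hs hz e
  exact four_of_completes h1 h2 h3 hwit c hx hne hcon

end Cfsg.Agent.TransvCent
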