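import Cfsg.Agent.Lib.TransvCent.Gen
import Cfsg.Agent.Lib.ZStar.Apply
import Cfsg.Agent.Lib.ZStar.Unique
import Cfsg.Agent.Lib.Linear.SLn
import Cfsg.Agent.Lib.Golay.M24
import Cfsg.Agent.Lib.Golay.Mathieu
import Cfsg.Agent.Lib.J4Type.TwoTenLinear
import Cfsg.Agent.S1695
import Cfsg.Agent.S2133
import Cfsg.Agent.S2134

/-
From the four-way theorem on transvection centralisers to the statements about simple groups.

* `exists_conj_in_pCore_of_simple` : in a simple group `z` is not weakly closed in `O₂` of its centraliser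
* `not_isSimpleGroup_stabilizer` : the stabiliser of a vector in `SL(5,2)` is not simple
* `trichotomy_of_four`, `iso_of_four` : the assemblies
* `coding_m24`, `coding_he` : the two sporadic models are coded
-/

set_option autoImplicit false

namespace Cfsg.Agent.TransvCent

local notation "SL5" => Matrix.SpecialLinearGroup (Fin 5) (ZMod 2)

universe u v

theorem check_noncomm : comm 34946 34960 = false ∧ 34946 ∈ gens ∧ 34960 ∈ gens := by decide +kernel

section

variable {G : Type u} [Group G] {z : G}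

theorem Coding.not_abelian (c : Coding z) : ∃ a b : G, ¬ Commute a b := by
  obtain ⟨h, h1, h2⟩ := check_noncomm
  obtain ⟨a, ha, ea⟩ := c.surj _ (gen_mem_elts (List.mem_append_left _ h1))
  obtain ⟨b, hb, eb⟩ := c.surj _ (gen_mem_elts (List.mem_append_left _ h2))
  refine ⟨a, b, fun hab => ?_⟩
  rw [← c.comm_iff ha hb, ea, eb, h] at hab
  exact Bool.noConfusion hab

theorem Coding.center_eq_bot [IsSimpleGroup G] (c : Coding z) : Subgroup.center G = ⊥ := by
  refine (Subgroup.Normal.eq_bot_or_eq_top inferInstance).resolve_right fun h => ?_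
  obtain ⟨a, b, hab⟩ := c.not_abelian
  exact hab (Subgroup.mem_center_iff.1 (h ▸ Subgroup.mem_top b : b ∈ Subgroup.center G) a)

/-- In a simple group with such an involution centraliser the involution is not weakly closed in the
radical of its centraliser. -/
theorem exists_conj_in_pCore_of_simple [Finite G] [IsSimpleGroup G] (c : Coding z) :
    ∃ g : G, (∃ hq : g * z * g⁻¹ ∈ Subgroup.centralizer ({z} : Set G),
      (⟨g * z * g⁻¹, hq⟩ : Subgroup.centralizer ({z} : Set G)) ∈
        Cfsg.pCore 2 (Subgroup.centralizer ({z} : Set G))) ∧ g * z * g⁻¹ ≠ z := by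
  have hz := c.orderOf_z
  have hO : Cfsg.pPrimeCore 2 G = ⊥ := by
    refine (Subgroup.Normal.eq_bot_or_eq_top (Cores.pPrimeCore_normal 2 G)).resolve_right fun h => ?_
    have h1 := Cores.coprime_card_pPrimeCore (G := G) 2
    rw [h, Subgroup.card_top] at h1
    exact absurd (Nat.eq_one_of_dvd_coprimes h1 (hz ▸ orderOf_dvd_natCard z) dvd_rfl) (by norm_num)
  have hnot : ¬ Cfsg.IsIsolatedInvolution z := fun hiso => by
    have h := ZStar.isolated_mem_center ZStar.uniqueInvolution hiso hO
    rw [c.center_eq_bot, Subgroup.mem_bot] at h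
    rw [h, orderOf_one] at hz
    omega
  simp only [Cfsg.IsIsolatedInvolution, hz, true_and, not_forall] at hnot
  obtain ⟨g, hg, hne⟩ := hnot
  obtain ⟨a, ha, hcon⟩ := c.exists_conj_A_or_B hg.symm hne (isConj_iff.2 ⟨g, rfl⟩)
  obtain ⟨k, rfl⟩ := isConj_iff.1 hcon
  have hne' : k * z * k⁻¹ ≠ z := by
    rcases ha with h | h <;> exact h.ne_z (by decide)
  have hr := Coding.InCls.mem_radSet ha
  exact ⟨k, ⟨Subgroup.mem_centralizer_singleton_iff.2 hr.1,
    c.radical_le_pCore (Coding.mem_radical.2 hr)⟩, hne'⟩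

end

/-- The stabiliser of a non-zero vector in `SL(5,2)` is not simple. -/
theorem not_isSimpleGroup_stabilizer {v : Fin 5 → ZMod 2} (hv : v ≠ 0) :
    ¬ IsSimpleGroup (MulAction.stabilizer SL5 v) := by
  intro hs
  obtain ⟨g, hg⟩ := Linear.exists_sl_smul_eq (u := (Pi.single 0 1 : Fin 5 → ZMod 2)) (v := v)
    (by simp) hv
  have two : ∀ w : Fin 5 → ZMod 2, w + w = 0 := fun w => funext fun i => by
    revert i; intro i
    have : ∀ x : ZMod 2, x + x = 0 := by decide
    exact this (w i)
  have hv' : ∀ h : MulAction.stabilizer SL5 v, (h : SL5) • v = v := fun h => h.2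
  let N : Subgroup (MulAction.stabilizer SL5 v) :=
    { carrier := {h | ∀ w : Fin 5 → ZMod 2, (h : SL5) • w = w ∨ (h : SL5) • w = w + v}
      one_mem' := fun w => Or.inl (by simp)
      mul_mem' := fun {a b} ha hb w => by
        rw [Subgroup.coe_mul, mul_smul]
        rcases hb w with hb | hb <;> rw [hb]
        · exact ha w
        · rw [smul_add, hv']
          rcases ha w with ha | ha <;> rw [ha]
          · exact Or.inr rfl
          · exact Or.inl (by rw [add_assoc, two, add_zero])
      inv_mem' := fun {a} ha w => by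
        rw [Subgroup.coe_inv, inv_smul_eq_iff, inv_smul_eq_iff, smul_add, hv']
        rcases ha w with ha | ha <;> rw [ha]
        · exact Or.inl rfl
        · exact Or.inr (by rw [add_assoc, two, add_zero]) }
  have hN : N.Normal := ⟨fun n hn h => fun w => by
    rw [Subgroup.coe_mul, Subgroup.coe_mul, Subgroup.coe_inv, mul_smul, mul_smul]
    rcases hn ((h : SL5)⁻¹ • w) with hn | hn <;> rw [hn]
    · exact Or.inl (smul_inv_smul _ _)
    · exact Or.inr (by rw [smul_add, smul_inv_smul, hv'])⟩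
  have e : ∀ (t : SL5), t • (Pi.single 0 1 : Fin 5 → ZMod 2) = Pi.single 0 1 →
      g * t * g⁻¹ ∈ MulAction.stabilizer SL5 v := fun t ht => by
    rw [MulAction.mem_stabilizer_iff, ← hg, mul_smul, mul_smul, inv_smul_smul, ht]
  have ht1 : (Matrix.SpecialLinearGroup.transvection (by decide : (0 : Fin 5) ≠ 2) (1 : ZMod 2)) •
      (Pi.single 0 1 : Fin 5 → ZMod 2) = Pi.single 0 1 := by
    funext k; rw [Linear.transvection_smul_apply]; simp
  have ht2 : (Matrix.SpecialLinearGroup.transvection (by decide : (1 : Fin 5) ≠ 2) (1 : ZMod 2)) •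
      (Pi.single 0 1 : Fin 5 → ZMod 2) = Pi.single 0 1 := by
    funext k; rw [Linear.transvection_smul_apply]; simp
  rcases Subgroup.Normal.eq_bot_or_eq_top hN with hb | ht
  · -- a transvection with centre `v`
    have hm : (⟨_, e _ ht1⟩ : MulAction.stabilizer SL5 v) ∈ N := fun w => by
      show (g * _ * g⁻¹) • w = w ∨ (g * _ * g⁻¹) • w = w + v
      rw [mul_smul, mul_smul]
      have key : ∀ u : Fin 5 → ZMod 2,
          (Matrix.SpecialLinearGroup.transvection (by decide : (0 : Fin 5) ≠ 2) (1 : ZMod 2)) • u = u ∨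
          (Matrix.SpecialLinearGroup.transvection (by decide : (0 : Fin 5) ≠ 2) (1 : ZMod 2)) • u =
            u + Pi.single 0 1 := fun u => by
        have hx : ∀ x : ZMod 2, x = 0 ∨ x = 1 := by decide
        rcases hx (u 2) with h | h
        · exact Or.inl (funext fun k => by rw [Linear.transvection_smul_apply, h]; simp)
        · refine Or.inr (funext fun k => ?_)
          rw [Linear.transvection_smul_apply, h, Pi.add_apply, Pi.single_apply, mul_one]
      rcases key (g⁻¹ • w) with h | h <;> rw [h]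
      · exact Or.inl (smul_inv_smul _ _)
      · exact Or.inr (by rw [smul_add, smul_inv_smul, hg])
    rw [hb, Subgroup.mem_bot, Subtype.ext_iff, OneMemClass.coe_one] at hm
    have h1 := congrFun (congrArg (fun t : SL5 => t • (Pi.single 2 1 : Fin 5 → ZMod 2))
      (conj_eq_one_iff.1 hm)) 0
    simp [Linear.transvection_smul_apply] at h1
  · -- a transvection with another centre
    have hm := (ht ▸ Subgroup.mem_top _ : (⟨_, e _ ht2⟩ : MulAction.stabilizer SL5 v) ∈ N)
      (g • (Pi.single 2 1 : Fin 5 → ZMod 2))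
    change (g * _ * g⁻¹) • (g • _) = g • _ ∨ (g * _ * g⁻¹) • (g • _) = g • _ + v at hm
    rw [mul_smul, mul_smul, inv_smul_smul, ← hg, ← smul_add, smul_left_cancel_iff,
      smul_left_cancel_iff] at hm
    rcases hm with h | h
    · have := congrFun h 1
      simp [Linear.transvection_smul_apply] at this
    · have := congrFun h 1
      simp [Linear.transvection_smul_apply] at this

theorem isSimpleGroup_congr {G : Type u} {H : Type v} [Group G] [Group H] [IsSimpleGroup G]
    (e : G ≃* H) : IsSimpleGroup H := e.symm.isSimpleGroup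

/-- The four-way answer for a simple group leaves three. -/
theorem three_of_four {G : Type u} [Group G] [IsSimpleGroup G]
    (h : (∃ v : Fin 5 → ZMod 2, v ≠ 0 ∧ Nonempty (G ≃* MulAction.stabilizer SL5 v)) ∨
      Nonempty (G ≃* SL5) ∨ Nonempty (G ≃* Cfsg.M24) ∨ Cfsg.Spor.IsoHe G) :
    Nonempty (G ≃* SL5) ∨ Nonempty (G ≃* Cfsg.M24) ∨ Cfsg.Spor.IsoHe G := by
  refine h.resolve_left ?_
  rintro ⟨v, hv, ⟨e⟩⟩
  exact not_isSimpleGroup_stabilizer hv (isSimpleGroup_congr e)

/-- Held's trichotomy from the four-way answer. -/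
theorem trichotomy_of_four {G : Type u} [Group G] [IsSimpleGroup G]
    (h : (∃ v : Fin 5 → ZMod 2, v ≠ 0 ∧ Nonempty (G ≃* MulAction.stabilizer SL5 v)) ∨
      Nonempty (G ≃* SL5) ∨ Nonempty (G ≃* Cfsg.M24) ∨ Cfsg.Spor.IsoHe G) :
    Nonempty (G ≃* SL5) ∨ Cfsg.IsM24 G ∨ Cfsg.IsHe G := by
  rcases three_of_four h with h | ⟨⟨e⟩⟩ | ⟨⟨e⟩⟩
  · exact Or.inl h
  · exact Or.inr (Or.inl ⟨inferInstance, (Nat.card_congr e.toEquiv).trans Golay.natCard_M24⟩)
  · exact Or.inr (Or.inr ⟨inferInstance, (Nat.card_congr e.toEquiv).trans S1695.result.2⟩)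

/-- Two such simple groups of one order are isomorphic. -/
theorem iso_of_four {G : Type u} {H : Type v} [Group G] [IsSimpleGroup G] [Group H] [IsSimpleGroup H]
    (hG : (∃ v : Fin 5 → ZMod 2, v ≠ 0 ∧ Nonempty (G ≃* MulAction.stabilizer SL5 v)) ∨
      Nonempty (G ≃* SL5) ∨ Nonempty (G ≃* Cfsg.M24) ∨ Cfsg.Spor.IsoHe G)
    (hH : (∃ v : Fin 5 → ZMod 2, v ≠ 0 ∧ Nonempty (H ≃* MulAction.stabilizer SL5 v)) ∨
      Nonempty (H ≃* SL5) ∨ Nonempty (H ≃* Cfsg.M24) ∨ Cfsg.Spor.IsoHe H)
    (hcard : Nat.card G = Nat.card H) : Nonempty (G ≃* H) := by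
  have c1 := J4Type.TwoTen.natCard_SL5
  have c2 := Golay.natCard_M24
  have c3 : Nat.card Cfsg.Spor.He = 4030387200 := S1695.result.2
  rcases three_of_four hG with ⟨⟨e⟩⟩ | ⟨⟨e⟩⟩ | ⟨⟨e⟩⟩ <;>
    rcases three_of_four hH with ⟨⟨f⟩⟩ | ⟨⟨f⟩⟩ | ⟨⟨f⟩⟩ <;>
    first
      | exact ⟨e.trans f.symm⟩
      | (have := Nat.card_congr e.toEquiv
         have := Nat.card_congr f.toEquiv
         omega)

/-- The transvection of the definitions. -/
theorem exists_std_transvection :
    ∃ s : SL5, (s : Matrix (Fin 5) (Fin 5) (ZMod 2)) = Matrix.transvection 0 1 1 :=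
  ⟨Matrix.SpecialLinearGroup.transvection (by decide : (0 : Fin 5) ≠ 1) 1, rfl⟩

/-- `M₂₄` has a coded involution centraliser. -/
theorem coding_m24 : ∃ z : ↥Cfsg.M24, Nonempty (Coding z) := by
  obtain ⟨s, hs⟩ := exists_std_transvection
  obtain ⟨z, hz, ⟨e⟩⟩ := S2133.result s hs
  exact ⟨z, coding_of_iso s hs hz e⟩

/-- The Held group has a coded involution centraliser. -/
theorem coding_he : ∃ z : Cfsg.Spor.He, Nonempty (Coding z) := by
  obtain ⟨s, hs⟩ := exists_std_transvection
  obtain ⟨z, hz, ⟨e⟩⟩ := S2134.result s hs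
  exact ⟨z, coding_of_iso s hs hz e⟩

end Cfsg.Agent.TransvCent
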