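import Cfsg.Agent.Lib.TransvCent.Orbit

/-
If no element of class `B` is conjugate to `z`, the conjugates of `z` in its centraliser are `z` and the
class `A`.

* `Coding.not_isConj_D`, `Coding.not_isConj_H1`
* `Coding.eq_or_A_of_isConj`
-/

set_option autoImplicit false

namespace Cfsg.Agent.TransvCent

/-- The codes of the conjugates of `zc` if `D`, and `H1` according to `h1`, are fused. -/
def fusedCode (h1 : Bool) (d : ℕ) : Bool :=
  d == zc || (members repA chainA).contains d || (members repD chainD).contains d ||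
    (h1 && (members repH1 chainH1).contains d)

/-- The involutions commuting with `r`, not fused, whose product with `m` is fused. -/
def affineCount (h1 : Bool) (r m : ℕ) : ℕ :=
  elts.countP fun d => isInv d && comm d r && !fusedCode h1 d && fusedCode h1 (mul m d)

theorem check_affine_D : ∀ h1 : Bool, affineCount h1 repD zc ≠ affineCount h1 repD repD := by
  decide +kernel

theorem check_affine_H1 : ((members repB chainB).contains 35024 && elts.contains 35024 &&
    comm 35024 repH1 && (members repH1 chainH1).contains (mul repH1 35024) &&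
    (members repA chainA).all (fun d => (members repA chainA).contains (mul zc d)) &&
    (members repH1 chainH1).all (fun d => (members repH1 chainH1).contains (mul zc d)) &&
    (members repH1 chainH1).all fun d => isInv d) = true := by decide +kernel

namespace Coding

variable {G : Type*} [Group G] {z : G}

/-- A pair of classes met by a conjugate and its partner is met by representatives. -/
theorem norm_pair (c : Coding z) {r s : ℕ} {x g : G} (hg : g * z * g⁻¹ = x) (hx : c.InCls r x)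
    (hy : c.InCls s (g⁻¹ * z * g)) :
    ∃ x' g' : G, g' * z * g'⁻¹ = x' ∧ Commute x' z ∧ c.f x' = r ∧ Commute (g'⁻¹ * z * g') z ∧
      c.f (g'⁻¹ * z * g') = s := by
  obtain ⟨hxz, h, hh, he⟩ := hx
  obtain ⟨hyz, k, hk, hke⟩ := hy
  have kz : k⁻¹ * z * k = z := by rw [hk.inv_left.eq, inv_mul_cancel_right]
  have hz : h⁻¹ * z * h = z := by rw [hh.inv_left.eq, inv_mul_cancel_right]
  have e : (h * g * k⁻¹)⁻¹ * z * (h * g * k⁻¹) = k * (g⁻¹ * z * g) * k⁻¹ := by
    calc (h * g * k⁻¹)⁻¹ * z * (h * g * k⁻¹) = k * (g⁻¹ * (h⁻¹ * z * h) * g) * k⁻¹ := by group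
      _ = _ := by rw [hz]
  refine ⟨h * x * h⁻¹, h * g * k⁻¹, ?_, commute_conj hh hxz, he, ?_, ?_⟩
  · calc h * g * k⁻¹ * z * (h * g * k⁻¹)⁻¹ = h * (g * (k⁻¹ * z * k) * g⁻¹) * h⁻¹ := by group
      _ = h * x * h⁻¹ := by rw [kz, hg]
  · rw [e]; exact commute_conj hk hyz
  · rw [e]; exact hke

/-- A conjugate of `z` in the centraliser has code `zc` or lies in `A`, `D` or `H1`. -/
theorem mem_of_isConj (c : Coding z) (hB : ∀ y, c.InCls repB y → ¬ IsConj z y) {x : G}
    (hx : Commute x z) (hcon : IsConj z x) :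
    c.f x = zc ∨ c.f x ∈ members repA chainA ∨ c.f x ∈ members repD chainD ∨
      c.f x ∈ members repH1 chainH1 := by
  obtain ⟨g, hg⟩ := isConj_iff.1 hcon
  have hd := check_derived
  simp only [Bool.and_eq_true] at hd
  obtain ⟨⟨⟨⟨⟨⟨-, hdB⟩, -⟩, hC⟩, -⟩, h2⟩, hF⟩ := hd
  have h := List.all_eq_true.1 check_classes _ (c.mem x hx)
  rw [(c.isInv_iff hx).2 (by rw [← hg, orderOf_conj, c.orderOf_z])] at h
  simp only [Bool.not_true, Bool.false_or, Bool.or_eq_true, beq_iff_eq, List.contains_iff_mem] at h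
  rcases h with ((((((h | h) | h) | h) | h) | h) | h) | h
  · exact Or.inl h
  · exact Or.inr (Or.inl h)
  · exact absurd hcon (hB x (c.chain_sound _ hdB x hx h))
  · exact Or.inr (Or.inr (Or.inl h))
  · exact absurd hcon (c.not_isConj_Cq_F (Or.inl (c.chain_sound _ hC x hx h)))
  · exact Or.inr (Or.inr (Or.inr h))
  · exact absurd hcon (c.not_isConj_H2 hB (c.chain_sound _ h2 x hx h))
  · exact absurd hcon (c.not_isConj_Cq_F (Or.inr (c.chain_sound _ hF x hx h)))

theorem exists_A_of_isConj (c : Coding z) (hB : ∀ y, c.InCls repB y → ¬ IsConj z y) {x : G}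
    (hx : Commute x z) (hne : x ≠ z) (hcon : IsConj z x) : ∃ a, c.InCls repA a ∧ IsConj z a := by
  obtain ⟨a, ha, haz⟩ := c.exists_conj_A_or_B hx hne hcon
  exact ⟨a, ha.resolve_right fun k => hB a k haz, haz⟩

theorem not_isConj_D (c : Coding z) (hB : ∀ y, c.InCls repB y → ¬ IsConj z y) {x : G}
    (hx : c.InCls repD x) : ¬ IsConj z x := by
  classical
  intro hcon
  have hne : x ≠ z := hx.ne_z (by decide)
  obtain ⟨a, haA, haz⟩ := c.exists_A_of_isConj hB hx.1 hne hcon
  obtain ⟨g₀, hg₀⟩ := isConj_iff.1 hcon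
  have hy₀ : c.InCls repD (g₀⁻¹ * z * g₀) := by
    rcases c.profile hg₀ hx.1 hne with ⟨k | k, -⟩ | ⟨-, k⟩ | ⟨k | k, -⟩
    any_goals exact k
    all_goals
      exfalso
      have := k.roots_self.symm.trans hx.roots_self
      simp only [check_roots_A.2, check_roots_B.2, check_roots_D.2, check_roots_H1.2,
        check_roots_H2.2] at this
      omega
  obtain ⟨x', g, hg, hx', hxr, hy, hys⟩ := c.norm_pair hg₀ hx hy₀
  set y := g⁻¹ * z * g with hydef
  set h1 : Bool := decide (∃ t, c.InCls repH1 t ∧ IsConj z t) with hh1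
  have hd := check_derived
  simp only [Bool.and_eq_true] at hd
  obtain ⟨⟨⟨⟨⟨⟨hdA, -⟩, hdD⟩, -⟩, hd1⟩, -⟩, -⟩ := hd
  have hiff : ∀ w, Commute w z → (IsConj z w ↔ fusedCode h1 (c.f w) = true) := by
    intro w hw
    simp only [fusedCode, Bool.or_eq_true, Bool.and_eq_true, beq_iff_eq, List.contains_iff_mem]
    constructor
    · intro hc
      rcases c.mem_of_isConj hB hw hc with h | h | h | h
      · exact Or.inl (Or.inl (Or.inl h))
      · exact Or.inl (Or.inl (Or.inr h))
      · exact Or.inl (Or.inr h)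
      · exact Or.inr ⟨decide_eq_true ⟨w, c.chain_sound _ hd1 w hw h, hc⟩, h⟩
    · rintro (((h | h) | h) | ⟨hb, h⟩)
      · rw [(c.eq_iff hw (Commute.refl z)).1 (h.trans c.map_z.symm)]
      · exact haz.trans (haA.isConj (c.chain_sound _ hdA w hw h))
      · exact hcon.trans (hx.isConj (c.chain_sound _ hdD w hw h))
      · obtain ⟨t, ht, htz⟩ := of_decide_eq_true hb
        exact htz.trans (ht.isConj (c.chain_sound _ hd1 w hw h))
  have count : ∀ v m, Commute v z → Commute m z →
      {w | Commute w z ∧ (orderOf w = 2 ∧ Commute w v ∧ ¬ IsConj z w ∧ IsConj z (m * w))}.ncard =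
        affineCount h1 (c.f v) (c.f m) := fun v m hv hm => by
    refine c.ncard_eq _ _ fun w hw => ?_
    simp only [Bool.and_eq_true, Bool.not_eq_true', c.isInv_iff hw, c.comm_iff hw hv, hiff w hw,
      ← c.map_mul m w hm hw, hiff (m * w) (hm.mul_left hw), Bool.not_eq_true, and_assoc]
  have hc := check_affine_D h1
  apply hc
  rw [show affineCount h1 repD zc = affineCount h1 (c.f y) (c.f z) by rw [hys, c.map_z], ← count y z hy (Commute.refl z),
    show affineCount h1 repD repD = affineCount h1 (c.f x') (c.f x') by rw [hxr], ← count x' x' hx' hx']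
  have e0 : g * y * g⁻¹ = z := by rw [hydef]; group
  rw [← Set.ncard_image_of_injective _ (MulAut.conj g).injective]
  refine congrArg Set.ncard (Set.ext fun w => ?_)
  have hcj : ∀ {v : G}, IsConj z (g * v * g⁻¹) ↔ IsConj z v := fun {v} =>
    ⟨fun h => h.trans (isConj_iff.2 ⟨g, rfl⟩).symm, fun h => h.trans (isConj_iff.2 ⟨g, rfl⟩)⟩
  constructor
  · rintro ⟨u, ⟨huz, huo, huy, hun, hum⟩, rfl⟩
    simp only [MulAut.conj_apply]
    refine ⟨?_, by rw [orderOf_conj]; exact huo, ?_, fun h => hun (hcj.1 h), ?_⟩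
    · rw [← e0, Commute.conj_iff]; exact huy
    · rw [← hg, Commute.conj_iff]; exact huz
    · rw [← hg, show g * z * g⁻¹ * (g * u * g⁻¹) = g * (z * u) * g⁻¹ by group]
      exact hcj.2 hum
  · rintro ⟨hwz, hwo, hwx, hwn, hwm⟩
    have e : g * (g⁻¹ * w * g) * g⁻¹ = w := by group
    refine ⟨g⁻¹ * w * g, ⟨?_, ?_, ?_, ?_, ?_⟩, by simpa [MulAut.conj_apply] using e⟩
    · rw [← Commute.conj_iff g, e, hg]; exact hwx
    · rw [← orderOf_conj g, e]; exact hwo
    · rw [← Commute.conj_iff g, e, e0]; exact hwz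
    · rw [← hcj, e]; exact hwn
    · rw [← hcj, show g * (z * (g⁻¹ * w * g)) * g⁻¹ = g * z * g⁻¹ * w by group, hg]; exact hwm

theorem not_isConj_H1 (c : Coding z) (hB : ∀ y, c.InCls repB y → ¬ IsConj z y) {x : G}
    (hx : c.InCls repH1 x) : ¬ IsConj z x := by
  intro hcon
  have hne : x ≠ z := hx.ne_z (by decide)
  obtain ⟨a, haA, haz⟩ := c.exists_A_of_isConj hB hx.1 hne hcon
  have hd := check_derived
  simp only [Bool.and_eq_true] at hd
  obtain ⟨⟨⟨⟨⟨⟨hdA, hdB⟩, hdD⟩, -⟩, hd1⟩, -⟩, -⟩ := hd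
  have hck := check_affine_H1
  simp only [Bool.and_eq_true, List.contains_iff_mem, List.all_eq_true] at hck
  obtain ⟨⟨⟨⟨⟨⟨hbB, hb⟩, hbr⟩, hxb⟩, hzA⟩, hzH⟩, -⟩ := hck
  -- move `x` to the representative
  obtain ⟨hxz, h, hh, he⟩ := id hx
  set x' := h * x * h⁻¹ with hx'
  have hx'z : Commute x' z := commute_conj hh hxz
  have hx'c : IsConj z x' := hcon.trans (isConj_iff.2 ⟨h, rfl⟩)
  obtain ⟨g, hg⟩ := isConj_iff.1 hx'c
  obtain ⟨β, hβ, hβc⟩ := c.surj _ hb
  rw [← hβc] at hbB hbr hxb
  rw [← he, c.comm_iff hβ hx'z] at hbr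
  have hxb' : c.f (x' * β) ∈ members repH1 chainH1 := by
    rw [c.map_mul _ _ hx'z hβ, he]; exact hxb
  have hxβz : Commute (x' * β) z := hx'z.mul_left hβ
  have hβn : ¬ IsConj z β := hB β (c.chain_sound _ hdB β hβ hbB)
  have hxβ : IsConj z (x' * β) := hcon.trans (hx.isConj (c.chain_sound _ hd1 _ hxβz hxb'))
  set w := g⁻¹ * β * g with hwdef
  have e : g * w * g⁻¹ = β := by rw [hwdef]; group
  have hwz : Commute w z := by rw [← Commute.conj_iff g, e, hg]; exact hbr
  have hwn : ¬ IsConj z w := fun k => hβn (k.trans (isConj_iff.2 ⟨g, e⟩))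
  have hzw : IsConj z (z * w) := hxβ.trans (isConj_iff.2 ⟨g⁻¹, by rw [← hg, hwdef]; group⟩)
  have hzwz : Commute (z * w) z := (Commute.refl z).mul_left hwz
  have hzz : z * z = 1 := c.mul_self_of_mem c.z_mem_uSub
  have hw' : c.f w = mul zc (c.f (z * w)) := by
    rw [← c.map_z, ← c.map_mul _ _ (Commute.refl z) hzwz, ← mul_assoc, hzz, one_mul]
  rcases c.mem_of_isConj hB hzwz hzw with k | k | k | k
  · rw [c.eq_iff hzwz (Commute.refl z) |>.1 (k.trans c.map_z.symm)] at hw'
    have hw1 : w = 1 := (c.eq_iff hwz (Commute.one_left z)).1 (by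
      rw [hw', c.map_z, c.map_one]; decide +kernel)
    rw [hwdef] at hw1
    have hβ1 : β = 1 := by
      calc β = g * (g⁻¹ * β * g) * g⁻¹ := by group
        _ = 1 := by rw [hw1]; group
    have := (c.chain_sound _ hdB β hβ hbB).orderOf (by decide)
    rw [hβ1, orderOf_one] at this
    omega
  · exact hwn (haz.trans (haA.isConj (c.chain_sound _ hdA w hwz (hw' ▸ hzA _ k))))
  · exact c.not_isConj_D hB (c.chain_sound _ hdD _ hzwz k) hzw
  · exact hwn (hcon.trans (hx.isConj (c.chain_sound _ hd1 w hwz (hw' ▸ hzH _ k))))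

/-- **Affine fusion.** If the class `B` is not fused to `z`, only `A` is. -/
theorem eq_or_A_of_isConj (c : Coding z) (hB : ∀ y, c.InCls repB y → ¬ IsConj z y) {x : G}
    (hx : Commute x z) (hcon : IsConj z x) : x = z ∨ c.InCls repA x := by
  have hd := check_derived
  simp only [Bool.and_eq_true] at hd
  obtain ⟨⟨⟨⟨⟨⟨hdA, -⟩, hdD⟩, -⟩, hd1⟩, -⟩, -⟩ := hd
  rcases c.mem_of_isConj hB hx hcon with k | k | k | k
  · exact Or.inl ((c.eq_iff hx (Commute.refl z)).1 (k.trans c.map_z.symm))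
  · exact Or.inr (c.chain_sound _ hdA x hx k)
  · exact absurd hcon (c.not_isConj_D hB (c.chain_sound _ hdD x hx k))
  · exact absurd hcon (c.not_isConj_H1 hB (c.chain_sound _ hd1 x hx k))

end Coding

end Cfsg.Agent.TransvCent
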