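import Cfsg.Agent.Lib.TransvCent.AffineNorm

/-
Kernel checks on the complement of `E` in the coded centraliser.

* `check_a_decomp`, `check_a_meet`
-/

set_option autoImplicit false

namespace Cfsg.Agent.TransvCent

theorem check_a_decomp : (elts.all fun d => eList.any fun e => mul e d % 16 == 0) = true := by
  decide +kernel

theorem check_a_meet : (eList.all fun d => d % 16 != 0 || d == one) = true ∧ one % 16 = 0 := by
  decide +kernel

end Cfsg.Agent.TransvCent
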