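import Cfsg.Agent.Lib.TransvCent.AffineNorm
import Cfsg.Agent.Lib.TransvCent.AffineIsoCheck
import Cfsg.Agent.Lib.Solvable.Gaschutz
import Mathlib.GroupTheory.SemidirectProduct
import Mathlib.LinearAlgebra.Matrix.GeneralLinearGroup.Card
import Mathlib.Algebra.Module.ZMod

/-
In the affine case `N(E)` is the semidirect product of `E` by all its automorphisms.

* `card_mulAut_sixteen` : an elementary group of order `16` has `20160` automorphisms
* `Coding.AffineHyp.card_normalizer` : `|N(E)| = 322560`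
* `Coding.AffineHyp.normalizer_iso` : any two affine settings have isomorphic normalisers of `E`
-/

set_option autoImplicit false

namespace Cfsg.Agent.TransvCent

/-- An elementary group of order `16` has `20160` automorphisms. -/
theorem card_mulAut_sixteen {E : Type*} [CommGroup E] [Finite E] (hE : ∀ e : E, e ^ 2 = 1)
    (hn : Nat.card E = 16) : Nat.card (MulAut E) = 20160 := by
  letI : Module (ZMod 2) (Additive E) :=
    AddCommGroup.zmodModule (n := 2) fun x => congrArg Additive.ofMul (hE x.toMul)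
  haveI : Fact (Nat.Prime 2) := ⟨Nat.prime_two⟩
  haveI : Module.Finite (ZMod 2) (Additive E) := Module.Finite.of_finite
  haveI : Module.Free (ZMod 2) (Additive E) := Module.Free.of_divisionRing (ZMod 2) (Additive E)
  have hfr : Module.finrank (ZMod 2) (Additive E) = 4 := by
    have h := Nat.card_congr (Module.finBasis (ZMod 2) (Additive E)).equivFun.toEquiv
    rw [Nat.card_congr Additive.toMul, hn, Nat.card_fun, Nat.card_zmod, Nat.card_fin] at h
    exact (Nat.pow_right_injective (le_refl 2) (show (2 : ℕ) ^ 4 = 2 ^ _ from h)).symm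
  have hGL := Matrix.card_GL_field (𝔽 := ZMod 2) 4
  rw [ZMod.card] at hGL
  have h20 : (∏ i : Fin 4, (2 ^ 4 - 2 ^ (i : ℕ))) = 20160 := by decide
  rw [← h20, ← hGL]
  refine Nat.card_congr ?_
  let b : Module.Basis (Fin 4) (ZMod 2) (Additive E) :=
    Module.finBasisOfFinrankEq (ZMod 2) (Additive E) hfr
  refine Equiv.trans ?_ (Units.mapEquiv (LinearMap.toMatrixAlgEquiv b).toMulEquiv).toEquiv
  refine Equiv.trans ?_
    (LinearMap.GeneralLinearGroup.generalLinearEquiv (ZMod 2) (Additive E)).symm.toEquiv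
  exact
    { toFun := fun f => { (MulEquiv.toAdditive f) with
        map_smul' := fun c x => ZMod.map_smul (MulEquiv.toAdditive f).toAddMonoidHom c x }
      invFun := fun g => MulEquiv.toAdditive.symm g.toAddEquiv
      left_inv := fun f => rfl
      right_inv := fun g => rfl }

theorem mul_mod_sixteen {d e : ℕ} (hd : d % 16 = 0) (he : e % 16 = 0) : mul d e % 16 = 0 := by
  have h7 : ∀ d k : ℕ, fld d k = d / 2 ^ k % 2 ^ 3 := fun d k => by
    rw [fld, Nat.shiftRight_eq_div_pow, show (7 : ℕ) = 2 ^ 3 - 1 from rfl,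
      Nat.and_two_pow_sub_one_eq_mod]
  have d0 : d &&& 1 = 0 := by rw [Nat.and_one_is_mod]; omega
  have e0 : e &&& 1 = 0 := by rw [Nat.and_one_is_mod]; omega
  have du : fld d 1 = 0 := by rw [h7]; omega
  have eu : fld e 1 = 0 := by rw [h7]; omega
  have hs : ∀ a b c, sel 0 a b c = 0 := fun a b c => by simp [sel]
  have hp : par 0 = 0 := by decide
  simp only [mul, pack, d0, e0, du, eu, hs, Nat.zero_and, hp, Nat.xor_self, Nat.mul_zero, Nat.zero_add]
  omega

namespace Coding

variable {G : Type*} [Group G] {z : G}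

/-- The subgroup of the elements with code divisible by `16`, a complement of `E` in `C(z)`. -/
def aSub [Finite G] (c : Coding z) : Subgroup G where
  carrier := {x | Commute x z ∧ c.f x % 16 = 0}
  one_mem' := ⟨Commute.one_left z, c.map_one ▸ check_a_meet.2⟩
  mul_mem' {x y} hx hy := ⟨hx.1.mul_left hy.1, by
    rw [c.map_mul x y hx.1 hy.1]; exact mul_mod_sixteen hx.2 hy.2⟩
  inv_mem' {x} hx := by
    have key : ∀ n : ℕ, Commute (x ^ n) z ∧ c.f (x ^ n) % 16 = 0 := by
      intro n
      induction n with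
      | zero => rw [pow_zero, c.map_one]; exact ⟨Commute.one_left z, check_a_meet.2⟩
      | succ n ih =>
        rw [pow_succ, c.map_mul _ _ ih.1 hx.1]
        exact ⟨ih.1.mul_left hx.1, mul_mod_sixteen ih.2 hx.2⟩
    have hpos := orderOf_pos x
    have e : x⁻¹ = x ^ (orderOf x - 1) := by
      refine inv_eq_of_mul_eq_one_right ?_
      rw [← pow_succ', Nat.sub_add_cancel hpos, pow_orderOf_eq_one]
    exact e ▸ key _

namespace AffineHyp

variable [Finite G] {c : Coding z}

theorem card_centralizer (c : Coding z) : Nat.card (Subgroup.centralizer ({z} : Set G)) = 21504 := by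
  have h := c.ncard_eq (fun _ => True) (fun _ => true) fun _ _ => by simp
  rw [List.countP_true, check_elts.1] at h
  rw [← h, ← SetLike.coe_sort_coe, Nat.card_coe_set_eq]
  congr 1
  ext x
  simp [Subgroup.mem_centralizer_singleton_iff, Commute, SemiconjBy]

theorem card_normalizer (h : c.AffineHyp) :
    Nat.card (Subgroup.normalizer (c.eSub : Set G)) = 322560 := by
  set N := Subgroup.normalizer (c.eSub : Set G) with hN
  letI : MulAction N G := MulAction.compHom G (ConjAct.toConjAct.toMonoidHom.comp N.subtype)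
  have hsm : ∀ (n : N) (x : G), n • x = (n : G) * x * (n : G)⁻¹ := fun n x => rfl
  have horb : MulAction.orbit N z = {x | ∃ g ∈ N, g * z * g⁻¹ = x} := by
    ext x
    simp only [MulAction.mem_orbit_iff, hsm, Set.mem_ofPred_eq, Subtype.exists, exists_prop]
  have hst : MulAction.stabilizer N z = (Subgroup.centralizer ({z} : Set G)).subgroupOf N := by
    ext n
    rw [MulAction.mem_stabilizer_iff, hsm, Subgroup.mem_subgroupOf,
      Subgroup.mem_centralizer_singleton_iff, mul_inv_eq_iff_eq_mul]
  have hle : Subgroup.centralizer ({z} : Set G) ≤ N := fun x hx =>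
    h.le_normalizer (Subgroup.mem_centralizer_singleton_iff.1 hx)
  rw [← Subgroup.card_mul_index (MulAction.stabilizer N z), MulAction.index_stabilizer, horb,
    h.orbit_card, hst, Nat.card_congr (Subgroup.subgroupOfEquivOfLe hle).toEquiv, card_centralizer c]

theorem exists_complement (h : c.AffineHyp) :
    ∃ K : Subgroup (Subgroup.normalizer (c.eSub : Set G)),
      Subgroup.IsComplement' (c.eSub.subgroupOf (Subgroup.normalizer (c.eSub : Set G))) K := by
  set N := Subgroup.normalizer (c.eSub : Set G) with hN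
  set C := Subgroup.centralizer ({z} : Set G) with hC
  have hle : C ≤ N := fun x hx => h.le_normalizer (Subgroup.mem_centralizer_singleton_iff.1 hx)
  have hEC : c.eSub ≤ C := fun x hx => Subgroup.mem_centralizer_singleton_iff.2 hx.1
  haveI : IsMulCommutative (c.eSub.subgroupOf N) :=
    ⟨⟨fun a b => Subtype.ext (Subtype.ext (c.commute_of_mem_eSub a.2 b.2).eq)⟩⟩
  refine Solvable.gaschutz_exists (U := C.subgroupOf N) (fun x hx => hEC hx) ?_
    (A := c.aSub.subgroupOf N) ?_ ?_
  · have h1 : Nat.card (c.eSub.subgroupOf N) = 16 := by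
      rw [Nat.card_congr (Subgroup.subgroupOfEquivOfLe (hEC.trans hle)).toEquiv, ← SetLike.coe_sort_coe,
        Nat.card_coe_set_eq, c.ncard_eSub]
    have h2 : (C.subgroupOf N).index = 15 := by
      have := Subgroup.card_mul_index (C.subgroupOf N)
      rw [Nat.card_congr (Subgroup.subgroupOfEquivOfLe hle).toEquiv, card_centralizer c, h.card_normalizer] at this
      omega
    rw [h1, h2]
    decide
  · rw [eq_bot_iff]
    intro x hx
    obtain ⟨⟨-, hA⟩, hE⟩ := Subgroup.mem_inf.1 hx
    have := List.all_eq_true.1 check_a_meet.1 _ hE.2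
    rw [hA, bne_self_eq_false, Bool.false_or, beq_iff_eq, ← c.map_one,
      c.eq_iff hE.1 (Commute.one_left z)] at this
    exact Subgroup.mem_bot.2 (Subtype.ext this)
  · refine le_antisymm (sup_le (fun x hx => hEC hx) fun x hx =>
      Subgroup.mem_subgroupOf.2 (Subgroup.mem_centralizer_singleton_iff.2 hx.1)) fun x hx => ?_
    have hxz : Commute (x : G) z := Subgroup.mem_centralizer_singleton_iff.1 hx
    have := List.all_eq_true.1 check_a_decomp _ (c.mem _ hxz)
    rw [List.any_eq_true] at this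
    obtain ⟨e, he, hm⟩ := this
    obtain ⟨ε, hε, rfl⟩ := c.surj e (eList_facts he).1
    rw [beq_iff_eq, ← c.map_mul _ _ hε hxz] at hm
    have hεE : ε ∈ c.eSub := ⟨hε, he⟩
    let εN : N := ⟨ε, hle (hEC hεE)⟩
    have ex : x = εN⁻¹ * (εN * x) := by group
    rw [ex]
    exact Subgroup.mul_mem_sup (inv_mem (show εN ∈ c.eSub.subgroupOf N from hεE))
      (show εN * x ∈ c.aSub.subgroupOf N from ⟨hε.mul_left hxz, hm⟩)

/-- `N(E)` is the semidirect product of `E` by its automorphisms, carried to any other coding. -/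
theorem normalizer_iso (h : c.AffineHyp) {E : Type*} [Group E] (e : c.eSub ≃* E) :
    ∃ i : Subgroup.normalizer (c.eSub : Set G) ≃* SemidirectProduct E (MulAut E) (MonoidHom.id _),
      i ⟨z, Subgroup.le_normalizer c.z_mem_eSub⟩ = SemidirectProduct.inl (e ⟨z, c.z_mem_eSub⟩) := by
  set N := Subgroup.normalizer (c.eSub : Set G) with hN
  obtain ⟨K, hK⟩ := h.exists_complement
  set E' := c.eSub.subgroupOf N with hE'
  haveI : E'.Normal := Subgroup.normal_in_normalizer
  have hEN : c.eSub ≤ N := Subgroup.le_normalizer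
  let e' : E' ≃* E := (Subgroup.subgroupOfEquivOfLe hEN).trans e
  set φ : K →* MulAut E' :=
    (E'.normalizerMonoidHom).comp (Subgroup.inclusion (E'.normalizer_eq_top ▸ le_top)) with hφ
  have hcE : Nat.card E' = 16 := by
    rw [Nat.card_congr (Subgroup.subgroupOfEquivOfLe hEN).toEquiv, ← SetLike.coe_sort_coe,
      Nat.card_coe_set_eq, c.ncard_eSub]
  letI : CommGroup E' :=
    { (inferInstance : Group E') with
      mul_comm := fun a b => Subtype.ext (Subtype.ext (c.commute_of_mem_eSub a.2 b.2).eq) }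
  have hexp : ∀ a : E', a ^ 2 = 1 := fun a => by
    rw [pow_two]
    exact Subtype.ext (Subtype.ext (c.e_mul_self a.2))
  have hinj : Function.Injective φ := by
    rw [injective_iff_map_eq_one]
    intro k hk
    have hfix : ∀ u ∈ c.eSub, (k : N).1 * u * (k : N).1⁻¹ = u := fun u hu => by
      have := congrArg (fun ψ : MulAut E' => (((ψ ⟨⟨u, hEN hu⟩, hu⟩ : E') : N) : G)) hk
      exact this
    have hkE : ((k : N) : G) ∈ c.eSub := by
      exact c.centralizer_eSub.le (Subgroup.mem_centralizer_iff.2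
        fun u hu => (mul_inv_eq_iff_eq_mul.1 (hfix u hu)).symm)
    have := hK.disjoint.le_bot (show (k : N) ∈ E' ⊓ K from ⟨hkE, k.2⟩)
    exact Subtype.ext (Subgroup.mem_bot.1 this)
  have hbij : Function.Bijective φ := by
    refine (Nat.bijective_iff_injective_and_card φ).2 ⟨hinj, ?_⟩
    have hmul := hK.card_mul
    rw [hcE, h.card_normalizer] at hmul
    rw [card_mulAut_sixteen hexp hcE]
    omega
  refine ⟨(SemidirectProduct.mulEquivSubgroup hK).symm.trans
    (SemidirectProduct.congr e' ((MulEquiv.ofBijective φ hbij).trans (MulAut.congr e')) fun g => ?_), ?_⟩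
  · ext x
    simp [MulAut.congr, hφ]
  have hz : (SemidirectProduct.mulEquivSubgroup hK).symm ⟨z, hEN c.z_mem_eSub⟩ =
      SemidirectProduct.inl ⟨⟨z, hEN c.z_mem_eSub⟩, c.z_mem_eSub⟩ := by
    rw [MulEquiv.symm_apply_eq]
    simp [SemidirectProduct.mulEquivSubgroup, SemidirectProduct.monoidHomSubgroup]
  rw [MulEquiv.trans_apply, hz]
  ext <;> simp [e', Subgroup.subgroupOfEquivOfLe]
  all_goals exact MulEquiv.apply_symm_apply e _

/-- Any two affine settings have isomorphic normalisers. -/
theorem normalizer_iso_normalizer (h : c.AffineHyp) {H : Type*} [Group H] [Finite H] {w : H}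
    {c' : Coding w} (h' : c'.AffineHyp) :
    ∃ i : Subgroup.normalizer (c.eSub : Set G) ≃* Subgroup.normalizer (c'.eSub : Set H),
      (i ⟨z, Subgroup.le_normalizer c.z_mem_eSub⟩ : H) = w := by
  classical
  have hs : ∀ x : c.eSub, ∃ y : c'.eSub, c'.f y = c.f x := fun x => by
    obtain ⟨y, hy, hyc⟩ := c'.surj _ (eList_facts x.2.2).1
    exact ⟨⟨y, hy, hyc ▸ x.2.2⟩, hyc⟩
  choose p hp using hs
  have hbij : Function.Bijective p := by
    refine ⟨fun a b e => Subtype.ext ((c.eq_iff a.2.1 b.2.1).1 (by rw [← hp, ← hp, e])), fun y => ?_⟩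
    obtain ⟨x, hx, hxc⟩ := c.surj _ (eList_facts y.2.2).1
    refine ⟨⟨x, hx, hxc ▸ y.2.2⟩, Subtype.ext ((c'.eq_iff (p _).2.1 y.2.1).1 ?_)⟩
    rw [hp]
    exact hxc
  let e : c.eSub ≃* c'.eSub := MulEquiv.mk (Equiv.ofBijective p hbij) fun a b =>
    Subtype.ext <| (c'.eq_iff (p _).2.1 ((p a).2.1.mul_left (p b).2.1)).1 <| by
      rw [hp, c'.map_mul _ _ (p a).2.1 (p b).2.1, hp, hp]
      exact c.map_mul _ _ a.2.1 b.2.1
  obtain ⟨i, hi⟩ := h.normalizer_iso e
  obtain ⟨j, hj⟩ := h'.normalizer_iso (MulEquiv.refl c'.eSub)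
  have hez : e ⟨z, c.z_mem_eSub⟩ = ⟨w, c'.z_mem_eSub⟩ :=
    Subtype.ext <| (c'.eq_iff (p _).2.1 (Commute.refl w)).1 <| by rw [hp, c'.map_z]; exact c.map_z
  refine ⟨i.trans j.symm, ?_⟩
  rw [MulEquiv.trans_apply, hi, hez, show SemidirectProduct.inl ⟨w, c'.z_mem_eSub⟩ =
    j ⟨w, Subgroup.le_normalizer c'.z_mem_eSub⟩ from hj.symm, MulEquiv.symm_apply_apply]

end AffineHyp

end Coding

end Cfsg.Agent.TransvCent
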