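import Cfsg.Agent.Lib.TransvCent.AffineIso
import Cfsg.Agent.Lib.TransvCent.Model

/-
The stabiliser of a vector in `SL(5,2)` is an affine setting.

* `vecStab`, `stabT` : the stabiliser of the first basis vector and the transvection in it
* `exists_stab_coding` : it is coded, affine, and normalises `E`
* `Coding.AffineHyp.exists_stab_hom` : in any affine setting `N(E)` is a copy of it
-/

set_option autoImplicit false

open Matrix

namespace Cfsg.Agent.TransvCent

local notation "K" => ZMod 2
local notation "SL5" => Matrix.SpecialLinearGroup (Fin 5) (ZMod 2)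

/-- The first basis vector. -/
def e0 : Fin 5 → K := Pi.single 0 1

/-- The stabiliser of the first basis vector. -/
def vecStab : Subgroup SL5 := MulAction.stabilizer SL5 e0

theorem mem_vecStab {g : SL5} :
    g ∈ vecStab ↔ ∀ i, (g : Matrix (Fin 5) (Fin 5) K) i 0 = if i = 0 then 1 else 0 := by
  rw [vecStab, MulAction.mem_stabilizer_iff, funext_iff]
  refine forall_congr' fun i => ?_
  show ((g : Matrix (Fin 5) (Fin 5) K).mulVec e0) i = e0 i ↔ _
  simp [e0, Matrix.mulVec_single, Pi.single_apply]

/-- The transvection in `SL(5,2)`. -/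
def slT : SL5 := ⟨Matrix.transvection 0 1 1, Matrix.det_transvection_of_ne _ _ (by decide) _⟩

theorem slT_coe : (slT : Matrix (Fin 5) (Fin 5) K) = Matrix.transvection 0 1 1 := rfl

theorem slT_mem : slT ∈ vecStab := mem_vecStab.2 (by decide)

/-- The transvection in the stabiliser. -/
def stabT : vecStab := ⟨slT, slT_mem⟩

/-- The matrix differs from `1` only in the first row. -/
def TopRow (M : Matrix (Fin 5) (Fin 5) K) : Prop := ∀ i, i ≠ 0 → ∀ j, M i j = if i = j then 1 else 0

theorem topRow_iff {M : Matrix (Fin 5) (Fin 5) K} : TopRow M ↔ ∀ i, i ≠ 0 → ∀ j, (M - 1) i j = 0 := by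
  refine forall_congr' fun i => forall_congr' fun _ => forall_congr' fun j => ?_
  rw [Matrix.sub_apply, sub_eq_zero, Matrix.one_apply]

theorem topRow_conj (g : vecStab) :
    TopRow ((g * stabT * g⁻¹ : vecStab) : SL5).1 := by
  rw [topRow_iff]
  intro i hi j
  have hg := mem_vecStab.1 g.2
  set A : Matrix (Fin 5) (Fin 5) K := (g : SL5).1 with hA
  set B : Matrix (Fin 5) (Fin 5) K := ((g : SL5)⁻¹).1 with hB
  have hAB : A * B = 1 := by
    rw [hA, hB, ← Matrix.SpecialLinearGroup.coe_mul, mul_inv_cancel, Matrix.SpecialLinearGroup.coe_one]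
  have he : ((g * stabT * g⁻¹ : vecStab) : SL5).1 - 1 = A * Matrix.single (0 : Fin 5) (1 : Fin 5) (1 : K) * B := by
    simp only [Subgroup.coe_mul, Subgroup.coe_inv, Matrix.SpecialLinearGroup.coe_mul, ← hA, ← hB, stabT, slT_coe,
      Matrix.transvection, mul_add, add_mul, mul_one, hAB, add_sub_cancel_left]
  rw [he, Matrix.mul_apply]
  refine Finset.sum_eq_zero fun k _ => ?_
  have : (A * Matrix.single (0 : Fin 5) (1 : Fin 5) (1 : K)) i k = 0 := by
    rw [Matrix.mul_apply]
    refine Finset.sum_eq_zero fun l _ => ?_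
    by_cases hl : l = 0
    · subst hl
      rw [hg i, if_neg hi, zero_mul]
    · simp [Matrix.single_apply, Ne.symm hl]
  rw [this, zero_mul]

/-- Two matrices of the stabiliser differing from `1` only in the first row commute. -/
theorem commute_of_topRow {g : SL5} (hg : g ∈ vecStab) (h : TopRow g.1) : Commute g slT := by
  have h0 := mem_vecStab.1 hg
  refine Subtype.ext ?_
  simp only [Matrix.SpecialLinearGroup.coe_mul, slT_coe]
  ext i j
  simp only [Matrix.mul_apply, Fin.sum_univ_five, Matrix.transvection, Matrix.add_apply, Matrix.one_apply,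
    Matrix.single_apply]
  have r1 := h 1 (by decide)
  have r2 := h 2 (by decide)
  have r3 := h 3 (by decide)
  have r4 := h 4 (by decide)
  fin_cases i <;> fin_cases j <;> simp [h0, r1, r2, r3, r4, add_comm]

theorem check_topRow_B : repB / 16 ≠ 2184 ∧ repA ∈ elts ∧
    code (Matrix.transvection (0 : Fin 5) 2 (1 : K)) = repA := by decide +kernel

theorem code_div_of_topRow {M : Matrix (Fin 5) (Fin 5) K} (h : TopRow M) : code M / 16 = 2184 := by
  simp only [code, h _ (by decide : (2 : Fin 5) ≠ 0), h _ (by decide : (3 : Fin 5) ≠ 0),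
    h _ (by decide : (4 : Fin 5) ≠ 0)]
  have h1 := ZMod.val_lt (M 0 1)
  have h2 := enc_lt (M 0 2) (M 0 3) (M 0 4)
  simp only [Fin.reduceEq, if_true, if_false, pack]
  have e0 : enc (0 : K) 0 0 = 0 := by decide
  have e1 : enc (1 : K) 0 0 = 1 := by decide
  have e2 : enc (0 : K) 1 0 = 2 := by decide
  have e3 : enc (0 : K) 0 1 = 4 := by decide
  rw [e0, e1, e2, e3]
  omega

/-- An element of `SL(5,2)` conjugating one transvection to the other. -/
def slSwap : Matrix (Fin 5) (Fin 5) K := fun i j => if Equiv.swap (1 : Fin 5) 2 i = j then 1 else 0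

theorem slSwap_det : slSwap.det = 1 := by
  have : slSwap = (Equiv.swap (1 : Fin 5) 2).permMatrix K := by
    ext i j
    simp [slSwap, Equiv.Perm.permMatrix, PEquiv.toMatrix_apply, Equiv.toPEquiv]
  rw [this, Matrix.det_permutation]
  decide

/-- The swap in `SL(5,2)`. -/
def slSw : SL5 := ⟨slSwap, slSwap_det⟩

theorem slSw_coe : (slSw : Matrix (Fin 5) (Fin 5) K) = slSwap := rfl

/-- The transvection with code `repA`. -/
def slA : SL5 := ⟨Matrix.transvection 0 2 1, Matrix.det_transvection_of_ne _ _ (by decide) _⟩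

theorem slA_coe : (slA : Matrix (Fin 5) (Fin 5) K) = Matrix.transvection 0 2 1 := rfl

/-- The stabiliser is coded and affine, and normalises `E`. -/
theorem exists_stab_coding : ∃ c : Coding stabT,
    c.AffineHyp ∧ Subgroup.normalizer (c.eSub : Set vecStab) = ⊤ := by
  obtain ⟨cs, hcs⟩ : ∃ cs : Coding slT, ∀ a : SL5, Commute a slT → cs.f a = code a.1 := by
    obtain ⟨c0⟩ := coding_transvection slT rfl
    have hshape : ∀ a : SL5, Commute a slT → Shape a.1 := fun a ha => by
      refine shape_of_commute (by rw [a.2]; exact one_ne_zero) ?_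
      have := congrArg (fun g : SL5 => g.1) ha.eq
      simpa [slT_coe] using this
    refine ⟨⟨fun a => code a.1, fun a ha => mem_elts_of_shape (hshape a ha) (by rw [a.2]; exact one_ne_zero),
      fun a b ha hb => by rw [Matrix.SpecialLinearGroup.coe_mul]; exact (hshape a ha).mul (hshape b hb),
      fun a b ha hb h => Subtype.ext ((hshape a ha).ext (hshape b hb) h), fun d hd => ?_, code_transvection⟩,
      fun a _ => rfl⟩
    obtain ⟨g, hg, hgc⟩ := exists_of_mem hd
    refine ⟨g, Subtype.ext ?_, hgc⟩
    simp only [Matrix.SpecialLinearGroup.coe_mul, slT_coe]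
    ext i j
    simp only [Matrix.mul_apply, Fin.sum_univ_five, Matrix.transvection, Matrix.add_apply,
      Matrix.one_apply, Matrix.single_apply]
    fin_cases i <;> fin_cases j <;> simp [hg.col, hg.row, add_comm]
  have hmem : ∀ a : SL5, Commute a slT → a ∈ vecStab := fun a ha => by
    refine mem_vecStab.2 fun i => ?_
    refine (shape_of_commute (by rw [a.2]; exact one_ne_zero) ?_).col i
    have := congrArg (fun g : SL5 => g.1) ha.eq
    simpa [slT_coe] using this
  have hc : ∀ {a : vecStab}, Commute a stabT → Commute (a : SL5) slT := fun h =>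
    h.map vecStab.subtype
  let c : Coding stabT :=
    { f := fun a => cs.f (a : SL5)
      mem := fun a ha => cs.mem _ (hc ha)
      map_mul := fun a b ha hb => by rw [Subgroup.coe_mul]; exact cs.map_mul _ _ (hc ha) (hc hb)
      inj := fun a b ha hb h => Subtype.ext (cs.inj _ _ (hc ha) (hc hb) h)
      surj := fun d hd => by
        obtain ⟨a, ha, he⟩ := cs.surj d hd
        exact ⟨⟨a, hmem a ha⟩, Subtype.ext ha.eq, he⟩
      map_z := cs.map_z }
  have hA : c.AffineHyp := by
    refine ⟨?_, ?_⟩
    · obtain ⟨a, ha, he⟩ := c.surj repA check_topRow_B.2.1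
      refine ⟨a, ⟨ha, 1, Commute.one_left _, by simpa using he⟩, ?_⟩
      have hperm : slSw ∈ vecStab := mem_vecStab.2 (by decide +kernel)
      refine isConj_iff.2 ⟨⟨_, hperm⟩, ?_⟩
      rw [mul_inv_eq_iff_eq_mul]
      refine Subtype.ext (Subtype.ext ?_)
      simp only [Subgroup.coe_mul, Matrix.SpecialLinearGroup.coe_mul]
      have hsl : Commute slA slT := by
        refine Subtype.ext ?_
        simp only [Matrix.SpecialLinearGroup.coe_mul, slT_coe, slA_coe]
        decide +kernel
      have ea : (a : SL5) = slA := by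
        refine cs.inj _ _ (hc ha) hsl ?_
        rw [show cs.f (a : SL5) = repA from he, hcs _ hsl, slA_coe]
        exact check_topRow_B.2.2.symm
      rw [ea]
      simp only [stabT, slT_coe, slA_coe, slSw_coe]
      decide +kernel
    · rintro y ⟨hy, k, hk, he⟩ hcon
      obtain ⟨g, hg⟩ := isConj_iff.1 (hcon.trans (isConj_iff.2 ⟨k, rfl⟩))
      have ht := topRow_conj g
      rw [hg] at ht
      have hd := code_div_of_topRow ht
      rw [← hcs _ (hc (Coding.commute_conj hk hy)), show cs.f ((k * y * k⁻¹ : vecStab) : SL5) = repB from he] at hd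
      exact check_topRow_B.1 hd
  refine ⟨c, hA, eq_top_iff.2 fun g _ => ?_⟩
  have key : ∀ (k : vecStab) {u : vecStab}, u ∈ c.eSub → k * u * k⁻¹ ∈ c.eSub := by
    intro k u hu
    by_cases h1 : u = 1
    · simp [h1, c.eSub.one_mem]
    have hcon : IsConj stabT (k * u * k⁻¹) := (hA.fused hu h1).trans (isConj_iff.2 ⟨k, rfl⟩)
    refine hA.mem_of_isConj ?_ hcon
    obtain ⟨m, hm⟩ := isConj_iff.1 hcon
    rw [← hm]
    exact Subtype.ext (commute_of_topRow (m * stabT * m⁻¹).2 (topRow_conj m)).eq
  rw [Subgroup.mem_normalizer_iff]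
  refine fun u => ⟨key g, fun hu => ?_⟩
  have := key g⁻¹ hu
  rwa [show g⁻¹ * (g * u * g⁻¹) * g⁻¹⁻¹ = u by group] at this

namespace Coding

variable {G : Type*} [Group G] [Finite G] {z : G} {c : Coding z}

/-- In the affine case `N(E)` is a copy of the stabiliser, the transvection going to `z`. -/
theorem AffineHyp.exists_stab_hom (h : c.AffineHyp) : ∃ φ : vecStab →* G, Function.Injective φ ∧
    φ stabT = z ∧ φ.range = Subgroup.normalizer (c.eSub : Set G) := by
  obtain ⟨c', h', htop⟩ := exists_stab_coding
  obtain ⟨i, hi⟩ := h'.normalizer_iso_normalizer h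
  let e : vecStab ≃* Subgroup.normalizer (c.eSub : Set G) :=
    (Subgroup.topEquiv.symm.trans (MulEquiv.subgroupCongr htop.symm)).trans i
  refine ⟨(Subgroup.normalizer (c.eSub : Set G)).subtype.comp e.toMonoidHom,
    Subtype.val_injective.comp e.injective, hi, ?_⟩
  rw [MonoidHom.range_comp, MonoidHom.range_eq_top.2 e.surjective, ← MonoidHom.range_eq_map,
    Subgroup.range_subtype]

end Coding

end Cfsg.Agent.TransvCent
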