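import Cfsg.Agent.Lib.TransvCent.AffineModel
import Cfsg.Agent.Lib.TransvCent.Gen
import Cfsg.Agent.Lib.TransvCent.AffineIso
import Cfsg.Agent.Lib.Aschbacher.CriterionL2Final
import Cfsg.Agent.Lib.Involution.SEOrbit
import Mathlib.GroupTheory.Perm.Cycle.Type
import Mathlib.GroupTheory.Nilpotent

/-
In the affine case the normaliser of `E` is the whole group.

* `AffineHyp.exists_sylow` : a Sylow 2-subgroup of the group centralises `z`
* `AffineHyp.normalizer_eq_top` : otherwise Aschbacher's criterion leaves one class of involutions in the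
  normal closure of `z`, hence a group of order a multiple of fifteen regular on `E \ 1`
-/

set_option autoImplicit false

namespace Cfsg.Agent.TransvCent

/-- Within `k` steps of squaring or multiplying by a conjugate an involution outside `eList` is reached. -/
def outReach : ℕ → ℕ → Bool
  | 0, d => isInv d && !eList.contains d
  | k + 1, d => outReach k d || outReach k (mul d d) || gens.any fun g => outReach k (mul d (mul g (mul d g)))

theorem check_outReach : radCodes.all (fun d => eList.contains d || outReach 2 d) = true := by decide +kernel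

/-- The fields of a code other than the first row. -/
def highPart (d : ℕ) : ℕ × ℕ × ℕ × ℕ := (fld d 4, fld d 7, fld d 10, fld d 13)

/-- The generators in the radical outside `eList`. -/
def gensB : List ℕ := [34960, 34976, 35008]

theorem check_gensB : (gensB.all fun g => gens.contains g && isRad g) = true := by decide +kernel

theorem check_comm_out : elts.all (fun d => eList.contains d || isRad d ||
    gensB.any fun g => highPart (mul d g) != highPart (mul g d)) = true := by decide +kernel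

theorem check_eList_fields : ∀ e ∈ eList,
    fld e 4 = 0 ∧ fld e 7 = 1 ∧ fld e 10 = 2 ∧ fld e 13 = 4 := by decide +kernel

theorem fld_lt (d k : ℕ) : fld d k < 8 := Nat.lt_succ_of_le Nat.and_le_right

theorem bit_lt (n : ℕ) : n &&& 1 < 2 := Nat.lt_succ_of_le Nat.and_le_right

theorem par_lt (n : ℕ) : par n < 2 := bit_lt _

theorem high_sel : ∀ a < 8, ∀ b < 8, ∀ c < 8, sel 1 a b c = a ∧ sel 2 a b c = b ∧ sel 4 a b c = c ∧
    par (1 &&& a) + 2 * par (2 &&& a) + 4 * par (4 &&& a) = a := by decide +kernel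

theorem sel_lt_eight : ∀ r < 8, ∀ a < 8, ∀ b < 8, ∀ c < 8, sel r a b c < 8 := by decide +kernel

theorem highPart_mul_of_eList {e : ℕ} (he : e ∈ eList) (x : ℕ) : highPart (mul e x) = highPart x := by
  obtain ⟨h4, h7, h10, h13⟩ := check_eList_fields e he
  obtain ⟨-, -, -, hf⟩ := high_sel (fld x 4) (fld_lt x 4) 0 (by omega) 0 (by omega)
  obtain ⟨s0, s1, s2, -⟩ := high_sel (fld x 7) (fld_lt x 7) (fld x 10) (fld_lt x 10) (fld x 13) (fld_lt x 13)
  have hc : ((e &&& 1) ^^^ (x &&& 1)) ^^^ par (fld e 1 &&& fld x 4) < 2 :=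
    Nat.xor_lt_two_pow (n := 1) (Nat.xor_lt_two_pow (n := 1) (bit_lt e) (bit_lt x)) (par_lt _)
  have hu : fld x 1 ^^^ sel (fld e 1) (fld x 7) (fld x 10) (fld x 13) < 8 :=
    Nat.xor_lt_two_pow (n := 3) (fld_lt x 1) (sel_lt_eight _ (fld_lt e 1) _ (fld_lt x 7) _ (fld_lt x 10) _ (fld_lt x 13))
  obtain ⟨-, -, f4, f7, f10, f13⟩ := fields hc hu (fld_lt x 4) (fld_lt x 7) (fld_lt x 10) (fld_lt x 13)
  simp only [highPart, mul, h4, h7, h10, h13, s0, s1, s2, hf, Nat.zero_xor, f4, f7, f10, f13]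

namespace Coding

variable {G : Type*} [Group G] {z : G}

/-- Outside `E` a commutator with one of `gensB` leads into the radical outside `E`. -/
theorem exists_rad_out (c : Coding z) (K : Subgroup G) [K.Normal] {a : G} (ha : Commute a z) (haK : a ∈ K)
    (hout : c.f a ∉ eList) : ∃ x, Commute x z ∧ x ∈ K ∧ c.f x ∈ radCodes ∧ c.f x ∉ eList := by
  have h := List.all_eq_true.1 check_comm_out _ (c.mem a ha)
  rw [Bool.or_eq_true, Bool.or_eq_true, List.contains_iff_mem, List.any_eq_true] at h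
  rcases h with (h | h) | ⟨t, ht, htne⟩
  · exact absurd h hout
  · exact ⟨a, ha, haK, mem_radCodes h, hout⟩
  have hg := List.all_eq_true.1 check_gensB t ht
  rw [Bool.and_eq_true, List.contains_iff_mem] at hg
  have hg2 := List.all_eq_true.1 check_gens t hg.1
  rw [Bool.and_eq_true, List.contains_iff_mem] at hg2
  obtain ⟨g, hgz, rfl⟩ := c.surj t hg2.1
  have hgg : g * g = 1 := (c.sq_eq_iff hgz (Commute.one_left z)).1 (by rw [c.map_one]; exact hg2.2)
  have hgi : g⁻¹ = g := inv_eq_of_mul_eq_one_right hgg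
  have hr : a * g * a⁻¹ * g ∈ c.radSet :=
    c.radSet_mul (c.radSet_conj ha ⟨hgz, mem_radCodes hg.2⟩) ⟨hgz, mem_radCodes hg.2⟩
  refine ⟨_, hr.1, ?_, hr.2, fun hE => ?_⟩
  · have : a * (g * a⁻¹ * g⁻¹) ∈ K :=
      mul_mem haK (Subgroup.Normal.conj_mem inferInstance _ (inv_mem haK) g)
    rwa [hgi, ← mul_assoc, ← mul_assoc] at this
  · rw [bne_iff_ne] at htne
    refine htne ?_
    rw [← c.map_mul a g ha hgz, ← c.map_mul g a hgz ha]
    have e : a * g = a * g * a⁻¹ * g * (g * a) := by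
      calc a * g = a * g * a⁻¹ * (g * g) * a := by rw [hgg, mul_one]; group
        _ = _ := by group
    rw [e, c.map_mul _ _ hr.1 (hgz.mul_left ha), highPart_mul_of_eList hE]

/-- A normal subgroup containing an element of the centraliser outside `E` contains such an involution. -/
theorem exists_inv_of_outReach (c : Coding z) (K : Subgroup G) [K.Normal] :
    ∀ (k : ℕ) (a : G), Commute a z → a ∈ K → outReach k (c.f a) = true →
      ∃ x, Commute x z ∧ x ∈ K ∧ orderOf x = 2 ∧ c.f x ∉ eList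
  | 0, a, ha, haK, h => by
    rw [outReach, Bool.and_eq_true, Bool.not_eq_true', Bool.eq_false_iff, Ne, List.contains_iff_mem] at h
    exact ⟨a, ha, haK, (c.isInv_iff ha).1 h.1, h.2⟩
  | k + 1, a, ha, haK, h => by
    rw [outReach, Bool.or_eq_true, Bool.or_eq_true, List.any_eq_true] at h
    rcases h with (h | h) | ⟨t, ht, h⟩
    · exact c.exists_inv_of_outReach K k a ha haK h
    · rw [← c.map_mul a a ha ha] at h
      exact c.exists_inv_of_outReach K k _ (ha.mul_left ha) (mul_mem haK haK) h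
    · have hg := List.all_eq_true.1 check_gens t ht
      rw [Bool.and_eq_true, List.contains_iff_mem] at hg
      obtain ⟨g, hgz, rfl⟩ := c.surj t hg.1
      have hgg : g * g = 1 := (c.sq_eq_iff hgz (Commute.one_left z)).1 (by rw [c.map_one]; exact hg.2)
      rw [← c.map_mul a g ha hgz, ← c.map_mul g _ hgz (ha.mul_left hgz),
        ← c.map_mul a _ ha (hgz.mul_left (ha.mul_left hgz))] at h
      refine c.exists_inv_of_outReach K k _ (ha.mul_left (hgz.mul_left (ha.mul_left hgz))) ?_ h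
      refine mul_mem haK ?_
      have := Subgroup.Normal.conj_mem inferInstance a haK g
      rwa [inv_eq_of_mul_eq_one_right hgg, mul_assoc] at this

namespace AffineHyp

variable {c : Coding z} [Finite G]

/-- A Sylow 2-subgroup of the group lies in the centraliser of `z`. -/
theorem exists_sylow (h : c.AffineHyp) : ∃ P : Sylow 2 G, z ∈ P ∧ ∀ s ∈ P, Commute s z := by
  haveI : Fact (Nat.Prime 2) := ⟨Nat.prime_two⟩
  set C := Subgroup.centralizer ({z} : Set G) with hC
  set N := Subgroup.normalizer (c.eSub : Set G) with hN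
  have hzC : z ∈ C := Subgroup.mem_centralizer_singleton_iff.2 rfl
  have hzp : IsPGroup 2 (Subgroup.zpowers (⟨z, hzC⟩ : C)) :=
    IsPGroup.of_card (n := 1) (by
      rw [Nat.card_zpowers, ← orderOf_injective C.subtype Subtype.val_injective ⟨z, hzC⟩, pow_one]
      exact c.orderOf_z)
  obtain ⟨Q, hQ⟩ := hzp.exists_le_sylow
  set S := (Q : Subgroup C).map C.subtype with hS
  have hSC : S ≤ C := Subgroup.map_subtype_le _
  have hCN : C ≤ N := fun x hx => h.le_normalizer (Subgroup.mem_centralizer_singleton_iff.1 hx)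
  have hScard : Nat.card S = 1024 := by
    rw [hS, Subgroup.card_map_of_injective C.subtype_injective, Q.card_eq_multiplicity,
      show Nat.card C = 21504 from AffineHyp.card_centralizer c]
    have : (21504 : ℕ).factorization 2 = 10 := by
      rw [show (21504 : ℕ) = 2 ^ 10 * 21 by norm_num, Nat.factorization_mul (by norm_num) (by norm_num),
        Finsupp.add_apply, Nat.prime_two.factorization_pow, Finsupp.single_eq_same,
        Nat.factorization_eq_zero_of_not_dvd (by norm_num)]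
    rw [this]; norm_num
  have hSp : IsPGroup 2 S := IsPGroup.of_card (n := 10) (by rw [hScard]; norm_num)
  obtain ⟨P, hP⟩ := hSp.exists_le_sylow
  have hzS : z ∈ S := ⟨⟨z, hzC⟩, hQ (Subgroup.mem_zpowers _), rfl⟩
  suffices heq : (P : Subgroup G) = S by
    exact ⟨P, hP hzS, fun s hs => Subgroup.mem_centralizer_singleton_iff.1 (hSC (heq ▸ hs))⟩
  by_contra hne
  haveI : Group.IsNilpotent (P : Subgroup G) := P.2.isNilpotent
  have hlt : S.subgroupOf (P : Subgroup G) < ⊤ := lt_top_iff_ne_top.2 fun e =>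
    hne (le_antisymm (Subgroup.subgroupOf_eq_top.1 e) hP)
  obtain ⟨g, hgn, hgS⟩ := SetLike.exists_of_lt
    (Group.normalizerCondition_of_isNilpotent (G := (P : Subgroup G)) _ hlt)
  have hnorm : ∀ x ∈ S, (g : G) * x * (g : G)⁻¹ ∈ S := fun x hx =>
    (Subgroup.mem_normalizer_iff.1 hgn ⟨x, hP hx⟩).1 hx
  -- such an element normalises `E`
  have hES : ∀ e ∈ c.eSub, e ≠ 1 → e ∈ S := by
    intro e he he1
    have hQe : ∀ q ∈ (Q : Subgroup C), ∀ x : G, x ∈ c.eSub → (q : G) * x * (q : G)⁻¹ ∈ c.eSub :=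
      fun q _ x hx => (Subgroup.mem_normalizer_iff.1 (hCN q.2) x).1 hx
    have hEC : c.eSub ≤ C := fun x hx => Subgroup.mem_centralizer_singleton_iff.2 hx.1
    haveI : (c.eSub.subgroupOf C).Normal := ⟨fun x hx q => by
      simpa [Subgroup.mem_subgroupOf] using (Subgroup.mem_normalizer_iff.1 (hCN q.2) _).1 hx⟩
    have hEp : IsPGroup 2 (c.eSub.subgroupOf C) := IsPGroup.of_card (n := 4) (by
      rw [Nat.card_congr (Subgroup.subgroupOfEquivOfLe hEC).toEquiv, ← SetLike.coe_sort_coe,
        Nat.card_coe_set_eq, c.ncard_eSub]; norm_num)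
    exact ⟨⟨e, hEC he⟩, hEp.le_sylow_of_normal Q (Subgroup.mem_subgroupOf.2 he), rfl⟩
  have key : ∀ x ∈ c.eSub, (g : G) * x * (g : G)⁻¹ ∈ c.eSub := fun x hx => by
    by_cases h1 : x = 1
    · simp [h1, c.eSub.one_mem]
    exact h.mem_of_conj_mem ((h.fused hx h1).trans (isConj_iff.2 ⟨(g : G), rfl⟩))
      (hCN (hSC (hnorm x (hES x hx h1))))
  have hgN : (g : G) ∈ N := by
    have himg : (MulAut.conj (g : G)) '' (c.eSub : Set G) = c.eSub := by
      refine Set.eq_of_subset_of_ncard_le ?_ ?_ (Set.toFinite _)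
      · rintro _ ⟨x, hx, rfl⟩
        exact key x hx
      · rw [Set.ncard_image_of_injective _ (MulAut.conj (g : G)).injective]
    refine Subgroup.mem_normalizer_iff.2 fun x => ⟨key x, fun hx => ?_⟩
    obtain ⟨y, hy, hye⟩ : (g : G) * x * (g : G)⁻¹ ∈ (MulAut.conj (g : G)) '' (c.eSub : Set G) :=
      himg.symm ▸ hx
    exact (MulAut.conj (g : G)).injective (hye.trans (MulAut.conj_apply _ x).symm) ▸ hy
  -- so `P` meets `N` in more than a Sylow 2-subgroup of `N`
  have hlt2 : S < N ⊓ (P : Subgroup G) := SetLike.lt_iff_le_and_exists.2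
    ⟨le_inf (hSC.trans hCN) hP, (g : G), Subgroup.mem_inf.2 ⟨hgN, g.2⟩, fun e => hgS (Subgroup.mem_subgroupOf.2 e)⟩
  obtain ⟨n, hn⟩ := (P.2.to_le (inf_le_right : N ⊓ (P : Subgroup G) ≤ (P : Subgroup G))).exists_card_eq
  have h1 : 1024 < 2 ^ n := by
    rw [← hn, ← hScard, ← SetLike.coe_sort_coe, ← SetLike.coe_sort_coe, Nat.card_coe_set_eq, Nat.card_coe_set_eq]
    exact Set.ncard_lt_ncard hlt2
  have h2 : 2 ^ n ∣ 322560 := by
    rw [← hn, ← h.card_normalizer]
    exact Subgroup.card_dvd_of_le inf_le_left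
  have h11 : 11 ≤ n := by
    by_contra hlt11
    have := Nat.pow_le_pow_right (n := 2) (by norm_num) (show n ≤ 10 by omega)
    omega
  exact absurd ((pow_dvd_pow 2 h11).trans h2) (by norm_num)

/-- **The affine case.** -/
theorem normalizer_eq_top (h : c.AffineHyp) : Subgroup.normalizer (c.eSub : Set G) = ⊤ := by
  set N := Subgroup.normalizer (c.eSub : Set G) with hNdef
  by_contra hne
  have hCN : ∀ {y : G}, Commute y z → y ∈ N := fun hy => h.le_normalizer hy
  have hEN : c.eSub ≤ N := Subgroup.le_normalizer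
  have h2 : ∀ g : G, g * z * g⁻¹ ∈ N ↔ g ∈ N := fun g => ⟨fun hg => by
    obtain ⟨k, hk, hke⟩ := h.fuse hg
    have hc : Commute (k⁻¹ * g) z := by
      refine mul_inv_eq_iff_eq_mul.1 ?_
      calc k⁻¹ * g * z * (k⁻¹ * g)⁻¹ = k⁻¹ * (g * z * g⁻¹) * k := by group
        _ = z := by rw [← hke]; group
    simpa using mul_mem hk (hCN hc),
    fun hg => mul_mem (mul_mem hg (hEN c.z_mem_eSub)) (inv_mem hg)⟩
  have h3 : ∀ g : G, Commute z (g * z * g⁻¹) → g * z * g⁻¹ ≠ z →
      Subgroup.centralizer ({z * (g * z * g⁻¹)} : Set G) ≤ N := by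
    intro g hc hgne y hy
    have hxE := h.mem_of_isConj hc.symm (isConj_iff.2 ⟨g, rfl⟩)
    obtain ⟨k, hk, hke⟩ := h.transitive (mul_mem c.z_mem_eSub hxE) fun e => hgne (by
      rw [← mul_left_cancel_iff (a := z), e, c.mul_self_of_mem c.z_mem_uSub])
    rw [Subgroup.mem_centralizer_singleton_iff, ← hke] at hy
    have hy' : Commute (k⁻¹ * y * k) z := by
      rw [← Commute.conj_iff k, show k * (k⁻¹ * y * k) * k⁻¹ = y by group]
      exact hy
    have := mul_mem (mul_mem hk (hCN hy')) (inv_mem hk)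
    rwa [show k * (k⁻¹ * y * k) * k⁻¹ = y by group] at this
  -- the core is trivial
  have hcore : N.normalCore = ⊥ := by
    have hEone : ∀ r ∈ N.normalCore, r ∈ c.eSub → r = 1 := by
      intro r hr hrE
      by_contra h1
      obtain ⟨k, -, hkz⟩ := h.transitive hrE h1
      have hzR : z ∈ N.normalCore := by
        have := Subgroup.Normal.conj_mem inferInstance r hr k⁻¹
        rwa [← hkz, inv_inv, show k⁻¹ * (k * z * k⁻¹) * k = z by group] at this
      exact hne (eq_top_iff.2 fun g _ => (h2 g).1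
        (Subgroup.normalCore_le N (Subgroup.Normal.conj_mem inferInstance z hzR g)))
    refine (Subgroup.eq_bot_iff_forall _).2 fun r hr => hEone r hr ?_
    rw [← c.centralizer_eSub]
    refine Subgroup.mem_centralizer_iff.2 fun e he => ?_
    have h1 : r * e * r⁻¹ * e⁻¹ ∈ N.normalCore := by
      have := mul_mem hr (Subgroup.Normal.conj_mem inferInstance r⁻¹ (inv_mem hr) e)
      rwa [← mul_assoc, ← mul_assoc] at this
    have h2' : r * e * r⁻¹ * e⁻¹ ∈ c.eSub := mul_mem
      ((Subgroup.mem_normalizer_iff.1 (Subgroup.normalCore_le N hr) e).1 he) (inv_mem he)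
    have := hEone _ h1 h2'
    rw [mul_inv_eq_one, mul_inv_eq_iff_eq_mul] at this
    exact this.symm
  obtain ⟨P, hzP, hPz⟩ := h.exists_sylow
  set K := Subgroup.normalClosure ({z} : Set G) with hKdef
  have hse : Cfsg.IsStronglyEmbedded (N.subgroupOf K) :=
    Aschbacher.coreFreeCriterion G P z N c.orderOf_z hzP hPz hne hcore h2 h3
  have hzK : z ∈ K := Subgroup.subset_normalClosure rfl
  have hord : ∀ {x : K}, orderOf (x : G) = 2 → orderOf x = 2 := fun {x} hx => by
    rwa [← orderOf_injective K.subtype K.subtype_injective x]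
  -- the involutions of `K` are conjugates of `z`
  have hinv : ∀ x ∈ K, orderOf x = 2 → IsConj z x := fun x hx ho => by
    obtain ⟨d, hd⟩ := isConj_iff.1
      (Involution.isConj_involutions hse (hord (x := ⟨z, hzK⟩) c.orderOf_z) (hord (x := ⟨x, hx⟩) ho))
    exact isConj_iff.2 ⟨d, congrArg Subtype.val hd⟩
  have hKC : ∀ a, Commute a z → a ∈ K → a ∈ c.eSub := by
    intro a ha haK
    refine ⟨ha, by_contra fun hout => ?_⟩
    obtain ⟨b, hb, hbK, hbr, hbe⟩ := c.exists_rad_out K ha haK hout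
    have hr := List.all_eq_true.1 check_outReach _ hbr
    rw [Bool.or_eq_true, List.contains_iff_mem] at hr
    obtain ⟨x, hx, hxK, hxo, hxe⟩ := c.exists_inv_of_outReach K 2 b hb hbK (hr.resolve_left hbe)
    exact hxe (h.mem_of_isConj hx (hinv x hxK hxo)).2
  -- `K ∩ N` is transitive on the involutions of `E`
  have hEK : c.eSub ≤ K := fun x hx => by
    by_cases h1 : x = 1
    · exact h1 ▸ K.one_mem
    obtain ⟨k, hk⟩ := isConj_iff.1 (h.fused hx h1)
    exact hk ▸ Subgroup.normalClosure_normal.conj_mem z hzK k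
  have htrans : ∀ x ∈ c.eSub, x ≠ 1 → ∃ d ∈ K ⊓ N, d * z * d⁻¹ = x := by
    intro x hx h1
    obtain ⟨g, hg⟩ : ∃ g, g ∉ N := by
      by_contra hall
      exact hne (eq_top_iff.2 fun g _ => Classical.not_not.1 fun hg => hall ⟨g, hg⟩)
    let u : K := ⟨g * z * g⁻¹, Subgroup.normalClosure_normal.conj_mem z hzK g⟩
    have huN : u ∉ N.subgroupOf K := fun e => hg ((h2 g).1 (Subgroup.mem_subgroupOf.1 e))
    have hx2 : orderOf x = 2 := by
      obtain ⟨k, rfl⟩ := isConj_iff.1 (h.fused hx h1)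
      rw [Coding.orderOf_conj, c.orderOf_z]
    have hone : ∀ a : K, a • ((1 : K) : K ⧸ N.subgroupOf K) = ((1 : K) : K ⧸ N.subgroupOf K) ↔
        a ∈ N.subgroupOf K := fun a => by
      rw [Involution.smul_mk_eq_iff]; simp
    have hne' : ((1 : K) : K ⧸ N.subgroupOf K) ≠ (u : K ⧸ N.subgroupOf K) := fun e => huN (by
      rw [QuotientGroup.eq, inv_one, one_mul] at e; exact e)
    obtain ⟨d, hd, hde⟩ := Involution.exists_conj_two_point hse hne' (hord (x := ⟨z, hzK⟩) c.orderOf_z)
      ((hone _).2 (Subgroup.mem_subgroupOf.2 (hEN c.z_mem_eSub))) (hord (x := ⟨x, hEK hx⟩) hx2)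
      ((hone _).2 (Subgroup.mem_subgroupOf.2 (hEN hx)))
    exact ⟨d, Subgroup.mem_inf.2 ⟨d.2,
      Subgroup.mem_subgroupOf.1 ((hone d).1 (MulAction.mem_stabilizer_iff.1 hd.1))⟩, congrArg Subtype.val hde⟩
  -- its order is a multiple of fifteen
  set M := K ⊓ N with hM
  have h15 : 15 ∣ Nat.card M := by
    let _ : MulAction M G := MulAction.compHom G (ConjAct.toConjAct.toMonoidHom.comp M.subtype)
    have hsm : ∀ (n : M) (x : G), n • x = (n : G) * x * (n : G)⁻¹ := fun n x => rfl
    have horb : MulAction.orbit M z = (c.eSub : Set G) \ {1} := by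
      ext x
      simp only [MulAction.mem_orbit_iff, hsm, Set.mem_sdiff, Set.mem_singleton_iff, SetLike.mem_coe]
      constructor
      · rintro ⟨n, rfl⟩
        refine ⟨(Subgroup.mem_normalizer_iff.1 (Subgroup.mem_inf.1 n.2).2 z).1 c.z_mem_eSub, fun e => ?_⟩
        have := Coding.orderOf_conj (n : G) z
        rw [e, orderOf_one, c.orderOf_z] at this
        omega
      · rintro ⟨hx, h1⟩
        obtain ⟨d, hd, hde⟩ := htrans x hx h1
        exact ⟨⟨d, hd⟩, hde⟩
    have hidx : (MulAction.stabilizer M z).index = 15 := by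
      rw [MulAction.index_stabilizer, horb, Set.ncard_sdiff_singleton_of_mem c.eSub.one_mem, c.ncard_eSub]
    exact hidx ▸ Subgroup.index_dvd_card _
  obtain ⟨x, hx⟩ := exists_prime_orderOf_dvd_card' (G := M) 3 (hp := ⟨by norm_num⟩) ((Dvd.intro 5 rfl).trans h15)
  obtain ⟨y, hy⟩ := exists_prime_orderOf_dvd_card' (G := M) 5 (hp := ⟨by norm_num⟩) ((Dvd.intro 3 rfl).trans h15)
  rw [← orderOf_injective M.subtype M.subtype_injective] at hx hy
  change orderOf (x : G) = 3 at hx
  change orderOf (y : G) = 5 at hy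
  have hsqE : ∀ e ∈ c.eSub, e ^ 2 = 1 := fun e he => by rw [pow_two]; exact c.e_mul_self he
  have hnE : ∀ {a : G} {p : ℕ}, orderOf a = p → ¬ p ∣ 2 → a ∉ c.eSub := fun ho hp he =>
    hp (ho ▸ orderOf_dvd_of_pow_eq_one (hsqE _ he))
  have hmove : ∀ m : M, (m : G) ∉ c.eSub → c.InCls repA ((m : G) * z * (m : G)⁻¹) := by
    intro m hm
    obtain ⟨hmK, hmN⟩ := Subgroup.mem_inf.1 m.2
    have hmem := (Subgroup.mem_normalizer_iff.1 hmN z).1 c.z_mem_eSub
    exact (c.eq_or_A_of_isConj h.hB hmem.1 (isConj_iff.2 ⟨m, rfl⟩)).resolve_left fun e =>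
      hm (hKC _ (mul_inv_eq_iff_eq_mul.1 e) hmK)
  obtain ⟨haz, k1, hk1, he1⟩ := hmove x (hnE hx (by norm_num))
  obtain ⟨hbz, k2, hk2, he2⟩ := hmove y (hnE hy (by norm_num))
  set w := k2⁻¹ * k1 with hw
  have hwz : Commute w z := hk2.inv_left.mul_left hk1
  have hab : w * ((x : G) * z * (x : G)⁻¹) * w⁻¹ = (y : G) * z * (y : G)⁻¹ := by
    have := (c.eq_iff (Coding.commute_conj hk1 haz) (Coding.commute_conj hk2 hbz)).1 (he1.trans he2.symm)
    calc w * ((x : G) * z * (x : G)⁻¹) * w⁻¹ = k2⁻¹ * (k1 * ((x : G) * z * (x : G)⁻¹) * k1⁻¹) * k2 := by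
          rw [hw]; group
      _ = _ := by rw [this]; group
  set x' := w * (x : G) * w⁻¹ with hx'
  obtain ⟨hxK, hxN⟩ := Subgroup.mem_inf.1 x.2
  obtain ⟨hyK, hyN⟩ := Subgroup.mem_inf.1 y.2
  have he : (y : G)⁻¹ * x' ∈ c.eSub := by
    refine hKC _ ?_ (mul_mem (inv_mem hyK) (Subgroup.normalClosure_normal.conj_mem _ hxK w))
    refine mul_inv_eq_iff_eq_mul.1 ?_
    have hwi : w⁻¹ * z * w = z := by rw [hwz.inv_left.eq, inv_mul_cancel_right]
    calc (y : G)⁻¹ * x' * z * ((y : G)⁻¹ * x')⁻¹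
        = (y : G)⁻¹ * (w * ((x : G) * (w⁻¹ * z * w) * (x : G)⁻¹) * w⁻¹) * (y : G) := by rw [hx']; group
      _ = z := by rw [hwi, hab]; group
  set e := (y : G)⁻¹ * x' with he'
  have hy3 : (y : G) ^ 3 ∈ c.eSub := by
    have hcx : x' ^ 3 = 1 := by rw [hx', conj_pow, ← hx, pow_orderOf_eq_one, mul_one, mul_inv_cancel]
    have hyi := inv_mem hyN
    have hc : ∀ {n : G}, n ∈ N → n * e * n⁻¹ ∈ c.eSub := fun hn => (Subgroup.mem_normalizer_iff.1 hn e).1 he
    have e3 : x' ^ 3 = ((y : G) * e * (y : G)⁻¹) * ((y : G) ^ 2 * e * ((y : G) ^ 2)⁻¹) *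
        ((y : G) ^ 3 * e * ((y : G) ^ 3)⁻¹) * (y : G) ^ 3 := by
      rw [show x' = (y : G) * e by rw [he']; group]
      simp only [pow_succ, pow_zero, one_mul]
      group
    rw [e3] at hcx
    rw [eq_inv_of_mul_eq_one_right hcx]
    exact inv_mem (mul_mem (mul_mem (hc hyN) (hc (pow_mem hyN 2))) (hc (pow_mem hyN 3)))
  have h6 : (y : G) ^ 6 = 1 := by
    rw [show 6 = 3 * 2 from rfl, pow_mul]; exact hsqE _ hy3
  have h56 : 5 ∣ 6 := hy ▸ orderOf_dvd_of_pow_eq_one h6
  exact absurd h56 (by norm_num)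

end AffineHyp

end Coding

end Cfsg.Agent.TransvCent
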