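import Cfsg.Agent.Lib.TransvCent.Coding
import Cfsg.Agent.Lib.TransvCent.AmalgamLocalData
import Mathlib.Algebra.Group.Conj
import Mathlib.Algebra.BigOperators.Group.List.Basic
import Mathlib.Tactic.Group

/-
Coordinates in an elementary group of order 64 and actions given by packed tables.

* `Elem` : sixty-four elements forming a self-centralising elementary group
* `Maps` : conjugation moves the coordinates by a function
* `Coding.pre` : the element with a given code
-/

set_option autoImplicit false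

namespace Cfsg.Agent.TransvCent

variable {G : Type*} [Group G] {z : G}

open Classical in
/-- The element of the centraliser with code `d`. -/
noncomputable def Coding.pre (c : Coding z) (d : ℕ) : G :=
  if h : d ∈ elts then Classical.choose (c.surj d h) else 1

theorem Coding.pre_spec (c : Coding z) {d : ℕ} (hd : d ∈ elts) :
    Commute (c.pre d) z ∧ c.f (c.pre d) = d := by
  rw [Coding.pre, dif_pos hd]
  exact Classical.choose_spec (c.surj d hd)

theorem Coding.pre_eq (c : Coding z) {a : G} (ha : Commute a z) {d : ℕ} (h : c.f a = d) :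
    c.pre d = a := by
  have hd : d ∈ elts := h ▸ c.mem a ha
  exact c.inj _ _ (c.pre_spec hd).1 ha ((c.pre_spec hd).2.trans h.symm)

theorem Coding.f_inv (c : Coding z) {a : G} (ha : Commute a z) {d : ℕ} (hd : d ∈ elts)
    (h : mul (c.f a) d = one) : c.f a⁻¹ = d := by
  obtain ⟨b, hb, rfl⟩ := c.surj d hd
  rw [← c.map_mul a b ha hb] at h
  have : a * b = 1 := (c.eq_iff (ha.mul_left hb) (Commute.one_left z)).1 (h.trans c.map_one.symm)
  rw [inv_eq_of_mul_eq_one_right this]

namespace Amalgam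

/-- The image of the point `v` under a packed permutation. -/
def pget (P v : ℕ) : ℕ := (P >>> (6 * v)) &&& 63

theorem pget_lt (P v : ℕ) : pget P v < 64 := Nat.lt_succ_of_le Nat.and_le_right

/-- The bits of a coordinate. -/
def bits (j : ℕ) : List ℕ := (List.range 6).filter fun k => j.testBit k

/-- A packed map is linear. -/
def linOK (P : ℕ) : Bool :=
  (List.range 64).all fun i => (List.range 6).all fun k => pget P (i ^^^ 2 ^ k) == pget P i ^^^ pget P (2 ^ k)

/-- A quick test for membership of `elts`. -/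
def isElt (d : ℕ) : Bool := levi.contains (d - d % 128)

theorem mem_of_isElt {d : ℕ} (h : isElt d = true) : d ∈ elts :=
  List.mem_flatMap.2 ⟨d - d % 128, List.contains_iff_mem.1 h, List.mem_map.2
    ⟨d % 128, List.mem_range.2 (Nat.mod_lt _ (by decide)), Nat.sub_add_cancel (Nat.mod_le _ _)⟩⟩

/-- The table `L` gives a self-centralising elementary group of order 64 with `zc` at 1. -/
def coordsOK (L : List ℕ) : Bool :=
  L.length == 64 && L.getD 0 0 == one && L.getD 1 0 == zc && L.all (fun d => isElt d) &&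
    (List.range 64).all (fun i => (List.range 6).all fun k =>
      mul (L.getD i 0) (L.getD (2 ^ k) 0) == L.getD (i ^^^ 2 ^ k) 0) &&
    (List.range 64).all (fun i => i == 0 || L.getD i 0 != one) &&
    elts.all (fun d => ([4, 2, 5, 3, 1].any fun k =>
      mul d (L.getD (2 ^ k) 0) != mul (L.getD (2 ^ k) 0) d) || L.contains d)

theorem bits_xor : ((List.range 64).all fun j => (bits j).foldr (fun k s => s ^^^ 2 ^ k) 0 == j) = true := by
  decide +kernel

theorem bits_induct {p : ℕ → Prop} (h0 : p 0)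
    (step : ∀ i < 64, ∀ k < 6, p i → p (i ^^^ 2 ^ k)) {j : ℕ} (hj : j < 64) : p j := by
  have h := beq_iff_eq.1 (List.all_eq_true.1 bits_xor j (List.mem_range.2 hj))
  have key : ∀ l : List ℕ, (∀ k ∈ l, k < 6) →
      p (l.foldr (fun k s => s ^^^ 2 ^ k) 0) ∧ l.foldr (fun k s => s ^^^ 2 ^ k) 0 < 64 := by
    intro l
    induction l with
    | nil => exact fun _ => ⟨h0, by decide⟩
    | cons k l ih =>
      intro hl
      obtain ⟨hp, hlt⟩ := ih fun x hx => hl x (List.mem_cons_of_mem k hx)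
      have hk := hl k List.mem_cons_self
      refine ⟨step _ hlt k hk hp, Nat.xor_lt_two_pow (n := 6) hlt ?_⟩
      exact Nat.pow_lt_pow_right (by decide) hk
  exact h ▸ (key (bits j) fun k hk => List.mem_range.1 (List.mem_of_mem_filter hk)).1

/-- The coordinates of a self-centralising elementary group of order 64. -/
structure Elem (z : G) (e : ℕ → G) : Prop where
  one_eq : e 1 = z
  zero : e 0 = 1
  step : ∀ i < 64, ∀ k < 6, e i * e (2 ^ k) = e (i ^^^ 2 ^ k)
  ne : ∀ i < 64, i ≠ 0 → e i ≠ 1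
  cent : ∀ x : G, (∀ k < 6, Commute x (e (2 ^ k))) → ∃ j < 64, x = e j

/-- The coordinates given by a table. -/
noncomputable def coord (c : Coding z) (L : List ℕ) (j : ℕ) : G := c.pre (L.getD j 0)

theorem coord_spec (c : Coding z) {L : List ℕ} (h : coordsOK L = true) {j : ℕ} (hj : j < 64) :
    Commute (coord c L j) z ∧ c.f (coord c L j) = L.getD j 0 := by
  simp only [coordsOK, Bool.and_eq_true, beq_iff_eq] at h
  have hm : L.getD j 0 ∈ L := by
    rw [List.getD_eq_getElem _ _ (by omega)]; exact List.getElem_mem _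
  exact c.pre_spec (mem_of_isElt (List.all_eq_true.1 h.1.1.1.2 _ hm))

theorem coord_elem (c : Coding z) {L : List ℕ} (h : coordsOK L = true) : Elem z (coord c L) := by
  have hs : ∀ {j : ℕ}, j < 64 → _ := fun hj => coord_spec c h hj
  simp only [coordsOK, Bool.and_eq_true, beq_iff_eq] at h
  obtain ⟨⟨⟨⟨⟨⟨hlen, h0⟩, h1⟩, -⟩, hstep⟩, hne⟩, hcent⟩ := h
  have hp : ∀ k < 6, (2 : ℕ) ^ k < 64 := fun k hk => Nat.pow_lt_pow_right (a := 2) (by decide) hk
  refine ⟨?_, ?_, fun i hi k hk => ?_, fun i hi hne' => ?_, fun x hx => ?_⟩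
  · exact c.pre_eq (Commute.refl z) (c.map_z.trans h1.symm)
  · exact c.pre_eq (Commute.one_left z) (c.map_one.trans h0.symm)
  · refine (c.pre_eq ((hs hi).1.mul_left (hs (hp k hk)).1) ?_).symm
    rw [c.map_mul _ _ (hs hi).1 (hs (hp k hk)).1, (hs hi).2, (hs (hp k hk)).2]
    exact beq_iff_eq.1 (List.all_eq_true.1 (List.all_eq_true.1 hstep i (List.mem_range.2 hi)) k (List.mem_range.2 hk))
  · intro he
    have := List.all_eq_true.1 hne i (List.mem_range.2 hi)
    rw [Bool.or_eq_true, beq_iff_eq, bne_iff_ne, ← (hs hi).2, he, c.map_one] at this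
    exact this.elim hne' fun k => k rfl
  · have hz : coord c L 1 = z := c.pre_eq (Commute.refl z) (c.map_z.trans h1.symm)
    have hxz : Commute x z := hz ▸ hx 0 (by decide)
    have hm := List.all_eq_true.1 hcent _ (c.mem x hxz)
    rw [Bool.or_eq_true, List.any_eq_true] at hm
    rcases hm with ⟨k, hk, hk'⟩ | hm
    · have hk : k < 6 := (by decide : ∀ n ∈ ([4, 2, 5, 3, 1] : List ℕ), n < 6) k hk
      rw [bne_iff_ne, ← (hs (hp k hk)).2, ← c.map_mul _ _ hxz (hs (hp k hk)).1,
        ← c.map_mul _ _ (hs (hp k hk)).1 hxz, (hx k hk).eq] at hk'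
      exact absurd rfl hk'
    · obtain ⟨j, hj, hjx⟩ := List.mem_iff_getElem.1 (List.contains_iff_mem.1 hm)
      refine ⟨j, hlen ▸ hj, (c.pre_eq hxz ?_).symm⟩
      rw [List.getD_eq_getElem _ _ hj, hjx]

variable {e : ℕ → G}

theorem Elem.add (E : Elem z e) : ∀ i < 64, ∀ j < 64, e i * e j = e (i ^^^ j) := by
  intro i hi j hj
  revert i
  refine bits_induct (p := fun j => ∀ i, i < 64 → e i * e j = e (i ^^^ j)) ?_ ?_ hj
  · intro i _; simp [E.zero]
  · intro j hj k hk ih i hi
    rw [← E.step j hj k hk, ← mul_assoc, ih i hi, E.step _ (Nat.xor_lt_two_pow (n := 6) hi hj) k hk,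
      Nat.xor_assoc]

theorem Elem.sq (E : Elem z e) {i : ℕ} (hi : i < 64) : e i * e i = 1 := by
  rw [E.add i hi i hi, Nat.xor_self, E.zero]

theorem Elem.inv (E : Elem z e) {i : ℕ} (hi : i < 64) : (e i)⁻¹ = e i :=
  inv_eq_of_mul_eq_one_right (E.sq hi)

theorem Elem.comm (E : Elem z e) {i j : ℕ} (hi : i < 64) (hj : j < 64) : Commute (e i) (e j) := by
  show e i * e j = e j * e i
  rw [E.add i hi j hj, E.add j hj i hi, Nat.xor_comm]

theorem Elem.inj (E : Elem z e) {i j : ℕ} (hi : i < 64) (hj : j < 64) (h : e i = e j) : i = j := by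
  by_contra hne
  refine E.ne (i ^^^ j) (Nat.xor_lt_two_pow (n := 6) hi hj) (fun h0 => hne (Nat.xor_eq_zero_iff.1 h0)) ?_
  rw [← E.add i hi j hj, h, E.sq hj]

/-- Conjugation by `x` moves the coordinates by `σ`. -/
def Maps (e : ℕ → G) (x : G) (σ : ℕ → ℕ) : Prop := ∀ j < 64, σ j < 64 ∧ x * e j * x⁻¹ = e (σ j)

theorem Maps.one : Maps e 1 id := fun j hj => ⟨hj, by simp⟩

theorem Maps.mul {x y : G} {σ τ : ℕ → ℕ} (hx : Maps e x σ) (hy : Maps e y τ) :
    Maps e (x * y) (fun j => σ (τ j)) := fun j hj => by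
  obtain ⟨h1, h2⟩ := hy j hj
  refine ⟨(hx _ h1).1, ?_⟩
  rw [← (hx _ h1).2, ← h2]
  group

theorem Maps.congr {x : G} {σ τ : ℕ → ℕ} (hx : Maps e x σ) (h : ∀ j < 64, σ j = τ j) : Maps e x τ :=
  fun j hj => h j hj ▸ hx j hj

theorem Maps.inv {x : G} {σ τ : ℕ → ℕ} (hx : Maps e x σ) (h : ∀ j < 64, τ j < 64 ∧ σ (τ j) = j) :
    Maps e x⁻¹ τ := fun j hj => by
  obtain ⟨h1, h2⟩ := h j hj
  refine ⟨h1, ?_⟩
  conv_lhs => rw [← h2, ← (hx _ h1).2]
  group

theorem Maps.unique {x : G} {σ τ : ℕ → ℕ} (E : Elem z e) (hx : Maps e x σ) (hy : Maps e x τ) {j : ℕ}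
    (hj : j < 64) : σ j = τ j :=
  E.inj (hx j hj).1 (hy j hj).1 ((hx j hj).2.symm.trans (hy j hj).2)

theorem Maps.coord (E : Elem z e) {i : ℕ} (hi : i < 64) : Maps e (e i) id := fun j hj =>
  ⟨hj, by rw [(E.comm hi hj).eq, mul_inv_cancel_right]; rfl⟩

theorem Maps.of_basis (E : Elem z e) {x : G} {P : ℕ} (hP : linOK P = true)
    (h : ∀ k < 6, x * e (2 ^ k) * x⁻¹ = e (pget P (2 ^ k))) : Maps e x (pget P) := by
  have hlin : ∀ i < 64, ∀ k < 6, pget P (i ^^^ 2 ^ k) = pget P i ^^^ pget P (2 ^ k) := fun i hi k hk =>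
    beq_iff_eq.1 (List.all_eq_true.1 (List.all_eq_true.1 hP i (List.mem_range.2 hi)) k (List.mem_range.2 hk))
  have h00 : pget P 0 = 0 := by
    have h1 := hlin 1 (by decide) 0 (by decide)
    simpa using h1
  refine fun j hj => ⟨pget_lt P j, bits_induct (p := fun j => x * e j * x⁻¹ = e (pget P j)) ?_ ?_ hj⟩
  · rw [E.zero, h00, E.zero]; simp
  · intro i hi k hk ih
    rw [hlin i hi k hk, ← E.add _ (pget_lt P i) _ (pget_lt P _), ← ih, ← h k hk, ← E.step i hi k hk]
    group

/-- An element fixing all coordinates is a coordinate. -/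
theorem Maps.eq_coord (E : Elem z e) {x : G} {σ : ℕ → ℕ} (hx : Maps e x σ) (h : ∀ j < 64, σ j = j) :
    ∃ j < 64, x = e j := by
  refine E.cent x fun k hk => ?_
  have h2 : (2 : ℕ) ^ k < 64 := Nat.pow_lt_pow_right (a := 2) (by decide) hk
  have := (hx _ h2).2
  rw [h _ h2, mul_inv_eq_iff_eq_mul] at this
  exact this

end Amalgam

end Cfsg.Agent.TransvCent
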