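import Cfsg.Agent.Lib.TransvCent.AmalgamBase

/-
Checks on the coordinate tables of the amalgam.

* `check_coords_uA`, `check_coords_uB`, `check_lin`
-/

set_option autoImplicit false

namespace Cfsg.Agent.TransvCent.Amalgam

theorem check_coords_uA : coordsOK uA = true := by decide +kernel

theorem check_coords_uB : coordsOK uB = true := by decide +kernel

theorem check_lin : (linOK pAct && linOK qAct && linOK gAct21 && linOK gAct45) = true := by decide +kernel

end Cfsg.Agent.TransvCent.Amalgam
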