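import Cfsg.Agent.Lib.TransvCent.AmalgamSide

/-
The two lists of complements are complete.

* `check_comp_uA`, `check_comp_uB`
-/

set_option autoImplicit false

namespace Cfsg.Agent.TransvCent.Amalgam

theorem check_comp_uA : compOK uA compA = true := by decide +kernel

theorem check_comp_uB : compOK uB compB = true := by decide +kernel

end Cfsg.Agent.TransvCent.Amalgam
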