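import Cfsg.Agent.Lib.TransvCent.U

/-
The orbit of `z` under the normaliser of `U`.

* `Coding.orbit_cases` : it is one of the three lists `uSel` of length `3`, `21`, `45`
* `Coding.orbit_eq_three_of_not_B` : it has length `3` if no element of class `B` is conjugate to `z`
* `Coding.not_isConj_H2` : in that case the class `H2` is not conjugate to `z` either
-/

set_option autoImplicit false

namespace Cfsg.Agent.TransvCent

theorem check_uSel_sub : ∀ bB bD bH : Bool,
    (uSel bB bD bH).Nodup ∧ (uSel bB bD bH).all (fun d => uList.contains d) = true := by decide +kernel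

namespace Coding

variable {G : Type*} [Group G] {z : G}

theorem InCls.isConj {c : Coding z} {r : ℕ} {x y : G} (hx : c.InCls r x) (hy : c.InCls r y) :
    IsConj x y := by
  obtain ⟨hxz, h, hh, he⟩ := hx
  obtain ⟨hyz, k, hk, hke⟩ := hy
  refine isConj_iff.2 ⟨k⁻¹ * h, ?_⟩
  have := (c.eq_iff (commute_conj hh hxz) (commute_conj hk hyz)).1 (he.trans hke.symm)
  calc k⁻¹ * h * x * (k⁻¹ * h)⁻¹ = k⁻¹ * (h * x * h⁻¹) * k := by group
    _ = y := by rw [this]; group

/-- The orbit of `z` under the normaliser of `U`. -/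
def orbit (c : Coding z) : Set G :=
  {x | ∃ g, g ∈ Subgroup.normalizer (c.uSub : Set G) ∧ g * z * g⁻¹ = x}

theorem z_mem_orbit (c : Coding z) : z ∈ c.orbit := ⟨1, one_mem _, by simp⟩

theorem mem_of_orbit {c : Coding z} {x : G} (hx : x ∈ c.orbit) :
    x ∈ c.uSub ∧ IsConj z x ∧ x ≠ 1 := by
  obtain ⟨g, hg, rfl⟩ := hx
  refine ⟨(Subgroup.mem_normalizer_iff.1 hg z).1 c.z_mem_uSub, isConj_iff.2 ⟨g, rfl⟩, fun h => ?_⟩
  have ho := orderOf_conj g z
  rw [h, orderOf_one, c.orderOf_z] at ho
  omega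

theorem conj_mem_orbit_iff (c : Coding z) {g x : G} (hg : g ∈ Subgroup.normalizer (c.uSub : Set G)) :
    g * x * g⁻¹ ∈ c.orbit ↔ x ∈ c.orbit := by
  constructor
  · rintro ⟨h, hh, e⟩
    exact ⟨g⁻¹ * h, mul_mem (inv_mem hg) hh, by
      rw [show g⁻¹ * h * z * (g⁻¹ * h)⁻¹ = g⁻¹ * (h * z * h⁻¹) * g by group, e]; group⟩
  · rintro ⟨h, hh, rfl⟩
    exact ⟨g * h, mul_mem hg hh, by group⟩

/-- A property invariant under the normaliser of `U` is constant on each part of `U`. -/
theorem derived_invariant (c : Coding z) {P : G → Prop}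
    (hP : ∀ g ∈ Subgroup.normalizer (c.uSub : Set G), ∀ x, P (g * x * g⁻¹) ↔ P x) {r : ℕ} {R : G}
    (hR : Commute R z) (hRr : c.f R = r) :
    ∀ L : List (ℕ × ℕ × ℕ), uDerived r L = true → (∀ d ∈ members r L, d ∈ elts) →
      ∀ x, Commute x z → c.f x ∈ members r L → (P x ↔ P R)
  | [], _, _ => fun x hx hm => by
    rw [show x = R from (c.eq_iff hx hR).1 (by simpa [members, hRr] using hm)]
  | (d, p, k) :: rest, h, hel => by
    have hel' : ∀ e ∈ members r rest, e ∈ elts := fun e he => hel e (by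
      simp only [members, List.map_cons, List.mem_cons] at he ⊢; tauto)
    simp only [uDerived, Bool.and_eq_true, Bool.or_eq_true, beq_iff_eq, List.contains_iff_mem] at h
    obtain ⟨⟨hd, hp⟩, hrest⟩ := h
    intro x hx hm
    have hp' : p ∈ members r rest := List.mem_cons.2 hp
    simp only [members, List.map_cons, List.mem_cons] at hm
    rcases hm with hm | hm | hm
    · rw [show x = R from (c.eq_iff hx hR).1 (hm.trans hRr.symm)]
    swap
    · exact c.derived_invariant hP hR hRr rest hrest hel' x hx (List.mem_cons_of_mem _ hm)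
    split at hd
    next g hk =>
      have hg := List.all_eq_true.1 check_norm g (List.mem_of_getElem? hk)
      simp only [Bool.and_eq_true, beq_iff_eq, List.contains_iff_mem] at hg
      obtain ⟨⟨⟨hg1, hg2⟩, hgi⟩, hgn⟩ := hg
      obtain ⟨η, hη, hηc⟩ := c.surj _ hg1
      obtain ⟨η', hη', hηc'⟩ := c.surj _ hg2
      have hinv : η⁻¹ = η' := by
        refine inv_eq_of_mul_eq_one_right ((c.eq_iff (hη.mul_left hη') (Commute.one_left z)).1 ?_)
        rw [c.map_mul _ _ hη hη', hηc, hηc', hgi, c.map_one]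
      obtain ⟨a, ha, hfa⟩ := c.surj repA (uList_elts check_u_group.2.2.2.2.2.1).1
      rw [← hηc, c.commute_of_normA ha hfa hη, ← c.mem_normalizer_uSub_iff ha hfa hη] at hgn
      obtain ⟨Q, hQ, rfl⟩ := c.surj p (hel' p hp')
      have hxe : x = η * Q * η⁻¹ := by
        refine (c.eq_iff hx (commute_conj hη hQ)).1 ?_
        rw [hm, beq_iff_eq.1 hd, hinv, mul_assoc, c.map_mul _ _ hη (hQ.mul_left hη'),
          c.map_mul _ _ hQ hη', hηc, hηc']
      rw [hxe, hP _ hgn]
      exact c.derived_invariant hP hR hRr rest hrest hel' Q hQ hp'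
    next => exact Bool.noConfusion hd

/-- A part of `U` lies in the orbit if one element of it does. -/
theorem orbit_derived (c : Coding z) {r : ℕ} {R : G} (hR : Commute R z) (hRr : c.f R = r) :
    ∀ L : List (ℕ × ℕ × ℕ), uDerived r L = true → (∀ d ∈ members r L, d ∈ elts) →
      ∀ x, Commute x z → c.f x ∈ members r L → (x ∈ c.orbit ↔ R ∈ c.orbit) :=
  c.derived_invariant (P := fun x => x ∈ c.orbit) (fun _ hg _ => c.conj_mem_orbit_iff hg) hR hRr

theorem orbit_eq_codeSet (c : Coding z) {x : G} (hx : c.InCls repA x) (hcon : IsConj z x) :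
    ∃ bB bD bH : Bool, c.orbit = c.codeSet (uSel bB bD bH) := by
  classical
  obtain ⟨a, g, ha, hfa, hg, -, hgn⟩ := c.exists_swap hx hcon
  have haO : a ∈ c.orbit := ⟨g, hgn, hg⟩
  have hp := check_u_parts
  simp only [Bool.and_eq_true] at hp
  obtain ⟨⟨⟨hpA, hpB⟩, hpD⟩, hpH⟩ := hp
  have hall : ∀ d ∈ uSel true true true, d ∈ elts := fun d hd =>
    (uList_elts (List.contains_iff_mem.1 (List.all_eq_true.1 (check_uSel_sub true true true).2 d hd))).1
  have subA : ∀ d ∈ members uARep uAChain, d ∈ elts := fun d hd => hall d (by simp [uSel, hd])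
  have subB : ∀ d ∈ members uBRep uBChain, d ∈ elts := fun d hd => hall d (by simp [uSel, hd])
  have subD : ∀ d ∈ members uDRep uDChain, d ∈ elts := fun d hd => hall d (by simp [uSel, hd])
  have subH : ∀ d ∈ members uH2Rep uH2Chain, d ∈ elts := fun d hd => hall d (by simp [uSel, hd])
  obtain ⟨RB, hRB, hRBc⟩ := c.surj _ (subB _ List.mem_cons_self)
  obtain ⟨RD, hRD, hRDc⟩ := c.surj _ (subD _ List.mem_cons_self)
  obtain ⟨RH, hRH, hRHc⟩ := c.surj _ (subH _ List.mem_cons_self)
  refine ⟨decide (RB ∈ c.orbit), decide (RD ∈ c.orbit), decide (RH ∈ c.orbit), Set.ext fun y => ⟨?_, ?_⟩⟩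
  · intro hy
    obtain ⟨hyU, hyc, hy1⟩ := mem_of_orbit hy
    refine ⟨hyU.1, ?_⟩
    have h := List.all_eq_true.1 check_u_cover _ hyU.2
    simp only [Bool.or_eq_true, beq_iff_eq, List.contains_iff_mem] at h
    simp only [uSel, List.mem_cons, List.mem_append]
    rcases h with ((((((h | h) | h) | h) | h) | h) | h) | h
    · exact absurd ((c.eq_iff hyU.1 (Commute.one_left z)).1 (h.trans c.map_one.symm)) hy1
    · exact Or.inl h
    · exact Or.inr (Or.inl (Or.inl (Or.inl h)))
    · have := (c.orbit_derived hRB hRBc _ hpB subB y hyU.1 h).1 hy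
      simp [this, h]
    · have := (c.orbit_derived hRD hRDc _ hpD subD y hyU.1 h).1 hy
      simp [this, h]
    · have := (c.orbit_derived hRH hRHc _ hpH subH y hyU.1 h).1 hy
      simp [this, h]
    all_goals
      exfalso
      have hd := check_derived
      simp only [Bool.and_eq_true] at hd
      obtain ⟨⟨⟨⟨⟨⟨-, -⟩, -⟩, hC⟩, -⟩, -⟩, hF⟩ := hd
      refine c.not_isConj_Cq_F ?_ hyc
      first
        | exact Or.inl (c.chain_sound _ hC y hyU.1 h)
        | exact Or.inr (c.chain_sound _ hF y hyU.1 h)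
  · rintro ⟨hyz, hy⟩
    simp only [uSel, List.mem_cons, List.mem_append] at hy
    rcases hy with h | ((h | h) | h) | h
    · rw [(c.eq_iff hyz (Commute.refl z)).1 (h.trans c.map_z.symm)]; exact c.z_mem_orbit
    · exact (c.orbit_derived ha (hfa.trans (show repA = uARep from rfl)) _ hpA subA y hyz h).2 haO
    · by_cases hb : RB ∈ c.orbit
      · simp only [hb, decide_true, if_true] at h
        exact (c.orbit_derived hRB hRBc _ hpB subB y hyz h).2 hb
      · simp [hb] at h
    · by_cases hb : RD ∈ c.orbit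
      · simp only [hb, decide_true, if_true] at h
        exact (c.orbit_derived hRD hRDc _ hpD subD y hyz h).2 hb
      · simp [hb] at h
    · by_cases hb : RH ∈ c.orbit
      · simp only [hb, decide_true, if_true] at h
        exact (c.orbit_derived hRH hRHc _ hpH subH y hyz h).2 hb
      · simp [hb] at h

/-- **The orbit.** It consists of `z`, the two elements of class `A` and possibly the parts in `B`, `D`,
or those and the part in `H2`. -/
theorem orbit_cases (c : Coding z) {x : G} (hx : c.InCls repA x) (hcon : IsConj z x) :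
    c.orbit = c.codeSet (uSel false false false) ∨ c.orbit = c.codeSet (uSel true true false) ∨
      c.orbit = c.codeSet (uSel true true true) := by
  obtain ⟨bB, bD, bH, hO⟩ := c.orbit_eq_codeSet hx hcon
  suffices h : homog (uSel bB bD bH) = true by
    rw [check_homog] at h
    revert h hO
    cases bB <;> cases bD <;> cases bH <;> simp +contextual
  set L := uSel bB bD bH with hL
  obtain ⟨hLn, hLs⟩ := check_uSel_sub bB bD bH
  rw [← hL] at hLn hLs
  have hLe : ∀ d ∈ L, d ∈ elts := fun d hd =>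
    (uList_elts (List.contains_iff_mem.1 (List.all_eq_true.1 hLs d hd))).1
  have count : ∀ P, Commute P z →
      lineNum L (c.f P) = {q | q ∈ c.orbit ∧ P * q ∈ c.orbit}.ncard := by
    intro P hP
    rw [lineNum, List.countP_eq_length_filter,
      ← c.ncard_codeSet (fun d hd => hLe d (List.mem_filter.1 hd).1) (hLn.filter _)]
    refine congrArg Set.ncard (Set.ext fun q => ?_)
    simp only [codeSet, hO, Set.mem_ofPred_eq, List.mem_filter, List.contains_iff_mem]
    constructor
    · rintro ⟨h1, h2, h3⟩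
      exact ⟨⟨h1, h2⟩, hP.mul_left h1, by rw [c.map_mul _ _ hP h1]; exact h3⟩
    · rintro ⟨⟨h1, h2⟩, -, h3⟩
      exact ⟨h1, h2, by rw [← c.map_mul _ _ hP h1]; exact h3⟩
  refine List.all_eq_true.2 fun d hd => beq_iff_eq.2 ?_
  obtain ⟨P, hP, rfl⟩ := c.surj d (hLe d hd)
  obtain ⟨g, hg, hgP⟩ : P ∈ c.orbit := hO ▸ ⟨hP, hd⟩
  rw [← c.map_z, count P hP, count z (Commute.refl z),
    ← Set.ncard_image_of_injective {q | q ∈ c.orbit ∧ z * q ∈ c.orbit} (MulAut.conj g).injective]
  refine congrArg Set.ncard (Set.ext fun q => ?_)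
  constructor
  · rintro ⟨h1, h2⟩
    refine ⟨g⁻¹ * q * g, ⟨?_, ?_⟩, by simp only [MulAut.conj_apply]; group⟩
    · rwa [← c.conj_mem_orbit_iff hg, show g * (g⁻¹ * q * g) * g⁻¹ = q by group]
    · rwa [← c.conj_mem_orbit_iff hg, show g * (z * (g⁻¹ * q * g)) * g⁻¹ = g * z * g⁻¹ * q by group, hgP]
  · rintro ⟨r, ⟨h1, h2⟩, rfl⟩
    simp only [MulAut.conj_apply]
    refine ⟨(c.conj_mem_orbit_iff hg).2 h1, ?_⟩
    rw [← hgP, show g * z * g⁻¹ * (g * r * g⁻¹) = g * (z * r) * g⁻¹ by group]
    exact (c.conj_mem_orbit_iff hg).2 h2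

theorem ncard_codeSet_uSel (c : Coding z) (bB bD bH : Bool) :
    (c.codeSet (uSel bB bD bH)).ncard = (uSel bB bD bH).length := by
  obtain ⟨hn, hs⟩ := check_uSel_sub bB bD bH
  exact c.ncard_codeSet (fun d hd =>
    (uList_elts (List.contains_iff_mem.1 (List.all_eq_true.1 hs d hd))).1) hn

theorem orbit_ncard (c : Coding z) {x : G} (hx : c.InCls repA x) (hcon : IsConj z x) :
    c.orbit.ncard = 3 ∨ c.orbit.ncard = 21 ∨ c.orbit.ncard = 45 := by
  rcases c.orbit_cases hx hcon with h | h | h <;> rw [h, c.ncard_codeSet_uSel]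
  · exact Or.inl check_uSel_card.1
  · exact Or.inr (Or.inl check_uSel_card.2.1)
  · exact Or.inr (Or.inr check_uSel_card.2.2.1)

theorem orbit_eq_three_of_not_B (c : Coding z) {x : G} (hx : c.InCls repA x) (hcon : IsConj z x)
    (hB : ∀ y, c.InCls repB y → ¬ IsConj z y) : c.orbit = c.codeSet (uSel false false false) := by
  rcases c.orbit_cases hx hcon with h | h | h
  · exact h
  all_goals
    exfalso
    have hd := check_derived
    simp only [Bool.and_eq_true] at hd
    have hmem := List.all_eq_true.1 check_u_sel.2.1 uBRep List.mem_cons_self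
    rw [List.contains_iff_mem] at hmem
    obtain ⟨R, hR, hRc⟩ := c.surj uBRep
      (uList_elts (List.contains_iff_mem.1 (List.all_eq_true.1 (check_uSel_sub true false false).2 _
        (by simp [uSel, members])))).1
    have hRO : R ∈ c.orbit := h ▸ ⟨hR, by simp [uSel, members, hRc]⟩
    exact hB R (c.chain_sound _ hd.1.1.1.1.1.2 R hR (hRc ▸ hmem)) (mem_of_orbit hRO).2.1

/-- If the class `B` is not fused to `z`, neither is the class `H2`. -/
theorem not_isConj_H2 (c : Coding z) (hB : ∀ y, c.InCls repB y → ¬ IsConj z y) {x : G}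
    (hx : c.InCls repH2 x) : ¬ IsConj z x := by
  intro hcon
  obtain ⟨a, haC, haz⟩ := c.exists_conj_A_or_B hx.1 (hx.ne_z (by decide)) hcon
  have haA : c.InCls repA a := haC.resolve_right fun k => hB a k haz
  obtain ⟨g₀, hg₀⟩ := isConj_iff.1 hcon
  have hne : x ≠ z := hx.ne_z (by decide)
  have hy : c.InCls repH1 (g₀⁻¹ * z * g₀) ∨ c.InCls repH2 (g₀⁻¹ * z * g₀) := by
    rcases c.profile hg₀ hx.1 hne with ⟨k | k, -⟩ | ⟨k, -⟩ | ⟨-, hy⟩
    iterate 3
      exfalso
      have := k.roots_self.symm.trans hx.roots_self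
      simp only [check_roots_A.2, check_roots_B.2, check_roots_D.2, check_roots_H2.2] at this
      omega
    exact hy
  have hd := check_derived
  simp only [Bool.and_eq_true] at hd
  obtain ⟨⟨⟨⟨⟨⟨hdA, hdB⟩, -⟩, -⟩, h1⟩, h2⟩, -⟩ := hd
  obtain ⟨hxz, h, hh, he⟩ := hx
  -- reduce to representatives
  suffices key : ∀ {s : ℕ} {L : List (ℕ × ℕ × ℕ)} {gs : List ℕ}, derived s L = true →
      gs.all (fun t => elts.contains t && comm t s) = true →
      ((maybeUnfused s L gs).all fun d => !(maybeUnfused s L gs).contains (mul s d)) = true →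
      c.InCls s (g₀⁻¹ * z * g₀) → False by
    rcases hy with hy | hy
    · exact key h1 check_cand_H1.2 check_h2.1 hy
    · exact key h2 check_cand_H2.2 check_h2.2 hy
  rintro s L gs hL hgs hall ⟨hyz, k, hk, hke⟩
  set g := h * g₀ * k⁻¹ with hgdef
  have hk' : k⁻¹ * z * k = z := by rw [hk.inv_left.eq, inv_mul_cancel_right]
  have hh' : h⁻¹ * z * h = z := by rw [hh.inv_left.eq, inv_mul_cancel_right]
  set x' := h * x * h⁻¹ with hx'
  set y := g⁻¹ * z * g with hydef
  have hgx : g * z * g⁻¹ = x' := by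
    calc g * z * g⁻¹ = h * (g₀ * (k⁻¹ * z * k) * g₀⁻¹) * h⁻¹ := by rw [hgdef]; group
      _ = x' := by rw [hk', hg₀]
  have hx'z : Commute x' z := commute_conj hh hxz
  have hys : c.f y = s := by
    rw [← hke]
    refine congrArg c.f ?_
    calc y = k * (g₀⁻¹ * (h⁻¹ * z * h) * g₀) * k⁻¹ := by rw [hydef, hgdef]; group
      _ = _ := by rw [hh']
  have hy : Commute y z := by
    rw [show y = k * (g₀⁻¹ * (h⁻¹ * z * h) * g₀) * k⁻¹ by rw [hydef, hgdef]; group, hh']
    exact commute_conj hk hyz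
  have hsrc := check_h2_src
  simp only [Bool.and_eq_true, List.contains_iff_mem] at hsrc
  obtain ⟨⟨⟨⟨⟨hb, hbr⟩, hbi⟩, hbB⟩, hzbB⟩, hcen⟩ := hsrc
  obtain ⟨β, hβ, hβc⟩ := c.surj _ hb
  rw [← hβc] at hbr hbi hbB hzbB hcen
  rw [← he, c.comm_iff hβ hx'z] at hbr
  have hzβ : Commute (z * β) z := (Commute.refl z).mul_left hβ
  have hzbB' : c.f (z * β) ∈ members repB chainB := by
    rw [c.map_mul _ _ (Commute.refl z) hβ, c.map_z]; exact hzbB
  have e0 : g * y * g⁻¹ = z := by rw [hydef]; group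
  have pull : ∀ {w : G}, Commute w z → Commute w x' →
      Commute (g⁻¹ * w * g) z ∧ Commute (g⁻¹ * w * g) y := by
    intro w hw hwx
    constructor <;> rw [← Commute.conj_iff g, show g * (g⁻¹ * w * g) * g⁻¹ = w by group]
    · rw [hgx]; exact hwx
    · rw [e0]; exact hw
  -- the preimages of `β` and `z * β` are central, not conjugate to `z`
  have cand : ∀ w, Commute w z → c.f w ∈ members repB chainB → Commute w x' →
      (∀ l, Commute l z → Commute l x' → Commute l w) →
      c.f (g⁻¹ * w * g) ∈ maybeUnfused s L gs := by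
    intro w hwz hwB hwx hwc
    obtain ⟨hvz, hvy⟩ := pull hwz hwx
    have hwI : c.InCls repB w := c.chain_sound _ hdB w hwz hwB
    have hvn : ¬ IsConj z (g⁻¹ * w * g) := fun h => hB w hwI (h.trans (isConj_iff.2 ⟨g, by group⟩))
    have hvo : orderOf (g⁻¹ * w * g) = 2 := by
      have := orderOf_conj g⁻¹ w
      rw [inv_inv] at this
      rw [this, hwI.orderOf (by decide)]
    simp only [maybeUnfused, List.mem_filter, Bool.and_eq_true, Bool.not_eq_true', Bool.or_eq_false_iff]
    refine ⟨c.mem _ hvz, ⟨⟨(c.isInv_iff hvz).2 hvo, hys ▸ (c.comm_iff hvz hy).2 hvy⟩, ?_⟩, ⟨?_, ?_⟩, ?_⟩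
    · refine List.all_eq_true.2 fun t ht => ?_
      have ht' := List.all_eq_true.1 hgs t ht
      rw [Bool.and_eq_true, List.contains_iff_mem] at ht'
      obtain ⟨l, hl, rfl⟩ := c.surj t ht'.1
      rw [← hys, c.comm_iff hl hy] at ht'
      rw [c.comm_iff hvz hl]
      have h1 : Commute (g * l * g⁻¹) z := e0 ▸ (Commute.conj_iff g).2 ht'.2
      have h2 : Commute (g * l * g⁻¹) x' := hgx ▸ (Commute.conj_iff g).2 hl
      rw [← Commute.conj_iff g, show g * (g⁻¹ * w * g) * g⁻¹ = w by group]
      exact (hwc _ h1 h2).symm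
    · rw [beq_eq_false_iff_ne]
      intro e
      exact hvn ((c.eq_iff hvz (Commute.refl z)).1 (e.trans c.map_z.symm) ▸ IsConj.refl z)
    · rw [Bool.eq_false_iff, Ne, List.contains_iff_mem]
      intro e
      exact hvn (haz.trans (haA.isConj (c.chain_sound _ hdA _ hvz e)))
    · rw [Bool.eq_false_iff, Ne, List.contains_iff_mem]
      intro e
      refine hvn ?_
      exact (isConj_iff.2 ⟨g⁻¹, by rw [inv_inv]⟩ : IsConj z y).trans
        (c.isConj_of_members hL hy hys hvz e).symm
  have hc : ∀ l, Commute l z → Commute l x' → Commute l β := by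
    intro l hl hlx
    have := List.all_eq_true.1 hcen _ (c.mem l hl)
    rwa [← he, (c.comm_iff hl hx'z).2 hlx, Bool.not_true, Bool.false_or, c.comm_iff hl hβ] at this
  have h1' := cand β hβ hbB hbr hc
  have h2' := cand (z * β) hzβ hzbB' (hx'z.symm.mul_left hbr)
    fun l hl hlx => hl.mul_right (hc l hl hlx)
  have hmul : c.f (g⁻¹ * (z * β) * g) = mul s (c.f (g⁻¹ * β * g)) := by
    rw [← hys, ← c.map_mul _ _ hy (pull hβ hbr).1, hydef]
    refine congrArg c.f ?_
    group
  have := List.all_eq_true.1 hall _ h1'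
  rw [← hmul, List.contains_iff_mem.2 h2'] at this
  exact Bool.noConfusion this

end Coding

end Cfsg.Agent.TransvCent
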