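import Cfsg.Agent.Lib.TransvCent.AmalgamSide
import Cfsg.Agent.Lib.TransvCent.AmalgamBaseCheck
import Cfsg.Agent.Lib.TransvCent.AmalgamCompCheck
import Cfsg.Agent.Lib.TransvCent.Orbit
import Cfsg.Agent.Lib.TransvCent.Swap

/-
The orbit of `z` in coordinates, and the frame exchanging the two elementary groups.

* `pres_of_orbit`, `move_of_orbit` : the orbit read on the coordinates `uA`
* `frame2` : a second coding whose first group is the second group of the first one
* `side_of_frame2` : a side of the second frame on the first group is a side of the first on the second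
* `exists_partner` : an orbit of 21 or 45 points gives sides of both groups
-/

set_option autoImplicit false

namespace Cfsg.Agent.TransvCent.Amalgam

variable {G : Type*} [Group G] {z : G}

/-- The orbit mask of a selection. -/
def orbOf : Bool → Bool → ℕ
  | false, _ => orb3
  | true, false => orb21
  | true, true => orb45

theorem check_uA_list : (uA.all (fun d => uList.contains d) && uList.all fun d => uA.contains d) = true := by
  decide +kernel

theorem check_orb : ∀ b h : Bool, (h && !b) = false →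
    ((List.range 64).all fun t => (orbOf b h).testBit t == (uSel b b h).contains (uA.getD t 0)) = true ∧
      ((uSel b b h).all fun d => uA.contains d) = true := by decide +kernel

theorem coord_mem_uSub (c : Coding z) {j : ℕ} (hj : j < 64) : coord c uA j ∈ c.uSub := by
  obtain ⟨h1, h2⟩ := coord_spec c check_coords_uA hj
  refine ⟨h1, ?_⟩
  have hlen : uA.length = 64 := by decide
  have hl := check_uA_list
  rw [Bool.and_eq_true] at hl
  rw [h2, List.getD_eq_getElem _ _ (by omega)]
  exact List.contains_iff_mem.1 (List.all_eq_true.1 hl.1 _ (List.getElem_mem _))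

theorem exists_coord_of_mem_uSub (c : Coding z) {x : G} (hx : x ∈ c.uSub) :
    ∃ j < 64, x = coord c uA j := by
  have hl := check_uA_list
  rw [Bool.and_eq_true] at hl
  obtain ⟨j, hj, hje⟩ := List.mem_iff_getElem.1 (List.contains_iff_mem.1 (List.all_eq_true.1 hl.2 _ hx.2))
  have hlen : uA.length = 64 := by decide
  exact ⟨j, hlen ▸ hj, (c.pre_eq hx.1 (by rw [List.getD_eq_getElem _ _ hj, hje])).symm⟩

theorem normU_iff (c : Coding z) {g : G} :
    NormU (coord c uA) g ↔ g ∈ Subgroup.normalizer (c.uSub : Set G) := by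
  constructor
  · intro hg
    have hsub : ∀ x ∈ c.uSub, g * x * g⁻¹ ∈ c.uSub := fun x hx => by
      obtain ⟨j, hj, rfl⟩ := exists_coord_of_mem_uSub c hx
      obtain ⟨i, hi, he⟩ := hg j hj
      rw [he]
      exact coord_mem_uSub c hi
    have himg : (MulAut.conj g) '' (c.uSub : Set G) = c.uSub := by
      refine Set.eq_of_subset_of_ncard_le ?_ ?_ c.finite_uSub
      · rintro _ ⟨x, hx, rfl⟩
        exact hsub x hx
      · rw [Set.ncard_image_of_injective _ (MulAut.conj g).injective]
    refine Subgroup.mem_normalizer_iff.2 fun x => ⟨hsub x, fun hx => ?_⟩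
    have hx' : g * x * g⁻¹ ∈ (MulAut.conj g) '' (c.uSub : Set G) := himg.symm ▸ hx
    obtain ⟨y, hy, he⟩ := hx'
    have : y = x := (MulAut.conj g).injective (he.trans (MulAut.conj_apply g x).symm)
    exact this ▸ hy
  · intro hg j hj
    exact exists_coord_of_mem_uSub c ((Subgroup.mem_normalizer_iff.1 hg _).1 (coord_mem_uSub c hj))

/-- The orbit of `z` is kept by the normaliser. -/
theorem pres_of_orbit (c : Coding z) {b h : Bool} (hbh : (h && !b) = false)
    (hO : c.orbit = c.codeSet (uSel b b h)) : Pres (coord c uA) (orbOf b h) := by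
  obtain ⟨hbit, hsub⟩ := check_orb b h hbh
  intro g hg s hs hsS
  have hb := beq_iff_eq.1 (List.all_eq_true.1 hbit s (List.mem_range.2 hs))
  rw [hb, List.contains_iff_mem] at hsS
  have hmem : coord c uA s ∈ c.orbit := by
    rw [hO]
    obtain ⟨h1, h2⟩ := coord_spec c check_coords_uA hs
    exact ⟨h1, h2.symm ▸ hsS⟩
  have hmem' := (c.conj_mem_orbit_iff ((normU_iff c).1 hg)).2 hmem
  rw [hO] at hmem'
  obtain ⟨hc, hm⟩ := hmem'
  obtain ⟨t, ht, hte⟩ := List.mem_iff_getElem.1 (List.contains_iff_mem.1 (List.all_eq_true.1 hsub _ hm))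
  have hlen : uA.length = 64 := by decide
  have ht64 : t < 64 := hlen ▸ ht
  refine ⟨t, ht64, ?_, (c.pre_eq hc ?_).symm⟩
  · rw [beq_iff_eq.1 (List.all_eq_true.1 hbit t (List.mem_range.2 ht64)), List.contains_iff_mem,
      List.getD_eq_getElem _ _ ht, hte]
    exact hm
  · rw [List.getD_eq_getElem _ _ ht, hte]

theorem check_move : ∀ h : Bool, ((uSel true true h).contains (uA.getD 4 0) &&
    (uSel true true h).contains (uB.getD 3 0) && (members repB chainB).contains (uB.getD 3 0)) = true := by
  decide +kernel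

theorem move_of_orbit (c : Coding z) {h : Bool} (hO : c.orbit = c.codeSet (uSel true true h)) :
    ∃ g, NormU (coord c uA) g ∧ g * z * g⁻¹ = coord c uA 4 := by
  have hc := check_move h
  simp only [Bool.and_eq_true, List.contains_iff_mem] at hc
  obtain ⟨h1, h2⟩ := coord_spec c check_coords_uA (show 4 < 64 by decide)
  have hmem : coord c uA 4 ∈ c.orbit := by rw [hO]; exact ⟨h1, h2.symm ▸ hc.1.1⟩
  obtain ⟨g, hg, hge⟩ := hmem
  exact ⟨g, (normU_iff c).2 hg, hge⟩

/-- The kind of an orbit. -/
def kindOf : Bool → Kind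
  | false => kind21
  | true => kind45

theorem isKind_kindOf (h : Bool) : IsKind (kindOf h) := by
  cases h
  · exact Or.inl rfl
  · exact Or.inr rfl

theorem orb_kindOf (h : Bool) : (kindOf h).orb = orbOf true h := by cases h <;> rfl

/-- An orbit of 21 or 45 points gives a side on the first group. -/
theorem side_of_orbit (c : Coding z) {h : Bool} (hO : c.orbit = c.codeSet (uSel true true h)) :
    ∃ i < 4, Nonempty (Side c (coord c uA) (compA.getD i (0, 0)).1 (compA.getD i (0, 0)).2 (kindOf h)) :=
  exists_side c (isKind_kindOf h) check_coords_uA check_comp_uA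
    (by cases h <;> [exact check_kind21; exact check_kind45])
    (by rw [orb_kindOf]; exact pres_of_orbit c (by simp) hO) (move_of_orbit c hO)

/-- The coding after conjugation by the element with code `frameInv`. -/
noncomputable def shift (c : Coding z) (η : G) (hη : Commute η z) : Coding z where
  f a := c.f (η * a * η⁻¹)
  mem a ha := c.mem _ (Coding.commute_conj hη ha)
  map_mul a b ha hb := by
    rw [show η * (a * b) * η⁻¹ = (η * a * η⁻¹) * (η * b * η⁻¹) by group,
      c.map_mul _ _ (Coding.commute_conj hη ha) (Coding.commute_conj hη hb)]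
  inj a b ha hb h := by
    simpa using c.inj _ _ (Coding.commute_conj hη ha) (Coding.commute_conj hη hb) h
  surj d hd := by
    obtain ⟨a, ha, rfl⟩ := c.surj d hd
    exact ⟨η⁻¹ * a * η, (hη.inv_left.mul_left ha).mul_left hη, by congr 1; group⟩
  map_z := by rw [hη.eq, mul_inv_cancel_right, c.map_z]

theorem check_frame_elt : isElt frameInv = true ∧ isElt frameCode = true ∧ mul frameInv frameCode = one := by
  decide +kernel

/-- The second frame. -/
noncomputable def frame2 (c : Coding z) : Coding z :=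
  (shift c (c.pre frameInv) (c.pre_spec (mem_of_isElt check_frame_elt.1)).1).dual

/-- The code of an element in the second frame from its code `d` and that of its inverse. -/
def frameImg (d' : ℕ) : ℕ := transp (mul (mul frameInv d') frameCode)

theorem frame2_f (c : Coding z) {x : G} (hx : Commute x z) {d' : ℕ} (hd' : isElt d' = true)
    (h : mul (c.f x) d' = one) : (frame2 c).f x = frameImg d' := by
  obtain ⟨hη, hηc⟩ := c.pre_spec (mem_of_isElt check_frame_elt.1)
  have hx' := hx.inv_left
  show transp (c.f (c.pre frameInv * x⁻¹ * (c.pre frameInv)⁻¹)) = _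
  rw [c.map_mul _ _ (hη.mul_left hx') hη.inv_left, c.map_mul _ _ hη hx', hηc,
    c.f_inv hη (mem_of_isElt check_frame_elt.2.1) (hηc.symm ▸ check_frame_elt.2.2),
    c.f_inv hx (mem_of_isElt hd') h]
  rfl

/-- The permutation of coordinates between the frames. -/
def framePerm : List ℕ := [0, 1, 3, 2, 20, 21, 23, 22, 42, 43, 41, 40, 62, 63, 61, 60, 16, 17, 19, 18, 4, 5, 7, 6,
  58, 59, 57, 56, 46, 47, 45, 44, 33, 32, 34, 35, 53, 52, 54, 55, 11, 10, 8, 9, 31, 30, 28, 29, 49, 48, 50, 51,
  37, 36, 38, 39, 27, 26, 24, 25, 15, 14, 12, 13]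

theorem check_frame : ((List.range 64).all fun j => isElt (uB.getD j 0) &&
    mul (uB.getD j 0) (uB.getD j 0) == one && frameImg (uB.getD j 0) == uA.getD j 0 &&
    isElt (uA.getD j 0) && mul (uA.getD j 0) (uA.getD j 0) == one && Nat.blt (framePerm.getD j 0) 64 &&
    frameImg (uA.getD (framePerm.getD j 0) 0) == uB.getD j 0 &&
    orb3.testBit (framePerm.getD j 0) == orb3.testBit j &&
    orb21.testBit (framePerm.getD j 0) == orb21.testBit j &&
    orb45.testBit (framePerm.getD j 0) == orb45.testBit j &&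
    (List.range 64).any fun i => framePerm.getD i 0 == j) = true := by decide +kernel

theorem check_frame_comp : ((List.range 4).all fun j => pqOK (compB.getD j (0, 0)).1 (compB.getD j (0, 0)).2 &&
    frameImg (compB.getD j (0, 0)).1 == (compA.getD j (0, 0)).1 &&
    frameImg (mul (compB.getD j (0, 0)).2 (mul (compB.getD j (0, 0)).2 (compB.getD j (0, 0)).2)) ==
      (compA.getD j (0, 0)).2) = true := by decide +kernel

theorem frame2_coord (c : Coding z) {j : ℕ} (hj : j < 64) :
    coord (frame2 c) uA j = coord c uB j ∧ framePerm.getD j 0 < 64 ∧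
      coord (frame2 c) uB j = coord c uA (framePerm.getD j 0) := by
  have h := List.all_eq_true.1 check_frame j (List.mem_range.2 hj)
  simp only [Bool.and_eq_true, beq_iff_eq, Nat.blt_eq] at h
  obtain ⟨⟨⟨⟨⟨⟨⟨⟨⟨⟨hBe, hB2⟩, hBA⟩, -⟩, -⟩, hπ⟩, hAB⟩, -⟩, -⟩, -⟩, -⟩ := h
  have h' := List.all_eq_true.1 check_frame _ (List.mem_range.2 hπ)
  simp only [Bool.and_eq_true, beq_iff_eq] at h'
  refine ⟨?_, hπ, ?_⟩
  · obtain ⟨h1, h2⟩ := coord_spec c check_coords_uB hj
    refine (frame2 c).pre_eq h1 ?_
    rw [frame2_f c h1 hBe (h2.symm ▸ hB2), hBA]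
  · obtain ⟨h1, h2⟩ := coord_spec c check_coords_uA hπ
    refine (frame2 c).pre_eq h1 ?_
    rw [frame2_f c h1 h'.1.1.1.1.1.1.1.2 (h2.symm ▸ h'.1.1.1.1.1.1.2), hAB]

theorem Pres.congr {e e' : ℕ → G} {S : ℕ} (he : ∀ j < 64, e j = e' j) (h : Pres e S) : Pres e' S := by
  intro g hg s hs hsS
  have hg' : NormU e g := fun j hj => by
    obtain ⟨i, hi, hie⟩ := hg j hj
    exact ⟨i, hi, by rw [he j hj, he i hi]; exact hie⟩
  obtain ⟨t, ht, htS, hte⟩ := h g hg' s hs hsS
  exact ⟨t, ht, htS, by rw [← he s hs, ← he t ht]; exact hte⟩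

theorem pres_perm (c : Coding z) {b h : Bool} (hP : Pres (coord c uA) (orbOf b h)) :
    Pres (coord (frame2 c) uB) (orbOf b h) := by
  have hbit : ∀ j < 64, framePerm.getD j 0 < 64 ∧
      (orbOf b h).testBit (framePerm.getD j 0) = (orbOf b h).testBit j ∧
      ∃ i < 64, framePerm.getD i 0 = j := fun j hj => by
    have hk := List.all_eq_true.1 check_frame j (List.mem_range.2 hj)
    simp only [Bool.and_eq_true, beq_iff_eq, Nat.blt_eq, List.any_eq_true, List.mem_range] at hk
    refine ⟨hk.1.1.1.1.1.2, ?_, hk.2⟩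
    cases b <;> cases h
    · exact hk.1.1.1.2
    · exact hk.1.1.1.2
    · exact hk.1.1.2
    · exact hk.1.2
  intro g hg s hs hsS
  obtain ⟨hπ, hπS, -⟩ := hbit s hs
  have hg' : NormU (coord c uA) g := fun j hj => by
    obtain ⟨-, -, i, hi, rfl⟩ := hbit j hj
    obtain ⟨k, hk, hke⟩ := hg i hi
    rw [(frame2_coord c hi).2.2, (frame2_coord c hk).2.2] at hke
    exact ⟨_, (hbit k hk).1, hke⟩
  obtain ⟨t, ht, htS, hte⟩ := hP g hg' _ hπ (hπS.trans hsS)
  obtain ⟨-, -, i, hi, rfl⟩ := hbit t ht
  exact ⟨i, hi, (hbit i hi).2.1.symm.trans htS,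
    by rw [(frame2_coord c hs).2.2, (frame2_coord c hi).2.2]; exact hte⟩

theorem Maps.congr_coord {e e' : ℕ → G} {x : G} {σ : ℕ → ℕ} (he : ∀ j < 64, e j = e' j) (h : Maps e x σ) :
    Maps e' x σ := fun j hj => by
  obtain ⟨h1, h2⟩ := h j hj
  exact ⟨h1, by rw [← he j hj, ← he _ h1]; exact h2⟩

/-- A side of the second frame on its first group is a side of the first frame on the second group. -/
theorem side_of_frame2 (c : Coding z) {j : ℕ} (hj : j < 4) {K : Kind}
    (S : Side (frame2 c) (coord (frame2 c) uA) (compA.getD j (0, 0)).1 (compA.getD j (0, 0)).2 K) :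
    Nonempty (Side c (coord c uB) (compB.getD j (0, 0)).1 (compB.getD j (0, 0)).2 K) := by
  have h := List.all_eq_true.1 check_frame_comp j (List.mem_range.2 hj)
  simp only [Bool.and_eq_true, beq_iff_eq, pqOK] at h
  obtain ⟨⟨⟨⟨⟨⟨hpe, hqe⟩, hq3⟩, hp2⟩, hq4⟩, hp⟩, hq⟩ := h
  have he : ∀ i < 64, coord (frame2 c) uA i = coord c uB i := fun i hi => (frame2_coord c hi).1
  have key : ∀ {x : G}, Commute x z → ∀ {d d' : ℕ}, isElt d = true → isElt d' = true → mul d d' = one →
      (frame2 c).f x = frameImg d' → c.f x = d := by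
    intro x hx d d' hd hd' hdd hfx
    obtain ⟨h1, h2⟩ := c.pre_spec (mem_of_isElt hd)
    have : x = c.pre d := (frame2 c).inj _ _ hx h1 (by rw [hfx, frame2_f c h1 hd' (h2.symm ▸ hdd)])
    rw [this, h2]
  exact ⟨⟨S.p, S.q, S.g, ⟨S.hp.1, key S.hp.1 hpe hpe hp2 (S.hp.2.trans hp.symm)⟩,
    ⟨S.hq.1, key S.hq.1 hqe hq3 hq4 (S.hq.2.trans hq.symm)⟩, S.maps_p.congr_coord he,
    S.maps_q.congr_coord he, S.maps_g.congr_coord he, S.inv_g, S.triv⟩⟩

theorem check_repA : uA.getD 3 0 = repA := by decide +kernel

/-- An orbit of 21 or 45 points: the second group also has an orbit in one of the three lists. -/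
theorem exists_partner (c : Coding z) {h : Bool} (hO : c.orbit = c.codeSet (uSel true true h)) :
    ∃ b h' : Bool, (h' && !b) = false ∧ (frame2 c).orbit = (frame2 c).codeSet (uSel b b h') := by
  have hc := check_move h
  simp only [Bool.and_eq_true, List.contains_iff_mem] at hc
  obtain ⟨h1, h2⟩ := coord_spec c check_coords_uB (show 3 < 64 by decide)
  have hmem : coord c uB 3 ∈ c.orbit := by rw [hO]; exact ⟨h1, h2.symm ▸ hc.1.2⟩
  have hcon : IsConj z (coord c uB 3) := (Coding.mem_of_orbit hmem).2.1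
  have hf : (frame2 c).f (coord c uB 3) = repA := by
    rw [← (frame2_coord c (show 3 < 64 by decide)).1, (coord_spec (frame2 c) check_coords_uA (by decide)).2,
      check_repA]
  have hx : (frame2 c).InCls repA (coord c uB 3) := ⟨h1, 1, Commute.one_left z, by simpa using hf⟩
  rcases (frame2 c).orbit_cases hx hcon with hh | hh | hh
  · exact ⟨false, false, rfl, hh⟩
  · exact ⟨true, false, rfl, hh⟩
  · exact ⟨true, true, rfl, hh⟩

end Cfsg.Agent.TransvCent.Amalgam
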