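import Cfsg.Agent.Lib.TransvCent.AmalgamRels
import Cfsg.Agent.Lib.TransvCent.ClosingCode
import Cfsg.Agent.Lib.TransvCent.Orbit
import Mathlib.GroupTheory.Nilpotent
import Mathlib.GroupTheory.Sylow
import Mathlib.Algebra.Group.Subgroup.Pointwise

/-
The fusion inside a subgroup containing the centraliser and the two sides; the closing step.

* `fused_of_sides` : the class of `z` in such a subgroup meets the centraliser in the expected classes
* `eq_top_of_sides` : such a subgroup is the whole group, given a closing certificate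
-/

set_option autoImplicit false

namespace Cfsg.Agent.TransvCent

variable {G : Type*} [Group G] {z : G}

/-- A coding restricts to a subgroup containing the centraliser. -/
def Coding.restrict (c : Coding z) {H : Subgroup G} (hC : ∀ a, Commute a z → a ∈ H) :
    Coding (⟨z, hC z (Commute.refl z)⟩ : H) where
  f a := c.f a
  mem a ha := c.mem a (congrArg Subtype.val ha)
  map_mul a b ha hb := c.map_mul a b (congrArg Subtype.val ha) (congrArg Subtype.val hb)
  inj a b ha hb h := Subtype.ext (c.inj a b (congrArg Subtype.val ha) (congrArg Subtype.val hb) h)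
  surj d hd := by
    obtain ⟨a, ha, he⟩ := c.surj d hd
    exact ⟨⟨a, hC a ha⟩, Subtype.ext ha, he⟩
  map_z := c.map_z

namespace Amalgam

/-- The seven classes, by representative and chain. -/
def clsList : List (ℕ × List (ℕ × ℕ × ℕ)) := [(repA, chainA), (repB, chainB), (repD, chainD),
  (repCq, chainCq), (repH1, chainH1), (repH2, chainH2), (repF, chainF)]

/-- A witness for a class: the side, a word and the source coordinate. -/
abbrev Wit := Bool × List ℕ × ℕ

/-- The witnesses show the fusion pattern `P`. -/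
def witOK (KA KB : Kind) (P : ℕ → Bool) (wit : List Wit) : Bool :=
  P zc && (List.range 7).all fun k =>
    let cl := clsList.getD k (0, [])
    let (b, w, s) := wit.getD k (false, [], 0)
    let K := if b then KB else KA
    let U := if b then uB else uA
    derived cl.1 cl.2 && letW w && Nat.blt s 64 &&
      (members cl.1 cl.2).contains (U.getD (actW K.g K.g' w s) 0) &&
      (if s == 1 then (members cl.1 cl.2).all (fun d => P d)
       else (members repCq chainCq).contains (U.getD s 0) && (members cl.1 cl.2).all (fun d => !P d))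

/-- Six generators of the radical. -/
def radGens : List ℕ := [34946, 34948, 34952, 34960, 34976, 35008]

/-- The radical is closed, has exponent four, and centralises no involution but `z`. -/
theorem check_radical : ((List.range 128).all (fun r => radGens.all (fun g =>
    Nat.ble 34944 (mul (34944 + r) g) && Nat.blt (mul (34944 + r) g) 35072) &&
      mul (mul (34944 + r) (34944 + r)) (mul (34944 + r) (34944 + r)) == one) &&
    radGens.all (fun g => isElt g && mul g g == one && Nat.ble 34944 g && Nat.blt g 35072) &&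
    Nat.ble 34944 one && Nat.blt one 35072 &&
    clsList.all (fun cl => (members cl.1 cl.2).all fun d => radGens.any fun g => !comm g d)) = true := by
  decide +kernel

theorem check_derived_Cq : derived repCq chainCq = true := by decide +kernel

variable {c : Coding z}

theorem exists_cls (c : Coding z) {x : G} (hx : Commute x z) (ho : orderOf x = 2) :
    c.f x = zc ∨ ∃ k < 7, c.f x ∈ members (clsList.getD k (0, [])).1 (clsList.getD k (0, [])).2 := by
  have h := List.all_eq_true.1 check_classes _ (c.mem x hx)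
  rw [(c.isInv_iff hx).2 ho] at h
  simp only [Bool.not_true, Bool.false_or, Bool.or_eq_true, beq_iff_eq, List.contains_iff_mem] at h
  rcases h with ((((((h | h) | h) | h) | h) | h) | h) | h
  · exact Or.inl h
  · exact Or.inr ⟨0, by decide, h⟩
  · exact Or.inr ⟨1, by decide, h⟩
  · exact Or.inr ⟨2, by decide, h⟩
  · exact Or.inr ⟨3, by decide, h⟩
  · exact Or.inr ⟨4, by decide, h⟩
  · exact Or.inr ⟨5, by decide, h⟩
  · exact Or.inr ⟨6, by decide, h⟩

/-- A 2-subgroup of the centraliser centralising no involution but `z`. -/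
theorem exists_radical (c : Coding z) : ∃ Q : Subgroup G, IsPGroup 2 Q ∧ (∀ q ∈ Q, Commute q z) ∧
    ∀ v, Commute v z → orderOf v = 2 → (∀ q ∈ Q, Commute q v) → v = z := by
  have hc := check_radical
  simp only [Bool.and_eq_true, List.all_eq_true, List.mem_range, beq_iff_eq, Nat.ble_eq, Nat.blt_eq] at hc
  obtain ⟨⟨⟨⟨hstep, hgen⟩, h1a⟩, h1b⟩, hcls⟩ := hc
  let S : Set G := {x | ∃ g ∈ radGens, x = c.pre g}
  have hS : ∀ x ∈ S, Commute x z ∧ c.f x ∈ radGens := by
    rintro x ⟨g, hg, rfl⟩
    have := c.pre_spec (mem_of_isElt (hgen g hg).1.1.1)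
    exact ⟨this.1, this.2.symm ▸ hg⟩
  have hinv : ∀ x ∈ S, x⁻¹ = x := fun x hx => by
    obtain ⟨hxz, hxg⟩ := hS x hx
    refine inv_eq_of_mul_eq_one_right ((c.eq_iff (hxz.mul_left hxz) (Commute.one_left z)).1 ?_)
    rw [c.map_mul _ _ hxz hxz, c.map_one]
    exact (hgen _ hxg).1.1.2
  let R : Set G := {x | Commute x z ∧ 34944 ≤ c.f x ∧ c.f x < 35072}
  have hR : ∀ x ∈ Subgroup.closure S, x ∈ R := by
    intro x hx
    induction hx using Subgroup.closure_induction_right with
    | one => exact ⟨Commute.one_left z, by rw [c.map_one]; exact h1a, by rw [c.map_one]; exact h1b⟩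
    | mul_right a _ s hs ih =>
      obtain ⟨ha, h1, h2⟩ := ih
      obtain ⟨hsz, hsg⟩ := hS s hs
      refine ⟨ha.mul_left hsz, ?_⟩
      have := (hstep (c.f a - 34944) (by omega)).1 _ hsg
      rw [show 34944 + (c.f a - 34944) = c.f a by omega, ← c.map_mul _ _ ha hsz] at this
      exact this
    | mul_inv_cancel a _ s hs ih =>
      rw [hinv s hs]
      obtain ⟨ha, h1, h2⟩ := ih
      obtain ⟨hsz, hsg⟩ := hS s hs
      refine ⟨ha.mul_left hsz, ?_⟩
      have := (hstep (c.f a - 34944) (by omega)).1 _ hsg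
      rw [show 34944 + (c.f a - 34944) = c.f a by omega, ← c.map_mul _ _ ha hsz] at this
      exact this
  refine ⟨Subgroup.closure S, fun x => ⟨2, Subtype.ext ?_⟩, fun q hq => (hR q hq).1, fun v hv ho hcomm => ?_⟩
  · obtain ⟨hx, h1, h2⟩ := hR _ x.2
    show (x : G) ^ (2 ^ 2) = 1
    have := (hstep (c.f (x : G) - 34944) (by omega)).2
    rw [show 34944 + (c.f (x : G) - 34944) = c.f (x : G) by omega, ← c.map_mul _ _ hx hx,
      ← c.map_mul _ _ (hx.mul_left hx) (hx.mul_left hx), ← c.map_one,
      c.eq_iff ((hx.mul_left hx).mul_left (hx.mul_left hx)) (Commute.one_left z)] at this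
    rw [← this]
    simp [pow_succ, mul_assoc]
  · rcases exists_cls c hv ho with h | ⟨k, hk, h⟩
    · exact c.inj v z hv (Commute.refl z) (h.trans c.map_z.symm)
    exfalso
    obtain ⟨g, hg, hne⟩ := List.any_eq_true.1 (hcls (clsList.getD k (0, [])) (by
      rw [List.getD_eq_getElem _ _ (show k < clsList.length from hk)]; exact List.getElem_mem _) _ h)
    have hp := c.pre_spec (mem_of_isElt (hgen g hg).1.1.1)
    rw [Bool.not_eq_true', ← hp.2, Bool.eq_false_iff, Ne, c.comm_iff hp.1 hv] at hne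
    exact hne (hcomm _ (Subgroup.subset_closure ⟨g, hg, rfl⟩))

/-- The centraliser of `z` contains a Sylow 2-subgroup. -/
theorem not_dvd_index [Finite G] (c : Coding z) :
    ¬ 2 ∣ (Subgroup.centralizer ({z} : Set G)).index := by
  intro hdvd
  have : Fact (Nat.Prime 2) := ⟨Nat.prime_two⟩
  set C := Subgroup.centralizer ({z} : Set G) with hCdef
  have hmem : ∀ a, a ∈ C ↔ Commute a z := fun a => Subgroup.mem_centralizer_singleton_iff
  obtain ⟨Q, hQ, hQz, hkey⟩ := exists_radical c
  have hzz : IsPGroup 2 (Subgroup.zpowers z) :=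
    IsPGroup.of_card (n := 1) (by rw [Nat.card_zpowers, c.orderOf_z, pow_one])
  have hQ' : IsPGroup 2 (Q ⊔ Subgroup.zpowers z : Subgroup G) := by
    refine IsPGroup.to_sup_of_normal_left' hQ hzz ?_
    rw [Subgroup.zpowers_le]
    exact Subgroup.centralizer_le_normalizer _ (Subgroup.mem_centralizer_iff.2 fun q hq => (hQz q hq).eq)
  have hQC : (Q ⊔ Subgroup.zpowers z : Subgroup G) ≤ C :=
    sup_le (fun q hq => (hmem q).2 (hQz q hq)) (Subgroup.zpowers_le.2 ((hmem z).2 (Commute.refl z)))
  obtain ⟨S, hS⟩ := (hQ'.comap_of_injective C.subtype C.subtype_injective).exists_le_sylow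
  set T := (S : Subgroup C).map C.subtype with hT
  have hTC : T ≤ C := Subgroup.map_subtype_le _
  have hTp : IsPGroup 2 T := S.2.map _
  have hQT : ∀ q ∈ (Q ⊔ Subgroup.zpowers z : Subgroup G), q ∈ T := fun q hq => ⟨⟨q, hQC hq⟩, hS hq, rfl⟩
  obtain ⟨R, hR⟩ := hTp.exists_le_sylow
  have hlt : T.subgroupOf (R : Subgroup G) < ⊤ := lt_top_iff_ne_top.2 fun e => by
    have e' : T = (R : Subgroup G) := le_antisymm hR (Subgroup.subgroupOf_eq_top.1 e)
    refine R.not_dvd_index ?_
    rw [← e', ← Subgroup.relIndex_mul_index hTC]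
    exact Dvd.dvd.mul_left hdvd _
  have hnil : Group.IsNilpotent (R : Subgroup G) := R.2.isNilpotent
  have hn := Group.normalizerCondition_of_isNilpotent (T.subgroupOf (R : Subgroup G)) hlt
  obtain ⟨n, hnN, hnT⟩ := SetLike.exists_of_lt hn
  have hnorm : ∀ t, t ∈ T → (n : G)⁻¹ * t * n ∈ T := by
    intro t ht
    have := (Subgroup.mem_normalizer_iff''.1 hnN ⟨t, hR ht⟩).1 ht
    simpa [Subgroup.mem_subgroupOf] using this
  have hzT : z ∈ T := hQT z (Subgroup.mem_sup_right (Subgroup.mem_zpowers z))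
  have back : ∀ t ∈ T, (n : G) * ((n : G)⁻¹ * t * n) * (n : G)⁻¹ = t := fun t _ => by group
  have hv : (n : G) * z * (n : G)⁻¹ = z := by
    refine hkey _ ?_ (by rw [Coding.orderOf_conj, c.orderOf_z]) fun q hq => ?_
    · have h1 := (Commute.conj_iff (n : G)).2 ((hmem _).1 (hTC (hnorm z hzT)))
      rw [back z hzT] at h1
      exact h1.symm
    · have hqT := hQT q (Subgroup.mem_sup_left hq)
      have h1 := (Commute.conj_iff (n : G)).2 ((hmem _).1 (hTC (hnorm q hqT)))
      rwa [back q hqT] at h1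
  have hnC : (n : G) ∈ C := (hmem _).2 (mul_inv_eq_iff_eq_mul.1 hv)
  -- `n` and `T` lie in a 2-subgroup of the centraliser
  have hsup : IsPGroup 2 ((R : Subgroup G) ⊓ C : Subgroup G) := R.2.to_le inf_le_left
  have hmax := S.3 (hsup.comap_of_injective C.subtype C.subtype_injective) (fun x hx =>
    (⟨hR ⟨x, hx, rfl⟩, x.2⟩ : (x : G) ∈ (R : Subgroup G) ⊓ C))
  have hnS : (⟨n, hnC⟩ : C) ∈ (S : Subgroup C) := by
    rw [← hmax]; exact ⟨n.2, hnC⟩
  exact hnT ⟨_, hnS, rfl⟩

variable {pa qa pb qb : ℕ} {KA KB : Kind} {P : ℕ → Bool} {wit : List Wit}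

/-- Inside a subgroup containing the centraliser and the sides, each class is fused to `z` or to `Cq`. -/
theorem cls_fused (SA : Side c (coord c uA) pa qa KA) (SB : Side c (coord c uB) pb qb KB) {H : Subgroup G}
    (hC : ∀ a, Commute a z → a ∈ H) (hA : SA.g ∈ H) (hB : SB.g ∈ H) (hw : witOK KA KB P wit = true)
    {x : H} (hx : Commute (x : G) z) (ho : orderOf (x : G) = 2) :
    (P (c.f x) = true ∧ IsConj (⟨z, hC z (Commute.refl z)⟩ : H) x) ∨
      (P (c.f x) = false ∧ ∃ q : H, (c.restrict hC).InCls repCq q ∧ IsConj q x) := by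
  simp only [witOK, Bool.and_eq_true] at hw
  set zH : H := ⟨z, hC z (Commute.refl z)⟩
  rcases exists_cls c hx ho with h | ⟨k, hk, h⟩
  · refine Or.inl ⟨by rw [h]; exact hw.1, ?_⟩
    rw [show x = zH from Subtype.ext (c.inj _ _ hx (Commute.refl z) (h.trans c.map_z.symm))]
  have hk' := List.all_eq_true.1 hw.2 k (List.mem_range.2 hk)
  generalize clsList.getD k (0, []) = cl at h hk'
  generalize wit.getD k (false, [], 0) = e at hk'
  obtain ⟨b, w, s⟩ := e
  simp only [Bool.and_eq_true, Nat.blt_eq, List.contains_iff_mem] at hk'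
  obtain ⟨⟨⟨⟨hd, hwl⟩, hs⟩, hmem⟩, hP⟩ := hk'
  -- the witness: a conjugation inside `H` between coordinates
  have wit' : ∀ {U : List ℕ} {pc qc : ℕ} {K : Kind}, coordsOK U = true → ∀ S : Side c (coord c U) pc qc K,
      S.g ∈ H → ∃ y v : H, c.f y = U.getD (actW K.g K.g' w s) 0 ∧ c.f v = U.getD s 0 ∧ Commute (y : G) z ∧
        Commute (v : G) z ∧ IsConj v y := by
    intro U pc qc K hU S hg
    have hlt := actW_lt K.g K.g' w hs
    have hev : S.ev w ∈ H := by
      refine list_prod_mem fun e he => ?_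
      obtain ⟨a, -, rfl⟩ := List.mem_map.1 he
      rcases a with _ | _ | _ | _ | _ | _ | a
      · exact hC _ S.hp.1
      · exact inv_mem (hC _ S.hp.1)
      · exact hC _ S.hq.1
      · exact inv_mem (hC _ S.hq.1)
      · exact hg
      · exact inv_mem hg
      · simp [evLet]
    obtain ⟨h1, h1'⟩ := coord_spec c hU hlt
    obtain ⟨h2, h2'⟩ := coord_spec c hU hs
    exact ⟨⟨_, hC _ h1⟩, ⟨_, hC _ h2⟩, h1', h2', h1, h2,
      isConj_iff.2 ⟨⟨_, hev⟩, Subtype.ext ((S.maps hwl s hs).2)⟩⟩
  obtain ⟨y, v, hy, hv, hyz, hvz, hvy⟩ : ∃ y v : H, c.f y = (if b then uB else uA).getD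
      (actW (if b then KB else KA).g (if b then KB else KA).g' w s) 0 ∧
      c.f v = (if b then uB else uA).getD s 0 ∧ Commute (y : G) z ∧ Commute (v : G) z ∧ IsConj v y := by
    cases b
    · exact wit' check_coords_uA SA hA
    · exact wit' check_coords_uB SB hB
  have hyx : IsConj y x := by
    have h1 := (c.restrict hC).chain_sound _ hd y (Subtype.ext hyz) (show c.f y ∈ _ from hy.symm ▸ hmem)
    have h2 := (c.restrict hC).chain_sound _ hd x (Subtype.ext hx) h
    exact h1.isConj h2
  by_cases hs1 : s = 1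
  · subst hs1
    simp only [beq_self_eq_true, if_true, List.all_eq_true] at hP
    refine Or.inl ⟨hP _ h, ?_⟩
    have hvz' : v = zH := by
      refine Subtype.ext (c.inj _ _ hvz (Commute.refl z) ?_)
      rw [hv]
      show _ = c.f z
      cases b
      · exact (show uA.getD 1 0 = zc by decide +kernel).trans c.map_z.symm
      · exact (show uB.getD 1 0 = zc by decide +kernel).trans c.map_z.symm
    show IsConj zH x
    exact hvz' ▸ hvy.trans hyx
  · simp only [beq_iff_eq, hs1, if_false, Bool.and_eq_true, List.contains_iff_mem, List.all_eq_true,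
      Bool.not_eq_true'] at hP
    exact Or.inr ⟨hP.2 _ h, v, (c.restrict hC).chain_sound _ check_derived_Cq v (Subtype.ext hvz)
      (show c.f v ∈ _ from hv.symm ▸ hP.1), hvy.trans hyx⟩

theorem fused_of_sides [Finite G] (SA : Side c (coord c uA) pa qa KA) (SB : Side c (coord c uB) pb qb KB)
    {H : Subgroup G} (hC : ∀ a, Commute a z → a ∈ H) (hA : SA.g ∈ H) (hB : SB.g ∈ H)
    (hw : witOK KA KB P wit = true) :
    (c.restrict hC).Fused P ∧ ∀ m : H, IsConj z (m : G) → IsConj (⟨z, hC z (Commute.refl z)⟩ : H) m := by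
  set zH : H := ⟨z, hC z (Commute.refl z)⟩ with hzH
  have hodd : ¬ 2 ∣ (Subgroup.centralizer ({zH} : Set H)).index := not_dvd_index (c.restrict hC)
  have hnot : ∀ {q : H}, (c.restrict hC).InCls repCq q → ¬ IsConj z (q : G) := by
    rintro q ⟨hq, u, hu, he⟩
    exact c.not_isConj_Cq_F (Or.inl ⟨congrArg Subtype.val hq, (u : G), congrArg Subtype.val hu, he⟩)
  have toG : ∀ {x y : H}, IsConj x y → IsConj (x : G) (y : G) := fun h => by
    obtain ⟨u, hu⟩ := isConj_iff.1 h
    exact isConj_iff.2 ⟨u, congrArg Subtype.val hu⟩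
  have move : ∀ x : H, orderOf x = 2 → ∃ x' : H, IsConj x x' ∧ Commute (x' : G) z ∧ orderOf (x' : G) = 2 := by
    intro x hx
    obtain ⟨v, hv, hcomm⟩ := Coding.exists_central hodd (Subgroup.zpowers x)
      (IsPGroup.of_card (n := 1) (by rw [Nat.card_zpowers, hx, pow_one]))
    obtain ⟨u, hu⟩ := isConj_iff.1 hv
    refine ⟨u⁻¹ * x * u, isConj_iff.2 ⟨u⁻¹, by rw [inv_inv]⟩, ?_, ?_⟩
    · have h1 : Commute x v := (hcomm x (Subgroup.mem_zpowers x)).symm
      rw [← hu] at h1
      have h2 : Commute (u⁻¹ * x * u) zH := by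
        rw [← Commute.conj_iff u, show u * (u⁻¹ * x * u) * u⁻¹ = x by group]
        exact h1
      exact congrArg Subtype.val h2
    · rw [Subgroup.orderOf_coe]
      have := Coding.orderOf_conj u⁻¹ x
      rwa [inv_inv, hx] at this
  refine ⟨⟨fun x hx ho => ?_, hodd, fun x y hx hy nx ny => ?_⟩, fun m hm => ?_⟩
  · rcases cls_fused SA SB hC hA hB hw (congrArg Subtype.val hx)
      ((Subgroup.orderOf_coe x).trans ho) with ⟨h1, h2⟩ | ⟨h1, q, hq, h2⟩
    · exact ⟨fun _ => h1, fun _ => h2⟩
    · refine ⟨fun h => absurd (toG (h.trans h2.symm)) (hnot hq), fun h => ?_⟩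
      exact Bool.noConfusion (h1.symm.trans (show P (c.f x) = true from h))
  · obtain ⟨x', hxx, hxz, hxo⟩ := move x hx
    obtain ⟨y', hyy, hyz, hyo⟩ := move y hy
    rcases cls_fused SA SB hC hA hB hw hxz hxo with ⟨-, h⟩ | ⟨-, q, hq, h⟩
    · exact absurd (h.trans hxx.symm) nx
    rcases cls_fused SA SB hC hA hB hw hyz hyo with ⟨-, k⟩ | ⟨-, r, hr, k⟩
    · exact absurd (k.trans hyy.symm) ny
    exact (hxx.trans h.symm).trans ((hq.isConj hr).trans (k.trans hyy.symm))
  · obtain ⟨u, hu⟩ := isConj_iff.1 hm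
    have hmo : orderOf m = 2 := by
      rw [← Subgroup.orderOf_coe, ← hu, Coding.orderOf_conj, c.orderOf_z]
    obtain ⟨m', hmm, hmz, hmo'⟩ := move m hmo
    rcases cls_fused SA SB hC hA hB hw hmz hmo' with ⟨-, h⟩ | ⟨-, q, hq, h⟩
    · exact h.trans hmm.symm
    · exact absurd (hm.trans (toG (hmm.trans h.symm))) (hnot hq)

/-- **Closing.** A subgroup containing the centraliser and the two sides is the whole group. -/
theorem eq_top_of_sides [Finite G] (SA : Side c (coord c uA) pa qa KA) (SB : Side c (coord c uB) pb qb KB)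
    {H : Subgroup G} (hC : ∀ a, Commute a z → a ∈ H) (hA : SA.g ∈ H) (hB : SB.g ∈ H)
    (hw : witOK KA KB P wit = true)
    (hclosed : ∀ {cH : Coding (⟨z, hC z (Commute.refl z)⟩ : H)}, cH.Fused P →
      Closing.Model.Closed (⟨z, hC z (Commute.refl z)⟩ : H) (∅ : Set H)) : H = ⊤ := by
  obtain ⟨hF, hfuse⟩ := fused_of_sides SA SB hC hA hB hw
  have := Closing.Model.range_eq_top (φ := H.subtype) H.subtype_injective (hclosed hF)
    (fun a ha => ⟨⟨a, hC a ha⟩, rfl⟩) hfuse
  rwa [Subgroup.range_subtype] at this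

end Amalgam

end Cfsg.Agent.TransvCent
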