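import Cfsg.Agent.Lib.TransvCent.AmalgamWord
import Mathlib.Data.Fintype.EquivFin

/-
Normalisers of a fixed-point-free element of order three over the coordinates.

* `NormH` : normalising the subgroup generated by an element
* `exists_norm` : a lift may be moved into the normaliser
* `exists_realise` : some element of the normaliser induces the chosen map
-/

set_option autoImplicit false

namespace Cfsg.Agent.TransvCent.Amalgam

variable {G : Type*} [Group G] {z : G} {e : ℕ → G}

/-- Conjugation by `g` keeps or inverts `x`. -/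
def NormH (x g : G) : Prop := g * x * g⁻¹ = x ∨ g * x * g⁻¹ = x⁻¹

theorem NormH.mul {x g h : G} (hg : NormH x g) (hh : NormH x h) : NormH x (g * h) := by
  have e1 : g * h * x * (g * h)⁻¹ = g * (h * x * h⁻¹) * g⁻¹ := by group
  have e2 : g * x⁻¹ * g⁻¹ = (g * x * g⁻¹)⁻¹ := by group
  rw [NormH, e1]
  rcases hh with hh | hh <;> rcases hg with hg | hg <;> simp [hh, e2, hg]

theorem NormH.inv {x g : G} (hg : NormH x g) : NormH x g⁻¹ := by
  rcases hg with h | h
  · left
    conv_lhs => rw [← h]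
    group
  · right
    calc g⁻¹ * x * g⁻¹⁻¹ = g⁻¹ * (g * x * g⁻¹)⁻¹ * g := by rw [h]; group
      _ = _ := by group

theorem NormH.evK {x p q g : G} (hp : NormH x p) (hq : NormH x q) (hg : NormH x g) :
    ∀ w : List ℕ, NormH x (evK p q g w)
  | [] => Or.inl (by simp [Amalgam.evK])
  | a :: w => by
    rw [evK_cons]
    refine NormH.mul ?_ (NormH.evK hp hq hg w)
    rcases a with _ | _ | _ | _ | _ | _ | a
    · exact hp
    · exact hp.inv
    · exact hq
    · exact hq.inv
    · exact hg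
    · exact hg.inv
    · exact Or.inl (by simp [evLet])

theorem NormH.conj {x g u : G} (hg : NormH x g) : NormH (u * x * u⁻¹) (u * g * u⁻¹) := by
  have e1 : u * g * u⁻¹ * (u * x * u⁻¹) * (u * g * u⁻¹)⁻¹ = u * (g * x * g⁻¹) * u⁻¹ := by group
  rw [NormH, e1]
  rcases hg with h | h
  · left; rw [h]
  · right; rw [h]; group

/-- The map is fixed-point free of order three. -/
def hOK (H : ℕ) : Bool :=
  (List.range 64).all (fun j => (j == 0 || pget H j != j) && pget H (pget H (pget H j)) == j &&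
    (List.range 64).any (fun v => v ^^^ pget H v == j) &&
    (List.range 64).any (fun v => v ^^^ pget H (pget H v) == j)) &&
  pget H (pget H 1) != 1

/-- The map `T` commutes with `H` or inverts it. -/
def hNorm (H T : ℕ) : Bool :=
  (List.range 64).all (fun j => pget T (pget H j) == pget H (pget T j)) ||
  (List.range 64).all (fun j => pget H (pget T (pget H j)) == pget T j)

variable {H : ℕ}

theorem hOK.spec (hH : hOK H = true) {j : ℕ} (hj : j < 64) :
    (pget H j = j → j = 0) ∧ pget H (pget H (pget H j)) = j ∧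
      (∃ v < 64, v ^^^ pget H v = j) ∧ ∃ v < 64, v ^^^ pget H (pget H v) = j := by
  simp only [hOK, Bool.and_eq_true] at hH
  have h := List.all_eq_true.1 hH.1 j (List.mem_range.2 hj)
  simp only [Bool.and_eq_true, Bool.or_eq_true, beq_iff_eq, bne_iff_ne, List.any_eq_true, List.mem_range] at h
  exact ⟨fun e => h.1.1.1.elim id fun n => absurd e n, h.1.1.2, h.1.2, h.2⟩

theorem pow_three (E : Elem z e) (hH : hOK H = true) {x : G} (hx : Maps e x (pget H)) : x * x * x = 1 := by
  obtain ⟨i, hi, he⟩ := ((hx.mul hx).mul hx).eq_coord E fun j hj => (hOK.spec hH hj).2.1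
  have h := (hx i hi).2
  rw [← he] at h
  have h2 : x * (x * x * x) * x⁻¹ = x * x * x := by group
  rw [h2] at h
  have := (hOK.spec hH hi).1 (E.inj (hx i hi).1 hi (h.symm.trans he))
  rw [he, this, E.zero]

theorem eq_one_of_norm (E : Elem z e) (hH : hOK H = true) {x g : G} (hx : Maps e x (pget H))
    (hg : NormH x g) {σ : ℕ → ℕ} (hgm : Maps e g σ) (hσ : ∀ j < 64, σ j = j) : g = 1 := by
  obtain ⟨i, hi, rfl⟩ := hgm.eq_coord E hσ
  have key : e i * x * (e i)⁻¹ = e (i ^^^ pget H i) * x := by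
    rw [E.inv hi, ← E.add i hi _ (hx i hi).1, ← (hx i hi).2]; group
  have hlt : i ^^^ pget H i < 64 := Nat.xor_lt_two_pow (n := 6) hi (pget_lt _ _)
  rcases hg with h | h <;> rw [key] at h
  · have h0 := E.inj hlt (by decide : 0 < 64) ((mul_eq_right.1 h).trans E.zero.symm)
    rw [(hOK.spec hH hi).1 (Nat.xor_eq_zero_iff.1 h0).symm, E.zero]
  · exfalso
    have hxx : x * x = e (i ^^^ pget H i) := by
      rw [eq_inv_iff_mul_eq_one, mul_assoc] at h
      rw [← E.inv hlt]
      exact eq_inv_of_mul_eq_one_right h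
    have h1 := Maps.unique E (hxx ▸ hx.mul hx) (Maps.coord E hlt) (by decide : 1 < 64)
    simp only [hOK, Bool.and_eq_true, bne_iff_ne] at hH
    exact hH.2 h1

theorem exists_norm (E : Elem z e) (hH : hOK H = true) {x y : G} {T : ℕ} {σ : ℕ → ℕ}
    (hx : Maps e x (pget H)) (hy : Maps e y σ) (hT : ∀ j < 64, σ j = pget T j) (h : hNorm H T = true) :
    ∃ v < 64, NormH x (e v * y) := by
  have hy' : Maps e y (pget T) := hy.congr hT
  have fin : ∀ a b : G, ∀ {σ τ : ℕ → ℕ}, Maps e a σ → Maps e b τ → (∀ j < 64, σ j = τ j) →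
      ∃ i < 64, a = b * e i := by
    intro a b σ τ ha hb hab
    obtain ⟨i, hi, hie⟩ := E.cent (b⁻¹ * a) fun k hk => by
      have h2 : (2 : ℕ) ^ k < 64 := Nat.pow_lt_pow_right (a := 2) (by decide) hk
      have e1 : a * e (2 ^ k) * a⁻¹ = b * e (2 ^ k) * b⁻¹ := by
        rw [(ha _ h2).2, (hb _ h2).2, hab _ h2]
      show b⁻¹ * a * e (2 ^ k) = e (2 ^ k) * (b⁻¹ * a)
      calc b⁻¹ * a * e (2 ^ k) = b⁻¹ * (a * e (2 ^ k) * a⁻¹) * a := by group
        _ = b⁻¹ * (b * e (2 ^ k) * b⁻¹) * a := by rw [e1]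
        _ = _ := by group
    exact ⟨i, hi, by rw [← hie]; group⟩
  rw [hNorm, Bool.or_eq_true] at h
  rcases h with h | h
  · have hc : ∀ j < 64, pget T (pget H j) = pget H (pget T j) := fun j hj =>
      beq_iff_eq.1 (List.all_eq_true.1 h j (List.mem_range.2 hj))
    obtain ⟨i, hi, hie⟩ := fin (y * x) (x * y) (hy'.mul hx) (hx.mul hy') hc
    obtain ⟨-, -, ⟨v, hv, hvv⟩, -⟩ := hOK.spec hH (j := pget H (pget T i)) (pget_lt _ _)
    refine ⟨v, hv, Or.inl ?_⟩
    have e1 : y * x * y⁻¹ = e (pget H (pget T i)) * x := by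
      rw [hie, ← (hx _ (hy' i hi).1).2, ← (hy' i hi).2]; group
    have e2 : e v * y * x * (e v * y)⁻¹ = e v * (y * x * y⁻¹) * (e v)⁻¹ := by group
    have e3 : x * e v = e (pget H v) * x := by rw [← (hx v hv).2]; group
    rw [e2, e1, E.inv hv, mul_assoc (e v), mul_assoc (e (pget H (pget T i))) x, e3, ← mul_assoc, ← mul_assoc,
      E.add v hv _ (pget_lt _ _), E.add _ (Nat.xor_lt_two_pow (n := 6) hv (pget_lt _ _)) _ (pget_lt _ _),
      Nat.xor_assoc, ← hvv, Nat.xor_assoc, Nat.xor_self, Nat.xor_zero, Nat.xor_self, E.zero, one_mul]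
  · have hc : ∀ j < 64, pget H (pget T (pget H j)) = pget T j := fun j hj =>
      beq_iff_eq.1 (List.all_eq_true.1 h j (List.mem_range.2 hj))
    obtain ⟨i, hi, hie⟩ := fin (x * (y * x)) y (hx.mul (hy'.mul hx)) hy' hc
    obtain ⟨-, -, -, v, hv, hvv⟩ := hOK.spec hH (j := pget H (pget H (pget T i))) (pget_lt _ _)
    refine ⟨v, hv, Or.inr ?_⟩
    have e1 : y * x * y⁻¹ = e (pget H (pget H (pget T i))) * x⁻¹ := by
      have e0 : y * x = x⁻¹ * (y * e i) := by rw [← hie]; group
      have hxi : x⁻¹ = x * x := inv_eq_of_mul_eq_one_left (pow_three E hH hx)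
      have h4 : x * x * (y * e i * y⁻¹) * (x * x)⁻¹ = e (pget H (pget H (pget T i))) := by
        rw [(hy' i hi).2]; exact ((hx.mul hx) _ (hy' i hi).1).2
      rw [← h4, e0, hxi]
      group
    have e2 : e v * y * x * (e v * y)⁻¹ = e v * (y * x * y⁻¹) * (e v)⁻¹ := by group
    have e3 : x⁻¹ * e v = e (pget H (pget H v)) * x⁻¹ := by
      have hxi : x⁻¹ = x * x := inv_eq_of_mul_eq_one_left (pow_three E hH hx)
      rw [hxi, ← ((hx.mul hx) v hv).2]; group
    rw [e2, e1, E.inv hv, mul_assoc (e v), mul_assoc (e (pget H (pget H (pget T i)))) x⁻¹, e3, ← mul_assoc,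
      ← mul_assoc, E.add v hv _ (pget_lt _ _),
      E.add _ (Nat.xor_lt_two_pow (n := 6) hv (pget_lt _ _)) _ (pget_lt _ _),
      Nat.xor_assoc, ← hvv, Nat.xor_assoc, Nat.xor_self, Nat.xor_zero, Nat.xor_self, E.zero, one_mul]

/-- Conjugation by `g` permutes the coordinates. -/
def NormU (e : ℕ → G) (g : G) : Prop := ∀ j < 64, ∃ i < 64, g * e j * g⁻¹ = e i

/-- The set `S` is moved into itself by the normaliser. -/
def Pres (e : ℕ → G) (S : ℕ) : Prop :=
  ∀ g : G, NormU e g → ∀ s < 64, S.testBit s = true → ∃ t < 64, S.testBit t = true ∧ g * e s * g⁻¹ = e t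

/-- One more basis vector for a partial linear map. -/
def grow (S k : ℕ) (Ts : List (List ℕ)) : List (List ℕ) :=
  Ts.flatMap fun T => (List.range 64).filterMap fun w =>
    if S.testBit w && (List.range (2 ^ k)).all (fun i => S.testBit (i ^^^ 2 ^ k) == S.testBit (T.getD i 0 ^^^ w))
    then some (T ++ T.map fun x => x ^^^ w) else none

/-- The partial linear maps on the first `2 ^ (n + 1)` coordinates that preserve `S` and send 1 to 4. -/
def tables (S : ℕ) : ℕ → List (List ℕ)
  | 0 => [[0, 4]]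
  | n + 1 => grow S (n + 1) (tables S n)

/-- The data of an orbit is coherent. -/
def kindOK (K : Kind) : Bool :=
  linOK K.g && invOK K.g K.g' && hOK K.h && trivW K.g K.g' [] && letW K.hw &&
    (List.range 64).all (fun j => actW K.g K.g' K.hw j == pget K.h j) &&
    hNorm K.h pAct && hNorm K.h qAct && hNorm K.h K.g &&
    (List.range 6).all (fun k => K.orb.testBit (2 ^ k)) &&
    (tables K.orb 5).all (fun T => K.leaves.any fun l =>
      (List.range 64).all fun j => T.getD j 0 == pget l.1 j) &&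
    K.leaves.all (fun l => letPQ l.2 && letW l.2 &&
      (List.range 64).all fun j => pget l.1 (actW K.g K.g' l.2 j) == pget K.g j)

theorem range_add_xor : ((List.range 6).all fun k => (List.range (2 ^ k)).all fun i => 2 ^ k + i == i ^^^ 2 ^ k) =
    true := by decide +kernel

theorem range_double {σ : ℕ → ℕ} {k : ℕ} (hk : k < 6)
    (h : ∀ i < 2 ^ k, σ (i ^^^ 2 ^ k) = σ i ^^^ σ (2 ^ k)) :
    (List.range (2 ^ (k + 1))).map σ =
      (List.range (2 ^ k)).map σ ++ ((List.range (2 ^ k)).map σ).map fun x => x ^^^ σ (2 ^ k) := by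
  rw [pow_succ, Nat.mul_two, List.range_add, List.map_append, List.map_map, List.map_map]
  refine congrArg _ (List.map_congr_left fun i hi => ?_)
  rw [List.mem_range] at hi
  have := beq_iff_eq.1 (List.all_eq_true.1 (List.all_eq_true.1 range_add_xor k (List.mem_range.2 hk)) i
    (List.mem_range.2 hi))
  rw [Function.comp_apply, Function.comp_apply, this, h i hi]

theorem mem_tables (E : Elem z e) {S : ℕ} (hS : Pres e S) (hb : ∀ k < 6, S.testBit (2 ^ k) = true) {g : G}
    {σ : ℕ → ℕ} (hg : Maps e g σ) (h1 : σ 1 = 4) :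
    ∀ n ≤ 5, (List.range (2 ^ (n + 1))).map σ ∈ tables S n := by
  have hinj : Function.Injective fun i : Fin 64 => (⟨σ i, (hg i i.2).1⟩ : Fin 64) := fun i j h => by
    have h' : σ i = σ j := congrArg Fin.val h
    refine Fin.ext (E.inj i.2 j.2 ?_)
    have := (hg i i.2).2.trans ((congrArg e h').trans (hg j j.2).2.symm)
    simpa using this
  have hsurj := Finite.surjective_of_injective hinj
  have hgn : NormU e g := fun j hj => ⟨σ j, hg j hj⟩
  have hgi : NormU e g⁻¹ := fun j hj => by
    obtain ⟨i, hi⟩ := hsurj ⟨j, hj⟩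
    refine ⟨i, i.2, ?_⟩
    have hi' : σ i = j := congrArg Fin.val hi
    rw [← hi', ← (hg i i.2).2]; group
  have hpres : ∀ j < 64, S.testBit j = S.testBit (σ j) := fun j hj => by
    rw [Bool.eq_iff_iff]
    constructor
    · intro h
      obtain ⟨t, ht, htS, hte⟩ := hS g hgn j hj h
      rwa [E.inj (hg j hj).1 ht ((hg j hj).2.symm.trans hte)]
    · intro h
      obtain ⟨t, ht, htS, hte⟩ := hS g⁻¹ hgi (σ j) (hg j hj).1 h
      rw [← (hg j hj).2] at hte
      have : e j = e t := by rw [← hte]; group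
      rwa [E.inj hj ht this]
  have hlin : ∀ i < 64, ∀ k < 6, σ (i ^^^ 2 ^ k) = σ i ^^^ σ (2 ^ k) := fun i hi k hk => by
    have hk2 : (2 : ℕ) ^ k < 64 := Nat.pow_lt_pow_right (a := 2) (by decide) hk
    have hlt : i ^^^ 2 ^ k < 64 := Nat.xor_lt_two_pow (n := 6) hi hk2
    refine E.inj (hg _ hlt).1 (Nat.xor_lt_two_pow (n := 6) (hg i hi).1 (hg _ hk2).1) ?_
    rw [← (hg _ hlt).2, ← E.add _ (hg i hi).1 _ (hg _ hk2).1, ← (hg i hi).2, ← (hg _ hk2).2, ← E.step i hi k hk]
    group
  have h0 : σ 0 = 0 := by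
    refine E.inj (hg 0 (by decide)).1 (by decide) ?_
    rw [← (hg 0 (by decide)).2, E.zero]; group
  intro n
  induction n with
  | zero => intro _; simp [tables, List.range_succ, h0, h1]
  | succ n ih =>
    intro hn
    have hk : n + 1 < 6 := by omega
    have hk2 : (2 : ℕ) ^ (n + 1) < 64 := Nat.pow_lt_pow_right (a := 2) (by decide) hk
    rw [range_double hk fun i hi => hlin i (by omega) _ hk]
    refine List.mem_flatMap.2 ⟨_, ih (by omega), List.mem_filterMap.2
      ⟨σ (2 ^ (n + 1)), List.mem_range.2 (hg _ hk2).1, if_pos ?_⟩⟩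
    rw [Bool.and_eq_true, List.all_eq_true]
    refine ⟨(hpres _ hk2).symm.trans (hb _ hk), fun i hi => ?_⟩
    rw [List.mem_range] at hi
    rw [List.getD_eq_getElem _ _ (by simpa using hi)]
    simp only [List.getElem_map, List.getElem_range, beq_iff_eq]
    rw [← hlin i (by omega) _ hk]
    exact hpres _ (Nat.xor_lt_two_pow (n := 6) (by omega) hk2)

end Cfsg.Agent.TransvCent.Amalgam
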