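import Cfsg.Agent.Lib.TransvCent.AmalgamBase
import Mathlib.Algebra.BigOperators.Group.List.Lemmas

/-
Words in three elements acting on the coordinates.

* `evK`, `actW` : value and action of a word in the letters `p, p⁻¹, q, q⁻¹, g, g⁻¹`
* `Side` : generators of a complement of the elementary group in its normaliser
-/

set_option autoImplicit false

namespace Cfsg.Agent.TransvCent.Amalgam

variable {G : Type*} [Group G] {z : G}

/-- The packed action of a letter, `g` and `g'` being inverse to each other. -/
def letterAct (g g' a : ℕ) : ℕ := [pAct, pAct, qAct, qActInv, g, g'].getD a 0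

/-- The action of a word. -/
def actW (g g' : ℕ) (w : List ℕ) (v : ℕ) : ℕ := w.foldr (fun a x => pget (letterAct g g' a) x) v

/-- The inverse word. -/
def invW (w : List ℕ) : List ℕ := w.reverse.map fun a => a ^^^ 1

/-- All letters are letters. -/
def letW (w : List ℕ) : Bool := w.all fun a => Nat.blt a 6

/-- A word acting trivially. -/
def trivW (g g' : ℕ) (w : List ℕ) : Bool := letW w && (List.range 64).all fun j => actW g g' w j == j

/-- The value of a letter. -/
def evLet (p q g : G) (a : ℕ) : G := [p, p⁻¹, q, q⁻¹, g, g⁻¹].getD a 1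

/-- The value of a word. -/
def evK (p q g : G) (w : List ℕ) : G := (w.map (evLet p q g)).prod

theorem evK_cons (p q g : G) (a : ℕ) (w : List ℕ) : evK p q g (a :: w) = evLet p q g a * evK p q g w := by
  simp [evK]

theorem evK_append (p q g : G) (v w : List ℕ) : evK p q g (v ++ w) = evK p q g v * evK p q g w := by
  simp [evK]

theorem evLet_flip (p q g : G) {a : ℕ} (ha : a < 6) : evLet p q g (a ^^^ 1) = (evLet p q g a)⁻¹ := by
  rcases a with _ | _ | _ | _ | _ | _ | a
  all_goals first
    | omega
    | simp [evLet, List.getD]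

theorem evK_invW (p q g : G) : ∀ w : List ℕ, letW w = true → evK p q g (invW w) = (evK p q g w)⁻¹
  | [], _ => by simp [evK, invW]
  | a :: w, h => by
    simp only [letW, List.all_cons, Bool.and_eq_true, Nat.blt_eq] at h
    have e : invW (a :: w) = invW w ++ [a ^^^ 1] := by simp [invW]
    rw [e, evK_append, evK_invW p q g w h.2, evK_cons p q g a w, mul_inv_rev]
    simp [evK, evLet_flip p q g h.1]

theorem actW_lt (g g' : ℕ) : ∀ (w : List ℕ) {v : ℕ}, v < 64 → actW g g' w v < 64
  | [], _, h => h
  | _ :: _, _, _ => pget_lt _ _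

/-- Two packed permutations are inverse to each other. -/
def invOK (P P' : ℕ) : Bool :=
  (List.range 64).all fun j => pget P (pget P' j) == j && pget P' (pget P j) == j

theorem check_inv_pq : (invOK pAct pAct && invOK qAct qActInv) = true := by decide +kernel

variable {e : ℕ → G}

theorem maps_inv {x : G} {P P' : ℕ} (hx : Maps e x (pget P)) (h : invOK P P' = true) :
    Maps e x⁻¹ (pget P') :=
  hx.inv fun j hj => by
    have := List.all_eq_true.1 h j (List.mem_range.2 hj)
    rw [Bool.and_eq_true, beq_iff_eq, beq_iff_eq] at this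
    exact ⟨pget_lt _ _, this.1⟩

theorem maps_evK {p q g : G} {P P' : ℕ} (hp : Maps e p (pget pAct)) (hq : Maps e q (pget qAct))
    (hg : Maps e g (pget P)) (hP : invOK P P' = true) :
    ∀ w : List ℕ, letW w = true → Maps e (evK p q g w) (actW P P' w)
  | [], _ => Maps.one
  | a :: w, h => by
    simp only [letW, List.all_cons, Bool.and_eq_true, Nat.blt_eq] at h
    rw [evK_cons]
    have hpq := check_inv_pq
    rw [Bool.and_eq_true] at hpq
    refine Maps.mul (σ := pget (letterAct P P' a)) ?_ (maps_evK hp hq hg hP w h.2)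
    rcases a with _ | _ | _ | _ | _ | _ | a
    · exact hp
    · exact maps_inv hp hpq.1
    · exact hq
    · exact maps_inv hq hpq.2
    · exact hg
    · exact maps_inv hg hP
    · exact absurd h.1 (by omega)

/-- The code of a letter in `p, q`. -/
def codeLet (pc qc a : ℕ) : ℕ := [pc, pc, qc, mul qc (mul qc qc)].getD a 0

/-- The code of a word in `p, q`. -/
def codeW (pc qc : ℕ) (w : List ℕ) : ℕ := w.foldr (fun a x => mul (codeLet pc qc a) x) one

/-- Words in `p, q` only. -/
def letPQ (w : List ℕ) : Bool := w.all fun a => Nat.blt a 4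

/-- Codes for `p` and `q`. -/
def pqOK (pc qc : ℕ) : Bool :=
  isElt pc && isElt qc && isElt (mul qc (mul qc qc)) && mul pc pc == one &&
    mul qc (mul qc (mul qc qc)) == one

theorem code_evK (c : Coding z) {p q : G} (g : G) {pc qc : ℕ} (hok : pqOK pc qc = true)
    (hp : Commute p z ∧ c.f p = pc) (hq : Commute q z ∧ c.f q = qc) :
    ∀ w : List ℕ, letPQ w = true → Commute (evK p q g w) z ∧ c.f (evK p q g w) = codeW pc qc w
  | [], _ => ⟨Commute.one_left z, c.map_one⟩
  | a :: w, h => by
    simp only [pqOK, Bool.and_eq_true, beq_iff_eq] at hok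
    simp only [letPQ, List.all_cons, Bool.and_eq_true, Nat.blt_eq] at h
    obtain ⟨h1, h2⟩ := code_evK c g (by simp [pqOK, hok]) hp hq w h.2
    have hL : Commute (evLet p q g a) z ∧ c.f (evLet p q g a) = codeLet pc qc a := by
      rcases a with _ | _ | _ | _ | a
      · exact hp
      · exact ⟨hp.1.inv_left, c.f_inv hp.1 (mem_of_isElt hok.1.1.1.1) (hp.2.symm ▸ hok.1.2)⟩
      · exact hq
      · exact ⟨hq.1.inv_left, c.f_inv hq.1 (mem_of_isElt hok.1.1.2) (hq.2.symm ▸ hok.2)⟩
      · exact absurd h.1 (by omega)
    rw [evK_cons]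
    refine ⟨hL.1.mul_left h1, ?_⟩
    rw [c.map_mul _ _ hL.1 h1, hL.2, h2]
    rfl

/-- The two orbits with their tables. -/
structure Kind where
  orb : ℕ
  g : ℕ
  g' : ℕ
  h : ℕ
  hw : List ℕ
  leaves : List (ℕ × List ℕ)

/-- The orbit of 21 points. -/
def kind21 : Kind := ⟨orb21, gAct21, gAct21Inv, hAct21, hWord21, leaves21⟩

/-- The orbit of 45 points. -/
def kind45 : Kind := ⟨orb45, gAct45, gAct45Inv, hAct45, hWord45, leaves45⟩

/-- Generators of a complement of the group with coordinates `e` in its normaliser. -/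
structure Side (c : Coding z) (e : ℕ → G) (pc qc : ℕ) (K : Kind) where
  p : G
  q : G
  g : G
  hp : Commute p z ∧ c.f p = pc
  hq : Commute q z ∧ c.f q = qc
  maps_p : Maps e p (pget pAct)
  maps_q : Maps e q (pget qAct)
  maps_g : Maps e g (pget K.g)
  inv_g : invOK K.g K.g' = true
  triv : ∀ w, trivW K.g K.g' w = true → evK p q g w = 1

variable {c : Coding z} {pc qc : ℕ} {K : Kind}

/-- The value of a word on a side. -/
def Side.ev (S : Side c e pc qc K) (w : List ℕ) : G := evK S.p S.q S.g w

theorem Side.maps (S : Side c e pc qc K) {w : List ℕ} (h : letW w = true) :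
    Maps e (S.ev w) (actW K.g K.g' w) :=
  maps_evK S.maps_p S.maps_q S.maps_g S.inv_g w h

theorem Side.eq_of_same (S : Side c e pc qc K) {v w : List ℕ} (hw : letW w = true)
    (h : trivW K.g K.g' (v ++ invW w) = true) : S.ev v = S.ev w := by
  have := S.triv _ h
  rw [evK_append, evK_invW _ _ _ _ hw, mul_inv_eq_one] at this
  exact this

end Cfsg.Agent.TransvCent.Amalgam
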