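import Mathlib.Data.Nat.Bitwise
import Mathlib.Data.List.Range

/-
Codes for the centraliser of a transvection in `SL(5,2)`: a group of order `21504`.

The matrix `[[1, c, u], [0, 1, 0], [0, f, M]]` has the code
`c + 2 u + 16 f + 128 M₀ + 1024 M₁ + 8192 M₂` with three bit rows.

* `pack`, `mul` : codes and their product
* `elts` : the list of the codes of the group
-/

set_option autoImplicit false

namespace Cfsg.Agent.TransvCent

/-- The code with the given fields. -/
def pack (c u f r0 r1 r2 : ℕ) : ℕ := c + 2 * u + 16 * f + 128 * r0 + 1024 * r1 + 8192 * r2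

/-- The three bit field at bit `k`. -/
def fld (d k : ℕ) : ℕ := (d >>> k) &&& 7

/-- The parity of a three bit word. -/
def par (x : ℕ) : ℕ := (150 >>> x) &&& 1

/-- The sum of the rows selected by the three bit word `r`. -/
def sel (r a b c : ℕ) : ℕ :=
  ((r &&& 1) * a) ^^^ (((r >>> 1) &&& 1) * b) ^^^ (((r >>> 2) &&& 1) * c)

/-- The product of two codes. -/
def mul (d e : ℕ) : ℕ :=
  let r0 := fld e 7; let r1 := fld e 10; let r2 := fld e 13; let f := fld e 4; let u := fld d 1
  pack (((d &&& 1) ^^^ (e &&& 1)) ^^^ par (u &&& f))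
    (fld e 1 ^^^ sel u r0 r1 r2)
    (fld d 4 ^^^ (par (fld d 7 &&& f) + 2 * par (fld d 10 &&& f) + 4 * par (fld d 13 &&& f)))
    (sel (fld d 7) r0 r1 r2) (sel (fld d 10) r0 r1 r2) (sel (fld d 13) r0 r1 r2)

/-- The code of the identity. -/
def one : ℕ := pack 0 0 0 1 2 4

/-- The code of the transvection itself. -/
def zc : ℕ := pack 1 0 0 1 2 4

/-- The codes of the Levi factor `GL(3,2)`. -/
def levi : List ℕ :=
  (List.range 8).flatMap fun r2 => (List.range 8).flatMap fun r1 =>
    (List.range 8).filterMap fun r0 =>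
      if r0 != 0 && r1 != 0 && r0 != r1 && r2 != 0 && r2 != r0 && r2 != r1 && r2 != (r0 ^^^ r1)
      then some (pack 0 0 0 r0 r1 r2) else none

/-- The codes of the centraliser. -/
def elts : List ℕ := levi.flatMap fun m => (List.range 128).map fun q => m + q

end Cfsg.Agent.TransvCent
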