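import Cfsg.Agent.Lib.TransvCent.Data

/-
Kernel checks on the coded centraliser of a transvection.

* `check_elts`, `check_one`, `check_centre` : the group
* `check_classes` : every involution lies in one of the eight classes
* `check_roots_Cq`, `check_roots_F` : square roots in the centralisers of two representatives
-/

set_option autoImplicit false

namespace Cfsg.Agent.TransvCent

/-- The coded elements commute. -/
def comm (a b : ℕ) : Bool := mul a b == mul b a

/-- The coded element is an involution. -/
def isInv (x : ℕ) : Bool := mul x x == one && x != one

/-- The number of square roots of `y` commuting with `x`. -/
def roots (y x : ℕ) : ℕ := elts.countP fun a => mul a a == y && comm a x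

/-- The order of the centraliser of `x`. -/
def cnum (x : ℕ) : ℕ := elts.countP fun a => comm a x

/-- Each entry is a conjugate of a later one or of `r`. -/
def derived (r : ℕ) : List (ℕ × ℕ × ℕ) → Bool
  | [] => true
  | (x, p, k) :: rest =>
    (match gens[k]? with
      | some g => p == mul g (mul x g)
      | none => false) &&
    (p == r || (rest.map Prod.fst).contains p) && derived r rest

/-- The list is strictly increasing. -/
def incr : List ℕ → Bool
  | [] => true
  | [_] => true
  | a :: b :: l => Nat.blt a b && incr (b :: l)

/-- The members of the class of `r` with the chain `L`. -/
def members (r : ℕ) (L : List (ℕ × ℕ × ℕ)) : List ℕ := r :: L.map Prod.fst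

theorem check_elts : elts.length = 21504 ∧ one ∈ elts ∧ zc ∈ elts ∧ zc ≠ one := by decide +kernel

theorem check_incr : incr elts = true := by decide +kernel

theorem check_gens : gens.all (fun g => elts.contains g && mul g g == one) = true := by decide +kernel

theorem check_one : elts.all (fun d => mul d d != d || d == one) = true := by decide +kernel

theorem check_centre :
    elts.all (fun d => !(gens.all fun g => comm d g) || d == one || d == zc) = true := by decide +kernel

theorem check_derived :
    (derived repA chainA && derived repB chainB && derived repD chainD && derived repCq chainCq &&
      derived repH1 chainH1 && derived repH2 chainH2 && derived repF chainF) = true := by decide +kernel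

theorem check_classes :
    elts.all (fun d => !isInv d || d == zc || (members repA chainA).contains d ||
      (members repB chainB).contains d || (members repD chainD).contains d ||
      (members repCq chainCq).contains d || (members repH1 chainH1).contains d ||
      (members repH2 chainH2).contains d || (members repF chainF).contains d) = true := by
  decide +kernel

end Cfsg.Agent.TransvCent
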