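import Cfsg.Agent.Lib.TransvCent.CompleteDef
import Cfsg.Agent.Lib.CosetEnum.Index
import Cfsg.Agent.Lib.HeInvCent.Q

/-
The presented groups of the completions and their orders.

* `ampSetup rels` : the group presented on four letters
* `xy_card_le` : the subgroup of the first two letters has at most 21504 elements
* `completes_of_index` : a bounded subgroup of small index gives a completion
* `completes_of_bound` : a table on the cosets of a bounded subgroup gives a completion
* `completes_of_table` : the same for the subgroup of the first two letters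
-/

set_option autoImplicit false

namespace Cfsg.Agent.TransvCent

open Cfsg.Agent.CosetEnum

/-- A letter as a signed generator. -/
def letGen (a : Nat) : Fin 4 × Bool := (Fin.ofNat 4 (a / 2), a % 2 == 0)

/-- A word as an element of the free group. -/
def wordFG (w : List Nat) : FreeGroup (Fin 4) := FreeGroup.mk (w.map letGen)

theorem lift_wordFG {G : Type*} [Group G] (f : Fin 4 → G) (w : List Nat) :
    FreeGroup.lift f (wordFG w) = evW f w := by
  rw [wordFG, FreeGroup.lift_mk, List.map_map, evW]
  congr 1
  refine List.map_congr_left fun a _ => ?_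
  simp only [Function.comp_apply, letGen, evL]
  rcases Nat.mod_two_eq_zero_or_one a with h | h <;> simp [h, Fin.ofNat]

/-- The presented group as a setup. -/
def ampSetup (rels : List (List Nat)) : Setup (Fin 4) where
  edges := []
  extra := rels.map wordFG
  gens := List.finRange 4
  pos := [0, 2, 4, 6]
  lt := (List.finRange 4).flatMap fun g => [(g, true), (g, false)]

/-- The letters. -/
def ampLetters : Data := letterData 8 [1, 0, 3, 2, 5, 4, 7, 6]

theorem ampSetup_gens (rels : List (List Nat)) : ∀ x, x ∈ (ampSetup rels).gens :=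
  fun x => List.mem_finRange x

/-- The relators of the group of the first two letters, as words. -/
def xyWords : List (List Nat) := [
  [0, 0, 0, 0, 0, 0, 0],
  [2, 2, 2],
  [2, 0, 2, 0, 2, 0, 2, 0],
  [2, 0, 0, 2, 0, 0, 0, 2, 0, 0, 2, 0, 0, 0],
  [2, 1, 2, 1, 2, 0, 0, 2, 1, 2, 1, 2, 0, 0],
  [2, 1, 3, 0, 3, 0, 0, 2, 1, 3, 0, 3, 0, 0]]

/-- The first two letters. -/
def xyGen : HeInvCent.QGen → Fin 4
  | .x => 0
  | .y => 1

theorem xyWords_eq : HeInvCent.qRels.map (fun r => FreeGroup.map xyGen r) = xyWords.map wordFG := by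
  decide +kernel

/-- The generators of the subgroup. -/
def xyHs : List (FreeGroup (Fin 4)) := [FreeGroup.of 0, FreeGroup.of 1]

theorem exists_xyHom {rels : List (List Nat)} (h6 : xyWords.all (fun w => rels.contains w) = true) :
    ∃ ψ : HeInvCent.qSetup.G →* (ampSetup rels).G,
      ψ (PresentedGroup.of .x) = PresentedGroup.of 0 ∧ ψ (PresentedGroup.of .y) = PresentedGroup.of 1 := by
  let m : FreeGroup (Fin 4) →* (ampSetup rels).G := PresentedGroup.mk (ampSetup rels).rels
  have hrel : ∀ r ∈ HeInvCent.qSetup.rels,
      FreeGroup.lift (fun a => m (FreeGroup.of (xyGen a))) r = 1 := by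
    intro r hr
    have hr' : r ∈ HeInvCent.qRels := by
      rcases hr with ⟨x₀, hx, _⟩ | h
      · simp [HeInvCent.qSetup, Cfsg.Spor.coxNodes] at hx
      · exact h
    have hm : FreeGroup.map xyGen r ∈ xyWords.map wordFG :=
      xyWords_eq ▸ List.mem_map.mpr ⟨r, hr', rfl⟩
    obtain ⟨w, hw, he⟩ := List.mem_map.mp hm
    have hw' : w ∈ rels := by simpa using List.all_eq_true.mp h6 w hw
    have e : FreeGroup.lift (fun a => m (FreeGroup.of (xyGen a))) r = m (FreeGroup.map xyGen r) :=
      DFunLike.congr_fun (FreeGroup.ext_hom (f := FreeGroup.lift fun a => m (FreeGroup.of (xyGen a)))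
        (g := m.comp (FreeGroup.map xyGen)) fun i => by simp) r
    rw [e, ← he]
    exact PresentedGroup.one_of_mem (Or.inr (List.mem_map.mpr ⟨w, hw', rfl⟩))
  exact ⟨PresentedGroup.toGroup hrel, PresentedGroup.toGroup.of hrel, PresentedGroup.toGroup.of hrel⟩

theorem xy_card_le {rels : List (List Nat)} (h6 : xyWords.all (fun w => rels.contains w) = true) :
    Nat.card ((ampSetup rels).closureOf xyHs) ≤ 21504 ∧
      Nat.card ((ampSetup rels).closureOf xyHs) ≠ 0 := by
  obtain ⟨ψ, hx, hy⟩ := exists_xyHom h6
  obtain ⟨hle, hne⟩ := HeInvCent.qCard_le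
  have : Finite HeInvCent.qSetup.G := Nat.finite_of_card_ne_zero hne
  have hsub : (ampSetup rels).closureOf xyHs ≤ ψ.range := by
    rw [Setup.closureOf, Subgroup.closure_le]
    rintro _ ⟨h, hh, rfl⟩
    rcases List.mem_cons.mp hh with rfl | hh
    · exact ⟨PresentedGroup.of .x, hx⟩
    · rw [List.mem_singleton] at hh
      subst hh
      exact ⟨PresentedGroup.of .y, hy⟩
  have : Finite ψ.range := Finite.of_surjective _ ψ.rangeRestrict_surjective
  have : Finite ((ampSetup rels).closureOf xyHs) :=
    Finite.of_injective _ (Subgroup.inclusion_injective hsub)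
  refine ⟨?_, Nat.card_pos.ne'⟩
  calc Nat.card ((ampSetup rels).closureOf xyHs) ≤ Nat.card ψ.range :=
        Nat.card_le_card_of_injective _ (Subgroup.inclusion_injective hsub)
    _ ≤ Nat.card HeInvCent.qSetup.G := Nat.card_le_card_of_surjective _ ψ.rangeRestrict_surjective
    _ ≤ 21504 := hle

/-- A bounded subgroup of small index gives a completion. -/
theorem completes_of_index.{u} {T : Type} [Group T] [Finite T] [IsSimpleGroup T] {t : Fin 4 → T}
    {rels : List (List Nat)} {hs : List (FreeGroup (Fin 4))} {n c : ℕ}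
    (hidx : ((ampSetup rels).closureOf hs).index ≤ n ∧ ((ampSetup rels).closureOf hs).index ≠ 0)
    (hH : Nat.card ((ampSetup rels).closureOf hs) ≤ c ∧ Nat.card ((ampSetup rels).closureOf hs) ≠ 0)
    (hcard : n * c ≤ Nat.card T) (ht : SatRels rels t)
    (htop : Subgroup.closure (Set.range t) = ⊤) :
    Completes.{u} T t rels := by
  refine ⟨htop, fun G _ f hf hf0 => ?_⟩
  have hom : ∀ {H : Type u} [Group H] (g : Fin 4 → H), SatRels rels g →
      ∀ r ∈ (ampSetup rels).rels, FreeGroup.lift g r = 1 := by
    intro H _ g hg r hr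
    rcases hr with ⟨x, hx, _⟩ | h
    · simp [ampSetup, Cfsg.Spor.coxNodes] at hx
    · obtain ⟨w, hw, rfl⟩ := List.mem_map.mp h
      rw [lift_wordFG]
      exact hg w hw
  have homT : ∀ r ∈ (ampSetup rels).rels, FreeGroup.lift t r = 1 := by
    intro r hr
    rcases hr with ⟨x, hx, _⟩ | h
    · simp [ampSetup, Cfsg.Spor.coxNodes] at hx
    · obtain ⟨w, hw, rfl⟩ := List.mem_map.mp h
      rw [lift_wordFG]
      exact ht w hw
  let σ : (ampSetup rels).G →* T := PresentedGroup.toGroup homT
  let φ : (ampSetup rels).G →* G := PresentedGroup.toGroup (hom f hf)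
  have hσof : ∀ i, σ (PresentedGroup.of i) = t i := fun i => PresentedGroup.toGroup.of homT
  have hφof : ∀ i, φ (PresentedGroup.of i) = f i := fun i => PresentedGroup.toGroup.of (hom f hf)
  have hsurj : Function.Surjective σ := by
    rw [← MonoidHom.range_eq_top, eq_top_iff, ← htop, Subgroup.closure_le]
    rintro _ ⟨i, rfl⟩
    exact ⟨_, hσof i⟩
  have hP : Nat.card (ampSetup rels).G ≤ n * c := by
    rw [← Subgroup.card_mul_index ((ampSetup rels).closureOf hs), mul_comm n c]
    exact Nat.mul_le_mul hH.1 hidx.1
  have hP0 : Nat.card (ampSetup rels).G ≠ 0 := by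
    rw [← Subgroup.card_mul_index ((ampSetup rels).closureOf hs)]
    exact mul_ne_zero hH.2 hidx.2
  have : Finite (ampSetup rels).G := Nat.finite_of_card_ne_zero hP0
  have hge := Nat.card_le_card_of_surjective σ hsurj
  have hb : Function.Bijective σ :=
    (Nat.bijective_iff_surjective_and_card σ).mpr ⟨hsurj, by omega⟩
  let e := MulEquiv.ofBijective σ hb
  have : Nontrivial (ampSetup rels).G := e.toEquiv.nontrivial
  have : IsSimpleGroup (ampSetup rels).G :=
    IsSimpleGroup.isSimpleGroup_of_surjective e.symm.toMonoidHom e.symm.surjective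
  have hinj : Function.Injective φ := by
    rcases (φ.normal_ker).eq_bot_or_eq_top with h | h
    · exact φ.ker_eq_bot_iff.mp h
    · exact absurd ((hφof 0).symm.trans (MonoidHom.mem_ker.mp (h ▸ Subgroup.mem_top _))) hf0
  refine ⟨φ.comp e.symm.toMonoidHom, hinj.comp e.symm.injective, ?_, fun i => ?_⟩
  · rw [MonoidHom.range_comp, MonoidHom.range_eq_top.mpr e.symm.surjective,
      ← PresentedGroup.closure_range_of, MonoidHom.map_closure, ← Set.range_comp]
    congr 2
    funext i
    exact hφof i
  · show φ (e.symm (t i)) = f i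
    rw [← hφof i]
    congr 1
    exact e.injective (by rw [MulEquiv.apply_symm_apply]; exact (hσof i).symm)

/-- A table on the cosets of a bounded subgroup gives a completion. -/
theorem completes_of_bound.{u} {T : Type} [Group T] [Finite T] [IsSimpleGroup T] {t : Fin 4 → T}
    {rels : List (List Nat)} {D : Data} {hs : List (FreeGroup (Fin 4))} {c : ℕ}
    (hD : Setup.Table (ampSetup rels) D hs)
    (hH : Nat.card ((ampSetup rels).closureOf hs) ≤ c ∧ Nat.card ((ampSetup rels).closureOf hs) ≠ 0)
    (hcard : D.n * c ≤ Nat.card T) (hn : 0 < D.n) (ht : SatRels rels t)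
    (htop : Subgroup.closure (Set.range t) = ⊤) :
    Completes.{u} T t rels :=
  completes_of_index ⟨hD.index.le, hD.index ▸ hn.ne'⟩ hH hcard ht htop

/-- A table on the cosets of the subgroup of the first two letters gives a completion. -/
theorem completes_of_table.{u} {T : Type} [Group T] [Finite T] [IsSimpleGroup T] {t : Fin 4 → T}
    {rels : List (List Nat)} {D : Data} (hD : Setup.Table (ampSetup rels) D xyHs)
    (h6 : xyWords.all (fun w => rels.contains w) = true) (hcard : D.n * 21504 ≤ Nat.card T)
    (hn : 0 < D.n) (ht : SatRels rels t) (htop : Subgroup.closure (Set.range t) = ⊤) :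
    Completes.{u} T t rels :=
  completes_of_bound hD (xy_card_le h6) hcard hn ht htop

end Cfsg.Agent.TransvCent
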