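import Cfsg.Agent.Lib.TransvCent.CompleteHeX
import Cfsg.Agent.Lib.CosetEnum.Index

/-
Tables over a presentation with more letters.

* `extOK` : every relator of the larger presentation holds in the presented group of the completion
* `ext_index` : a table of the larger presentation bounds the index in the presented group
-/

set_option autoImplicit false

namespace Cfsg.Agent.TransvCent

open Cfsg.Agent.CosetEnum

variable {m : ℕ}

/-- The word of a signed letter. -/
def imgS (img : List (List Nat)) (p : Fin m × Bool) : List Nat :=
  bif p.2 then img.getD p.1.val [] else winvW (img.getD p.1.val [])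

/-- The word of a word. -/
def imgW (img : List (List Nat)) (w : List (Fin m × Bool)) : List Nat := w.flatMap (imgS img)

/-- A word in the first two letters fixes the five basis vectors. -/
def basisOK (e : List Nat) : Bool :=
  e.all (fun a => Nat.blt a 4) && (List.range 5).all fun j => Nat.beq (appL5 e (2 ^ j)) (2 ^ j)

theorem pairOK_of_basisOK {e : List Nat} (h : basisOK e = true) : xPairOK (e, []) = true := by
  simp only [basisOK, Bool.and_eq_true, List.all_eq_true (p := fun j => Nat.beq _ _), List.mem_range,
    Nat.beq_eq] at h
  obtain ⟨hl, hj⟩ := h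
  have hdec : ∀ j : Fin 5, HeInvCent.decode ⟨2 ^ j.val, by revert j; decide⟩ = Pi.single j 1 := by
    decide +kernel
  have h1 : evW tL5 e = 1 := by
    refine Subtype.ext (Matrix.ext fun r c => ?_)
    have hv : HeInvCent.slFun (evW tL5 e) ⟨2 ^ c.val, by revert c; decide⟩
        = ⟨2 ^ c.val, by revert c; decide⟩ :=
      Fin.ext ((slFun_evW e _).trans (hj c.val c.isLt))
    have h3 := congrArg HeInvCent.decode hv
    rw [HeInvCent.slFun, HeInvCent.decode_code, hdec, Matrix.mulVec_single_one] at h3
    have h4 := congrFun h3 r
    simpa [Matrix.one_apply, Pi.single_apply] using h4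
  simp only [xPairOK, Bool.or_eq_true, Bool.and_eq_true]
  refine Or.inr ⟨hl, List.all_nil, List.all_eq_true.mpr fun v hv => ?_⟩
  have hv' : v < 32 := List.mem_range.mp hv
  have := slFun_evW e ⟨v, hv'⟩
  rw [h1, HeInvCent.slFun_one] at this
  exact Nat.beq_eq ▸ this.symm

/-- A word holds by the first two letters, or by a rewriting into a relator. -/
def relOK (rels : List (List Nat)) (cases : List (List (List Nat × List Nat))) (e : List Nat) : Bool :=
  basisOK e || cases.any fun c => (c.map Prod.fst).flatten == e &&
    (([] :: rels).contains (c.map Prod.snd).flatten && c.all xPairOK)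

/-- The relators from `lo` on, `k` of them, hold. -/
def extOK (S : Setup (Fin m)) (rels : List (List Nat)) (img : List (List Nat))
    (cases : List (List (List Nat × List Nat))) (lo k : ℕ) : Bool :=
  ((S.allRels.drop lo).take k).all fun r => relOK rels cases (imgW img r.toWord)

theorem extOK_append {S : Setup (Fin m)} {rels img : List (List Nat)}
    {cases : List (List (List Nat × List Nat))} {lo k k' : ℕ} (h₁ : extOK S rels img cases lo k = true)
    (h₂ : extOK S rels img cases (lo + k) k' = true) : extOK S rels img cases lo (k + k') = true := by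
  unfold extOK at *
  rw [List.take_add, List.all_append, h₁, List.drop_drop, h₂, Bool.and_self]

/-- The image of a generator is a product of the chosen words. -/
def genOK (img ws : List (List Nat)) (j : Fin m) (c : List (List Nat × List Nat)) : Bool :=
  (c.map Prod.fst).flatten == img.getD j.val [] && c.all fun p => xPairOK p && ws.contains p.2

theorem evW_pieces {rels : List (List Nat)} (h6 : xyWords.all (fun w => rels.contains w) = true) :
    ∀ l : List (List Nat × List Nat), l.all xPairOK = true →
      evW (G := (ampSetup rels).G) PresentedGroup.of (l.map Prod.fst).flatten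
        = evW PresentedGroup.of (l.map Prod.snd).flatten
  | [], _ => rfl
  | p :: l, hl => by
    rw [List.all_cons, Bool.and_eq_true] at hl
    rw [List.map_cons, List.map_cons, List.flatten_cons, List.flatten_cons, evW_append, evW_append,
      evW_xy h6 hl.1, evW_pieces h6 l hl.2]

/-- The value of a word of the free group is the class of that word. -/
theorem mk_wordFG (rels : List (List Nat)) (w : List Nat) :
    evW (G := (ampSetup rels).G) PresentedGroup.of w = PresentedGroup.mk (ampSetup rels).rels (wordFG w) := by
  rw [← lift_wordFG]
  exact DFunLike.congr_fun (FreeGroup.ext_hom (FreeGroup.lift PresentedGroup.of)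
    (PresentedGroup.mk (ampSetup rels).rels) fun i => by rw [FreeGroup.lift_apply_of]; rfl) _

theorem evW_rel {rels : List (List Nat)} {w : List Nat} (hw : w ∈ [] :: rels) :
    evW (G := (ampSetup rels).G) PresentedGroup.of w = 1 := by
  rcases List.mem_cons.mp hw with rfl | hw
  · rfl
  · rw [mk_wordFG]
    exact PresentedGroup.one_of_mem (Or.inr (List.mem_map.mpr ⟨_, hw, rfl⟩))

/-- A table of the larger presentation bounds the index in the presented group. -/
theorem ext_index {rels : List (List Nat)} (h6 : xyWords.all (fun w => rels.contains w) = true)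
    {S : Setup (Fin m)} {D : Data} {js : List (Fin m)}
    (hD : Setup.Table S D (js.map FreeGroup.of)) (hn : 0 < D.n)
    {img ws : List (List Nat)} {cases : List (List (List Nat × List Nat))}
    {k : ℕ} (hk : S.allRels.length ≤ k) (hok : extOK S rels img cases 0 k = true)
    (hsurj : ∀ i : Fin 4, ∃ j : Fin m, img.getD j.val [] = [2 * i.val])
    {gc : List (List (List Nat × List Nat))} (hgen : js.all (fun j => gc.any (genOK img ws j)) = true)
    {hs : List (FreeGroup (Fin 4))}
    (hws : ∀ w ∈ ws, PresentedGroup.mk (ampSetup rels).rels (wordFG w) ∈ (ampSetup rels).closureOf hs) :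
    ((ampSetup rels).closureOf hs).index ≤ D.n ∧ ((ampSetup rels).closureOf hs).index ≠ 0 := by
  let g : Fin m → (ampSetup rels).G := fun j => evW PresentedGroup.of (img.getD j.val [])
  have hlift : ∀ w : List (Fin m × Bool), FreeGroup.lift g (FreeGroup.mk w)
      = evW PresentedGroup.of (imgW img w) := by
    intro w
    induction w with
    | nil => rw [FreeGroup.lift_mk]; rfl
    | cons a w ih =>
      rw [imgW, List.flatMap_cons, evW_append, ← imgW, ← ih, FreeGroup.lift_mk, FreeGroup.lift_mk,
        List.map_cons, List.prod_cons]
      congr 1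
      obtain ⟨j, b⟩ := a
      cases b <;> simp [imgS, g, evW_winvW]
  have hrel : ∀ r ∈ S.rels, FreeGroup.lift g r = 1 := by
    intro r hr
    have h := List.all_eq_true.mp hok r (by
      rw [List.drop_zero, List.take_of_length_le hk]; exact S.mem_allRels hr)
    rw [← FreeGroup.mk_toWord (x := r), hlift]
    simp only [relOK, Bool.or_eq_true, List.any_eq_true, Bool.and_eq_true, beq_iff_eq,
      List.contains_iff_mem] at h
    rcases h with h | ⟨c, -, e1, e2, e3⟩
    · rw [evW_xy h6 (pairOK_of_basisOK h)]; rfl
    · rw [← e1, evW_pieces h6 c e3, evW_rel e2]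
  let π : S.G →* (ampSetup rels).G := PresentedGroup.toGroup hrel
  have hπ : ∀ j, π (PresentedGroup.of j) = g j := fun j => PresentedGroup.toGroup.of hrel
  have hsur : Function.Surjective π := by
    rw [← MonoidHom.range_eq_top, eq_top_iff, ← PresentedGroup.closure_range_of, Subgroup.closure_le]
    rintro _ ⟨i, rfl⟩
    obtain ⟨j, hj⟩ := hsurj i
    refine ⟨PresentedGroup.of j, (hπ j).trans ?_⟩
    show evW PresentedGroup.of (img.getD j.val []) = _
    rw [hj]
    simp only [evW, evL, List.map_cons, List.map_nil, List.prod_singleton, Nat.mul_mod_right, if_true, Fin.ofNat]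
    congr 1
    exact Fin.ext (by simp)
  have hle : (S.closureOf (js.map FreeGroup.of)).map π ≤ (ampSetup rels).closureOf hs := by
    rw [Subgroup.map_le_iff_le_comap, Setup.closureOf, Subgroup.closure_le]
    rintro _ ⟨h, hh, rfl⟩
    obtain ⟨j, hj, rfl⟩ := List.mem_map.mp hh
    obtain ⟨c, -, hc⟩ := List.any_eq_true.mp (List.all_eq_true.mp hgen j hj)
    simp only [genOK, Bool.and_eq_true, beq_iff_eq, List.all_eq_true, List.contains_iff_mem] at hc
    show π (PresentedGroup.of j) ∈ (ampSetup rels).closureOf hs
    rw [hπ j]
    show evW PresentedGroup.of (img.getD j.val []) ∈ _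
    rw [← hc.1, evW_pieces h6 c (List.all_eq_true.mpr fun p hp => (hc.2 p hp).1)]
    have key : ∀ l : List (List Nat × List Nat), (∀ p ∈ l, p.2 ∈ ws) →
        evW (G := (ampSetup rels).G) PresentedGroup.of (l.map Prod.snd).flatten
          ∈ (ampSetup rels).closureOf hs := by
      intro l
      induction l with
      | nil => intro _; exact one_mem _
      | cons p l ih =>
        intro hl
        rw [List.map_cons, List.flatten_cons, evW_append]
        refine mul_mem ?_ (ih fun q hq => hl q (List.mem_cons_of_mem _ hq))
        rw [mk_wordFG]
        exact hws _ (hl p List.mem_cons_self)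
    exact key c fun p hp => (hc.2 p hp).2
  have hdvd : ((ampSetup rels).closureOf hs).index ∣ D.n := by
    rw [← hD.index]
    exact (Subgroup.index_dvd_of_le hle).trans (Subgroup.index_map_dvd _ hsur)
  exact ⟨Nat.le_of_dvd hn hdvd, ne_zero_of_dvd_ne_zero hn.ne' hdvd⟩

end Cfsg.Agent.TransvCent
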