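import Cfsg.Agent.Lib.TransvCent.HeModelDef

/-
The model of the completion in the Held group.

* `exists_hom`, `exists_rho_short` : the faithful representation
* `he_ev_eq` : two words with one image vector have one value
* `tHe_short` : short words for the generators
* `satRels_tHe`, `closure_tHe`, `isSimpleGroup_he`, `card_he`, `finite_he`
-/

set_option autoImplicit false
set_option maxRecDepth 100000

namespace Cfsg.Agent.TransvCent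

open Cfsg.Agent.CosetEnum Cfsg.Agent.CosetEnum.Data

/-- The faithful representation on words in the seven involutions. -/
theorem exists_hom : ∃ ρ : heSetup.G →* Equiv.Perm (Fin he2058.n), Function.Injective ρ ∧
    ∀ l : List ℕ, (∀ a ∈ l, a < 7) → ∀ i : Fin he2058.n,
      (ρ (ev heSetup.el l) i : ℕ) = lane he2058.B (he2058.trace l) i := by
  have T := Cfsg.Agent.S1683.table
  have hch := he2058_chain_check
  simp only [Bool.and_eq_true] at hch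
  obtain ⟨-, hinj⟩ := Setup.card_eq_of_bounds T.gens T.letters T.perm T.rels he2058_chain hch.1 he_card_le
    (CosetEnum.beq_iff.mp hch.2)
  refine ⟨Setup.hom T.gens T.letters T.perm T.rels, hinj, fun l hl i => ?_⟩
  have hk : ∀ a ∈ l, a < he2058.k := hl
  have hev : ∀ l : List ℕ, (∀ a ∈ l, a < he2058.k) →
      Setup.hom T.gens T.letters T.perm T.rels (ev heSetup.el l) = ev (Setup.perm he2058 T.perm) l := by
    intro l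
    induction l with
    | nil => intro _; simp [ev]
    | cons a l ih =>
      intro h
      rw [show ev heSetup.el (a :: l) = ev heSetup.el l * heSetup.el a from rfl, map_mul,
        ih fun b hb => h b (List.mem_cons_of_mem a hb), Setup.hom_el _ _ _ _ (h a List.mem_cons_self)]
      rfl
  rw [hev _ hk, Setup.ev_perm T.perm _ hk]
  have hlg := T.perm.hlg
  rw [Data.trace_eq T.perm _ hk, lane_pack T.perm.hB
    (fun j hj => self_lt_two_pow_of_lt (by omega) (Data.tw_lt T.perm _ hk j hj))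
    (lt_of_lt_of_le i.2 T.perm.hnN)]

/-- Two words with the same image vector have the same value. -/
theorem he_ev_eq {u v : List ℕ} (hu : ∀ a ∈ u, a < 7) (hv : ∀ a ∈ v, a < 7)
    (h : he2058.trace u = he2058.trace v) : ev heSetup.el u = ev heSetup.el v := by
  obtain ⟨ρ, hinj, hρ⟩ := exists_hom
  exact hinj (Equiv.ext fun i => Fin.ext (by rw [hρ u hu, hρ v hv, h]))

/-- Short words in the seven involutions for the four generators. -/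
def shortHe : List (List ℕ) := [
  [6, 3, 2, 3, 6, 5, 3, 2, 1, 4, 3, 5],
  [6, 3, 2, 1, 4, 5, 3, 4, 6, 3, 2, 3, 5, 6, 3, 5, 6, 1, 0],
  [2, 3, 2, 3, 6, 3, 2, 1, 3, 2, 3, 5, 3, 2, 3, 1, 2, 3, 6, 2, 3, 2],
  [2, 3, 6, 5, 3, 2, 1, 3, 2, 5, 3, 2, 4, 3, 5, 2, 3, 1, 2, 3, 5, 3, 6, 3, 2]]

theorem shortHe_trace : ((List.range 4).all fun i => Nat.beq (he2058.trace (shortHe.getD i []).reverse)
    (he2058.trace (wordsHe.getD i []).reverse) && (shortHe.getD i []).all fun a => Nat.blt a 7) = true := by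
  decide +kernel

theorem shortHe_lt (i : Fin 4) : ∀ a ∈ shortHe.getD i.val [], a < 7 := fun a ha =>
  Nat.blt_eq.mp (List.all_eq_true.1 (Bool.and_eq_true_iff.1
    (List.all_eq_true.1 shortHe_trace i.val (List.mem_range.2 i.2))).2 a ha)

theorem tHe_short (i : Fin 4) : tHe i = ev heSetup.el (shortHe.getD i.val []).reverse :=
  (he_ev_eq (fun a ha => shortHe_lt i a (List.mem_reverse.1 ha))
    (fun a ha => wordsHe_lt i.val a (List.mem_reverse.1 ha)) (CosetEnum.beq_iff.mp (Bool.and_eq_true_iff.1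
      (List.all_eq_true.1 shortHe_trace i.val (List.mem_range.2 i.2))).1)).symm

/-- The short word of a letter. -/
def shortL (a : ℕ) : List ℕ :=
  if a % 2 = 0 then shortHe.getD (Fin.ofNat 4 (a / 2)).val []
  else (shortHe.getD (Fin.ofNat 4 (a / 2)).val []).reverse

/-- The short word of a word, in the order of application. -/
def shortW (w : List ℕ) : List ℕ := (w.flatMap shortL).reverse

theorem shortW_lt (w : List ℕ) : ∀ a ∈ shortW w, a < 7 := by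
  intro a ha
  rw [shortW, List.mem_reverse, List.mem_flatMap] at ha
  obtain ⟨b, -, hb⟩ := ha
  unfold shortL at hb
  split at hb
  · exact shortHe_lt _ a hb
  · exact shortHe_lt _ a (List.mem_reverse.1 hb)

theorem evL_short (a : ℕ) : evL tHe a = ev heSetup.el (shortL a).reverse := by
  unfold evL shortL
  rw [tHe_short]
  split
  · rfl
  · rw [List.reverse_reverse]
    exact inv_eq_of_mul_eq_one_left (ev_mul_reverse _ (shortHe_lt _))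

theorem evW_short : ∀ w : List ℕ, evW tHe w = ev heSetup.el (shortW w)
  | [] => by simp [evW, shortW, ev]
  | a :: w => by
    rw [show evW tHe (a :: w) = evL tHe a * evW tHe w by simp [evW], evW_short w, evL_short]
    simp [shortW, List.flatMap_cons, List.reverse_append, ev_append]

/-- The faithful representation, read off the short words. -/
theorem exists_rho_short : ∃ ρ : heSetup.G →* Equiv.Perm (Fin he2058.n), Function.Injective ρ ∧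
    ∀ w (i : Fin he2058.n), (ρ (evW tHe w) i : ℕ) = lane he2058.B (he2058.trace (shortW w)) i := by
  obtain ⟨ρ, hinj, hρ⟩ := exists_hom
  exact ⟨ρ, hinj, fun w i => by rw [evW_short]; exact hρ _ (shortW_lt w) i⟩

/-- The value of a word prefix and one chunk more is the value of a short word. -/
noncomputable def segOK (p c s : List ℕ) : Bool :=
  p.all (fun a => Nat.blt a 7) && s.all (fun a => Nat.blt a 7) &&
    Nat.beq (he2058.trace (shortW c ++ p)) (he2058.trace s)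

theorem evW_seg {u p c s : List ℕ} (h : segOK p c s = true) (hu : evW tHe u = ev heSetup.el p) :
    evW tHe (u ++ c) = ev heSetup.el s := by
  simp only [segOK, Bool.and_eq_true, List.all_eq_true, Nat.blt_eq] at h
  rw [show evW tHe (u ++ c) = evW tHe u * evW tHe c by simp [evW], hu, evW_short, ← ev_append]
  exact he_ev_eq (fun a ha => (List.mem_append.1 ha).elim (shortW_lt c a) (h.1.1 a))
    h.1.2 (CosetEnum.beq_iff.mp h.2)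

theorem evW_seg_nil : evW tHe [] = ev heSetup.el [] := rfl

theorem evW_of_eq {u v : List ℕ} (e : v = u) (h : evW tHe u = ev heSetup.el []) : evW tHe v = 1 := e ▸ h

theorem relHe0_0 :
    segOK [] [0, 0, 0, 0, 0, 0, 0]
      [] = true := by decide +kernel

theorem relHe0 : evW tHe (relsHe.getD 0 []) = 1 :=
  (evW_of_eq (by decide +kernel) (evW_seg relHe0_0 evW_seg_nil))

theorem relHe1_0 :
    segOK [] [2, 2, 2]
      [] = true := by decide +kernel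

theorem relHe1 : evW tHe (relsHe.getD 1 []) = 1 :=
  (evW_of_eq (by decide +kernel) (evW_seg relHe1_0 evW_seg_nil))

theorem relHe2_0 :
    segOK [] [2, 0, 2, 0, 2, 0, 2, 0]
      [] = true := by decide +kernel

theorem relHe2 : evW tHe (relsHe.getD 2 []) = 1 :=
  (evW_of_eq (by decide +kernel) (evW_seg relHe2_0 evW_seg_nil))

theorem relHe3_0 :
    segOK [] [2, 0, 0, 2, 0, 0, 0, 2, 0, 0, 2, 0, 0, 0]
      [] = true := by decide +kernel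

theorem relHe3 : evW tHe (relsHe.getD 3 []) = 1 :=
  (evW_of_eq (by decide +kernel) (evW_seg relHe3_0 evW_seg_nil))

theorem relHe4_0 :
    segOK [] [2, 1, 2, 1, 2, 0, 0, 2, 1, 2, 1, 2, 0, 0]
      [] = true := by decide +kernel

theorem relHe4 : evW tHe (relsHe.getD 4 []) = 1 :=
  (evW_of_eq (by decide +kernel) (evW_seg relHe4_0 evW_seg_nil))

theorem relHe5_0 :
    segOK [] [2, 1, 3, 0, 3, 0, 0, 2, 1, 3, 0, 3, 0, 0]
      [] = true := by decide +kernel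

theorem relHe5 : evW tHe (relsHe.getD 5 []) = 1 :=
  (evW_of_eq (by decide +kernel) (evW_seg relHe5_0 evW_seg_nil))

theorem relHe6_0 :
    segOK [] [4, 4, 4]
      [] = true := by decide +kernel

theorem relHe6 : evW tHe (relsHe.getD 6 []) = 1 :=
  (evW_of_eq (by decide +kernel) (evW_seg relHe6_0 evW_seg_nil))

theorem relHe7_0 :
    segOK [] [1, 1, 3, 0, 2, 1, 2, 0, 3, 1, 1, 1, 3]
      [2, 3, 2, 5, 3, 2, 3, 2, 4, 6, 3, 2, 3, 5, 3, 1, 2, 3, 6, 4, 3, 2, 3, 4, 1] = true := by decide +kernel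

theorem relHe7_1 :
    segOK [2, 3, 2, 5, 3, 2, 3, 2, 4, 6, 3, 2, 3, 5, 3, 1, 2, 3, 6, 4, 3, 2, 3, 4, 1] [0, 2, 1, 2, 0, 3, 1, 1, 1, 3, 0, 2, 1]
      [5, 6, 3, 2, 3, 6, 5, 2, 3, 2, 3, 1, 2, 3, 5, 6, 3, 5, 4] = true := by decide +kernel

theorem relHe7_2 :
    segOK [5, 6, 3, 2, 3, 6, 5, 2, 3, 2, 3, 1, 2, 3, 5, 6, 3, 5, 4] [2, 0, 3, 1, 1, 1, 3, 0, 2, 1, 2, 0, 3, 1]
      [] = true := by decide +kernel

theorem relHe7 : evW tHe (relsHe.getD 7 []) = 1 :=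
  (evW_of_eq (by decide +kernel) (evW_seg relHe7_2 (evW_seg relHe7_1 (evW_seg relHe7_0 evW_seg_nil))))

theorem relHe8_0 :
    segOK [] [1, 1, 3, 0, 3, 1, 1, 2, 0, 3, 1, 3, 4]
      [4, 3, 2, 1, 6, 3, 5, 3, 2, 3, 2, 5, 4, 3, 1, 2, 3, 2, 3, 6, 3, 2, 1, 0, 1] = true := by decide +kernel

theorem relHe8_1 :
    segOK [4, 3, 2, 1, 6, 3, 5, 3, 2, 3, 2, 5, 4, 3, 1, 2, 3, 2, 3, 6, 3, 2, 1, 0, 1] [2, 0, 2, 1, 3, 0, 0, 2, 1, 2, 0, 0, 4]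
      [1, 0, 1, 2, 3, 6, 3, 2, 3, 2, 1, 3, 5, 4, 2, 3, 2, 3, 5, 3, 6, 1, 2, 3, 4] = true := by decide +kernel

theorem relHe8_2 :
    segOK [1, 0, 1, 2, 3, 6, 3, 2, 3, 2, 1, 3, 5, 4, 2, 3, 2, 3, 5, 3, 6, 1, 2, 3, 4] [2, 0, 2, 1, 3, 0, 0, 2, 1, 2, 0, 0, 4]
      [] = true := by decide +kernel

theorem relHe8 : evW tHe (relsHe.getD 8 []) = 1 :=
  (evW_of_eq (by decide +kernel) (evW_seg relHe8_2 (evW_seg relHe8_1 (evW_seg relHe8_0 evW_seg_nil))))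

theorem relHe9_0 :
    segOK [] [1, 1, 3, 0, 3, 1, 1, 2, 0, 3, 1, 3, 4, 1, 1, 3]
      [0, 1, 4, 3, 2, 1, 3, 2, 6, 3, 2, 1, 3, 6, 2, 3, 1, 2, 3, 1, 2, 3, 6, 1, 2, 1] = true := by decide +kernel

theorem relHe9_1 :
    segOK [0, 1, 4, 3, 2, 1, 3, 2, 6, 3, 2, 1, 3, 6, 2, 3, 1, 2, 3, 1, 2, 3, 6, 1, 2, 1] [0, 2, 1, 2, 0, 3, 1, 5, 2, 0, 2, 1, 3, 0, 0, 2]
      [1, 5, 6, 3, 2, 3, 2, 1, 4, 3, 5, 3, 2, 3, 6, 5, 3, 1, 2, 3, 6, 2, 0, 1, 0] = true := by decide +kernel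

theorem relHe9_2 :
    segOK [1, 5, 6, 3, 2, 3, 2, 1, 4, 3, 5, 3, 2, 3, 6, 5, 3, 1, 2, 3, 6, 2, 0, 1, 0] [1, 2, 0, 0, 4, 1, 1, 3, 0, 2, 1, 2, 0, 3, 1, 5]
      [] = true := by decide +kernel

theorem relHe9 : evW tHe (relsHe.getD 9 []) = 1 :=
  (evW_of_eq (by decide +kernel) (evW_seg relHe9_2 (evW_seg relHe9_1 (evW_seg relHe9_0 evW_seg_nil))))

theorem relHe10_0 :
    segOK [] [1, 1, 3, 0, 3, 1, 1, 2, 0, 3, 1, 3, 0, 2, 1, 3]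
      [0, 1, 4, 3, 2, 3, 4, 5, 3, 2, 1, 6, 3, 2, 3, 5, 4, 3, 2, 3, 6, 1, 2, 3, 5, 0] = true := by decide +kernel

theorem relHe10_1 :
    segOK [0, 1, 4, 3, 2, 3, 4, 5, 3, 2, 1, 6, 3, 2, 3, 5, 4, 3, 2, 3, 6, 1, 2, 3, 5, 0] [0, 3, 1, 2, 0, 0, 5, 0, 2, 1, 3, 0, 3, 1, 2]
      [0, 4, 5, 3, 2, 4, 3, 2, 1, 5, 3, 2, 1, 6, 3, 5, 4, 3, 2, 3, 6, 3, 0, 1, 2, 3, 5] = true := by decide +kernel

theorem relHe10_2 :
    segOK [0, 4, 5, 3, 2, 4, 3, 2, 1, 5, 3, 2, 1, 6, 3, 5, 4, 3, 2, 3, 6, 3, 0, 1, 2, 3, 5] [0, 0, 4, 2, 0, 2, 1, 3, 0, 0, 2, 2, 1, 2, 0]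
      [5, 3, 2, 1, 3, 4, 5, 3, 2, 6, 3, 2, 1, 5, 3, 2, 3, 1, 2, 3, 5, 3, 1, 2, 3, 4, 0, 1] = true := by decide +kernel

theorem relHe10_3 :
    segOK [5, 3, 2, 1, 3, 4, 5, 3, 2, 6, 3, 2, 1, 5, 3, 2, 3, 1, 2, 3, 5, 3, 1, 2, 3, 4, 0, 1] [3, 1, 4, 1, 1, 3, 0, 2, 1, 2, 0, 3, 1, 4]
      [] = true := by decide +kernel

theorem relHe10 : evW tHe (relsHe.getD 10 []) = 1 :=
  (evW_of_eq (by decide +kernel) (evW_seg relHe10_3 (evW_seg relHe10_2 (evW_seg relHe10_1 (evW_seg relHe10_0 evW_seg_nil)))))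

theorem relHe11_0 :
    segOK [] [4, 0, 0, 2, 0, 3, 0, 2, 0, 0, 2, 0, 3]
      [4, 5, 3, 4, 6, 3, 2, 1, 3, 2, 3, 5, 2, 3, 1, 2, 3, 6, 4, 3, 2, 3, 6, 3] = true := by decide +kernel

theorem relHe11_1 :
    segOK [4, 5, 3, 4, 6, 3, 2, 1, 3, 2, 3, 5, 2, 3, 1, 2, 3, 6, 4, 3, 2, 3, 6, 3] [0, 2, 5, 3, 1, 2, 1, 1, 3, 0, 0, 3, 0]
      [] = true := by decide +kernel

theorem relHe11 : evW tHe (relsHe.getD 11 []) = 1 :=
  (evW_of_eq (by decide +kernel) (evW_seg relHe11_1 (evW_seg relHe11_0 evW_seg_nil)))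

theorem relHe12_0 :
    segOK [] [4, 1, 1, 2, 1, 1, 3, 1, 2, 1, 1, 3, 0]
      [0, 4, 3, 2, 1, 3, 2, 3, 5, 3, 2, 3, 6, 1, 2, 3, 2, 3, 6, 3, 2, 3, 4, 3] = true := by decide +kernel

theorem relHe12_1 :
    segOK [0, 4, 3, 2, 1, 3, 2, 3, 5, 3, 2, 3, 6, 1, 2, 3, 2, 3, 6, 3, 2, 3, 4, 3] [5, 3, 1, 3, 0, 3, 1, 2, 1, 3, 0, 0, 0]
      [] = true := by decide +kernel

theorem relHe12 : evW tHe (relsHe.getD 12 []) = 1 :=
  (evW_of_eq (by decide +kernel) (evW_seg relHe12_1 (evW_seg relHe12_0 evW_seg_nil)))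

theorem relHe13_0 :
    segOK [] [4, 1, 2, 1, 1, 2, 0, 0, 3, 0, 2]
      [0, 3, 4, 3, 2, 1, 3, 2, 1, 3, 5, 3, 6, 2, 3, 1, 2, 3, 6, 3, 2, 3, 4] = true := by decide +kernel

theorem relHe13_1 :
    segOK [0, 3, 4, 3, 2, 1, 3, 2, 1, 3, 5, 3, 6, 2, 3, 1, 2, 3, 6, 3, 2, 3, 4] [5, 3, 1, 2, 0, 0, 3, 1, 1, 1, 2, 1]
      [] = true := by decide +kernel

theorem relHe13 : evW tHe (relsHe.getD 13 []) = 1 :=
  (evW_of_eq (by decide +kernel) (evW_seg relHe13_1 (evW_seg relHe13_0 evW_seg_nil)))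

theorem relHe14_0 :
    segOK [] [4, 0, 2, 1, 2, 0, 3, 0, 2, 1, 3, 0]
      [0, 1, 5, 3, 2, 1, 0, 6, 3, 2, 5, 3, 2, 3, 6, 1, 2, 3, 5, 6, 3, 2, 3, 6, 3, 0, 1] = true := by decide +kernel

theorem relHe14_1 :
    segOK [0, 1, 5, 3, 2, 1, 0, 6, 3, 2, 5, 3, 2, 3, 6, 1, 2, 3, 5, 6, 3, 2, 3, 6, 3, 0, 1] [3, 5, 3, 0, 2, 1, 1, 2, 1, 1, 1, 2]
      [] = true := by decide +kernel

theorem relHe14 : evW tHe (relsHe.getD 14 []) = 1 :=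
  (evW_of_eq (by decide +kernel) (evW_seg relHe14_1 (evW_seg relHe14_0 evW_seg_nil)))

theorem relHe15_0 :
    segOK [] [4, 1, 1, 1, 2, 0, 3, 0, 2, 1, 2, 0]
      [4, 3, 6, 5, 3, 2, 6, 3, 2, 1, 3, 4, 2, 3, 2, 3, 1, 2, 3, 6, 1, 2, 3, 1] = true := by decide +kernel

theorem relHe15_1 :
    segOK [4, 3, 6, 5, 3, 2, 6, 3, 2, 1, 3, 4, 2, 3, 2, 3, 1, 2, 3, 6, 1, 2, 3, 1] [2, 5, 1, 1, 2, 1, 3, 0, 3, 1, 1, 1]
      [] = true := by decide +kernel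

theorem relHe15 : evW tHe (relsHe.getD 15 []) = 1 :=
  (evW_of_eq (by decide +kernel) (evW_seg relHe15_1 (evW_seg relHe15_0 evW_seg_nil)))

theorem relHe16_0 :
    segOK [] [4, 0, 2, 0, 2, 1, 2, 1, 3, 1, 1, 3]
      [3, 2, 3, 6, 3, 2, 3, 2, 1, 3, 4, 3, 2, 3, 5, 3, 2, 3, 1, 2, 3, 4, 3] = true := by decide +kernel

theorem relHe16_1 :
    segOK [3, 2, 3, 6, 3, 2, 3, 2, 1, 3, 4, 3, 2, 3, 5, 3, 2, 3, 1, 2, 3, 4, 3] [5, 3, 0, 3, 1, 3, 0, 2, 0, 0, 3]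
      [] = true := by decide +kernel

theorem relHe16 : evW tHe (relsHe.getD 16 []) = 1 :=
  (evW_of_eq (by decide +kernel) (evW_seg relHe16_1 (evW_seg relHe16_0 evW_seg_nil)))

theorem relHe17_0 :
    segOK [] [6, 6, 6]
      [] = true := by decide +kernel

theorem relHe17 : evW tHe (relsHe.getD 17 []) = 1 :=
  (evW_of_eq (by decide +kernel) (evW_seg relHe17_0 evW_seg_nil))

theorem relHe18_0 :
    segOK [] [3, 0, 0, 3, 0, 2, 1, 1, 1, 3, 3, 0, 0]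
      [0, 1, 4, 3, 2, 1, 3, 4, 6, 3, 2, 1, 4, 3, 6, 5, 3, 2, 3, 5, 4, 3, 1, 2, 3, 4, 1] = true := by decide +kernel

theorem relHe18_1 :
    segOK [0, 1, 4, 3, 2, 1, 3, 4, 6, 3, 2, 1, 4, 3, 6, 5, 3, 2, 3, 5, 4, 3, 1, 2, 3, 4, 1] [3, 0, 2, 1, 1, 1, 3, 3, 0, 0, 3, 0, 2]
      [0, 5, 3, 2, 3, 5, 6, 3, 2, 1, 3, 2, 3, 2, 3, 5, 6, 3, 2, 3, 6, 5, 1, 0] = true := by decide +kernel

theorem relHe18_2 :
    segOK [0, 5, 3, 2, 3, 5, 6, 3, 2, 1, 3, 2, 3, 2, 3, 5, 6, 3, 2, 3, 6, 5, 1, 0] [1, 1, 1, 3, 3, 0, 0, 3, 0, 2, 1, 1, 1, 3]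
      [] = true := by decide +kernel

theorem relHe18 : evW tHe (relsHe.getD 18 []) = 1 :=
  (evW_of_eq (by decide +kernel) (evW_seg relHe18_2 (evW_seg relHe18_1 (evW_seg relHe18_0 evW_seg_nil))))

theorem relHe19_0 :
    segOK [] [0, 2, 0, 2, 1, 2, 0, 0, 6, 1, 1, 3, 0, 3]
      [0, 2, 3, 2, 1, 0, 4, 6, 3, 2, 1, 3, 5, 6, 3, 2, 3, 1, 2, 3, 5, 4, 1, 2, 0] = true := by decide +kernel

theorem relHe19_1 :
    segOK [0, 2, 3, 2, 1, 0, 4, 6, 3, 2, 1, 3, 5, 6, 3, 2, 3, 1, 2, 3, 5, 4, 1, 2, 0] [1, 3, 1, 6, 1, 1, 3, 0, 3, 1, 3, 1, 6]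
      [] = true := by decide +kernel

theorem relHe19 : evW tHe (relsHe.getD 19 []) = 1 :=
  (evW_of_eq (by decide +kernel) (evW_seg relHe19_1 (evW_seg relHe19_0 evW_seg_nil)))

theorem relHe20_0 :
    segOK [] [0, 2, 0, 2, 1, 2, 0, 0, 6, 1, 3, 0, 0, 3, 0]
      [1, 6, 5, 3, 2, 3, 6, 3, 5, 3, 4, 2, 3, 1, 2, 3, 2, 3, 1, 2, 3, 5, 2, 3] = true := by decide +kernel

theorem relHe20_1 :
    segOK [1, 6, 5, 3, 2, 3, 6, 3, 5, 3, 4, 2, 3, 1, 2, 3, 2, 3, 1, 2, 3, 5, 2, 3] [2, 1, 1, 1, 3, 0, 7, 1, 1, 3, 0, 3, 1, 3, 1]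
      [3, 4, 3, 2, 3, 6, 3, 2, 1, 4, 3, 2, 3, 6, 2, 3, 1, 2, 3, 6, 2, 3, 2, 3, 2] = true := by decide +kernel

theorem relHe20_2 :
    segOK [3, 4, 3, 2, 3, 6, 3, 2, 1, 4, 3, 2, 3, 6, 2, 3, 1, 2, 3, 6, 2, 3, 2, 3, 2] [6, 1, 3, 0, 0, 3, 0, 2, 1, 1, 1, 3, 0, 7]
      [] = true := by decide +kernel

theorem relHe20 : evW tHe (relsHe.getD 20 []) = 1 :=
  (evW_of_eq (by decide +kernel) (evW_seg relHe20_2 (evW_seg relHe20_1 (evW_seg relHe20_0 evW_seg_nil))))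

theorem relHe21_0 :
    segOK [] [0, 2, 0, 2, 1, 2, 0, 2, 0, 0, 0, 3, 1, 2, 1, 1, 2]
      [0, 5, 3, 2, 3, 4, 5, 3, 2, 1, 6, 5, 3, 4, 2, 3, 2, 3, 6, 3, 2, 3, 2, 1] = true := by decide +kernel

theorem relHe21_1 :
    segOK [0, 5, 3, 2, 3, 4, 5, 3, 2, 1, 6, 5, 3, 4, 2, 3, 2, 3, 6, 3, 2, 3, 2, 1] [0, 7, 1, 2, 0, 0, 0, 3, 1, 2, 1, 1, 2, 0, 6, 1]
      [1, 6, 3, 4, 5, 3, 2, 1, 3, 2, 3, 2, 5, 3, 2, 3, 1, 2, 3, 2, 3, 6, 3, 5, 2, 3] = true := by decide +kernel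

theorem relHe21_2 :
    segOK [1, 6, 3, 4, 5, 3, 2, 1, 3, 2, 3, 2, 5, 3, 2, 3, 1, 2, 3, 2, 3, 6, 3, 5, 2, 3] [1, 3, 0, 3, 1, 3, 1, 1, 3, 0, 0, 3, 0, 2, 1, 1, 1]
      [1, 3, 2, 5, 3, 2, 1, 3, 4, 6, 3, 2, 5, 3, 1, 2, 3, 1, 2, 3, 6, 5, 3, 1, 2, 3] = true := by decide +kernel

theorem relHe21_3 :
    segOK [1, 3, 2, 5, 3, 2, 1, 3, 4, 6, 3, 2, 5, 3, 1, 2, 3, 1, 2, 3, 6, 5, 3, 1, 2, 3] [3, 0, 6, 1, 3, 0, 0, 3, 0, 2, 1, 1, 1, 3, 0, 6]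
      [] = true := by decide +kernel

theorem relHe21 : evW tHe (relsHe.getD 21 []) = 1 :=
  (evW_of_eq (by decide +kernel) (evW_seg relHe21_3 (evW_seg relHe21_2 (evW_seg relHe21_1 (evW_seg relHe21_0 evW_seg_nil)))))

theorem relHe22_0 :
    segOK [] [6, 0, 0, 2, 0, 3, 0, 2, 0, 0, 2, 0]
      [2, 3, 6, 3, 2, 1, 3, 2, 1, 3, 2, 1, 5, 3, 2, 3, 1, 2, 3, 4, 1, 2, 3, 5, 4, 2, 3] = true := by decide +kernel

theorem relHe22_1 :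
    segOK [2, 3, 6, 3, 2, 1, 3, 2, 1, 3, 2, 1, 5, 3, 2, 3, 1, 2, 3, 4, 1, 2, 3, 5, 4, 2, 3] [3, 0, 2, 7, 3, 0, 3, 1, 1, 2, 1, 3]
      [] = true := by decide +kernel

theorem relHe22 : evW tHe (relsHe.getD 22 []) = 1 :=
  (evW_of_eq (by decide +kernel) (evW_seg relHe22_1 (evW_seg relHe22_0 evW_seg_nil)))

theorem relHe23_0 :
    segOK [] [6, 0, 2, 0, 2, 1, 2, 1, 3, 1, 1, 3]
      [0, 3, 4, 3, 2, 1, 3, 2, 3, 6, 3, 2, 3, 4, 3, 1, 2, 3, 1, 2, 3, 5, 3, 2, 1, 0] = true := by decide +kernel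

theorem relHe23_1 :
    segOK [0, 3, 4, 3, 2, 1, 3, 2, 3, 6, 3, 2, 3, 4, 3, 1, 2, 3, 1, 2, 3, 5, 3, 2, 1, 0] [7, 2, 1, 1, 3, 1, 2, 1, 1, 3, 1]
      [] = true := by decide +kernel

theorem relHe23 : evW tHe (relsHe.getD 23 []) = 1 :=
  (evW_of_eq (by decide +kernel) (evW_seg relHe23_1 (evW_seg relHe23_0 evW_seg_nil)))

theorem relHe24_0 :
    segOK [] [6, 2, 0, 3, 0, 0, 2, 1, 2]
      [1, 3, 2, 3, 5, 3, 2, 1, 3, 2, 3, 4, 1, 2, 3, 6, 3, 2, 3, 1, 2, 3, 4] = true := by decide +kernel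

theorem relHe24_1 :
    segOK [1, 3, 2, 3, 5, 3, 2, 1, 3, 2, 3, 4, 1, 2, 3, 6, 3, 2, 3, 1, 2, 3, 4] [7, 2, 1, 3, 0, 3, 0, 0]
      [] = true := by decide +kernel

theorem relHe24 : evW tHe (relsHe.getD 24 []) = 1 :=
  (evW_of_eq (by decide +kernel) (evW_seg relHe24_1 (evW_seg relHe24_0 evW_seg_nil)))

theorem relHe25_0 :
    segOK [] [6, 3, 0, 2, 1, 3, 0, 0, 3, 1, 3, 0, 2]
      [0, 3, 2, 5, 3, 2, 1, 3, 6, 3, 2, 5, 3, 2, 3, 5, 2, 3, 6, 3, 1, 2, 3, 5, 2] = true := by decide +kernel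

theorem relHe25_1 :
    segOK [0, 3, 2, 5, 3, 2, 1, 3, 6, 3, 2, 5, 3, 2, 3, 5, 2, 3, 6, 3, 1, 2, 3, 5, 2] [7, 1, 3, 1, 2, 0, 3, 0, 3, 0, 2, 1, 1, 1]
      [] = true := by decide +kernel

theorem relHe25 : evW tHe (relsHe.getD 25 []) = 1 :=
  (evW_of_eq (by decide +kernel) (evW_seg relHe25_1 (evW_seg relHe25_0 evW_seg_nil)))

theorem relHe26_0 :
    segOK [] [6, 0, 2, 0, 0, 3, 0, 2, 0, 0, 3]
      [1, 3, 2, 3, 5, 3, 2, 1, 3, 2, 1, 3, 4, 3, 2, 3, 6, 3, 2, 3, 1, 2, 3, 4, 3] = true := by decide +kernel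

theorem relHe26_1 :
    segOK [1, 3, 2, 3, 5, 3, 2, 1, 3, 2, 1, 3, 4, 3, 2, 3, 6, 3, 2, 3, 1, 2, 3, 4, 3] [7, 1, 3, 1, 1, 2, 1, 2, 0, 0]
      [] = true := by decide +kernel

theorem relHe26 : evW tHe (relsHe.getD 26 []) = 1 :=
  (evW_of_eq (by decide +kernel) (evW_seg relHe26_1 (evW_seg relHe26_0 evW_seg_nil)))

theorem relHe27_0 :
    segOK [] [6, 2, 1, 2, 1, 1, 3, 1, 2, 1, 1, 2]
      [1, 0, 4, 3, 2, 1, 3, 6, 3, 2, 3, 5, 1, 2, 3, 1, 2, 3, 5, 3, 6, 2, 1] = true := by decide +kernel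

theorem relHe27_1 :
    segOK [1, 0, 4, 3, 2, 1, 3, 6, 3, 2, 3, 5, 1, 2, 3, 1, 2, 3, 5, 3, 6, 2, 1] [7, 2, 1, 1, 2, 1, 3, 0, 0, 3, 1]
      [] = true := by decide +kernel

theorem relHe27 : evW tHe (relsHe.getD 27 []) = 1 :=
  (evW_of_eq (by decide +kernel) (evW_seg relHe27_1 (evW_seg relHe27_0 evW_seg_nil)))

theorem relHe28_0 :
    segOK [] [4, 1, 1, 3, 0, 2, 1, 2, 0, 3, 1, 1, 1, 3, 0]
      [6, 3, 2, 1, 3, 5, 6, 3, 2, 3, 2, 1, 4, 5, 3, 6, 5, 2, 3, 4, 1, 2, 3, 6, 3, 4, 2] = true := by decide +kernel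

theorem relHe28_1 :
    segOK [6, 3, 2, 1, 3, 5, 6, 3, 2, 3, 2, 1, 4, 5, 3, 6, 5, 2, 3, 4, 1, 2, 3, 6, 3, 4, 2] [3, 1, 1, 2, 0, 3, 1, 3, 1, 1, 3, 0, 2, 1, 2]
      [1, 0, 1, 4, 3, 2, 3, 6, 3, 2, 1, 3, 6, 5, 2, 3, 1, 2, 3, 5, 3, 1, 2, 3, 4] = true := by decide +kernel

theorem relHe28_2 :
    segOK [1, 0, 1, 4, 3, 2, 3, 6, 3, 2, 1, 3, 6, 5, 2, 3, 1, 2, 3, 5, 3, 1, 2, 3, 4] [0, 3, 1, 1, 1, 3, 0, 3, 1, 1, 2, 0, 3, 1, 3, 1]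
      [0, 5, 3, 2, 1, 0, 4, 3, 2, 6, 3, 2, 1, 3, 5, 4, 2, 3, 6, 4, 3, 2, 3, 1, 2, 3, 2] = true := by decide +kernel

theorem relHe28_3 :
    segOK [0, 5, 3, 2, 1, 0, 4, 3, 2, 6, 3, 2, 1, 3, 5, 4, 2, 3, 6, 4, 3, 2, 3, 1, 2, 3, 2] [1, 3, 0, 2, 1, 2, 0, 3, 1, 5, 1, 3, 0, 0, 3]
      [4, 5, 3, 6, 5, 3, 2, 4, 3, 1, 2, 3, 6, 2, 3, 2, 3, 4, 1, 0, 1] = true := by decide +kernel

theorem relHe28_4 :
    segOK [4, 5, 3, 6, 5, 3, 2, 4, 3, 1, 2, 3, 6, 2, 3, 2, 3, 4, 1, 0, 1] [0, 2, 1, 1, 1, 3, 0, 6, 1, 2, 0, 0, 0, 3, 1, 2]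
      [6, 3, 2, 1, 3, 2, 1, 4, 3, 2, 1, 3, 2, 3, 4, 1, 2, 3, 6, 2, 3, 1, 2, 3, 4] = true := by decide +kernel

theorem relHe28_5 :
    segOK [6, 3, 2, 1, 3, 2, 1, 4, 3, 2, 1, 3, 2, 3, 4, 1, 2, 3, 6, 2, 3, 1, 2, 3, 4] [1, 1, 2, 2, 0, 0, 0, 3, 1, 2, 1, 1, 2, 0, 7]
      [1, 6, 3, 2, 1, 4, 3, 6, 5, 3, 2, 3, 5, 1, 2, 3, 2, 3, 6, 3, 2, 3, 2, 1] = true := by decide +kernel

theorem relHe28_6 :
    segOK [1, 6, 3, 2, 1, 4, 3, 6, 5, 3, 2, 3, 5, 1, 2, 3, 2, 3, 6, 3, 2, 3, 2, 1] [1, 1, 3, 0, 3, 1, 3, 1, 1, 2, 0, 0, 0, 3, 1, 2]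
      [1, 4, 3, 2, 1, 5, 3, 2, 3, 6, 3, 2, 3, 2, 3, 6, 3, 4, 2, 1] = true := by decide +kernel

theorem relHe28_7 :
    segOK [1, 4, 3, 2, 1, 5, 3, 2, 3, 6, 3, 2, 3, 2, 3, 6, 3, 4, 2, 1] [1, 1, 2, 2, 0, 0, 0, 2, 1, 2, 0, 3, 0, 2, 1]
      [] = true := by decide +kernel

theorem relHe28 : evW tHe (relsHe.getD 28 []) = 1 :=
  (evW_of_eq (by decide +kernel) (evW_seg relHe28_7 (evW_seg relHe28_6 (evW_seg relHe28_5 (evW_seg relHe28_4 (evW_seg relHe28_3 (evW_seg relHe28_2 (evW_seg relHe28_1 (evW_seg relHe28_0 evW_seg_nil)))))))))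

theorem relHe29_0 :
    segOK [] [3, 0, 3, 1, 1, 2, 0, 3, 1, 3, 0, 2, 1, 3]
      [2, 3, 4, 3, 6, 3, 5, 2, 3, 6, 4, 3, 2, 3, 6, 5, 1] = true := by decide +kernel

theorem relHe29_1 :
    segOK [2, 3, 4, 3, 6, 3, 5, 2, 3, 6, 4, 3, 2, 3, 6, 5, 1] [0, 3, 3, 1, 1, 2, 0, 3, 1, 3, 0, 2, 1, 3]
      [0, 5, 3, 2, 1, 6, 5, 3, 2, 3, 4, 5, 3, 2, 3, 6, 1, 2, 3, 5, 4, 3, 2, 3, 4, 0] = true := by decide +kernel

theorem relHe29_2 :
    segOK [0, 5, 3, 2, 1, 6, 5, 3, 2, 3, 4, 5, 3, 2, 3, 6, 1, 2, 3, 5, 4, 3, 2, 3, 4, 0] [0, 3, 1, 2, 0, 0, 4, 1, 1, 3, 0, 2, 1, 2]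
      [0, 1, 4, 3, 2, 6, 3, 2, 1, 0, 5, 3, 4, 2, 3, 2, 3, 1, 2, 3, 2, 3, 5, 3, 1] = true := by decide +kernel

theorem relHe29_3 :
    segOK [0, 1, 4, 3, 2, 6, 3, 2, 1, 0, 5, 3, 4, 2, 3, 2, 3, 1, 2, 3, 2, 3, 5, 3, 1] [0, 3, 1, 1, 3, 0, 0, 3, 0, 2, 1, 1, 1, 3, 0]
      [0, 1, 0, 4, 3, 2, 1, 3, 6, 3, 2, 3, 2, 5, 3, 1, 2, 3, 6, 2, 3, 2, 3, 6, 4, 3, 5] = true := by decide +kernel

theorem relHe29_4 :
    segOK [0, 1, 0, 4, 3, 2, 1, 3, 6, 3, 2, 3, 2, 5, 3, 1, 2, 3, 6, 2, 3, 2, 3, 6, 4, 3, 5] [6, 1, 2, 0, 0, 0, 3, 1, 2, 1, 1, 2, 1, 3]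
      [0, 1, 4, 3, 2, 3, 4, 1, 2, 3, 2, 3, 6, 3, 2, 3, 2, 0] = true := by decide +kernel

theorem relHe29_5 :
    segOK [0, 1, 4, 3, 2, 3, 4, 1, 2, 3, 2, 3, 6, 3, 2, 3, 2, 0] [0, 3, 1, 3, 1, 1, 3, 0, 0, 3, 0, 2, 1, 1, 1]
      [2, 1, 5, 3, 0, 1, 2, 3, 5, 2, 3, 2, 3, 5, 4, 2] = true := by decide +kernel

theorem relHe29_6 :
    segOK [2, 1, 5, 3, 0, 1, 2, 3, 5, 2, 3, 2, 3, 5, 4, 2] [3, 1, 3, 0, 3, 1, 3, 1, 1, 1, 3, 0, 2, 0, 3]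
      [] = true := by decide +kernel

theorem relHe29 : evW tHe (relsHe.getD 29 []) = 1 :=
  (evW_of_eq (by decide +kernel) (evW_seg relHe29_6 (evW_seg relHe29_5 (evW_seg relHe29_4 (evW_seg relHe29_3 (evW_seg relHe29_2 (evW_seg relHe29_1 (evW_seg relHe29_0 evW_seg_nil))))))))

theorem satRels_tHe : SatRels relsHe tHe := by
  intro w hw
  obtain ⟨i, hi, rfl⟩ := List.getElem_of_mem hw
  rw [← List.getD_eq_getElem relsHe [] hi]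
  match i, hi with
  | 0, _ => exact relHe0
  | 1, _ => exact relHe1
  | 2, _ => exact relHe2
  | 3, _ => exact relHe3
  | 4, _ => exact relHe4
  | 5, _ => exact relHe5
  | 6, _ => exact relHe6
  | 7, _ => exact relHe7
  | 8, _ => exact relHe8
  | 9, _ => exact relHe9
  | 10, _ => exact relHe10
  | 11, _ => exact relHe11
  | 12, _ => exact relHe12
  | 13, _ => exact relHe13
  | 14, _ => exact relHe14
  | 15, _ => exact relHe15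
  | 16, _ => exact relHe16
  | 17, _ => exact relHe17
  | 18, _ => exact relHe18
  | 19, _ => exact relHe19
  | 20, _ => exact relHe20
  | 21, _ => exact relHe21
  | 22, _ => exact relHe22
  | 23, _ => exact relHe23
  | 24, _ => exact relHe24
  | 25, _ => exact relHe25
  | 26, _ => exact relHe26
  | 27, _ => exact relHe27
  | 28, _ => exact relHe28
  | 29, _ => exact relHe29
  | n + 30, h => exact absurd h (by simp [relsHe])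

/-- Words in the four generators for the seven involutions. -/
def wordsInv : List (List ℕ) := [
  [3, 0, 2, 1, 3, 1, 2, 1, 2],
  [2, 0, 2, 6, 1, 1, 3, 0, 6, 0],
  [3, 6, 2, 7, 2, 7, 5, 7, 5, 6, 4, 3],
  [6, 2, 1, 3, 0, 3, 0, 0, 7],
  [3, 6, 2, 1, 2, 0, 5, 2, 0, 0, 0, 6, 1],
  [3, 6, 3, 1, 4, 2, 1, 1, 2, 1, 6, 1],
  [4, 6, 2, 0, 5, 2, 5, 3, 0, 6, 5, 2, 1]]

theorem wordsInv_trace :
    ((List.range 7).all fun a => Nat.beq (he2058.trace (shortW (wordsInv.getD a []))) (he2058.trace [a])) = true := by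
  decide +kernel

theorem closure_tHe : Subgroup.closure (Set.range tHe) = ⊤ := by
  rw [eq_top_iff, ← Setup.closure_el heSetup_gens he_lettersOK, Subgroup.closure_le]
  rintro _ ⟨a, rfl⟩
  have ha : a.val < 7 := a.2
  have h := CosetEnum.beq_iff.mp (List.all_eq_true.1 wordsInv_trace a.val (List.mem_range.2 ha))
  have e := he_ev_eq (shortW_lt _) (v := [a.val]) (by simpa using ha) h
  rw [← evW_short, show ev heSetup.el [a.val] = heSetup.el a.val by simp [ev]] at e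
  show heSetup.el a.val ∈ _
  rw [← e]
  refine Subgroup.list_prod_mem _ fun x hx => ?_
  obtain ⟨b, -, rfl⟩ := List.mem_map.mp hx
  unfold evL
  split
  · exact Subgroup.subset_closure (Set.mem_range_self _)
  · exact Subgroup.inv_mem _ (Subgroup.subset_closure (Set.mem_range_self _))

theorem isSimpleGroup_he : IsSimpleGroup heSetup.G := Cfsg.Agent.S1695.main.1

theorem card_he : Nat.card heSetup.G = 4030387200 := Cfsg.Agent.S1695.main.2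

theorem finite_he : Finite heSetup.G := Nat.finite_of_card_ne_zero (by rw [card_he]; norm_num)

end Cfsg.Agent.TransvCent
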