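import Cfsg.Agent.Lib.TransvCent.CompleteBase
import Cfsg.Agent.Lib.HeInvCent.SLBound
import Cfsg.Agent.Lib.Linear.SLn
import Cfsg.Agent.Lib.J4Type.TwoTenLinear

/-
The model `SL₅(2)` of the completion.

* `tL5` : the images of the four generators
* `appL5` : the action of a word on the 32 vectors; `satRels_tL5`, `closure_tL5`, `isSimpleGroup_SL5`
-/

set_option autoImplicit false
set_option maxRecDepth 20000

namespace Cfsg.Agent.TransvCent

open Matrix Cfsg.Agent.HeInvCent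

local notation "SL5" => Matrix.SpecialLinearGroup (Fin 5) (ZMod 2)

/-- The matrix of a generator. -/
def matL5 (i : Fin 4) : Matrix (Fin 5) (Fin 5) (ZMod 2) :=
  fun r c => (((matsL5.getD i.val []).getD (5 * r.val + c.val) 0 : ℕ) : ZMod 2)

theorem matL5_det : ∀ i, (matL5 i).det = 1 := by decide +kernel

/-- The images of the generators in `SL₅(2)`. -/
def tL5 (i : Fin 4) : SL5 := ⟨matL5 i, matL5_det i⟩

/-- The tables of the letters on the 32 vectors. -/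
def tabL5 : List (List Nat) := [
  [0, 1, 14, 15, 13, 12, 3, 2, 20, 21, 26, 27, 25, 24, 23, 22, 28, 29, 18, 19, 17, 16, 31, 30, 8, 9, 6, 7, 5, 4, 11, 10],
  [0, 1, 7, 6, 29, 28, 26, 27, 24, 25, 31, 30, 5, 4, 2, 3, 21, 20, 18, 19, 8, 9, 15, 14, 13, 12, 10, 11, 16, 17, 23, 22],
  [0, 1, 2, 3, 28, 29, 30, 31, 8, 9, 10, 11, 20, 21, 22, 23, 5, 4, 7, 6, 25, 24, 27, 26, 13, 12, 15, 14, 17, 16, 19, 18],
  [0, 1, 2, 3, 17, 16, 19, 18, 8, 9, 10, 11, 25, 24, 27, 26, 29, 28, 31, 30, 12, 13, 14, 15, 21, 20, 23, 22, 4, 5, 6, 7],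
  [0, 8, 15, 7, 3, 11, 12, 4, 9, 1, 6, 14, 10, 2, 5, 13, 16, 24, 31, 23, 19, 27, 28, 20, 25, 17, 22, 30, 26, 18, 21, 29],
  [0, 9, 13, 4, 7, 14, 10, 3, 1, 8, 12, 5, 6, 15, 11, 2, 16, 25, 29, 20, 23, 30, 26, 19, 17, 24, 28, 21, 22, 31, 27, 18],
  [0, 17, 24, 9, 5, 20, 29, 12, 27, 10, 3, 18, 30, 15, 6, 23, 1, 16, 25, 8, 4, 21, 28, 13, 26, 11, 2, 19, 31, 14, 7, 22],
  [0, 16, 26, 10, 20, 4, 14, 30, 19, 3, 9, 25, 7, 23, 29, 13, 17, 1, 11, 27, 5, 21, 31, 15, 2, 18, 24, 8, 22, 6, 12, 28]]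

/-- The table of a letter. -/
def letL5 (a : Nat) (v : Nat) : Nat :=
  (tabL5.getD (2 * (Fin.ofNat 4 (a / 2)).val + a % 2) []).getD v 0

theorem tabL5_even : ∀ (i : Fin 4) (v : Fin 32),
    (slFun (tL5 i) v).val = (tabL5.getD (2 * i.val) []).getD v.val 0 := by decide +kernel

theorem tabL5_odd : ∀ (i : Fin 4) (v : Fin 32), (tabL5.getD (2 * i.val + 1) []).getD v.val 0 < 32 ∧
    (tabL5.getD (2 * i.val) []).getD ((tabL5.getD (2 * i.val + 1) []).getD v.val 0) 0 = v.val := by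
  decide +kernel

theorem slFun_evL (a : Nat) (v : Fin 32) : (slFun (evL tL5 a) v).val = letL5 a v.val := by
  unfold evL letL5
  rcases Nat.mod_two_eq_zero_or_one a with h | h
  · rw [if_pos h, h, add_zero]
    exact tabL5_even _ v
  · rw [if_neg (by omega), h]
    obtain ⟨hlt, he⟩ := tabL5_odd (Fin.ofNat 4 (a / 2)) v
    generalize hw : (tabL5.getD (2 * (Fin.ofNat 4 (a / 2)).val + 1) []).getD v.val 0 = w at hlt he ⊢
    have e : slFun (tL5 (Fin.ofNat 4 (a / 2))) ⟨w, hlt⟩ = v := Fin.ext ((tabL5_even _ _).trans he)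
    conv_lhs => rw [← e, ← slFun_mul, inv_mul_cancel, slFun_one]

/-- The action of a word on the vectors. -/
def appL5 : List Nat → Nat → Nat
  | [], v => v
  | a :: w, v => letL5 a (appL5 w v)

theorem slFun_evW : ∀ (w : List Nat) (v : Fin 32), (slFun (evW tL5 w) v).val = appL5 w v.val
  | [], v => by rw [evW, List.map_nil, List.prod_nil, slFun_one]; rfl
  | a :: w, v => by
    rw [evW, List.map_cons, List.prod_cons, slFun_mul, slFun_evL]
    exact congrArg _ (slFun_evW w v)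

theorem evW_eq_of_app {w : List Nat} {M : SL5} (h : ∀ v : Fin 32, appL5 w v.val = (slFun M v).val) :
    evW tL5 w = M :=
  slAct_injective (Equiv.ext fun v => Fin.ext (by
    rw [slAct_apply, slAct_apply, slFun_evW, h v]))

theorem satRels_tL5 : SatRels relsL5 tL5 := by
  intro w hw
  have h : ∀ w ∈ relsL5, ∀ v : Fin 32, appL5 w v.val = v.val := by decide +kernel
  exact evW_eq_of_app fun v => by rw [h w hw v, slFun_one]

/-- Words for the elementary transvections, row by row. -/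
def wordsL5 : List (List Nat) := [
  [],
  [6, 1, 1, 2, 1, 2, 0, 3, 7],
  [0, 3, 5, 2, 5, 3, 5, 0, 2],
  [6, 1, 2, 0, 3, 1, 1, 2, 7],
  [1, 4, 2, 4, 3, 4, 2, 1, 3],
  [5, 2, 7, 3, 7, 3, 7, 4],
  [],
  [2, 7, 3, 7, 2, 7, 2],
  [4, 2, 5, 7, 0, 0, 2, 4],
  [3, 7, 3, 7, 2, 7],
  [2, 5, 2, 7, 5, 2, 7, 2],
  [1, 1, 2, 6, 3, 0, 3, 6, 2, 0],
  [],
  [2, 4, 0, 4, 7, 4, 0, 7, 2],
  [2, 0, 4, 0, 7, 2, 6, 1, 5],
  [0, 0, 2, 6, 2, 6, 3, 6, 1, 1],
  [0, 0, 3, 7, 2, 1, 2, 7, 3, 1],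
  [1, 6, 4, 7, 5, 2, 4, 1, 2],
  [],
  [0, 5, 3, 4, 6, 5, 7, 0, 3],
  [2, 0, 7, 2, 0, 7, 2, 0, 7],
  [0, 0, 5, 2, 0, 2, 1, 7, 2, 0],
  [0, 0, 3, 5, 0, 4, 7, 5, 7, 3],
  [1, 1, 2, 1, 2, 0, 3],
  []]

theorem wordsL5_ok : ∀ (i j : Fin 5) (h : i ≠ j) (v : Fin 32),
    appL5 (wordsL5.getD (5 * i.val + j.val) []) v.val
      = (slFun (Matrix.SpecialLinearGroup.transvection h (1 : ZMod 2)) v).val := by
  decide +kernel

theorem closure_tL5 : Subgroup.closure (Set.range tL5) = ⊤ := by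
  rw [eq_top_iff, ← Linear.closure_slTvSet, Subgroup.closure_le]
  rintro _ ⟨i, j, hij, c, rfl⟩
  have hc : c = 0 ∨ c = 1 := by
    have : ∀ x : ZMod 2, x = 0 ∨ x = 1 := by decide
    exact this c
  rcases hc with rfl | rfl
  · have e : Matrix.SpecialLinearGroup.transvection hij (0 : ZMod 2) = 1 :=
      Subtype.ext (Matrix.transvection_zero i j)
    rw [e]; exact one_mem _
  · rw [← evW_eq_of_app (fun v => wordsL5_ok i j hij v)]
    refine Subgroup.list_prod_mem _ fun x hx => ?_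
    obtain ⟨a, -, rfl⟩ := List.mem_map.mp hx
    unfold evL
    split
    · exact Subgroup.subset_closure (Set.mem_range_self _)
    · exact Subgroup.inv_mem _ (Subgroup.subset_closure (Set.mem_range_self _))

theorem center_SL5 : Subgroup.center SL5 = ⊥ := by
  rw [Subgroup.eq_bot_iff_forall]
  intro z hz
  obtain ⟨c, hc, e⟩ := Matrix.SpecialLinearGroup.mem_center_iff.mp hz
  have h1 : ∀ x : ZMod 2, x ^ Fintype.card (Fin 5) = 1 → x = 1 := by decide
  exact Subtype.ext (by rw [← e, h1 c hc]; exact map_one _)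

theorem isSimpleGroup_SL5 : IsSimpleGroup SL5 :=
  ((QuotientGroup.quotientBot.symm.trans
    (QuotientGroup.quotientMulEquivOfEq center_SL5.symm)))
  |> fun e => by
    have := Linear.isSimpleGroup_psl (F := ZMod 2) (ι := Fin 5) (by simp)
    exact e.isSimpleGroup

end Cfsg.Agent.TransvCent
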