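import Cfsg.Agent.Lib.TransvCent.CompleteBase
import Cfsg.Agent.Lib.HeInvCent.Iso
import Cfsg.Agent.Lib.TransvCent.CompleteL5Model
import Cfsg.Agent.Lib.TransvCent.CompleteHeXData

/-
The subgroup of the nine words `subXHe` in the group presented by `relsHe`.

* `evW_xy` : words in the first two letters with equal action on the 32 vectors are equal
* `heX_card_le` : the subgroup has at most 138240 elements
-/

set_option autoImplicit false
set_option maxRecDepth 20000

namespace Cfsg.Agent.TransvCent

open Cfsg.Agent.CosetEnum Cfsg.Agent.HeInvCent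

section

variable {G H : Type*} [Group G] [Group H]

theorem map_evW (φ : G →* H) (f : Fin 4 → G) (w : List Nat) : φ (evW f w) = evW (φ ∘ f) w := by
  rw [evW, evW, map_list_prod, List.map_map]
  congr 1
  refine List.map_congr_left fun a _ => ?_
  show φ (evL f a) = evL (φ ∘ f) a
  unfold evL
  split <;> simp

theorem evW_congr_xy {f g : Fin 4 → G} (h0 : f 0 = g 0) (h1 : f 1 = g 1) {w : List Nat}
    (hw : w.all (fun a => Nat.blt a 4) = true) : evW f w = evW g w := by
  rw [evW, evW]
  congr 1
  refine List.map_congr_left fun a ha => ?_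
  have h4 : a < 4 := by simpa using List.all_eq_true.mp hw a ha
  have e : f (Fin.ofNat 4 (a / 2)) = g (Fin.ofNat 4 (a / 2)) := by
    interval_cases a <;> first | exact h0 | exact h1
  unfold evL
  rw [e]

theorem evW_append (f : Fin 4 → G) (u v : List Nat) : evW f (u ++ v) = evW f u * evW f v := by
  rw [evW, List.map_append, List.prod_append]; rfl

/-- The inverse word. -/
def winvW (w : List Nat) : List Nat := w.reverse.map fun a => if a % 2 = 0 then a + 1 else a - 1

theorem evW_winvW (f : Fin 4 → G) : ∀ w : List Nat, evW f (winvW w) = (evW f w)⁻¹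
  | [] => by simp [evW, winvW]
  | a :: w => by
    have e : winvW (a :: w) = winvW w ++ [if a % 2 = 0 then a + 1 else a - 1] := by
      simp [winvW]
    have ea : evW f [if a % 2 = 0 then a + 1 else a - 1] = (evL f a)⁻¹ := by
      rw [evW, List.map_cons, List.map_nil, List.prod_singleton]
      rcases Nat.mod_two_eq_zero_or_one a with h | h
      · have h1 : (a + 1) % 2 = 1 := by omega
        have h2 : (a + 1) / 2 = a / 2 := by omega
        simp [evL, h, h1, h2]
      · have h1 : (a - 1) % 2 = 0 := by omega
        have h2 : (a - 1) / 2 = a / 2 := by omega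
        simp [evL, h, h1, h2]
    rw [e, evW_append, evW_winvW f w, ea]
    show _ = (List.prod (evL f a :: w.map (evL f)))⁻¹
    rw [List.prod_cons, mul_inv_rev]
    rfl

end

/-- Two words in the first two letters act equally on the 32 vectors, or are the same word. -/
def xPairOK (p : List Nat × List Nat) : Bool :=
  p.1 == p.2 || (p.1.all (fun a => Nat.blt a 4) && (p.2.all (fun a => Nat.blt a 4) &&
    (List.range 32).all fun v => Nat.beq (appL5 p.1 v) (appL5 p.2 v)))

/-- The hom to `SL₅(2)` of the group of the first two letters is injective. -/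
theorem exists_xyModel : ∃ θ : qSetup.G →* Matrix.SpecialLinearGroup (Fin 5) (ZMod 2),
    Function.Injective θ ∧ θ (PresentedGroup.of .x) = tL5 0 ∧ θ (PresentedGroup.of .y) = tL5 1 := by
  have hrel : ∀ r ∈ qSetup.rels, FreeGroup.lift (fun a => tL5 (xyGen a)) r = 1 := by
    intro r hr
    have hr' : r ∈ qRels := by
      rcases hr with ⟨x₀, hx, _⟩ | h
      · simp [qSetup, Cfsg.Spor.coxNodes] at hx
      · exact h
    obtain ⟨w, hw, he⟩ := List.mem_map.mp
      (xyWords_eq ▸ List.mem_map.mpr ⟨r, hr', rfl⟩ : FreeGroup.map xyGen r ∈ xyWords.map wordFG)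
    have e : FreeGroup.lift (fun a => tL5 (xyGen a)) r = FreeGroup.lift tL5 (FreeGroup.map xyGen r) :=
      DFunLike.congr_fun (FreeGroup.ext_hom (f := FreeGroup.lift fun a => tL5 (xyGen a))
        (g := (FreeGroup.lift tL5).comp (FreeGroup.map xyGen)) fun i => by simp) r
    rw [e, ← he, lift_wordFG]
    have hsub : ∀ w ∈ xyWords, w ∈ relsL5 := by decide +kernel
    exact satRels_tL5 w (hsub w hw)
  let θ : qSetup.G →* Matrix.SpecialLinearGroup (Fin 5) (ZMod 2) := PresentedGroup.toGroup hrel
  have hx : θ (PresentedGroup.of .x) = tL5 0 := PresentedGroup.toGroup.of hrel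
  have hy : θ (PresentedGroup.of .y) = tL5 1 := PresentedGroup.toGroup.of hrel
  refine ⟨θ, ?_, hx, hy⟩
  have hgen : ∀ (a : ℕ) (i : Fin 4) (g : qSetup.G), a < 4 → qSetup.el a = g → θ g = tL5 i →
      (∀ v : Fin 32, (slFun (tL5 i) v).val = lane slImg.B (slImg.trace [a]) v) →
      slRep g = slAct (θ g) := by
    intro a i g ha hg hθ hact
    rw [hθ, ← hg]
    refine (Setup.hom_el qSetup_gens slImg_facts.2.1 slImg_facts.1 slImg_facts.2.2 (a := a) ha).trans ?_
    refine Equiv.ext fun v => Fin.ext ?_
    refine Eq.trans ?_ (hact v).symm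
    have e := ev_perm_lane slImg_facts.1 (w := [a]) (by intro b hb; rw [List.mem_singleton.mp hb]; exact ha) v
    simp only [Data.ev, one_mul] at e
    exact e
  have heq : slRep = slAct.comp θ := by
    refine PresentedGroup.ext fun q => ?_
    cases q
    · exact hgen 0 0 _ (by norm_num) rfl hx (by decide +kernel)
    · exact hgen 2 1 _ (by norm_num) rfl hy (by decide +kernel)
  intro p q h
  refine slRep_inj ?_
  rw [heq]
  exact congrArg slAct h

theorem evW_xy {rels : List (List Nat)} (h6 : xyWords.all (fun w => rels.contains w) = true)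
    {p : List Nat × List Nat} (h : xPairOK p = true) :
    evW (G := (ampSetup rels).G) PresentedGroup.of p.1 = evW PresentedGroup.of p.2 := by
  unfold xPairOK at h
  simp only [Bool.or_eq_true, beq_iff_eq, Bool.and_eq_true, List.all_eq_true (p := fun v => Nat.beq _ _),
    List.mem_range, Nat.beq_eq] at h
  rcases h with h | ⟨hl, hr, hv⟩
  · rw [h]
  obtain ⟨θ, hθ, hθx, hθy⟩ := exists_xyModel
  obtain ⟨ψ, hψx, hψy⟩ := exists_xyHom h6
  let fq : Fin 4 → qSetup.G := ![PresentedGroup.of .x, PresentedGroup.of .y, 1, 1]
  have hP : ∀ w : List Nat, w.all (fun a => Nat.blt a 4) = true →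
      evW (G := (ampSetup rels).G) PresentedGroup.of w = ψ (evW fq w) := fun w hw => by
    rw [map_evW]
    exact evW_congr_xy (g := ψ ∘ fq) hψx.symm hψy.symm hw
  have hS : ∀ w : List Nat, w.all (fun a => Nat.blt a 4) = true →
      θ (evW fq w) = evW tL5 w := fun w hw => by
    rw [map_evW]
    exact evW_congr_xy (f := θ ∘ fq) hθx hθy hw
  rw [hP _ hl, hP _ hr]
  refine congrArg ψ (hθ ?_)
  rw [hS _ hl, hS _ hr]
  exact slAct_injective (Equiv.ext fun v => Fin.ext (by
    rw [slAct_apply, slAct_apply, slFun_evW, slFun_evW, hv v.val v.isLt]))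

/-- A signed generator among nine. -/
def letGen9 (a : Nat) : Fin 9 × Bool := (Fin.ofNat 9 (a / 2), a % 2 == 0)

/-- The subgroup on nine letters as a setup. -/
def xSetup : Setup (Fin 9) where
  edges := []
  extra := xCases.map fun c => FreeGroup.mk (c.1.map letGen9)
  gens := List.finRange 9
  pos := [0, 2, 4, 6, 8, 10, 12, 14, 16]
  lt := (List.finRange 9).flatMap fun g => [(g, true), (g, false)]

/-- The letters. -/
def xLetters : Data := letterData 18 [1, 0, 3, 2, 5, 4, 7, 6, 9, 8, 11, 10, 13, 12, 15, 14, 17, 16]

theorem xSetup_gens : ∀ x, x ∈ xSetup.gens := fun x => List.mem_finRange x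

/-- The generators of the elementary abelian part. -/
def xUs : List (FreeGroup (Fin 9)) := [FreeGroup.of 3, FreeGroup.of 4, FreeGroup.of 5,
  FreeGroup.of 6, FreeGroup.of 7, FreeGroup.of 8]

theorem xSetup_letters : xSetup.lettersOK xLetters = true := by decide +kernel

theorem xU_bound : Nat.card (xSetup.closureOf xUs) ≤ 64 ∧ Nat.card (xSetup.closureOf xUs) ≠ 0 := by
  have h := Setup.card_step xSetup_gens xSetup_letters heXU heXU_check
    [6, 7, 8, 9, 10, 11, 12, 13, 14, 15, 16, 17] (by decide +kernel) [] [] [] (by decide +kernel)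
    (by decide +kernel) (by simp) (fun w hw => by simp at hw) (Setup.bound_nil xSetup)
  exact Setup.bound_closure xSetup_gens xSetup_letters h (by decide +kernel)

theorem xCard_le : Nat.card xSetup.G ≤ 2160 * 64 ∧ Nat.card xSetup.G ≠ 0 := by
  have h0 := Setup.seed_fixes (hs := xUs) (emb := List.range 18) xSetup_gens xSetup_letters heXK_seed0_check
    (by decide +kernel)
  have h := Setup.card_step xSetup_gens xSetup_letters heXK heXK_check (List.range 18) (by decide +kernel)
    xUs [heXK_seed0.tgt] [] (by decide +kernel) (by decide +kernel) (by simp)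
    (fun w hw => by rw [List.mem_singleton.mp hw]; exact h0) xU_bound
  exact Setup.bound_univ xSetup_gens xSetup_letters h (by decide +kernel)

/-- The word of a letter of the subgroup. -/
def substW (a : Nat) : List Nat :=
  if a % 2 = 0 then subXHe.getD (Fin.ofNat 9 (a / 2)).val []
  else winvW (subXHe.getD (Fin.ofNat 9 (a / 2)).val [])

/-- The rewriting of a relator is right. -/
def caseOK (c : List Nat × List (List Nat × List Nat)) : Bool :=
  (c.2.map Prod.fst).flatten == c.1.flatMap substW &&
    (([] :: relsHe).contains (c.2.map Prod.snd).flatten && c.2.all xPairOK)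

theorem xCases_ok : ∀ c ∈ xCases, caseOK c = true := by decide +kernel

/-- The generators of the subgroup, as elements of the free group. -/
def heXHs : List (FreeGroup (Fin 4)) := subXHe.map wordFG

theorem heX_card_le : Nat.card ((ampSetup relsHe).closureOf heXHs) ≤ 2160 * 64 ∧
    Nat.card ((ampSetup relsHe).closureOf heXHs) ≠ 0 := by
  have h6 : xyWords.all (fun w => relsHe.contains w) = true := by decide +kernel
  let g : Fin 9 → (ampSetup relsHe).G := fun j => evW PresentedGroup.of (subXHe.getD j.val [])
  have hlift : ∀ r : List Nat, FreeGroup.lift g (FreeGroup.mk (r.map letGen9))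
      = evW PresentedGroup.of (r.flatMap substW) := by
    intro r
    induction r with
    | nil => rw [FreeGroup.lift_mk]; rfl
    | cons a r ih =>
      rw [List.flatMap_cons, evW_append, ← ih, FreeGroup.lift_mk, FreeGroup.lift_mk, List.map_cons,
        List.map_cons, List.prod_cons]
      congr 1
      unfold substW letGen9
      rcases Nat.mod_two_eq_zero_or_one a with h | h
      · simp [h, g]
      · simp [h, g, evW_winvW]
  have hrel : ∀ r ∈ xSetup.rels, FreeGroup.lift g r = 1 := by
    intro r hr
    rcases hr with ⟨x₀, hx, _⟩ | h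
    · simp [xSetup, Cfsg.Spor.coxNodes] at hx
    · obtain ⟨c, hc, rfl⟩ := List.mem_map.mp h
      have hok := xCases_ok c hc
      unfold caseOK at hok
      simp only [Bool.and_eq_true, beq_iff_eq, List.contains_iff_mem] at hok
      obtain ⟨e1, e2, e3⟩ := hok
      rw [hlift, ← e1]
      have key : ∀ l : List (List Nat × List Nat), l.all xPairOK = true →
          evW (G := (ampSetup relsHe).G) PresentedGroup.of (l.map Prod.fst).flatten
            = evW PresentedGroup.of (l.map Prod.snd).flatten := by
        intro l
        induction l with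
        | nil => intro _; rfl
        | cons p l ih =>
          intro hl
          rw [List.all_cons, Bool.and_eq_true] at hl
          rw [List.map_cons, List.map_cons, List.flatten_cons, List.flatten_cons, evW_append, evW_append,
            evW_xy h6 hl.1, ih hl.2]
      rw [key _ e3]
      rcases List.mem_cons.mp e2 with e | e
      · rw [e]; rfl
      · rw [← lift_wordFG]
        have em : FreeGroup.lift (PresentedGroup.of (rels := (ampSetup relsHe).rels)) =
            PresentedGroup.mk (ampSetup relsHe).rels := FreeGroup.ext_hom _ _ fun i => by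
          rw [FreeGroup.lift_apply_of]; rfl
        rw [em]
        exact PresentedGroup.one_of_mem (Or.inr (List.mem_map.mpr ⟨_, e, rfl⟩))
  let ψ : xSetup.G →* (ampSetup relsHe).G := PresentedGroup.toGroup hrel
  obtain ⟨hle, hne⟩ := xCard_le
  have : Finite xSetup.G := Nat.finite_of_card_ne_zero hne
  have hsub : (ampSetup relsHe).closureOf heXHs ≤ ψ.range := by
    rw [Setup.closureOf, Subgroup.closure_le]
    rintro _ ⟨h, hh, rfl⟩
    obtain ⟨w, hw, rfl⟩ := List.mem_map.mp hh
    obtain ⟨j, hj, rfl⟩ := List.getElem_of_mem hw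
    have hj9 : j < 9 := hj
    refine ⟨PresentedGroup.of (⟨j, hj9⟩ : Fin 9), ?_⟩
    refine (PresentedGroup.toGroup.of hrel).trans ?_
    show evW PresentedGroup.of (subXHe.getD j []) = _
    rw [List.getD_eq_getElem?_getD, List.getElem?_eq_getElem hj, Option.getD_some, ← lift_wordFG]
    exact DFunLike.congr_fun (FreeGroup.ext_hom (FreeGroup.lift PresentedGroup.of)
      (PresentedGroup.mk (ampSetup relsHe).rels) fun i => by rw [FreeGroup.lift_apply_of]; rfl) _
  have : Finite ψ.range := Finite.of_surjective _ ψ.rangeRestrict_surjective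
  have : Finite ((ampSetup relsHe).closureOf heXHs) :=
    Finite.of_injective _ (Subgroup.inclusion_injective hsub)
  refine ⟨?_, Nat.card_pos.ne'⟩
  calc Nat.card ((ampSetup relsHe).closureOf heXHs) ≤ Nat.card ψ.range :=
        Nat.card_le_card_of_injective _ (Subgroup.inclusion_injective hsub)
    _ ≤ Nat.card xSetup.G := Nat.card_le_card_of_surjective _ ψ.rangeRestrict_surjective
    _ ≤ 2160 * 64 := hle

end Cfsg.Agent.TransvCent
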