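import Cfsg.Agent.Lib.TransvCent.CompleteL5Pres

/-
Generated: the relators of the extended presentation hold in the presented group (L5).
-/

set_option autoImplicit false
set_option maxRecDepth 100000
set_option Elab.async false

namespace Cfsg.Agent.TransvCent

open Cfsg.Agent.CosetEnum

theorem l5Ext_ok0 : extOK l5ExtSetup relsL5 l5ExtImg l5ExtCases 0 20 = true := by decide +kernel

theorem l5Ext_ok20 : extOK l5ExtSetup relsL5 l5ExtImg l5ExtCases 20 20 = true := by decide +kernel

theorem l5Ext_ok40 : extOK l5ExtSetup relsL5 l5ExtImg l5ExtCases 40 20 = true := by decide +kernel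

theorem l5Ext_ok60 : extOK l5ExtSetup relsL5 l5ExtImg l5ExtCases 60 20 = true := by decide +kernel

theorem l5Ext_ok80 : extOK l5ExtSetup relsL5 l5ExtImg l5ExtCases 80 20 = true := by decide +kernel

theorem l5Ext_ok100 : extOK l5ExtSetup relsL5 l5ExtImg l5ExtCases 100 20 = true := by decide +kernel

theorem l5Ext_ok120 : extOK l5ExtSetup relsL5 l5ExtImg l5ExtCases 120 20 = true := by decide +kernel

theorem l5Ext_ok140 : extOK l5ExtSetup relsL5 l5ExtImg l5ExtCases 140 20 = true := by decide +kernel

theorem l5Ext_ok160 : extOK l5ExtSetup relsL5 l5ExtImg l5ExtCases 160 20 = true := by decide +kernel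

theorem l5Ext_ok180 : extOK l5ExtSetup relsL5 l5ExtImg l5ExtCases 180 20 = true := by decide +kernel

theorem l5Ext_ok200 : extOK l5ExtSetup relsL5 l5ExtImg l5ExtCases 200 20 = true := by decide +kernel

theorem l5Ext_ok220 : extOK l5ExtSetup relsL5 l5ExtImg l5ExtCases 220 20 = true := by decide +kernel

theorem l5Ext_ok240 : extOK l5ExtSetup relsL5 l5ExtImg l5ExtCases 240 20 = true := by decide +kernel

theorem l5Ext_ok260 : extOK l5ExtSetup relsL5 l5ExtImg l5ExtCases 260 20 = true := by decide +kernel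

theorem l5Ext_ok280 : extOK l5ExtSetup relsL5 l5ExtImg l5ExtCases 280 20 = true := by decide +kernel

theorem l5Ext_ok300 : extOK l5ExtSetup relsL5 l5ExtImg l5ExtCases 300 20 = true := by decide +kernel

theorem l5Ext_ok320 : extOK l5ExtSetup relsL5 l5ExtImg l5ExtCases 320 20 = true := by decide +kernel

theorem l5Ext_ok340 : extOK l5ExtSetup relsL5 l5ExtImg l5ExtCases 340 20 = true := by decide +kernel

theorem l5Ext_ok360 : extOK l5ExtSetup relsL5 l5ExtImg l5ExtCases 360 20 = true := by decide +kernel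

theorem l5Ext_ok380 : extOK l5ExtSetup relsL5 l5ExtImg l5ExtCases 380 20 = true := by decide +kernel

theorem l5Ext_ok400 : extOK l5ExtSetup relsL5 l5ExtImg l5ExtCases 400 20 = true := by decide +kernel

theorem l5Ext_ok420 : extOK l5ExtSetup relsL5 l5ExtImg l5ExtCases 420 20 = true := by decide +kernel

theorem l5Ext_ok440 : extOK l5ExtSetup relsL5 l5ExtImg l5ExtCases 440 20 = true := by decide +kernel

theorem l5Ext_ok460 : extOK l5ExtSetup relsL5 l5ExtImg l5ExtCases 460 20 = true := by decide +kernel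

theorem l5Ext_ok480 : extOK l5ExtSetup relsL5 l5ExtImg l5ExtCases 480 20 = true := by decide +kernel

theorem l5Ext_ok500 : extOK l5ExtSetup relsL5 l5ExtImg l5ExtCases 500 20 = true := by decide +kernel

theorem l5Ext_ok520 : extOK l5ExtSetup relsL5 l5ExtImg l5ExtCases 520 20 = true := by decide +kernel

theorem l5Ext_ok540 : extOK l5ExtSetup relsL5 l5ExtImg l5ExtCases 540 20 = true := by decide +kernel

theorem l5Ext_ok560 : extOK l5ExtSetup relsL5 l5ExtImg l5ExtCases 560 20 = true := by decide +kernel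

theorem l5Ext_ok580 : extOK l5ExtSetup relsL5 l5ExtImg l5ExtCases 580 20 = true := by decide +kernel

theorem l5Ext_ok600 : extOK l5ExtSetup relsL5 l5ExtImg l5ExtCases 600 20 = true := by decide +kernel

theorem l5Ext_ok620 : extOK l5ExtSetup relsL5 l5ExtImg l5ExtCases 620 20 = true := by decide +kernel

theorem l5Ext_ok640 : extOK l5ExtSetup relsL5 l5ExtImg l5ExtCases 640 20 = true := by decide +kernel

theorem l5Ext_ok660 : extOK l5ExtSetup relsL5 l5ExtImg l5ExtCases 660 20 = true := by decide +kernel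

theorem l5Ext_ok680 : extOK l5ExtSetup relsL5 l5ExtImg l5ExtCases 680 20 = true := by decide +kernel

theorem l5Ext_ok700 : extOK l5ExtSetup relsL5 l5ExtImg l5ExtCases 700 20 = true := by decide +kernel

theorem l5Ext_ok720 : extOK l5ExtSetup relsL5 l5ExtImg l5ExtCases 720 20 = true := by decide +kernel

theorem l5Ext_ok740 : extOK l5ExtSetup relsL5 l5ExtImg l5ExtCases 740 20 = true := by decide +kernel

theorem l5Ext_ok760 : extOK l5ExtSetup relsL5 l5ExtImg l5ExtCases 760 20 = true := by decide +kernel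

theorem l5Ext_ok780 : extOK l5ExtSetup relsL5 l5ExtImg l5ExtCases 780 20 = true := by decide +kernel

theorem l5Ext_ok800 : extOK l5ExtSetup relsL5 l5ExtImg l5ExtCases 800 20 = true := by decide +kernel

theorem l5Ext_ok820 : extOK l5ExtSetup relsL5 l5ExtImg l5ExtCases 820 20 = true := by decide +kernel

theorem l5Ext_ok840 : extOK l5ExtSetup relsL5 l5ExtImg l5ExtCases 840 20 = true := by decide +kernel

theorem l5Ext_ok860 : extOK l5ExtSetup relsL5 l5ExtImg l5ExtCases 860 20 = true := by decide +kernel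

theorem l5Ext_ok880 : extOK l5ExtSetup relsL5 l5ExtImg l5ExtCases 880 20 = true := by decide +kernel

theorem l5Ext_ok900 : extOK l5ExtSetup relsL5 l5ExtImg l5ExtCases 900 20 = true := by decide +kernel

theorem l5Ext_ok920 : extOK l5ExtSetup relsL5 l5ExtImg l5ExtCases 920 20 = true := by decide +kernel

theorem l5Ext_ok940 : extOK l5ExtSetup relsL5 l5ExtImg l5ExtCases 940 20 = true := by decide +kernel

theorem l5Ext_ok960 : extOK l5ExtSetup relsL5 l5ExtImg l5ExtCases 960 20 = true := by decide +kernel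

theorem l5Ext_ok980 : extOK l5ExtSetup relsL5 l5ExtImg l5ExtCases 980 20 = true := by decide +kernel

theorem l5Ext_ok1000 : extOK l5ExtSetup relsL5 l5ExtImg l5ExtCases 1000 20 = true := by decide +kernel

theorem l5Ext_ok1020 : extOK l5ExtSetup relsL5 l5ExtImg l5ExtCases 1020 20 = true := by decide +kernel

theorem l5Ext_ok1040 : extOK l5ExtSetup relsL5 l5ExtImg l5ExtCases 1040 20 = true := by decide +kernel

theorem l5Ext_ok1060 : extOK l5ExtSetup relsL5 l5ExtImg l5ExtCases 1060 20 = true := by decide +kernel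

theorem l5Ext_ok1080 : extOK l5ExtSetup relsL5 l5ExtImg l5ExtCases 1080 20 = true := by decide +kernel

theorem l5Ext_ok1100 : extOK l5ExtSetup relsL5 l5ExtImg l5ExtCases 1100 20 = true := by decide +kernel

theorem l5Ext_ok1120 : extOK l5ExtSetup relsL5 l5ExtImg l5ExtCases 1120 20 = true := by decide +kernel

theorem l5Ext_ok1140 : extOK l5ExtSetup relsL5 l5ExtImg l5ExtCases 1140 20 = true := by decide +kernel

theorem l5Ext_ok1160 : extOK l5ExtSetup relsL5 l5ExtImg l5ExtCases 1160 20 = true := by decide +kernel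

theorem l5Ext_ok1180 : extOK l5ExtSetup relsL5 l5ExtImg l5ExtCases 1180 20 = true := by decide +kernel

theorem l5Ext_ok1200 : extOK l5ExtSetup relsL5 l5ExtImg l5ExtCases 1200 20 = true := by decide +kernel

theorem l5Ext_ok1220 : extOK l5ExtSetup relsL5 l5ExtImg l5ExtCases 1220 20 = true := by decide +kernel

theorem l5Ext_ok1240 : extOK l5ExtSetup relsL5 l5ExtImg l5ExtCases 1240 20 = true := by decide +kernel

theorem l5Ext_ok1260 : extOK l5ExtSetup relsL5 l5ExtImg l5ExtCases 1260 20 = true := by decide +kernel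

theorem l5Ext_ok1280 : extOK l5ExtSetup relsL5 l5ExtImg l5ExtCases 1280 20 = true := by decide +kernel

theorem l5Ext_ok1300 : extOK l5ExtSetup relsL5 l5ExtImg l5ExtCases 1300 20 = true := by decide +kernel

theorem l5Ext_ok1320 : extOK l5ExtSetup relsL5 l5ExtImg l5ExtCases 1320 20 = true := by decide +kernel

theorem l5Ext_ok1340 : extOK l5ExtSetup relsL5 l5ExtImg l5ExtCases 1340 20 = true := by decide +kernel

theorem l5Ext_ok1360 : extOK l5ExtSetup relsL5 l5ExtImg l5ExtCases 1360 20 = true := by decide +kernel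

theorem l5Ext_ok1380 : extOK l5ExtSetup relsL5 l5ExtImg l5ExtCases 1380 20 = true := by decide +kernel

theorem l5Ext_ok1400 : extOK l5ExtSetup relsL5 l5ExtImg l5ExtCases 1400 20 = true := by decide +kernel

theorem l5Ext_ok1420 : extOK l5ExtSetup relsL5 l5ExtImg l5ExtCases 1420 8 = true := by decide +kernel

theorem l5Ext_okAll : extOK l5ExtSetup relsL5 l5ExtImg l5ExtCases 0 1428 = true :=
  (extOK_append (extOK_append (extOK_append (extOK_append (extOK_append (extOK_append (extOK_append (extOK_append (extOK_append (extOK_append (extOK_append (extOK_append (extOK_append (extOK_append (extOK_append (extOK_append (extOK_append (extOK_append (extOK_append (extOK_append (extOK_append (extOK_append (extOK_append (extOK_append (extOK_append (extOK_append (extOK_append (extOK_append (extOK_append (extOK_append (extOK_append (extOK_append (extOK_append (extOK_append (extOK_append (extOK_append (extOK_append (extOK_append (extOK_append (extOK_append (extOK_append (extOK_append (extOK_append (extOK_append (extOK_append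 (extOK_append (extOK_append (extOK_append (extOK_append (extOK_append (extOK_append (extOK_append (extOK_append (extOK_append (extOK_append (extOK_append (extOK_append (extOK_append (extOK_append (extOK_append (extOK_append (extOK_append (extOK_append (extOK_append (extOK_append (extOK_append (extOK_append (extOK_append (extOK_append (extOK_append (extOK_append l5Ext_ok0 l5Ext_ok20) l5Ext_ok40) l5Ext_ok60) l5Ext_ok80) l5Ext_ok100) l5Ext_ok120) l5Ext_ok140) l5Ext_ok160) l5Ext_ok180) l5Ext_ok200) l5Ext_ok220) l5Ext_ok240) l5Ext_ok260) l5Ext_ok280) l5Ext_ok300) l5Ext_ok320) l5Ext_ok340) l5Ext_ok360) l5Ext_ok380) l5Ext_ok400) l5Ext_ok420) l5Ext_ok440) l5Ext_ok460) l5Ext_ok480) l5Ext_ok500) l5Ext_ok520) l5Ext_ok540) l5Ext_ok560) l5Ext_ok580) l5Ext_ok600) l5Ext_ok620) l5Ext_ok640) l5Ext_ok660) l5Ext_ok680) l5Ext_ok700) l5Ext_ok720) l5Ext_ok740) l5Ext_ok760) l5Ext_ok780) l5Ext_ok800) l5Ext_ok820) l5Ext_ok840) l5Ext_ok860) l5Ext_ok880) l5Ext_ok900) l5Ext_ok920) l5Ext_ok940) l5Ext_ok960) l5Ext_ok980) l5Ext_ok1000)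 l5Ext_ok1020) l5Ext_ok1040) l5Ext_ok1060) l5Ext_ok1080) l5Ext_ok1100) l5Ext_ok1120) l5Ext_ok1140) l5Ext_ok1160) l5Ext_ok1180) l5Ext_ok1200) l5Ext_ok1220) l5Ext_ok1240) l5Ext_ok1260) l5Ext_ok1280) l5Ext_ok1300) l5Ext_ok1320) l5Ext_ok1340) l5Ext_ok1360) l5Ext_ok1380) l5Ext_ok1400) l5Ext_ok1420)

end Cfsg.Agent.TransvCent
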