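import Cfsg.Agent.Lib.CosetEnum.Index

/-
Derivations whose relators appear in order in a fixed list.

* `seqB` : one list of words is a subsequence of another
* `seed_fixes_seq` : the target of such a derivation fixes the base coset
-/

set_option autoImplicit false

namespace Cfsg.Agent.TransvCent

open Cfsg.Agent.CosetEnum

/-- The first list of words is a subsequence of the second. -/
noncomputable def seqB : List (List ℕ) → List (List ℕ) → Bool := fun ws ls =>
  List.rec (motive := fun _ => List (List ℕ) → Bool)
    (fun ws => List.isEmpty ws)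
    (fun l _ ih ws => List.rec (motive := fun _ => Bool) true
      (fun w ws' _ => bif w == l then ih ws' else ih (w :: ws')) ws) ls ws

theorem seqB_mem : ∀ (ls ws : List (List ℕ)), seqB ws ls = true → ∀ w ∈ ws, w ∈ ls
  | [], [], _, w, hw => hw
  | [], _ :: _, h, _, _ => by simp [seqB] at h
  | _ :: _, [], _, _, hw => by simp at hw
  | l :: ls, v :: vs, h, w, hw => by
    change (bif v == l then seqB vs ls else seqB (v :: vs) ls) = true at h
    cases hv : v == l <;> rw [hv] at h
    · exact List.mem_cons_of_mem _ (seqB_mem ls (v :: vs) h w hw)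
    · rcases List.mem_cons.mp hw with rfl | hw
      · exact List.mem_cons.mpr (Or.inl (beq_iff_eq.mp hv))
      · exact List.mem_cons_of_mem _ (seqB_mem ls vs h w hw)

variable {Gen : Type} [DecidableEq Gen]

/-- The checks: letters in place, relators trivial or in order in `L`, subgroup words known. -/
noncomputable def seqOK (D0 : Data) (hw L : List (List ℕ)) (ext : List (List ℕ)) (p : ℕ) (T : Deriv) : Bool :=
  Nat.beq T.k D0.k &&
  ((List.range T.k).all (fun a => Nat.beq (T.invl a) (D0.invl a) && Nat.blt (D0.invl a) D0.k) &&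
    (((T.rels.take p).all (fun w => ([] :: (List.range T.k).map fun a => [a, T.invl a]).contains w) &&
        (seqB (T.rels.drop p) L && (T.rels.all fun w => w.all fun a => Nat.blt a D0.k))) &&
      ((T.subs.all fun w => (ext.contains w || hw.contains w) && w.all fun a => Nat.blt a D0.k) &&
        (T.tgt.all (fun a => Nat.blt a D0.k) && ext.all fun w => w.all fun a => Nat.blt a D0.k))))

theorem getD_range {n a : ℕ} (h : a < n) : (List.range n).getD a 0 = a := by
  rw [List.getD_eq_getElem?_getD, List.getElem?_range h]
  rfl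

theorem map_range {n : ℕ} : ∀ w : List ℕ, (∀ a ∈ w, a < n) → (w.map fun a => (List.range n).getD a 0) = w
  | [], _ => rfl
  | a :: w, h => by
    rw [List.map_cons, getD_range (h a List.mem_cons_self),
      map_range w fun b hb => h b (List.mem_cons_of_mem _ hb)]

/-- A derivation with relators among those of the setup fixes the base coset. -/
theorem seed_fixes_seq {S : Setup Gen} {D0 : Data} (hgens : ∀ x, x ∈ S.gens) (hl : S.lettersOK D0 = true)
    {hs : List (FreeGroup Gen)} {hw L : List (List ℕ)} (hwe : hs.map (S.wl D0) = hw)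
    (hL : S.extra.map (S.wl D0) = L) {T : Deriv} (hT : T.check = true) (ext : List (List ℕ))
    (hext : ∀ w ∈ ext, Data.ev S.el w • ((1 : S.G) : S.G ⧸ S.closureOf hs) = ((1 : S.G) : S.G ⧸ S.closureOf hs))
    {p : ℕ} (h : seqOK D0 hw L ext p T = true) :
    Data.ev S.el T.tgt • ((1 : S.G) : S.G ⧸ S.closureOf hs) = ((1 : S.G) : S.G ⧸ S.closureOf hs) := by
  simp only [seqOK, Bool.and_eq_true, List.all_eq_true, List.mem_range, Nat.beq_eq, Nat.blt_eq] at h
  obtain ⟨hk, hinv, ⟨hpre, hseq, hrl⟩, hsub, htgt, hext'⟩ := h
  subst hwe hL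
  have e : ∀ v : List ℕ, (∀ a ∈ v, a < D0.k) →
      Data.ev (fun a => S.el ((List.range D0.k).getD a 0)) v = Data.ev S.el v := fun v hv =>
    Setup.ev_congr _ fun a ha => by rw [getD_range (hv a ha)]
  rw [← e T.tgt htgt]
  refine Setup.deriv_fixes hgens hl hs T hT (List.range D0.k) ?_ ?_ ext
    (fun w hw' => by rw [e w (hext' w hw')]; exact hext w hw') ?_
  · simp only [List.all_eq_true, List.mem_range, Bool.and_eq_true, Nat.blt_eq, Nat.beq_eq]
    intro a ha
    have ha' : a < D0.k := hk ▸ ha
    have hb := hinv a ha
    rw [getD_range ha', hb.1, getD_range hb.2]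
    exact ⟨ha', rfl⟩
  · simp only [List.all_eq_true, Bool.or_eq_true, List.contains_iff_mem]
    intro w hw'
    rw [← List.take_append_drop p T.rels, List.mem_append] at hw'
    rcases hw' with hw' | hw'
    · exact Or.inr (List.contains_iff_mem.mp (hpre w hw'))
    · refine Or.inl ?_
      rw [map_range w (hrl w (List.mem_of_mem_drop hw'))]
      obtain ⟨r, hr, rfl⟩ := List.mem_map.mp (seqB_mem _ _ hseq w hw')
      exact List.mem_map.mpr ⟨r, by unfold Setup.allRels; exact List.mem_append_right _ hr, rfl⟩
  · simp only [List.all_eq_true, Bool.or_eq_true]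
    intro w hw'
    obtain ⟨h1, h2⟩ := hsub w hw'
    rw [map_range w h2]
    simpa only [Bool.or_eq_true] using h1

end Cfsg.Agent.TransvCent
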