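import Cfsg.Agent.Lib.TransvCent.CompleteL5Pres
import Cfsg.Agent.Lib.TransvCent.CompleteL5Data
import Cfsg.Agent.Lib.TransvCent.CompleteL5Rels
import Cfsg.Agent.Lib.TransvCent.CompleteSeed
import Cfsg.Agent.Lib.TransvCent.CompleteL5Seeds0
import Cfsg.Agent.Lib.TransvCent.CompleteL5Seeds1

/-
Generated: the table for the extended presentation of the completion L5.

* `l5ExtTable` : the table
* `l5Ext_index` : the index bound in the presented group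
-/

set_option autoImplicit false
set_option maxRecDepth 100000
set_option Elab.async false

namespace Cfsg.Agent.TransvCent

open Cfsg.Agent.CosetEnum

/-- The images of the subgroup generated by the chosen generators. -/
abbrev l5ExtHs : List (FreeGroup (Fin 23)) := (l5ExtJs.map FreeGroup.of)

/-- The further relators in application order. -/
def l5ExtL : List (List ℕ) := [
  [4, 4, 4],
  [6, 6, 6],
  [24, 11, 9],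
  [24, 16, 10],
  [17, 15, 14],
  [24, 22, 14],
  [12, 5, 11, 4],
  [15, 5, 14, 4],
  [16, 5, 12, 4],
  [14, 5, 17, 4],
  [19, 7, 9, 6],
  [20, 7, 17, 6],
  [21, 7, 19, 6],
  [14, 7, 22, 6],
  [10, 26, 15, 25],
  [15, 26, 16, 25],
  [12, 26, 17, 25],
  [20, 25, 20, 25],
  [8, 26, 21, 25],
  [13, 26, 22, 25],
  [11, 26, 24, 25],
  [9, 28, 9, 27],
  [12, 27, 12, 27],
  [19, 28, 14, 27],
  [23, 28, 15, 27],
  [13, 28, 18, 27],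
  [15, 28, 19, 27],
  [11, 28, 20, 27],
  [22, 28, 21, 27],
  [14, 28, 23, 27],
  [12, 1, 17, 12, 0],
  [28, 28, 1, 17, 0],
  [15, 21, 1, 18, 0],
  [20, 24, 1, 20, 0],
  [10, 3, 10, 8, 2],
  [14, 2, 14, 8, 2],
  [2, 9, 2, 9, 2],
  [2, 12, 2, 12, 2],
  [20, 3, 24, 20, 2],
  [25, 19, 26, 12, 8],
  [14, 8, 22, 16, 8],
  [20, 12, 20, 12, 9],
  [25, 17, 26, 12, 9],
  [13, 24, 11, 13, 9],
  [15, 23, 19, 14, 9],
  [25, 25, 5, 8, 4, 25, 25, 8],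
  [25, 5, 25, 4, 25, 5, 26, 8],
  [5, 26, 4, 8, 5, 26, 4, 8],
  [27, 27, 7, 18, 6, 18, 12, 9],
  [27, 7, 27, 6, 27, 7, 28, 18],
  [7, 28, 6, 18, 7, 28, 6, 18],
  [6, 16, 7, 4, 26, 4, 26, 4, 26],
  [26, 0, 2, 0, 0, 0, 3, 0, 3],
  [23, 0, 0, 2, 1, 2, 1, 1, 3, 1],
  [16, 1, 1, 1, 3, 0, 3, 1, 2, 1, 1],
  [23, 18, 9, 0, 6, 28, 26, 4, 0, 8, 1, 1],
  [28, 3, 0, 0, 0, 3, 1, 2, 1, 1, 2, 0],
  [10, 5, 9, 4],
  [13, 5, 10, 4],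
  [10, 13, 12, 11],
  [10, 22, 16, 14],
  [23, 26, 8, 25],
  [22, 23, 19, 15, 11],
  [4, 8, 4, 8, 4, 8],
  [8, 23, 8, 23, 8, 23],
  [21, 8, 25, 25, 8, 23],
  [8, 2, 0, 3, 1, 3, 0, 3, 0, 3, 0],
  [13, 1, 2, 1, 1, 1, 3, 0, 0, 2, 1, 3],
  [12, 0, 0, 0, 3, 1, 2, 1, 3, 0, 3, 1, 3],
  [14, 3, 0, 3, 1, 2, 0, 3, 0, 2, 1, 2, 0],
  [15, 1, 1, 3, 1, 1, 2, 1, 2, 1, 2, 1, 1, 2],
  [9, 2, 0, 3, 0, 2, 0, 0, 2, 0, 3, 0, 2, 0, 0],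
  [17, 20, 21, 19],
  [9, 21, 23, 20],
  [9, 26, 9, 25],
  [20, 17, 20, 17],
  [25, 22, 26, 12, 10],
  [1, 16, 0, 0, 21, 1],
  [1, 12, 14, 2, 25, 1],
  [8, 26, 26, 8, 20, 9],
  [3, 13, 0, 21, 28, 10],
  [8, 26, 19, 26, 20, 12],
  [2, 26, 19, 25, 3, 13],
  [10, 25, 2, 25, 28, 19],
  [21, 8, 25, 21, 25, 23],
  [21, 26, 26, 23, 25, 25],
  [21, 8, 21, 8, 21, 8],
  [11, 0, 3, 1, 1, 2, 1, 3, 1, 1, 2, 1, 1],
  [3, 10, 2, 8],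
  [1, 9, 0, 9],
  [3, 12, 2, 12],
  [9, 16, 13, 12],
  [10, 15, 10, 15],
  [8, 10, 3, 8, 2],
  [21, 24, 11, 21, 9],
  [1, 21, 24, 8, 28, 1],
  [3, 14, 8, 3, 14, 8],
  [8, 15, 8, 15, 12, 10],
  [8, 13, 15, 8, 15, 11],
  [1, 12, 15, 14, 0, 12],
  [9, 13, 15, 16, 15, 12],
  [9, 13, 0, 9, 1, 13],
  [3, 22, 8, 16, 3, 14],
  [14, 0, 27, 27, 1, 15],
  [12, 15, 3, 12, 2, 15],
  [3, 15, 22, 1, 21, 15],
  [2, 20, 8, 20, 3, 16],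
  [9, 21, 16, 11, 10, 21],
  [9, 21, 16, 13, 12, 21],
  [1, 8, 0, 27, 8, 28],
  [10, 0, 3, 0, 0, 3, 1, 1, 2, 1, 3],
  [17, 3, 1, 1, 3, 1, 2, 1, 2, 0, 2, 0],
  [9, 16, 11, 10],
  [14, 26, 13, 25],
  [10, 8, 10, 8],
  [22, 23, 13, 19, 13],
  [1, 23, 0, 2, 21, 3],
  [8, 10, 13, 8, 13, 10],
  [2, 26, 23, 25, 3, 16],
  [1, 23, 16, 1, 23, 16],
  [23, 8, 23, 8, 23, 8],
  [9, 19, 23, 17],
  [21, 9, 21, 9],
  [21, 17, 21, 17],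
  [21, 12, 21, 17, 12],
  [3, 10, 12, 2, 12, 8],
  [3, 9, 12, 2, 12, 9],
  [1, 26, 23, 2, 22, 9],
  [8, 2, 17, 15, 2, 14],
  [12, 15, 27, 12, 27, 15],
  [11, 19, 28, 20, 27, 19],
  [9, 21, 3, 9, 2, 21],
  [11, 21, 28, 20, 27, 21],
  [11, 26, 0, 14, 3, 23],
  [21, 8, 28, 1, 1, 24],
  [23, 7, 20, 6],
  [22, 7, 24, 6],
  [9, 16, 10, 11],
  [10, 12, 13, 11],
  [9, 23, 21, 20],
  [10, 9, 10, 9],
  [13, 10, 13, 10],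
  [3, 26, 10, 27, 26, 16],
  [17, 25, 27, 12, 27, 26],
  [19, 3, 1, 2, 1, 1, 3, 0, 3],
  [20, 1, 3, 1, 1, 2, 1, 3, 1, 1, 2],
  [24, 2, 1, 1, 2, 1, 3, 1, 1, 2, 1, 2],
  [18, 0, 3, 0, 0, 2, 1, 3, 1, 2, 0, 0, 0],
  [22, 2, 0, 3, 1, 3, 0, 0, 3, 1, 2, 0, 3],
  [23, 24, 23, 24],
  [23, 9, 23, 9],
  [13, 24, 12, 10, 9],
  [24, 0, 9, 1, 11],
  [24, 2, 8, 3, 16],
  [9, 10, 1, 9, 0, 10],
  [3, 28, 2, 23, 13, 10],
  [2, 24, 2, 11, 2, 11],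
  [11, 15, 21, 11, 21, 15],
  [12, 24, 3, 12, 2, 24],
  [17, 11, 17, 11],
  [13, 26, 14, 25, 11],
  [16, 25, 17, 26, 13],
  [15, 18, 17, 18, 14],
  [24, 18, 24, 20, 18],
  [0, 22, 3, 26, 20, 8],
  [9, 13, 14, 16, 14, 12],
  [9, 13, 18, 9, 18, 13],
  [9, 13, 26, 9, 25, 13],
  [8, 10, 17, 15, 8, 14],
  [3, 17, 20, 1, 19, 14],
  [13, 26, 10, 14, 25, 15],
  [10, 14, 25, 13, 26, 16],
  [1, 25, 22, 1, 19, 18],
  [12, 23, 8, 12, 8, 19],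
  [18, 21, 18, 21],
  [11, 23, 24, 23, 9],
  [11, 26, 11, 25, 9],
  [18, 21, 15, 18, 14],
  [3, 23, 25, 0, 22, 9],
  [3, 8, 24, 16, 2, 10],
  [9, 22, 26, 13, 25, 11],
  [0, 24, 1, 25, 25, 11],
  [2, 22, 8, 24, 2, 14],
  [3, 8, 22, 24, 3, 14],
  [9, 22, 8, 11, 8, 14],
  [9, 22, 26, 24, 25, 14],
  [8, 26, 0, 25, 18, 15],
  [2, 25, 21, 26, 3, 16],
  [15, 22, 8, 24, 8, 17],
  [16, 20, 10, 20],
  [14, 20, 14, 20],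
  [20, 13, 20, 12, 10],
  [3, 20, 2, 25, 25, 9],
  [9, 15, 28, 9, 27, 15],
  [2, 2, 2],
  [3, 9, 2, 9],
  [8, 9, 8, 9],
  [8, 10, 8, 10],
  [9, 10, 9, 10],
  [8, 11, 8, 11],
  [9, 22, 14, 11],
  [9, 10, 16, 11],
  [9, 14, 22, 11],
  [9, 12, 9, 12],
  [10, 12, 10, 12],
  [9, 13, 16, 12],
  [9, 16, 12, 13],
  [9, 14, 9, 14],
  [10, 14, 10, 14],
  [12, 14, 12, 14],
  [8, 16, 8, 16],
  [16, 17, 16, 17],
  [9, 23, 19, 17],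
  [15, 22, 24, 17],
  [9, 19, 9, 19],
  [11, 19, 11, 19],
  [12, 23, 12, 19],
  [15, 19, 15, 19],
  [9, 23, 17, 19],
  [18, 19, 18, 19],
  [17, 21, 20, 19],
  [9, 20, 9, 20],
  [15, 20, 15, 20],
  [17, 20, 17, 20],
  [18, 20, 18, 20],
  [17, 21, 19, 20],
  [9, 23, 20, 21],
  [13, 22, 13, 22],
  [15, 22, 15, 22],
  [15, 24, 17, 22],
  [19, 22, 19, 22],
  [21, 22, 21, 22],
  [11, 23, 11, 23],
  [18, 23, 18, 23],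
  [8, 24, 8, 24],
  [19, 24, 19, 24],
  [20, 24, 20, 24],
  [24, 26, 11, 25],
  [26, 26, 26, 26],
  [18, 28, 16, 27],
  [20, 28, 24, 27],
  [9, 8, 9, 8],
  [11, 8, 11, 8],
  [12, 8, 12, 8],
  [13, 8, 13, 8],
  [16, 8, 16, 8],
  [12, 9, 12, 9],
  [13, 9, 13, 9],
  [14, 9, 14, 9],
  [15, 9, 15, 9],
  [16, 9, 16, 9],
  [18, 9, 18, 9],
  [19, 9, 19, 9],
  [20, 9, 20, 9],
  [22, 9, 22, 9],
  [14, 10, 14, 10],
  [15, 10, 15, 10],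
  [24, 10, 24, 10],
  [9, 11, 9, 11],
  [15, 11, 15, 11],
  [19, 11, 19, 11],
  [20, 11, 20, 11],
  [21, 11, 21, 11],
  [23, 11, 23, 11],
  [16, 12, 16, 12],
  [17, 12, 17, 12],
  [16, 13, 16, 13],
  [22, 13, 22, 13],
  [17, 14, 17, 14],
  [19, 14, 19, 14],
  [20, 14, 20, 14],
  [21, 14, 21, 14],
  [23, 14, 23, 14],
  [19, 15, 19, 15],
  [21, 15, 21, 15],
  [22, 15, 22, 15],
  [23, 15, 23, 15],
  [12, 16, 12, 16],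
  [13, 16, 13, 16],
  [18, 17, 18, 17],
  [20, 18, 20, 18],
  [23, 18, 23, 18],
  [23, 19, 23, 19],
  [19, 20, 19, 20],
  [22, 20, 22, 20],
  [19, 21, 19, 21],
  [23, 22, 23, 22],
  [20, 23, 20, 23],
  [9, 24, 9, 24],
  [16, 24, 16, 24],
  [2, 10, 2, 8, 2],
  [14, 8, 14, 10, 8],
  [22, 8, 22, 10, 8],
  [17, 8, 17, 12, 8],
  [22, 8, 16, 14, 8],
  [15, 19, 23, 14, 9],
  [11, 17, 22, 15, 9],
  [11, 15, 22, 17, 9],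
  [26, 12, 25, 17, 9],
  [28, 17, 27, 17, 9],
  [27, 17, 28, 17, 9],
  [19, 24, 11, 19, 9],
  [15, 23, 14, 19, 9],
  [11, 19, 24, 19, 9],
  [20, 24, 11, 20, 9],
  [28, 11, 27, 20, 9],
  [11, 21, 24, 21, 9],
  [11, 15, 17, 22, 9],
  [23, 24, 11, 23, 9],
  [15, 19, 14, 23, 9],
  [24, 25, 24, 26, 9],
  [26, 14, 25, 12, 10],
  [12, 24, 9, 13, 10],
  [19, 16, 19, 14, 10],
  [21, 10, 21, 14, 10],
  [23, 16, 23, 14, 10],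
  [15, 24, 16, 15, 10],
  [16, 17, 22, 15, 10],
  [20, 24, 10, 20, 10],
  [21, 22, 16, 21, 10],
  [16, 21, 24, 21, 10],
  [16, 26, 11, 25, 10],
  [26, 14, 17, 25, 10],
  [24, 25, 15, 26, 10],
  [24, 2, 9, 3, 11],
  [25, 16, 26, 15, 11],
  [27, 21, 28, 15, 11],
  [23, 24, 19, 17, 11],
  [18, 20, 11, 18, 11],
  [23, 24, 17, 19, 11],
  [23, 24, 20, 21, 11],
  [20, 24, 23, 21, 11],
  [23, 24, 9, 23, 11],
  [20, 24, 21, 23, 11],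
  [24, 26, 9, 25, 11],
  [25, 22, 14, 26, 11],
  [27, 21, 23, 28, 11],
  [20, 13, 16, 20, 12],
  [21, 13, 21, 15, 13],
  [23, 13, 22, 19, 13],
  [15, 19, 17, 19, 14],
  [15, 19, 21, 20, 14],
  [22, 27, 20, 28, 14],
  [25, 16, 24, 26, 15],
  [17, 28, 23, 27, 15],
  [22, 23, 16, 23, 16],
  [28, 22, 27, 21, 17],
  [22, 18, 22, 19, 18],
  [28, 10, 27, 20, 18],
  [23, 28, 17, 27, 19],
  [24, 28, 23, 27, 22],
  [6, 18, 6, 18, 6, 18],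
  [1, 28, 0, 19, 16, 1],
  [1, 2, 23, 8, 18, 1],
  [1, 11, 0, 0, 20, 1],
  [1, 10, 0, 0, 23, 1],
  [1, 14, 2, 12, 25, 1],
  [1, 13, 0, 14, 10, 2],
  [1, 13, 0, 22, 16, 2],
  [1, 11, 28, 2, 18, 2],
  [0, 25, 0, 10, 19, 2],
  [1, 13, 0, 16, 22, 2],
  [3, 14, 2, 14, 8, 3],
  [0, 21, 16, 18, 8, 3],
  [1, 24, 0, 2, 11, 3],
  [1, 22, 0, 2, 15, 3],
  [0, 18, 1, 2, 16, 3],
  [3, 20, 3, 24, 20, 3],
  [1, 15, 0, 2, 22, 3],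
  [1, 21, 0, 2, 23, 3],
  [3, 20, 3, 20, 24, 3],
  [0, 16, 26, 1, 25, 3],
  [1, 8, 21, 8, 0, 8],
  [3, 14, 1, 13, 0, 8],
  [0, 27, 21, 24, 0, 8],
  [2, 8, 24, 16, 3, 8],
  [3, 9, 10, 2, 9, 8],
  [0, 18, 20, 1, 10, 8],
  [0, 27, 0, 27, 12, 8],
  [0, 28, 0, 27, 17, 8],
  [2, 15, 20, 1, 19, 8],
  [1, 23, 28, 1, 20, 8],
  [3, 16, 20, 2, 20, 8],
  [3, 20, 2, 8, 20, 8],
  [0, 14, 3, 26, 24, 8],
  [0, 12, 28, 0, 27, 8],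
  [8, 9, 10, 8, 10, 9],
  [3, 28, 28, 2, 17, 9],
  [3, 11, 20, 2, 20, 9],
  [2, 26, 26, 3, 20, 9],
  [8, 25, 21, 25, 20, 9],
  [8, 26, 23, 26, 20, 9],
  [8, 26, 23, 20, 25, 9],
  [8, 25, 21, 20, 26, 9],
  [3, 20, 2, 26, 26, 9],
  [2, 15, 18, 16, 1, 10],
  [8, 0, 20, 18, 1, 10],
  [2, 18, 16, 21, 1, 10],
  [3, 14, 8, 14, 2, 10],
  [8, 10, 12, 8, 12, 10],
  [3, 27, 2, 19, 13, 10],
  [8, 15, 8, 12, 15, 10],
  [1, 19, 0, 10, 18, 10],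
  [9, 10, 21, 23, 20, 10],
  [0, 27, 10, 0, 27, 10],
  [10, 13, 3, 12, 2, 11],
  [9, 16, 2, 8, 3, 11],
  [2, 26, 26, 20, 3, 11],
  [3, 12, 27, 2, 19, 11],
  [3, 28, 2, 12, 19, 11],
  [3, 26, 26, 2, 20, 11],
  [9, 10, 20, 10, 20, 11],
  [9, 20, 22, 14, 20, 11],
  [9, 21, 16, 10, 21, 11],
  [9, 21, 22, 14, 21, 11],
  [2, 14, 1, 25, 23, 11],
  [1, 28, 17, 3, 25, 11],
  [2, 27, 17, 0, 26, 11],
  [0, 24, 1, 26, 26, 11],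
  [10, 13, 27, 12, 27, 11],
  [10, 13, 28, 12, 28, 11],
  [9, 10, 27, 18, 28, 11],
  [1, 8, 17, 8, 0, 12],
  [1, 12, 14, 15, 0, 12],
  [1, 21, 12, 21, 0, 12],
  [1, 15, 2, 25, 1, 12],
  [0, 12, 27, 27, 1, 12],
  [9, 18, 27, 27, 18, 12],
  [0, 27, 1, 24, 21, 12],
  [0, 22, 3, 19, 25, 12],
  [8, 26, 19, 20, 25, 12],
  [9, 26, 19, 23, 25, 12],
  [1, 21, 24, 0, 27, 12],
  [9, 12, 28, 9, 27, 12],
  [9, 27, 16, 13, 27, 12],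
  [10, 13, 28, 20, 27, 12],
  [9, 18, 28, 13, 28, 12],
  [9, 28, 13, 16, 28, 12],
  [10, 23, 3, 27, 2, 13],
  [9, 13, 23, 19, 17, 13],
  [1, 21, 0, 13, 18, 13],
  [10, 12, 19, 11, 19, 13],
  [2, 13, 22, 2, 22, 13],
  [9, 25, 22, 26, 24, 13],
  [0, 18, 3, 26, 28, 13],
  [0, 19, 26, 18, 0, 14],
  [3, 14, 2, 10, 2, 14],
  [9, 14, 2, 9, 3, 14],
  [3, 8, 17, 15, 3, 14],
  [10, 26, 28, 0, 18, 14],
  [0, 21, 22, 2, 18, 14],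
  [0, 17, 20, 2, 19, 14],
  [9, 19, 22, 11, 19, 14],
  [3, 21, 26, 0, 20, 14],
  [10, 20, 22, 10, 20, 14],
  [10, 18, 1, 27, 25, 14],
  [9, 15, 28, 17, 27, 14],
  [3, 28, 25, 2, 28, 14],
  [0, 22, 2, 16, 1, 15],
  [2, 21, 0, 16, 3, 15],
  [9, 15, 8, 9, 8, 15],
  [11, 18, 22, 23, 18, 15],
  [9, 22, 23, 24, 19, 15],
  [1, 19, 8, 2, 20, 15],
  [0, 15, 22, 2, 21, 15],
  [11, 28, 17, 27, 22, 15],
  [9, 15, 21, 20, 23, 15],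
  [13, 28, 0, 18, 26, 15],
  [13, 25, 18, 1, 27, 15],
  [13, 15, 28, 18, 27, 15],
  [1, 20, 8, 1, 28, 15],
  [8, 24, 3, 8, 2, 16],
  [3, 22, 2, 22, 3, 16],
  [2, 19, 3, 16, 18, 16],
  [10, 18, 24, 20, 18, 16],
  [10, 18, 24, 18, 20, 16],
  [1, 22, 26, 3, 28, 16],
  [13, 18, 28, 13, 28, 16],
  [3, 18, 12, 18, 2, 17],
  [8, 12, 15, 14, 8, 17],
  [9, 18, 19, 23, 18, 17],
  [0, 19, 26, 0, 21, 17],
  [1, 25, 19, 1, 21, 17],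
  [15, 21, 24, 22, 21, 17],
  [8, 17, 25, 19, 26, 17],
  [0, 24, 26, 2, 27, 17],
  [10, 26, 28, 18, 0, 18],
  [10, 18, 1, 19, 0, 18],
  [0, 18, 14, 18, 1, 18],
  [0, 14, 20, 19, 1, 18],
  [16, 18, 2, 19, 3, 18],
  [15, 25, 28, 22, 3, 18],
  [17, 18, 10, 17, 10, 18],
  [11, 18, 13, 20, 13, 18],
  [14, 18, 20, 19, 14, 18],
  [0, 22, 26, 0, 19, 18],
  [3, 19, 22, 2, 19, 18],
  [0, 18, 26, 28, 19, 18],
  [17, 18, 20, 17, 20, 18],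
  [12, 28, 10, 28, 20, 18],
  [9, 18, 26, 9, 25, 18],
  [17, 18, 25, 12, 26, 18],
  [0, 19, 3, 21, 26, 18],
  [2, 25, 22, 0, 27, 18],
  [9, 19, 0, 9, 1, 19],
  [14, 3, 21, 19, 1, 19],
  [14, 3, 19, 21, 1, 19],
  [9, 19, 3, 9, 2, 19],
  [14, 0, 20, 17, 2, 19],
  [12, 23, 2, 12, 3, 19],
  [12, 22, 23, 12, 22, 19],
  [9, 19, 26, 9, 25, 19],
  [17, 20, 25, 8, 26, 19],
  [3, 26, 27, 2, 27, 19],
  [18, 19, 28, 16, 27, 19],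
  [1, 2, 24, 3, 0, 20],
  [14, 19, 1, 18, 0, 20],
  [11, 1, 23, 21, 0, 20],
  [0, 2, 20, 3, 1, 20],
  [0, 11, 20, 9, 1, 20],
  [0, 10, 20, 10, 1, 20],
  [0, 16, 20, 16, 1, 20],
  [18, 0, 22, 19, 1, 20],
  [0, 11, 21, 23, 1, 20],
  [3, 11, 20, 9, 2, 20],
  [3, 10, 20, 10, 2, 20],
  [3, 16, 20, 16, 2, 20],
  [11, 2, 21, 23, 3, 20],
  [16, 20, 8, 10, 8, 20],
  [8, 9, 26, 26, 8, 20],
  [12, 27, 24, 28, 12, 20],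
  [15, 20, 22, 15, 22, 20],
  [0, 26, 26, 1, 24, 20],
  [8, 20, 26, 23, 25, 20],
  [11, 20, 26, 24, 25, 20],
  [0, 22, 3, 21, 26, 20],
  [13, 20, 25, 22, 26, 20],
  [12, 27, 24, 12, 27, 20],
  [12, 28, 11, 12, 28, 20],
  [10, 20, 27, 18, 28, 20],
  [11, 23, 1, 20, 0, 21],
  [15, 3, 24, 17, 1, 21],
  [15, 3, 17, 24, 1, 21],
  [16, 25, 18, 26, 1, 21],
  [15, 0, 24, 17, 2, 21],
  [15, 0, 17, 24, 2, 21],
  [19, 1, 14, 19, 3, 21],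
  [10, 17, 21, 15, 10, 21],
  [12, 28, 22, 27, 12, 21],
  [11, 21, 13, 11, 13, 21],
  [11, 21, 26, 24, 25, 21],
  [0, 25, 18, 15, 26, 21],
  [1, 28, 8, 27, 0, 22],
  [10, 22, 2, 8, 3, 22],
  [19, 2, 19, 18, 3, 22],
  [18, 13, 23, 13, 18, 22],
  [20, 22, 25, 20, 25, 22],
  [11, 27, 17, 23, 28, 22],
  [9, 23, 0, 9, 1, 23],
  [13, 14, 19, 24, 13, 23],
  [18, 11, 21, 18, 24, 23],
  [14, 23, 27, 19, 28, 23],
  [8, 24, 3, 10, 2, 24],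
  [20, 24, 25, 20, 25, 24],
  [10, 13, 25, 17, 26, 24],
  [19, 1, 19, 20, 1, 25],
  [9, 26, 3, 9, 2, 25],
  [9, 26, 2, 9, 3, 25],
  [9, 15, 26, 13, 12, 25],
  [20, 25, 18, 20, 18, 25],
  [8, 26, 18, 21, 18, 25],
  [9, 25, 3, 9, 2, 26],
  [20, 25, 3, 11, 2, 26],
  [17, 25, 3, 12, 2, 26],
  [9, 10, 25, 22, 17, 26],
  [8, 25, 18, 23, 18, 26],
  [22, 25, 28, 18, 27, 26],
  [12, 25, 27, 17, 28, 26],
  [9, 28, 8, 9, 8, 27],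
  [12, 27, 10, 11, 13, 27],
  [19, 28, 13, 14, 13, 27],
  [23, 28, 13, 15, 13, 27],
  [20, 28, 13, 24, 13, 27],
  [11, 28, 17, 20, 17, 27],
  [16, 28, 28, 13, 27, 27],
  [13, 28, 28, 16, 27, 27],
  [17, 28, 28, 17, 27, 27],
  [23, 28, 28, 19, 27, 27],
  [1, 12, 28, 1, 8, 28],
  [18, 20, 12, 28, 10, 28],
  [18, 16, 28, 18, 16, 28],
  [16, 27, 17, 18, 17, 28],
  [18, 8, 18, 8, 18, 8],
  [18, 10, 18, 10, 18, 10],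
  [16, 18, 16, 18, 16, 18],
  [8, 12, 8, 12],
  [10, 13, 11, 12],
  [8, 13, 8, 13],
  [9, 13, 9, 13],
  [10, 13, 10, 13],
  [9, 22, 11, 14],
  [13, 14, 13, 14],
  [11, 15, 11, 15],
  [12, 15, 12, 15],
  [13, 15, 13, 15],
  [9, 16, 9, 16],
  [15, 16, 15, 16],
  [9, 17, 9, 17],
  [10, 17, 10, 17],
  [11, 17, 11, 17],
  [12, 17, 12, 17],
  [13, 17, 13, 17],
  [9, 18, 9, 18],
  [14, 19, 14, 19],
  [11, 20, 11, 20],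
  [11, 21, 11, 21],
  [14, 21, 14, 21],
  [15, 21, 15, 21],
  [9, 22, 9, 22],
  [10, 22, 10, 22],
  [12, 22, 12, 22],
  [20, 22, 20, 22],
  [15, 23, 15, 23],
  [12, 24, 12, 24],
  [13, 24, 13, 24],
  [15, 24, 15, 24],
  [21, 24, 21, 24],
  [28, 28, 28, 28],
  [11, 9, 11, 9],
  [17, 9, 17, 9],
  [11, 12, 11, 12],
  [15, 12, 15, 12],
  [22, 12, 22, 12],
  [24, 12, 24, 12],
  [11, 14, 11, 14],
  [15, 17, 15, 17],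
  [24, 17, 24, 17],
  [19, 18, 19, 18],
  [23, 20, 23, 20],
  [24, 21, 24, 21],
  [14, 22, 14, 22],
  [10, 24, 10, 24],
  [11, 24, 11, 24],
  [12, 24, 13, 10, 9],
  [12, 24, 11, 12, 9],
  [15, 22, 11, 17, 9],
  [11, 17, 24, 17, 9],
  [27, 24, 28, 20, 9],
  [24, 27, 18, 28, 10],
  [16, 27, 20, 28, 10],
  [20, 24, 9, 20, 11],
  [20, 12, 23, 21, 12],
  [26, 14, 24, 25, 13],
  [19, 24, 22, 19, 14],
  [0, 16, 18, 15, 8, 3],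
  [1, 11, 0, 2, 24, 3],
  [1, 21, 24, 28, 1, 8],
  [0, 22, 3, 20, 25, 8],
  [0, 14, 3, 11, 26, 8],
  [8, 9, 16, 8, 16, 9],
  [8, 20, 26, 21, 26, 9],
  [9, 13, 22, 14, 12, 10],
  [9, 12, 22, 13, 14, 10],
  [9, 12, 14, 13, 22, 10],
  [8, 25, 22, 19, 26, 10],
  [9, 20, 1, 20, 0, 11],
  [1, 24, 26, 26, 0, 11],
  [9, 18, 20, 24, 18, 11],
  [10, 13, 26, 17, 25, 11],
  [10, 12, 28, 18, 27, 11],
  [9, 16, 17, 13, 17, 12],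
  [9, 18, 28, 28, 18, 12],
  [9, 12, 21, 9, 21, 12],
  [10, 13, 21, 11, 21, 12],
  [9, 13, 22, 16, 22, 12],
  [8, 12, 24, 8, 24, 12],
  [10, 13, 26, 24, 25, 12],
  [10, 13, 25, 24, 26, 12],
  [9, 18, 27, 16, 27, 12],
  [9, 13, 1, 9, 0, 13],
  [0, 13, 21, 18, 0, 13],
  [1, 18, 13, 1, 18, 13],
  [10, 13, 26, 15, 25, 13],
  [13, 23, 24, 13, 19, 14],
  [12, 15, 2, 12, 3, 15],
  [11, 18, 23, 22, 18, 15],
  [9, 26, 10, 25, 24, 15],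
  [13, 18, 27, 27, 18, 16],
  [12, 24, 26, 14, 25, 16],
  [13, 26, 23, 19, 25, 16],
  [10, 17, 2, 8, 3, 17],
  [14, 18, 14, 21, 18, 17],
  [9, 25, 16, 13, 26, 17],
  [0, 17, 21, 14, 1, 18],
  [9, 18, 16, 10, 11, 18],
  [17, 18, 20, 21, 19, 18],
  [2, 22, 27, 10, 26, 18],
  [12, 23, 24, 12, 24, 19],
  [12, 23, 26, 17, 25, 19],
  [8, 25, 21, 9, 25, 20],
  [12, 24, 0, 27, 1, 21],
  [9, 21, 2, 9, 3, 21],
  [21, 2, 25, 25, 3, 23],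
  [21, 8, 26, 26, 8, 23],
  [21, 25, 21, 23, 25, 23],
  [9, 21, 26, 20, 26, 23],
  [11, 1, 11, 24, 0, 24],
  [8, 25, 2, 14, 1, 24],
  [9, 18, 20, 11, 18, 24],
  [20, 26, 3, 11, 2, 25],
  [11, 26, 19, 24, 19, 25],
  [16, 26, 27, 21, 28, 25],
  [20, 12, 26, 20, 17, 26],
  [8, 9, 25, 17, 19, 26],
  [18, 13, 27, 18, 13, 27],
  [18, 28, 22, 16, 22, 27],
  [18, 27, 8, 13, 8, 28],
  [9, 21, 9, 21],
  [9, 23, 9, 23],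
  [17, 13, 17, 13],
  [16, 15, 16, 15],
  [25, 22, 24, 26, 13],
  [28, 22, 24, 27, 19],
  [23, 24, 14, 23, 22],
  [1, 21, 8, 21, 0, 8],
  [2, 16, 2, 13, 2, 13],
  [9, 26, 14, 25, 24, 13],
  [1, 25, 21, 2, 20, 14],
  [9, 14, 21, 23, 20, 14],
  [17, 21, 25, 20, 25, 19],
  [17, 21, 26, 20, 26, 19],
  [11, 3, 25, 25, 2, 20],
  [8, 26, 26, 9, 8, 20],
  [19, 24, 27, 15, 28, 24],
  [11, 25, 0, 11, 1, 25],
  [15, 28, 10, 25, 2, 25],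
  [8, 26, 23, 21, 23, 25],
  [10, 14, 22, 16],
  [14, 17, 14, 17],
  [11, 20, 24, 20, 9],
  [19, 22, 10, 19, 10],
  [26, 10, 25, 15, 11],
  [21, 12, 20, 19, 12],
  [25, 19, 23, 26, 12],
  [15, 21, 20, 19, 14],
  [15, 20, 17, 20, 14],
  [17, 21, 15, 21, 14],
  [8, 9, 25, 23, 26, 9],
  [8, 12, 15, 8, 15, 10],
  [2, 20, 8, 3, 20, 10],
  [1, 26, 26, 24, 0, 11],
  [3, 12, 28, 2, 23, 11],
  [2, 25, 1, 1, 14, 12],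
  [10, 23, 13, 23, 15, 12],
  [8, 21, 10, 21, 8, 14],
  [12, 15, 21, 12, 21, 14],
  [10, 17, 21, 10, 21, 15],
  [10, 19, 13, 12, 23, 15],
  [10, 12, 23, 13, 23, 15],
  [1, 21, 16, 1, 21, 16],
  [14, 21, 1, 18, 0, 17],
  [15, 22, 25, 11, 26, 17],
  [0, 13, 21, 13, 1, 18],
  [0, 14, 19, 20, 1, 18],
  [1, 19, 27, 25, 14, 18],
  [15, 18, 19, 20, 15, 18],
  [9, 18, 23, 21, 20, 18],
  [11, 18, 23, 24, 21, 18],
  [9, 27, 16, 12, 28, 18],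
  [15, 16, 21, 20, 10, 19],
  [10, 15, 21, 20, 16, 19],
  [15, 21, 24, 20, 22, 19],
  [12, 28, 11, 27, 12, 20],
  [15, 20, 24, 17, 22, 20],
  [8, 25, 21, 8, 25, 21],
  [15, 21, 25, 10, 26, 21],
  [21, 13, 24, 20, 13, 23],
  [18, 24, 28, 10, 27, 24],
  [23, 26, 3, 10, 2, 25],
  [20, 25, 16, 20, 10, 25],
  [20, 25, 27, 11, 28, 25],
  [24, 28, 28, 11, 27, 27],
  [21, 0, 0, 3, 0, 3, 1, 2],
  [9, 15, 9, 15],
  [17, 18, 17, 18],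
  [14, 13, 14, 13],
  [24, 13, 24, 13],
  [23, 17, 23, 17],
  [24, 20, 24, 20],
  [11, 27, 20, 28, 9],
  [21, 16, 21, 22, 10],
  [13, 25, 22, 26, 11],
  [17, 27, 23, 28, 14],
  [23, 27, 17, 28, 19],
  [23, 27, 24, 28, 21],
  [1, 21, 8, 24, 28, 1],
  [3, 8, 16, 24, 2, 10],
  [10, 13, 2, 12, 3, 11],
  [10, 12, 17, 13, 17, 11],
  [9, 12, 18, 9, 18, 12],
  [9, 12, 21, 23, 20, 12],
  [9, 16, 28, 18, 27, 12],
  [11, 19, 13, 19, 15, 13],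
  [8, 13, 25, 23, 26, 13],
  [9, 13, 28, 9, 27, 13],
  [11, 17, 25, 16, 26, 14],
  [8, 23, 13, 23, 8, 15],
  [11, 28, 17, 21, 27, 15],
  [9, 17, 1, 9, 0, 17],
  [2, 1, 28, 20, 2, 18],
  [9, 27, 16, 27, 12, 18],
  [11, 28, 10, 20, 27, 18],
  [14, 3, 20, 17, 1, 19],
  [14, 0, 21, 19, 2, 19],
  [15, 19, 26, 16, 25, 19],
  [15, 19, 25, 10, 26, 19],
  [0, 11, 23, 21, 1, 20],
  [8, 12, 26, 19, 26, 20],
  [12, 28, 10, 13, 28, 20],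
  [9, 21, 27, 14, 28, 20],
  [19, 27, 24, 17, 28, 21],
  [9, 22, 0, 9, 1, 22],
  [11, 0, 24, 11, 1, 24],
  [21, 0, 27, 12, 1, 24],
  [22, 18, 26, 28, 1, 25],
  [18, 28, 22, 14, 10, 27],
  [12, 18, 12, 28, 13, 27],
  [9, 21, 28, 22, 17, 27],
  [20, 24, 22, 20, 14],
  [2, 10, 14, 2, 14, 10],
  [9, 12, 26, 9, 25, 12],
  [9, 13, 19, 9, 19, 13],
  [9, 13, 23, 17, 19, 13],
  [9, 14, 18, 9, 18, 14],
  [9, 18, 22, 14, 11, 18],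
  [13, 23, 24, 14, 13, 19],
  [3, 20, 22, 14, 2, 20],
  [2, 24, 2, 24, 2, 24],
  [10, 22, 14, 16],
  [15, 24, 22, 17],
  [17, 21, 17, 21],
  [24, 9, 24, 9],
  [12, 10, 12, 10],
  [13, 11, 13, 11],
  [16, 11, 16, 11],
  [22, 11, 22, 11],
  [15, 13, 15, 13],
  [15, 14, 15, 14],
  [24, 14, 24, 14],
  [17, 16, 17, 16],
  [22, 16, 22, 16],
  [21, 19, 21, 19],
  [22, 21, 22, 21],
  [17, 22, 17, 22],
  [19, 23, 19, 23],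
  [24, 23, 24, 23],
  [17, 24, 17, 24],
  [14, 19, 15, 23, 9],
  [24, 26, 24, 25, 9],
  [24, 28, 20, 27, 9],
  [16, 17, 24, 17, 10],
  [19, 16, 14, 19, 10],
  [15, 16, 17, 22, 10],
  [23, 10, 23, 22, 10],
  [24, 1, 9, 0, 11],
  [17, 28, 19, 27, 14],
  [24, 28, 21, 27, 14],
  [16, 17, 14, 16, 15],
  [16, 17, 10, 22, 15],
  [20, 28, 22, 27, 19],
  [3, 14, 8, 2, 14, 3],
  [2, 22, 8, 22, 3, 8],
  [0, 11, 20, 1, 20, 9],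
  [8, 9, 26, 21, 25, 9],
  [0, 22, 3, 23, 25, 9],
  [8, 25, 17, 19, 26, 9],
  [2, 17, 3, 27, 27, 9],
  [9, 10, 0, 9, 1, 10],
  [3, 22, 8, 22, 2, 10],
  [9, 12, 14, 22, 13, 10],
  [9, 16, 17, 11, 17, 10],
  [9, 16, 19, 11, 19, 10],
  [9, 23, 16, 15, 19, 10],
  [9, 10, 20, 9, 20, 10],
  [9, 10, 21, 9, 21, 10],
  [9, 19, 16, 15, 23, 10],
  [9, 25, 22, 17, 26, 10],
  [9, 10, 28, 9, 27, 10],
  [9, 10, 15, 16, 15, 11],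
  [9, 19, 16, 10, 19, 11],
  [9, 23, 16, 10, 23, 11],
  [3, 27, 2, 12, 23, 11],
  [9, 14, 28, 21, 27, 11],
  [9, 22, 27, 19, 28, 11],
  [9, 12, 1, 9, 0, 12],
  [9, 15, 16, 13, 15, 12],
  [9, 13, 21, 9, 21, 13],
  [9, 13, 25, 9, 26, 13],
  [9, 16, 28, 12, 28, 13],
  [9, 14, 1, 9, 0, 14],
  [3, 23, 26, 24, 0, 14],
  [8, 2, 15, 17, 2, 14],
  [9, 20, 22, 11, 20, 14],
  [9, 21, 22, 11, 21, 14],
  [9, 22, 28, 20, 27, 14],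
  [9, 15, 27, 17, 28, 14],
  [9, 15, 1, 9, 0, 15],
  [10, 15, 2, 8, 3, 15],
  [9, 15, 2, 9, 3, 15],
  [10, 15, 20, 16, 20, 15],
  [9, 15, 21, 23, 20, 15],
  [9, 15, 26, 9, 25, 15],
  [9, 27, 21, 20, 28, 15],
  [8, 24, 2, 10, 3, 16],
  [9, 16, 18, 9, 18, 16],
  [13, 18, 28, 28, 18, 16],
  [15, 21, 16, 20, 19, 16],
  [9, 16, 21, 23, 20, 16],
  [15, 16, 28, 19, 27, 16],
  [9, 17, 8, 9, 8, 17],
  [10, 17, 8, 10, 8, 17],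
  [16, 17, 20, 10, 20, 17],
  [15, 20, 24, 22, 20, 17],
  [9, 17, 21, 9, 21, 17],
  [9, 19, 26, 8, 25, 17],
  [9, 19, 28, 15, 27, 17],
  [9, 23, 27, 15, 28, 17],
  [9, 18, 3, 9, 2, 18],
  [14, 0, 22, 21, 2, 18],
  [9, 18, 2, 9, 3, 18],
  [9, 18, 8, 9, 8, 18],
  [9, 28, 13, 28, 12, 18],
  [13, 2, 23, 3, 13, 18],
  [14, 18, 13, 21, 13, 18],
  [0, 19, 22, 1, 20, 18],
  [17, 18, 20, 19, 21, 18],
  [15, 18, 24, 22, 21, 18],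
  [1, 18, 27, 15, 25, 18],
  [9, 18, 28, 9, 27, 18],
  [12, 28, 11, 10, 28, 18],
  [9, 19, 1, 9, 0, 19],
  [9, 19, 2, 9, 3, 19],
  [11, 19, 8, 11, 8, 19],
  [10, 18, 22, 18, 10, 19],
  [17, 2, 22, 1, 26, 19],
  [12, 23, 27, 12, 27, 19],
  [12, 23, 28, 12, 28, 19],
  [9, 21, 12, 19, 12, 20],
  [14, 18, 24, 18, 22, 20],
  [9, 13, 20, 13, 24, 20],
  [11, 28, 11, 27, 24, 20],
  [11, 27, 24, 28, 24, 20],
  [8, 26, 23, 9, 26, 20],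
  [9, 27, 16, 10, 28, 20],
  [15, 3, 22, 15, 1, 21],
  [9, 23, 16, 20, 10, 21],
  [15, 21, 24, 17, 22, 21],
  [11, 26, 12, 16, 25, 22],
  [9, 23, 1, 9, 0, 23],
  [11, 3, 27, 12, 2, 23],
  [14, 23, 26, 13, 25, 23],
  [9, 23, 27, 9, 28, 23],
  [21, 27, 16, 10, 28, 23],
  [18, 23, 27, 13, 28, 23],
  [20, 13, 25, 20, 14, 25],
  [11, 26, 23, 24, 23, 25],
  [10, 26, 28, 19, 27, 25],
  [13, 26, 28, 21, 27, 25],
  [20, 25, 28, 24, 27, 25],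
  [21, 25, 3, 10, 2, 26],
  [9, 28, 0, 9, 1, 27],
  [12, 27, 8, 12, 8, 27],
  [20, 28, 8, 24, 8, 27],
  [15, 28, 11, 19, 11, 27],
  [22, 28, 11, 21, 11, 27],
  [9, 15, 28, 23, 17, 27],
  [15, 28, 28, 14, 27, 27],
  [21, 27, 16, 14, 10, 28],
  [19, 27, 10, 15, 10, 28],
  [28, 17, 28, 28, 17, 28],
  [28, 11, 28, 28, 24, 28],
  [18, 13, 18, 13, 18, 13],
  [0, 0, 0, 2, 0, 0, 2, 0, 0, 0, 2, 0, 0, 2],
  [17, 26, 16, 25, 14],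
  [19, 22, 16, 19, 16],
  [2, 20, 26, 26, 3, 11],
  [9, 16, 26, 15, 25, 11],
  [9, 13, 20, 10, 20, 12],
  [9, 16, 26, 22, 25, 12],
  [0, 13, 18, 21, 0, 13],
  [8, 23, 16, 23, 8, 14],
  [3, 24, 25, 1, 28, 17],
  [9, 19, 16, 11, 10, 19],
  [9, 21, 26, 8, 25, 20],
  [9, 21, 1, 9, 0, 21],
  [12, 24, 27, 12, 27, 24],
  [0, 0, 0, 0, 0, 0, 0],
  [17, 10, 17, 10],
  [14, 11, 14, 11],
  [13, 12, 13, 12],
  [24, 15, 24, 15],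
  [24, 19, 24, 19],
  [17, 23, 17, 23],
  [13, 24, 10, 12, 9],
  [12, 24, 10, 13, 9],
  [23, 16, 14, 23, 10],
  [18, 15, 18, 21, 14],
  [15, 23, 17, 23, 14],
  [22, 23, 24, 23, 14],
  [2, 8, 16, 24, 3, 8],
  [0, 27, 0, 12, 28, 8],
  [9, 16, 21, 11, 21, 10],
  [9, 13, 27, 18, 28, 12],
  [10, 19, 3, 28, 2, 13],
  [9, 16, 26, 17, 25, 13],
  [13, 15, 22, 13, 22, 15],
  [11, 18, 22, 18, 23, 15],
  [10, 15, 26, 15, 25, 15],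
  [12, 15, 26, 17, 25, 15],
  [15, 8, 22, 8, 17, 16],
  [9, 16, 28, 9, 27, 16],
  [13, 27, 16, 13, 27, 16],
  [9, 18, 16, 11, 10, 18],
  [15, 18, 10, 21, 10, 18],
  [9, 18, 10, 16, 11, 18],
  [15, 18, 20, 15, 19, 18],
  [17, 18, 24, 15, 22, 18],
  [17, 18, 22, 17, 22, 18],
  [11, 2, 23, 21, 3, 20],
  [17, 20, 25, 12, 26, 20],
  [9, 23, 27, 22, 28, 20],
  [13, 17, 21, 14, 13, 21],
  [13, 3, 22, 13, 3, 22],
  [14, 18, 24, 20, 18, 22],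
  [9, 19, 25, 12, 26, 23],
  [18, 20, 22, 14, 18, 24],
  [14, 18, 22, 19, 18, 24],
  [9, 25, 16, 10, 26, 24],
  [15, 22, 25, 12, 26, 24],
  [9, 25, 3, 20, 2, 25],
  [12, 26, 10, 17, 10, 25],
  [12, 26, 12, 17, 12, 25],
  [13, 15, 26, 10, 14, 25],
  [9, 27, 2, 17, 3, 27],
  [12, 27, 10, 13, 11, 27],
  [11, 15, 24, 15, 9],
  [12, 24, 16, 12, 10],
  [21, 24, 23, 20, 11],
  [11, 23, 13, 10, 19, 12],
  [10, 19, 13, 15, 19, 12],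
  [11, 17, 8, 11, 8, 17],
  [8, 19, 8, 19, 8, 19],
  [9, 23, 13, 17, 13, 19],
  [13, 14, 23, 24, 13, 19],
  [11, 20, 8, 11, 8, 20],
  [10, 15, 20, 19, 10, 21],
  [20, 2, 22, 1, 26, 21],
  [13, 22, 8, 13, 8, 22],
  [21, 22, 25, 8, 26, 22],
  [13, 22, 28, 18, 27, 22],
  [8, 26, 23, 8, 26, 23],
  [23, 26, 26, 21, 25, 25],
  [9, 18, 12, 18, 27, 27],
  [18, 12, 18, 12, 18, 12, 18, 12],
  [16, 19, 24, 19, 10],
  [16, 25, 11, 26, 10],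
  [15, 22, 9, 17, 11],
  [19, 24, 23, 17, 11],
  [22, 23, 15, 19, 11],
  [16, 21, 16, 21, 14],
  [21, 24, 22, 21, 14],
  [9, 10, 22, 11, 14, 10],
  [9, 16, 20, 11, 20, 10],
  [12, 14, 27, 12, 27, 14],
  [8, 18, 8, 18, 8, 18],
  [11, 3, 28, 12, 2, 19],
  [19, 27, 21, 28, 23, 22],
  [19, 1, 20, 19, 1, 25],
  [10, 19, 13, 19, 15, 12],
  [24, 8, 24, 8],
  [22, 19, 22, 19],
  [21, 24, 20, 23, 11],
  [9, 19, 16, 23, 15, 10],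
  [9, 10, 23, 21, 20, 10],
  [9, 10, 26, 9, 25, 10],
  [9, 12, 22, 11, 14, 12],
  [1, 21, 13, 1, 21, 13],
  [9, 13, 27, 9, 28, 13],
  [12, 15, 0, 12, 1, 14],
  [9, 14, 20, 9, 20, 14],
  [13, 26, 19, 23, 25, 16],
  [9, 19, 27, 14, 28, 17],
  [13, 18, 1, 21, 0, 18],
  [12, 28, 10, 11, 28, 18],
  [8, 26, 19, 17, 26, 20],
  [9, 21, 8, 9, 8, 21],
  [11, 21, 8, 11, 8, 21],
  [9, 23, 10, 20, 16, 21],
  [9, 21, 26, 9, 25, 21],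
  [15, 21, 26, 16, 25, 21],
  [9, 23, 27, 11, 28, 21],
  [19, 22, 28, 14, 27, 22],
  [21, 16, 23, 21, 10, 23],
  [9, 25, 27, 9, 28, 26],
  [16, 25, 27, 23, 28, 26],
  [18, 28, 8, 16, 8, 27],
  [19, 28, 28, 23, 27, 27],
  [19, 8, 19, 8, 19, 8],
  [8, 21, 8, 21, 8, 21],
  [11, 16, 11, 16],
  [11, 27, 17, 28, 22, 15],
  [8, 12, 26, 21, 25, 12],
  [9, 13, 2, 9, 3, 13],
  [3, 18, 24, 18, 2, 20],
  [9, 21, 0, 9, 1, 21],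
  [14, 12, 14, 12],
  [20, 15, 20, 15],
  [23, 24, 21, 20, 11],
  [26, 14, 22, 25, 11],
  [13, 25, 16, 22, 26, 15],
  [9, 22, 23, 17, 22, 19],
  [18, 28, 22, 10, 27, 19],
  [8, 26, 14, 21, 14, 25],
  [8, 25, 22, 23, 22, 26],
  [8, 12, 0, 27, 0, 27],
  [13, 20, 13, 20, 11],
  [15, 20, 21, 19, 14],
  [8, 11, 25, 23, 26, 11],
  [16, 20, 24, 20, 10],
  [17, 20, 15, 20, 14],
  [9, 16, 23, 11, 23, 10],
  [10, 13, 17, 12, 17, 11],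
  [10, 13, 20, 11, 20, 12],
  [9, 16, 3, 12, 2, 13],
  [9, 13, 23, 20, 21, 13],
  [2, 8, 22, 16, 2, 14],
  [1, 27, 25, 22, 16, 18],
  [9, 10, 20, 13, 12, 20],
  [16, 21, 8, 22, 8, 21]]

theorem l5ExtL_eq : l5ExtSetup.extra.map (l5ExtSetup.wl l5ExtLetters) = l5ExtL := by decide +kernel

theorem l5ExtHw_eq : l5ExtHs.map (l5ExtSetup.wl l5ExtLetters) = [[0], [2], [8], [9], [10], [11], [12], [13], [14], [15], [16], [17], [18], [19], [20], [21], [22], [23], [24], [25], [27]] := by decide +kernel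

theorem l5ExtSeed0_fix : Data.ev l5ExtSetup.el l5ExtSeed0.tgt • ((1 : l5ExtSetup.G) : l5ExtSetup.G ⧸ l5ExtSetup.closureOf l5ExtHs)
    = ((1 : l5ExtSetup.G) : l5ExtSetup.G ⧸ l5ExtSetup.closureOf l5ExtHs) :=
  seed_fixes_seq l5ExtSetup_gens l5ExtLetters_ok l5ExtHw_eq l5ExtL_eq l5ExtSeed0_check []
    (fun w hw => absurd hw List.not_mem_nil) (p := 3) (by decide +kernel)

theorem l5ExtSeed1_fix : Data.ev l5ExtSetup.el l5ExtSeed1.tgt • ((1 : l5ExtSetup.G) : l5ExtSetup.G ⧸ l5ExtSetup.closureOf l5ExtHs)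
    = ((1 : l5ExtSetup.G) : l5ExtSetup.G ⧸ l5ExtSetup.closureOf l5ExtHs) :=
  seed_fixes_seq l5ExtSetup_gens l5ExtLetters_ok l5ExtHw_eq l5ExtL_eq l5ExtSeed1_check [l5ExtSeed0.tgt]
    (List.forall_mem_cons.mpr ⟨l5ExtSeed0_fix, (fun w hw => absurd hw List.not_mem_nil)⟩) (p := 3) (by decide +kernel)

theorem l5ExtSeed2_fix : Data.ev l5ExtSetup.el l5ExtSeed2.tgt • ((1 : l5ExtSetup.G) : l5ExtSetup.G ⧸ l5ExtSetup.closureOf l5ExtHs)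
    = ((1 : l5ExtSetup.G) : l5ExtSetup.G ⧸ l5ExtSetup.closureOf l5ExtHs) :=
  seed_fixes_seq l5ExtSetup_gens l5ExtLetters_ok l5ExtHw_eq l5ExtL_eq l5ExtSeed2_check [l5ExtSeed0.tgt, l5ExtSeed1.tgt]
    (List.forall_mem_cons.mpr ⟨l5ExtSeed0_fix, (List.forall_mem_cons.mpr ⟨l5ExtSeed1_fix, (fun w hw => absurd hw List.not_mem_nil)⟩)⟩) (p := 4) (by decide +kernel)

theorem l5ExtSeed3_fix : Data.ev l5ExtSetup.el l5ExtSeed3.tgt • ((1 : l5ExtSetup.G) : l5ExtSetup.G ⧸ l5ExtSetup.closureOf l5ExtHs)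
    = ((1 : l5ExtSetup.G) : l5ExtSetup.G ⧸ l5ExtSetup.closureOf l5ExtHs) :=
  seed_fixes_seq l5ExtSetup_gens l5ExtLetters_ok l5ExtHw_eq l5ExtL_eq l5ExtSeed3_check [l5ExtSeed0.tgt, l5ExtSeed1.tgt, l5ExtSeed2.tgt]
    (List.forall_mem_cons.mpr ⟨l5ExtSeed0_fix, (List.forall_mem_cons.mpr ⟨l5ExtSeed1_fix, (List.forall_mem_cons.mpr ⟨l5ExtSeed2_fix, (fun w hw => absurd hw List.not_mem_nil)⟩)⟩)⟩) (p := 3) (by decide +kernel)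

theorem l5ExtSeed4_fix : Data.ev l5ExtSetup.el l5ExtSeed4.tgt • ((1 : l5ExtSetup.G) : l5ExtSetup.G ⧸ l5ExtSetup.closureOf l5ExtHs)
    = ((1 : l5ExtSetup.G) : l5ExtSetup.G ⧸ l5ExtSetup.closureOf l5ExtHs) :=
  seed_fixes_seq l5ExtSetup_gens l5ExtLetters_ok l5ExtHw_eq l5ExtL_eq l5ExtSeed4_check [l5ExtSeed0.tgt, l5ExtSeed1.tgt, l5ExtSeed2.tgt, l5ExtSeed3.tgt]
    (List.forall_mem_cons.mpr ⟨l5ExtSeed0_fix, (List.forall_mem_cons.mpr ⟨l5ExtSeed1_fix, (List.forall_mem_cons.mpr ⟨l5ExtSeed2_fix, (List.forall_mem_cons.mpr ⟨l5ExtSeed3_fix, (fun w hw => absurd hw List.not_mem_nil)⟩)⟩)⟩)⟩) (p := 3) (by decide +kernel)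

theorem l5ExtSeed5_fix : Data.ev l5ExtSetup.el l5ExtSeed5.tgt • ((1 : l5ExtSetup.G) : l5ExtSetup.G ⧸ l5ExtSetup.closureOf l5ExtHs)
    = ((1 : l5ExtSetup.G) : l5ExtSetup.G ⧸ l5ExtSetup.closureOf l5ExtHs) :=
  seed_fixes_seq l5ExtSetup_gens l5ExtLetters_ok l5ExtHw_eq l5ExtL_eq l5ExtSeed5_check [l5ExtSeed0.tgt, l5ExtSeed1.tgt, l5ExtSeed2.tgt, l5ExtSeed3.tgt, l5ExtSeed4.tgt]
    (List.forall_mem_cons.mpr ⟨l5ExtSeed0_fix, (List.forall_mem_cons.mpr ⟨l5ExtSeed1_fix, (List.forall_mem_cons.mpr ⟨l5ExtSeed2_fix, (List.forall_mem_cons.mpr ⟨l5ExtSeed3_fix, (List.forall_mem_cons.mpr ⟨l5ExtSeed4_fix, (fun w hw => absurd hw List.not_mem_nil)⟩)⟩)⟩)⟩)⟩) (p := 3) (by decide +kernel)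

theorem l5ExtSeed6_fix : Data.ev l5ExtSetup.el l5ExtSeed6.tgt • ((1 : l5ExtSetup.G) : l5ExtSetup.G ⧸ l5ExtSetup.closureOf l5ExtHs)
    = ((1 : l5ExtSetup.G) : l5ExtSetup.G ⧸ l5ExtSetup.closureOf l5ExtHs) :=
  seed_fixes_seq l5ExtSetup_gens l5ExtLetters_ok l5ExtHw_eq l5ExtL_eq l5ExtSeed6_check [l5ExtSeed0.tgt, l5ExtSeed1.tgt, l5ExtSeed2.tgt, l5ExtSeed3.tgt, l5ExtSeed4.tgt, l5ExtSeed5.tgt]
    (List.forall_mem_cons.mpr ⟨l5ExtSeed0_fix, (List.forall_mem_cons.mpr ⟨l5ExtSeed1_fix, (List.forall_mem_cons.mpr ⟨l5ExtSeed2_fix, (List.forall_mem_cons.mpr ⟨l5ExtSeed3_fix, (List.forall_mem_cons.mpr ⟨l5ExtSeed4_fix, (List.forall_mem_cons.mpr ⟨l5ExtSeed5_fix, (fun w hw => absurd hw List.not_mem_nil)⟩)⟩)⟩)⟩)⟩)⟩) (p := 3) (by decide +kernel)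

theorem l5ExtSeed7_fix : Data.ev l5ExtSetup.el l5ExtSeed7.tgt • ((1 : l5ExtSetup.G) : l5ExtSetup.G ⧸ l5ExtSetup.closureOf l5ExtHs)
    = ((1 : l5ExtSetup.G) : l5ExtSetup.G ⧸ l5ExtSetup.closureOf l5ExtHs) :=
  seed_fixes_seq l5ExtSetup_gens l5ExtLetters_ok l5ExtHw_eq l5ExtL_eq l5ExtSeed7_check [l5ExtSeed0.tgt, l5ExtSeed1.tgt, l5ExtSeed2.tgt, l5ExtSeed3.tgt, l5ExtSeed4.tgt, l5ExtSeed5.tgt, l5ExtSeed6.tgt]
    (List.forall_mem_cons.mpr ⟨l5ExtSeed0_fix, (List.forall_mem_cons.mpr ⟨l5ExtSeed1_fix, (List.forall_mem_cons.mpr ⟨l5ExtSeed2_fix, (List.forall_mem_cons.mpr ⟨l5ExtSeed3_fix, (List.forall_mem_cons.mpr ⟨l5ExtSeed4_fix, (List.forall_mem_cons.mpr ⟨l5ExtSeed5_fix, (List.forall_mem_cons.mpr ⟨l5ExtSeed6_fix, (fun w hw => absurd hw List.not_mem_nil)⟩)⟩)⟩)⟩)⟩)⟩)⟩) (p := 4) (by decide +kernel)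

theorem l5ExtSeed8_fix : Data.ev l5ExtSetup.el l5ExtSeed8.tgt • ((1 : l5ExtSetup.G) : l5ExtSetup.G ⧸ l5ExtSetup.closureOf l5ExtHs)
    = ((1 : l5ExtSetup.G) : l5ExtSetup.G ⧸ l5ExtSetup.closureOf l5ExtHs) :=
  seed_fixes_seq l5ExtSetup_gens l5ExtLetters_ok l5ExtHw_eq l5ExtL_eq l5ExtSeed8_check [l5ExtSeed0.tgt, l5ExtSeed1.tgt, l5ExtSeed2.tgt, l5ExtSeed3.tgt, l5ExtSeed4.tgt, l5ExtSeed5.tgt, l5ExtSeed6.tgt, l5ExtSeed7.tgt]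
    (List.forall_mem_cons.mpr ⟨l5ExtSeed0_fix, (List.forall_mem_cons.mpr ⟨l5ExtSeed1_fix, (List.forall_mem_cons.mpr ⟨l5ExtSeed2_fix, (List.forall_mem_cons.mpr ⟨l5ExtSeed3_fix, (List.forall_mem_cons.mpr ⟨l5ExtSeed4_fix, (List.forall_mem_cons.mpr ⟨l5ExtSeed5_fix, (List.forall_mem_cons.mpr ⟨l5ExtSeed6_fix, (List.forall_mem_cons.mpr ⟨l5ExtSeed7_fix, (fun w hw => absurd hw List.not_mem_nil)⟩)⟩)⟩)⟩)⟩)⟩)⟩)⟩) (p := 5) (by decide +kernel)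

theorem l5ExtSeed9_fix : Data.ev l5ExtSetup.el l5ExtSeed9.tgt • ((1 : l5ExtSetup.G) : l5ExtSetup.G ⧸ l5ExtSetup.closureOf l5ExtHs)
    = ((1 : l5ExtSetup.G) : l5ExtSetup.G ⧸ l5ExtSetup.closureOf l5ExtHs) :=
  seed_fixes_seq l5ExtSetup_gens l5ExtLetters_ok l5ExtHw_eq l5ExtL_eq l5ExtSeed9_check [l5ExtSeed0.tgt, l5ExtSeed1.tgt, l5ExtSeed2.tgt, l5ExtSeed3.tgt, l5ExtSeed4.tgt, l5ExtSeed5.tgt, l5ExtSeed6.tgt, l5ExtSeed7.tgt, l5ExtSeed8.tgt]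
    (List.forall_mem_cons.mpr ⟨l5ExtSeed0_fix, (List.forall_mem_cons.mpr ⟨l5ExtSeed1_fix, (List.forall_mem_cons.mpr ⟨l5ExtSeed2_fix, (List.forall_mem_cons.mpr ⟨l5ExtSeed3_fix, (List.forall_mem_cons.mpr ⟨l5ExtSeed4_fix, (List.forall_mem_cons.mpr ⟨l5ExtSeed5_fix, (List.forall_mem_cons.mpr ⟨l5ExtSeed6_fix, (List.forall_mem_cons.mpr ⟨l5ExtSeed7_fix, (List.forall_mem_cons.mpr ⟨l5ExtSeed8_fix, (fun w hw => absurd hw List.not_mem_nil)⟩)⟩)⟩)⟩)⟩)⟩)⟩)⟩)⟩) (p := 3) (by decide +kernel)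

theorem l5ExtSeed10_fix : Data.ev l5ExtSetup.el l5ExtSeed10.tgt • ((1 : l5ExtSetup.G) : l5ExtSetup.G ⧸ l5ExtSetup.closureOf l5ExtHs)
    = ((1 : l5ExtSetup.G) : l5ExtSetup.G ⧸ l5ExtSetup.closureOf l5ExtHs) :=
  seed_fixes_seq l5ExtSetup_gens l5ExtLetters_ok l5ExtHw_eq l5ExtL_eq l5ExtSeed10_check [l5ExtSeed0.tgt, l5ExtSeed1.tgt, l5ExtSeed2.tgt, l5ExtSeed3.tgt, l5ExtSeed4.tgt, l5ExtSeed5.tgt, l5ExtSeed6.tgt, l5ExtSeed7.tgt, l5ExtSeed8.tgt, l5ExtSeed9.tgt]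
    (List.forall_mem_cons.mpr ⟨l5ExtSeed0_fix, (List.forall_mem_cons.mpr ⟨l5ExtSeed1_fix, (List.forall_mem_cons.mpr ⟨l5ExtSeed2_fix, (List.forall_mem_cons.mpr ⟨l5ExtSeed3_fix, (List.forall_mem_cons.mpr ⟨l5ExtSeed4_fix, (List.forall_mem_cons.mpr ⟨l5ExtSeed5_fix, (List.forall_mem_cons.mpr ⟨l5ExtSeed6_fix, (List.forall_mem_cons.mpr ⟨l5ExtSeed7_fix, (List.forall_mem_cons.mpr ⟨l5ExtSeed8_fix, (List.forall_mem_cons.mpr ⟨l5ExtSeed9_fix, (fun w hw => absurd hw List.not_mem_nil)⟩)⟩)⟩)⟩)⟩)⟩)⟩)⟩)⟩)⟩) (p := 5) (by decide +kernel)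

theorem l5ExtSeed11_fix : Data.ev l5ExtSetup.el l5ExtSeed11.tgt • ((1 : l5ExtSetup.G) : l5ExtSetup.G ⧸ l5ExtSetup.closureOf l5ExtHs)
    = ((1 : l5ExtSetup.G) : l5ExtSetup.G ⧸ l5ExtSetup.closureOf l5ExtHs) :=
  seed_fixes_seq l5ExtSetup_gens l5ExtLetters_ok l5ExtHw_eq l5ExtL_eq l5ExtSeed11_check [l5ExtSeed0.tgt, l5ExtSeed1.tgt, l5ExtSeed2.tgt, l5ExtSeed3.tgt, l5ExtSeed4.tgt, l5ExtSeed5.tgt, l5ExtSeed6.tgt, l5ExtSeed7.tgt, l5ExtSeed8.tgt, l5ExtSeed9.tgt, l5ExtSeed10.tgt]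
    (List.forall_mem_cons.mpr ⟨l5ExtSeed0_fix, (List.forall_mem_cons.mpr ⟨l5ExtSeed1_fix, (List.forall_mem_cons.mpr ⟨l5ExtSeed2_fix, (List.forall_mem_cons.mpr ⟨l5ExtSeed3_fix, (List.forall_mem_cons.mpr ⟨l5ExtSeed4_fix, (List.forall_mem_cons.mpr ⟨l5ExtSeed5_fix, (List.forall_mem_cons.mpr ⟨l5ExtSeed6_fix, (List.forall_mem_cons.mpr ⟨l5ExtSeed7_fix, (List.forall_mem_cons.mpr ⟨l5ExtSeed8_fix, (List.forall_mem_cons.mpr ⟨l5ExtSeed9_fix, (List.forall_mem_cons.mpr ⟨l5ExtSeed10_fix, (fun w hw => absurd hw List.not_mem_nil)⟩)⟩)⟩)⟩)⟩)⟩)⟩)⟩)⟩)⟩)⟩) (p := 2) (by decide +kernel)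

theorem l5ExtSeed12_fix : Data.ev l5ExtSetup.el l5ExtSeed12.tgt • ((1 : l5ExtSetup.G) : l5ExtSetup.G ⧸ l5ExtSetup.closureOf l5ExtHs)
    = ((1 : l5ExtSetup.G) : l5ExtSetup.G ⧸ l5ExtSetup.closureOf l5ExtHs) :=
  seed_fixes_seq l5ExtSetup_gens l5ExtLetters_ok l5ExtHw_eq l5ExtL_eq l5ExtSeed12_check [l5ExtSeed0.tgt, l5ExtSeed1.tgt, l5ExtSeed2.tgt, l5ExtSeed3.tgt, l5ExtSeed4.tgt, l5ExtSeed5.tgt, l5ExtSeed6.tgt, l5ExtSeed7.tgt, l5ExtSeed8.tgt, l5ExtSeed9.tgt, l5ExtSeed10.tgt, l5ExtSeed11.tgt]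
    (List.forall_mem_cons.mpr ⟨l5ExtSeed0_fix, (List.forall_mem_cons.mpr ⟨l5ExtSeed1_fix, (List.forall_mem_cons.mpr ⟨l5ExtSeed2_fix, (List.forall_mem_cons.mpr ⟨l5ExtSeed3_fix, (List.forall_mem_cons.mpr ⟨l5ExtSeed4_fix, (List.forall_mem_cons.mpr ⟨l5ExtSeed5_fix, (List.forall_mem_cons.mpr ⟨l5ExtSeed6_fix, (List.forall_mem_cons.mpr ⟨l5ExtSeed7_fix, (List.forall_mem_cons.mpr ⟨l5ExtSeed8_fix, (List.forall_mem_cons.mpr ⟨l5ExtSeed9_fix, (List.forall_mem_cons.mpr ⟨l5ExtSeed10_fix, (List.forall_mem_cons.mpr ⟨l5ExtSeed11_fix, (fun w hw => absurd hw List.not_mem_nil)⟩)⟩)⟩)⟩)⟩)⟩)⟩)⟩)⟩)⟩)⟩)⟩) (p := 30) (by decide +kernel)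

theorem l5ExtSeed13_fix : Data.ev l5ExtSetup.el l5ExtSeed13.tgt • ((1 : l5ExtSetup.G) : l5ExtSetup.G ⧸ l5ExtSetup.closureOf l5ExtHs)
    = ((1 : l5ExtSetup.G) : l5ExtSetup.G ⧸ l5ExtSetup.closureOf l5ExtHs) :=
  seed_fixes_seq l5ExtSetup_gens l5ExtLetters_ok l5ExtHw_eq l5ExtL_eq l5ExtSeed13_check [l5ExtSeed0.tgt, l5ExtSeed1.tgt, l5ExtSeed2.tgt, l5ExtSeed3.tgt, l5ExtSeed4.tgt, l5ExtSeed5.tgt, l5ExtSeed6.tgt, l5ExtSeed7.tgt, l5ExtSeed8.tgt, l5ExtSeed9.tgt, l5ExtSeed10.tgt, l5ExtSeed11.tgt, l5ExtSeed12.tgt]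
    (List.forall_mem_cons.mpr ⟨l5ExtSeed0_fix, (List.forall_mem_cons.mpr ⟨l5ExtSeed1_fix, (List.forall_mem_cons.mpr ⟨l5ExtSeed2_fix, (List.forall_mem_cons.mpr ⟨l5ExtSeed3_fix, (List.forall_mem_cons.mpr ⟨l5ExtSeed4_fix, (List.forall_mem_cons.mpr ⟨l5ExtSeed5_fix, (List.forall_mem_cons.mpr ⟨l5ExtSeed6_fix, (List.forall_mem_cons.mpr ⟨l5ExtSeed7_fix, (List.forall_mem_cons.mpr ⟨l5ExtSeed8_fix, (List.forall_mem_cons.mpr ⟨l5ExtSeed9_fix, (List.forall_mem_cons.mpr ⟨l5ExtSeed10_fix, (List.forall_mem_cons.mpr ⟨l5ExtSeed11_fix, (List.forall_mem_cons.mpr ⟨l5ExtSeed12_fix, (fun w hw => absurd hw List.not_mem_nil)⟩)⟩)⟩)⟩)⟩)⟩)⟩)⟩)⟩)⟩)⟩)⟩)⟩) (p := 25) (by decide +kernel)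

theorem l5ExtSeed14_fix : Data.ev l5ExtSetup.el l5ExtSeed14.tgt • ((1 : l5ExtSetup.G) : l5ExtSetup.G ⧸ l5ExtSetup.closureOf l5ExtHs)
    = ((1 : l5ExtSetup.G) : l5ExtSetup.G ⧸ l5ExtSetup.closureOf l5ExtHs) :=
  seed_fixes_seq l5ExtSetup_gens l5ExtLetters_ok l5ExtHw_eq l5ExtL_eq l5ExtSeed14_check [l5ExtSeed0.tgt, l5ExtSeed1.tgt, l5ExtSeed2.tgt, l5ExtSeed3.tgt, l5ExtSeed4.tgt, l5ExtSeed5.tgt, l5ExtSeed6.tgt, l5ExtSeed7.tgt, l5ExtSeed8.tgt, l5ExtSeed9.tgt, l5ExtSeed10.tgt, l5ExtSeed11.tgt, l5ExtSeed12.tgt, l5ExtSeed13.tgt]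
    (List.forall_mem_cons.mpr ⟨l5ExtSeed0_fix, (List.forall_mem_cons.mpr ⟨l5ExtSeed1_fix, (List.forall_mem_cons.mpr ⟨l5ExtSeed2_fix, (List.forall_mem_cons.mpr ⟨l5ExtSeed3_fix, (List.forall_mem_cons.mpr ⟨l5ExtSeed4_fix, (List.forall_mem_cons.mpr ⟨l5ExtSeed5_fix, (List.forall_mem_cons.mpr ⟨l5ExtSeed6_fix, (List.forall_mem_cons.mpr ⟨l5ExtSeed7_fix, (List.forall_mem_cons.mpr ⟨l5ExtSeed8_fix, (List.forall_mem_cons.mpr ⟨l5ExtSeed9_fix, (List.forall_mem_cons.mpr ⟨l5ExtSeed10_fix, (List.forall_mem_cons.mpr ⟨l5ExtSeed11_fix, (List.forall_mem_cons.mpr ⟨l5ExtSeed12_fix, (List.forall_mem_cons.mpr ⟨l5ExtSeed13_fix, (fun w hw => absurd hw List.not_mem_nil)⟩)⟩)⟩)⟩)⟩)⟩)⟩)⟩)⟩)⟩)⟩)⟩)⟩)⟩) (p := 14) (by decide +kernel)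

theorem l5ExtSeed15_fix : Data.ev l5ExtSetup.el l5ExtSeed15.tgt • ((1 : l5ExtSetup.G) : l5ExtSetup.G ⧸ l5ExtSetup.closureOf l5ExtHs)
    = ((1 : l5ExtSetup.G) : l5ExtSetup.G ⧸ l5ExtSetup.closureOf l5ExtHs) :=
  seed_fixes_seq l5ExtSetup_gens l5ExtLetters_ok l5ExtHw_eq l5ExtL_eq l5ExtSeed15_check [l5ExtSeed0.tgt, l5ExtSeed1.tgt, l5ExtSeed2.tgt, l5ExtSeed3.tgt, l5ExtSeed4.tgt, l5ExtSeed5.tgt, l5ExtSeed6.tgt, l5ExtSeed7.tgt, l5ExtSeed8.tgt, l5ExtSeed9.tgt, l5ExtSeed10.tgt, l5ExtSeed11.tgt, l5ExtSeed12.tgt, l5ExtSeed13.tgt, l5ExtSeed14.tgt]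
    (List.forall_mem_cons.mpr ⟨l5ExtSeed0_fix, (List.forall_mem_cons.mpr ⟨l5ExtSeed1_fix, (List.forall_mem_cons.mpr ⟨l5ExtSeed2_fix, (List.forall_mem_cons.mpr ⟨l5ExtSeed3_fix, (List.forall_mem_cons.mpr ⟨l5ExtSeed4_fix, (List.forall_mem_cons.mpr ⟨l5ExtSeed5_fix, (List.forall_mem_cons.mpr ⟨l5ExtSeed6_fix, (List.forall_mem_cons.mpr ⟨l5ExtSeed7_fix, (List.forall_mem_cons.mpr ⟨l5ExtSeed8_fix, (List.forall_mem_cons.mpr ⟨l5ExtSeed9_fix, (List.forall_mem_cons.mpr ⟨l5ExtSeed10_fix, (List.forall_mem_cons.mpr ⟨l5ExtSeed11_fix, (List.forall_mem_cons.mpr ⟨l5ExtSeed12_fix, (List.forall_mem_cons.mpr ⟨l5ExtSeed13_fix, (List.forall_mem_cons.mpr ⟨l5ExtSeed14_fix, (fun w hw => absurd hw List.not_mem_nil)⟩)⟩)⟩)⟩)⟩)⟩)⟩)⟩)⟩)⟩)⟩)⟩)⟩)⟩)⟩) (p := 18) (by decide +kernel)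

theorem l5ExtSeed16_fix : Data.ev l5ExtSetup.el l5ExtSeed16.tgt • ((1 : l5ExtSetup.G) : l5ExtSetup.G ⧸ l5ExtSetup.closureOf l5ExtHs)
    = ((1 : l5ExtSetup.G) : l5ExtSetup.G ⧸ l5ExtSetup.closureOf l5ExtHs) :=
  seed_fixes_seq l5ExtSetup_gens l5ExtLetters_ok l5ExtHw_eq l5ExtL_eq l5ExtSeed16_check [l5ExtSeed0.tgt, l5ExtSeed1.tgt, l5ExtSeed2.tgt, l5ExtSeed3.tgt, l5ExtSeed4.tgt, l5ExtSeed5.tgt, l5ExtSeed6.tgt, l5ExtSeed7.tgt, l5ExtSeed8.tgt, l5ExtSeed9.tgt, l5ExtSeed10.tgt, l5ExtSeed11.tgt, l5ExtSeed12.tgt, l5ExtSeed13.tgt, l5ExtSeed14.tgt, l5ExtSeed15.tgt]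
    (List.forall_mem_cons.mpr ⟨l5ExtSeed0_fix, (List.forall_mem_cons.mpr ⟨l5ExtSeed1_fix, (List.forall_mem_cons.mpr ⟨l5ExtSeed2_fix, (List.forall_mem_cons.mpr ⟨l5ExtSeed3_fix, (List.forall_mem_cons.mpr ⟨l5ExtSeed4_fix, (List.forall_mem_cons.mpr ⟨l5ExtSeed5_fix, (List.forall_mem_cons.mpr ⟨l5ExtSeed6_fix, (List.forall_mem_cons.mpr ⟨l5ExtSeed7_fix, (List.forall_mem_cons.mpr ⟨l5ExtSeed8_fix, (List.forall_mem_cons.mpr ⟨l5ExtSeed9_fix, (List.forall_mem_cons.mpr ⟨l5ExtSeed10_fix, (List.forall_mem_cons.mpr ⟨l5ExtSeed11_fix, (List.forall_mem_cons.mpr ⟨l5ExtSeed12_fix, (List.forall_mem_cons.mpr ⟨l5ExtSeed13_fix, (List.forall_mem_cons.mpr ⟨l5ExtSeed14_fix, (List.forall_mem_cons.mpr ⟨l5ExtSeed15_fix, (fun w hw => absurd hw List.not_mem_nil)⟩)⟩)⟩)⟩)⟩)⟩)⟩)⟩)⟩)⟩)⟩)⟩)⟩)⟩)⟩)⟩) (p := 13) (by decide +kernel)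

theorem l5ExtSeed17_fix : Data.ev l5ExtSetup.el l5ExtSeed17.tgt • ((1 : l5ExtSetup.G) : l5ExtSetup.G ⧸ l5ExtSetup.closureOf l5ExtHs)
    = ((1 : l5ExtSetup.G) : l5ExtSetup.G ⧸ l5ExtSetup.closureOf l5ExtHs) :=
  seed_fixes_seq l5ExtSetup_gens l5ExtLetters_ok l5ExtHw_eq l5ExtL_eq l5ExtSeed17_check [l5ExtSeed0.tgt, l5ExtSeed1.tgt, l5ExtSeed2.tgt, l5ExtSeed3.tgt, l5ExtSeed4.tgt, l5ExtSeed5.tgt, l5ExtSeed6.tgt, l5ExtSeed7.tgt, l5ExtSeed8.tgt, l5ExtSeed9.tgt, l5ExtSeed10.tgt, l5ExtSeed11.tgt, l5ExtSeed12.tgt, l5ExtSeed13.tgt, l5ExtSeed14.tgt, l5ExtSeed15.tgt, l5ExtSeed16.tgt]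
    (List.forall_mem_cons.mpr ⟨l5ExtSeed0_fix, (List.forall_mem_cons.mpr ⟨l5ExtSeed1_fix, (List.forall_mem_cons.mpr ⟨l5ExtSeed2_fix, (List.forall_mem_cons.mpr ⟨l5ExtSeed3_fix, (List.forall_mem_cons.mpr ⟨l5ExtSeed4_fix, (List.forall_mem_cons.mpr ⟨l5ExtSeed5_fix, (List.forall_mem_cons.mpr ⟨l5ExtSeed6_fix, (List.forall_mem_cons.mpr ⟨l5ExtSeed7_fix, (List.forall_mem_cons.mpr ⟨l5ExtSeed8_fix, (List.forall_mem_cons.mpr ⟨l5ExtSeed9_fix, (List.forall_mem_cons.mpr ⟨l5ExtSeed10_fix, (List.forall_mem_cons.mpr ⟨l5ExtSeed11_fix, (List.forall_mem_cons.mpr ⟨l5ExtSeed12_fix, (List.forall_mem_cons.mpr ⟨l5ExtSeed13_fix, (List.forall_mem_cons.mpr ⟨l5ExtSeed14_fix, (List.forall_mem_cons.mpr ⟨l5ExtSeed15_fix, (List.forall_mem_cons.mpr ⟨l5ExtSeed16_fix, (fun w hw => absurd hw List.not_mem_nil)⟩)⟩)⟩)⟩)⟩)⟩)⟩)⟩)⟩)⟩)⟩)⟩)⟩)⟩)⟩)⟩)⟩) (p :=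 4) (by decide +kernel)

theorem l5ExtSeed18_fix : Data.ev l5ExtSetup.el l5ExtSeed18.tgt • ((1 : l5ExtSetup.G) : l5ExtSetup.G ⧸ l5ExtSetup.closureOf l5ExtHs)
    = ((1 : l5ExtSetup.G) : l5ExtSetup.G ⧸ l5ExtSetup.closureOf l5ExtHs) :=
  seed_fixes_seq l5ExtSetup_gens l5ExtLetters_ok l5ExtHw_eq l5ExtL_eq l5ExtSeed18_check [l5ExtSeed0.tgt, l5ExtSeed1.tgt, l5ExtSeed2.tgt, l5ExtSeed3.tgt, l5ExtSeed4.tgt, l5ExtSeed5.tgt, l5ExtSeed6.tgt, l5ExtSeed7.tgt, l5ExtSeed8.tgt, l5ExtSeed9.tgt, l5ExtSeed10.tgt, l5ExtSeed11.tgt, l5ExtSeed12.tgt, l5ExtSeed13.tgt, l5ExtSeed14.tgt, l5ExtSeed15.tgt, l5ExtSeed16.tgt, l5ExtSeed17.tgt]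
    (List.forall_mem_cons.mpr ⟨l5ExtSeed0_fix, (List.forall_mem_cons.mpr ⟨l5ExtSeed1_fix, (List.forall_mem_cons.mpr ⟨l5ExtSeed2_fix, (List.forall_mem_cons.mpr ⟨l5ExtSeed3_fix, (List.forall_mem_cons.mpr ⟨l5ExtSeed4_fix, (List.forall_mem_cons.mpr ⟨l5ExtSeed5_fix, (List.forall_mem_cons.mpr ⟨l5ExtSeed6_fix, (List.forall_mem_cons.mpr ⟨l5ExtSeed7_fix, (List.forall_mem_cons.mpr ⟨l5ExtSeed8_fix, (List.forall_mem_cons.mpr ⟨l5ExtSeed9_fix, (List.forall_mem_cons.mpr ⟨l5ExtSeed10_fix, (List.forall_mem_cons.mpr ⟨l5ExtSeed11_fix, (List.forall_mem_cons.mpr ⟨l5ExtSeed12_fix, (List.forall_mem_cons.mpr ⟨l5ExtSeed13_fix, (List.forall_mem_cons.mpr ⟨l5ExtSeed14_fix, (List.forall_mem_cons.mpr ⟨l5ExtSeed15_fix, (List.forall_mem_cons.mpr ⟨l5ExtSeed16_fix, (List.forall_mem_cons.mpr ⟨l5ExtSeed17_fix, (fun w hw => absurd hw List.not_mem_nil)⟩)⟩)⟩)⟩)⟩)⟩)⟩)⟩)⟩)⟩)⟩)⟩)⟩)⟩)⟩)⟩)⟩)⟩)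 (p := 22) (by decide +kernel)

theorem l5ExtSeed19_fix : Data.ev l5ExtSetup.el l5ExtSeed19.tgt • ((1 : l5ExtSetup.G) : l5ExtSetup.G ⧸ l5ExtSetup.closureOf l5ExtHs)
    = ((1 : l5ExtSetup.G) : l5ExtSetup.G ⧸ l5ExtSetup.closureOf l5ExtHs) :=
  seed_fixes_seq l5ExtSetup_gens l5ExtLetters_ok l5ExtHw_eq l5ExtL_eq l5ExtSeed19_check [l5ExtSeed0.tgt, l5ExtSeed1.tgt, l5ExtSeed2.tgt, l5ExtSeed3.tgt, l5ExtSeed4.tgt, l5ExtSeed5.tgt, l5ExtSeed6.tgt, l5ExtSeed7.tgt, l5ExtSeed8.tgt, l5ExtSeed9.tgt, l5ExtSeed10.tgt, l5ExtSeed11.tgt, l5ExtSeed12.tgt, l5ExtSeed13.tgt, l5ExtSeed14.tgt, l5ExtSeed15.tgt, l5ExtSeed16.tgt, l5ExtSeed17.tgt, l5ExtSeed18.tgt]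
    (List.forall_mem_cons.mpr ⟨l5ExtSeed0_fix, (List.forall_mem_cons.mpr ⟨l5ExtSeed1_fix, (List.forall_mem_cons.mpr ⟨l5ExtSeed2_fix, (List.forall_mem_cons.mpr ⟨l5ExtSeed3_fix, (List.forall_mem_cons.mpr ⟨l5ExtSeed4_fix, (List.forall_mem_cons.mpr ⟨l5ExtSeed5_fix, (List.forall_mem_cons.mpr ⟨l5ExtSeed6_fix, (List.forall_mem_cons.mpr ⟨l5ExtSeed7_fix, (List.forall_mem_cons.mpr ⟨l5ExtSeed8_fix, (List.forall_mem_cons.mpr ⟨l5ExtSeed9_fix, (List.forall_mem_cons.mpr ⟨l5ExtSeed10_fix, (List.forall_mem_cons.mpr ⟨l5ExtSeed11_fix, (List.forall_mem_cons.mpr ⟨l5ExtSeed12_fix, (List.forall_mem_cons.mpr ⟨l5ExtSeed13_fix, (List.forall_mem_cons.mpr ⟨l5ExtSeed14_fix, (List.forall_mem_cons.mpr ⟨l5ExtSeed15_fix, (List.forall_mem_cons.mpr ⟨l5ExtSeed16_fix, (List.forall_mem_cons.mpr ⟨l5ExtSeed17_fix, (List.forall_mem_cons.mpr ⟨l5ExtSeed18_fix,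 (fun w hw => absurd hw List.not_mem_nil)⟩)⟩)⟩)⟩)⟩)⟩)⟩)⟩)⟩)⟩)⟩)⟩)⟩)⟩)⟩)⟩)⟩)⟩)⟩) (p := 11) (by decide +kernel)

theorem l5ExtSeed20_fix : Data.ev l5ExtSetup.el l5ExtSeed20.tgt • ((1 : l5ExtSetup.G) : l5ExtSetup.G ⧸ l5ExtSetup.closureOf l5ExtHs)
    = ((1 : l5ExtSetup.G) : l5ExtSetup.G ⧸ l5ExtSetup.closureOf l5ExtHs) :=
  seed_fixes_seq l5ExtSetup_gens l5ExtLetters_ok l5ExtHw_eq l5ExtL_eq l5ExtSeed20_check [l5ExtSeed0.tgt, l5ExtSeed1.tgt, l5ExtSeed2.tgt, l5ExtSeed3.tgt, l5ExtSeed4.tgt, l5ExtSeed5.tgt, l5ExtSeed6.tgt, l5ExtSeed7.tgt, l5ExtSeed8.tgt, l5ExtSeed9.tgt, l5ExtSeed10.tgt, l5ExtSeed11.tgt, l5ExtSeed12.tgt, l5ExtSeed13.tgt, l5ExtSeed14.tgt, l5ExtSeed15.tgt, l5ExtSeed16.tgt, l5ExtSeed17.tgt, l5ExtSeed18.tgt, l5ExtSeed19.tgt]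
    (List.forall_mem_cons.mpr ⟨l5ExtSeed0_fix, (List.forall_mem_cons.mpr ⟨l5ExtSeed1_fix, (List.forall_mem_cons.mpr ⟨l5ExtSeed2_fix, (List.forall_mem_cons.mpr ⟨l5ExtSeed3_fix, (List.forall_mem_cons.mpr ⟨l5ExtSeed4_fix, (List.forall_mem_cons.mpr ⟨l5ExtSeed5_fix, (List.forall_mem_cons.mpr ⟨l5ExtSeed6_fix, (List.forall_mem_cons.mpr ⟨l5ExtSeed7_fix, (List.forall_mem_cons.mpr ⟨l5ExtSeed8_fix, (List.forall_mem_cons.mpr ⟨l5ExtSeed9_fix, (List.forall_mem_cons.mpr ⟨l5ExtSeed10_fix, (List.forall_mem_cons.mpr ⟨l5ExtSeed11_fix, (List.forall_mem_cons.mpr ⟨l5ExtSeed12_fix, (List.forall_mem_cons.mpr ⟨l5ExtSeed13_fix, (List.forall_mem_cons.mpr ⟨l5ExtSeed14_fix, (List.forall_mem_cons.mpr ⟨l5ExtSeed15_fix, (List.forall_mem_cons.mpr ⟨l5ExtSeed16_fix, (List.forall_mem_cons.mpr ⟨l5ExtSeed17_fix, (List.forall_mem_cons.mpr ⟨l5ExtSeed18_fix,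 (List.forall_mem_cons.mpr ⟨l5ExtSeed19_fix, (fun w hw => absurd hw List.not_mem_nil)⟩)⟩)⟩)⟩)⟩)⟩)⟩)⟩)⟩)⟩)⟩)⟩)⟩)⟩)⟩)⟩)⟩)⟩)⟩)⟩) (p := 26) (by decide +kernel)

theorem l5ExtSeed21_fix : Data.ev l5ExtSetup.el l5ExtSeed21.tgt • ((1 : l5ExtSetup.G) : l5ExtSetup.G ⧸ l5ExtSetup.closureOf l5ExtHs)
    = ((1 : l5ExtSetup.G) : l5ExtSetup.G ⧸ l5ExtSetup.closureOf l5ExtHs) :=
  seed_fixes_seq l5ExtSetup_gens l5ExtLetters_ok l5ExtHw_eq l5ExtL_eq l5ExtSeed21_check [l5ExtSeed0.tgt, l5ExtSeed1.tgt, l5ExtSeed2.tgt, l5ExtSeed3.tgt, l5ExtSeed4.tgt, l5ExtSeed5.tgt, l5ExtSeed6.tgt, l5ExtSeed7.tgt, l5ExtSeed8.tgt, l5ExtSeed9.tgt, l5ExtSeed10.tgt, l5ExtSeed11.tgt, l5ExtSeed12.tgt, l5ExtSeed13.tgt, l5ExtSeed14.tgt, l5ExtSeed15.tgt, l5ExtSeed16.tgt, l5ExtSeed17.tgt, l5ExtSeed18.tgt, l5ExtSeed19.tgt, l5ExtSeed20.tgt]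
    (List.forall_mem_cons.mpr ⟨l5ExtSeed0_fix, (List.forall_mem_cons.mpr ⟨l5ExtSeed1_fix, (List.forall_mem_cons.mpr ⟨l5ExtSeed2_fix, (List.forall_mem_cons.mpr ⟨l5ExtSeed3_fix, (List.forall_mem_cons.mpr ⟨l5ExtSeed4_fix, (List.forall_mem_cons.mpr ⟨l5ExtSeed5_fix, (List.forall_mem_cons.mpr ⟨l5ExtSeed6_fix, (List.forall_mem_cons.mpr ⟨l5ExtSeed7_fix, (List.forall_mem_cons.mpr ⟨l5ExtSeed8_fix, (List.forall_mem_cons.mpr ⟨l5ExtSeed9_fix, (List.forall_mem_cons.mpr ⟨l5ExtSeed10_fix, (List.forall_mem_cons.mpr ⟨l5ExtSeed11_fix, (List.forall_mem_cons.mpr ⟨l5ExtSeed12_fix, (List.forall_mem_cons.mpr ⟨l5ExtSeed13_fix, (List.forall_mem_cons.mpr ⟨l5ExtSeed14_fix, (List.forall_mem_cons.mpr ⟨l5ExtSeed15_fix, (List.forall_mem_cons.mpr ⟨l5ExtSeed16_fix, (List.forall_mem_cons.mpr ⟨l5ExtSeed17_fix, (List.forall_mem_cons.mpr ⟨l5ExtSeed18_fix,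 (List.forall_mem_cons.mpr ⟨l5ExtSeed19_fix, (List.forall_mem_cons.mpr ⟨l5ExtSeed20_fix, (fun w hw => absurd hw List.not_mem_nil)⟩)⟩)⟩)⟩)⟩)⟩)⟩)⟩)⟩)⟩)⟩)⟩)⟩)⟩)⟩)⟩)⟩)⟩)⟩)⟩)⟩) (p := 8) (by decide +kernel)

theorem l5ExtSeed22_fix : Data.ev l5ExtSetup.el l5ExtSeed22.tgt • ((1 : l5ExtSetup.G) : l5ExtSetup.G ⧸ l5ExtSetup.closureOf l5ExtHs)
    = ((1 : l5ExtSetup.G) : l5ExtSetup.G ⧸ l5ExtSetup.closureOf l5ExtHs) :=
  seed_fixes_seq l5ExtSetup_gens l5ExtLetters_ok l5ExtHw_eq l5ExtL_eq l5ExtSeed22_check [l5ExtSeed0.tgt, l5ExtSeed1.tgt, l5ExtSeed2.tgt, l5ExtSeed3.tgt, l5ExtSeed4.tgt, l5ExtSeed5.tgt, l5ExtSeed6.tgt, l5ExtSeed7.tgt, l5ExtSeed8.tgt, l5ExtSeed9.tgt, l5ExtSeed10.tgt, l5ExtSeed11.tgt, l5ExtSeed12.tgt, l5ExtSeed13.tgt, l5ExtSeed14.tgt, l5ExtSeed15.tgt, l5ExtSeed16.tgt, l5ExtSeed17.tgt, l5ExtSeed18.tgt, l5ExtSeed19.tgt,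 l5ExtSeed20.tgt, l5ExtSeed21.tgt]
    (List.forall_mem_cons.mpr ⟨l5ExtSeed0_fix, (List.forall_mem_cons.mpr ⟨l5ExtSeed1_fix, (List.forall_mem_cons.mpr ⟨l5ExtSeed2_fix, (List.forall_mem_cons.mpr ⟨l5ExtSeed3_fix, (List.forall_mem_cons.mpr ⟨l5ExtSeed4_fix, (List.forall_mem_cons.mpr ⟨l5ExtSeed5_fix, (List.forall_mem_cons.mpr ⟨l5ExtSeed6_fix, (List.forall_mem_cons.mpr ⟨l5ExtSeed7_fix, (List.forall_mem_cons.mpr ⟨l5ExtSeed8_fix, (List.forall_mem_cons.mpr ⟨l5ExtSeed9_fix, (List.forall_mem_cons.mpr ⟨l5ExtSeed10_fix, (List.forall_mem_cons.mpr ⟨l5ExtSeed11_fix, (List.forall_mem_cons.mpr ⟨l5ExtSeed12_fix, (List.forall_mem_cons.mpr ⟨l5ExtSeed13_fix, (List.forall_mem_cons.mpr ⟨l5ExtSeed14_fix, (List.forall_mem_cons.mpr ⟨l5ExtSeed15_fix, (List.forall_mem_cons.mpr ⟨l5ExtSeed16_fix, (List.forall_mem_cons.mpr ⟨l5ExtSeed17_fix, (List.forall_mem_cons.mpr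 ⟨l5ExtSeed18_fix, (List.forall_mem_cons.mpr ⟨l5ExtSeed19_fix, (List.forall_mem_cons.mpr ⟨l5ExtSeed20_fix, (List.forall_mem_cons.mpr ⟨l5ExtSeed21_fix, (fun w hw => absurd hw List.not_mem_nil)⟩)⟩)⟩)⟩)⟩)⟩)⟩)⟩)⟩)⟩)⟩)⟩)⟩)⟩)⟩)⟩)⟩)⟩)⟩)⟩)⟩)⟩) (p := 4) (by decide +kernel)

theorem l5ExtSeed23_fix : Data.ev l5ExtSetup.el l5ExtSeed23.tgt • ((1 : l5ExtSetup.G) : l5ExtSetup.G ⧸ l5ExtSetup.closureOf l5ExtHs)
    = ((1 : l5ExtSetup.G) : l5ExtSetup.G ⧸ l5ExtSetup.closureOf l5ExtHs) :=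
  seed_fixes_seq l5ExtSetup_gens l5ExtLetters_ok l5ExtHw_eq l5ExtL_eq l5ExtSeed23_check [l5ExtSeed0.tgt, l5ExtSeed1.tgt, l5ExtSeed2.tgt, l5ExtSeed3.tgt, l5ExtSeed4.tgt, l5ExtSeed5.tgt, l5ExtSeed6.tgt, l5ExtSeed7.tgt, l5ExtSeed8.tgt, l5ExtSeed9.tgt, l5ExtSeed10.tgt, l5ExtSeed11.tgt, l5ExtSeed12.tgt, l5ExtSeed13.tgt, l5ExtSeed14.tgt, l5ExtSeed15.tgt, l5ExtSeed16.tgt, l5ExtSeed17.tgt, l5ExtSeed18.tgt, l5ExtSeed19.tgt, l5ExtSeed20.tgt, l5ExtSeed21.tgt, l5ExtSeed22.tgt]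
    (List.forall_mem_cons.mpr ⟨l5ExtSeed0_fix, (List.forall_mem_cons.mpr ⟨l5ExtSeed1_fix, (List.forall_mem_cons.mpr ⟨l5ExtSeed2_fix, (List.forall_mem_cons.mpr ⟨l5ExtSeed3_fix, (List.forall_mem_cons.mpr ⟨l5ExtSeed4_fix, (List.forall_mem_cons.mpr ⟨l5ExtSeed5_fix, (List.forall_mem_cons.mpr ⟨l5ExtSeed6_fix, (List.forall_mem_cons.mpr ⟨l5ExtSeed7_fix, (List.forall_mem_cons.mpr ⟨l5ExtSeed8_fix, (List.forall_mem_cons.mpr ⟨l5ExtSeed9_fix, (List.forall_mem_cons.mpr ⟨l5ExtSeed10_fix, (List.forall_mem_cons.mpr ⟨l5ExtSeed11_fix, (List.forall_mem_cons.mpr ⟨l5ExtSeed12_fix, (List.forall_mem_cons.mpr ⟨l5ExtSeed13_fix, (List.forall_mem_cons.mpr ⟨l5ExtSeed14_fix, (List.forall_mem_cons.mpr ⟨l5ExtSeed15_fix, (List.forall_mem_cons.mpr ⟨l5ExtSeed16_fix, (List.forall_mem_cons.mpr ⟨l5ExtSeed17_fix, (List.forall_mem_cons.mpr ⟨l5ExtSeed18_fix,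 (List.forall_mem_cons.mpr ⟨l5ExtSeed19_fix, (List.forall_mem_cons.mpr ⟨l5ExtSeed20_fix, (List.forall_mem_cons.mpr ⟨l5ExtSeed21_fix, (List.forall_mem_cons.mpr ⟨l5ExtSeed22_fix, (fun w hw => absurd hw List.not_mem_nil)⟩)⟩)⟩)⟩)⟩)⟩)⟩)⟩)⟩)⟩)⟩)⟩)⟩)⟩)⟩)⟩)⟩)⟩)⟩)⟩)⟩)⟩)⟩) (p := 4) (by decide +kernel)

theorem l5ExtSeed24_fix : Data.ev l5ExtSetup.el l5ExtSeed24.tgt • ((1 : l5ExtSetup.G) : l5ExtSetup.G ⧸ l5ExtSetup.closureOf l5ExtHs)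
    = ((1 : l5ExtSetup.G) : l5ExtSetup.G ⧸ l5ExtSetup.closureOf l5ExtHs) :=
  seed_fixes_seq l5ExtSetup_gens l5ExtLetters_ok l5ExtHw_eq l5ExtL_eq l5ExtSeed24_check [l5ExtSeed0.tgt, l5ExtSeed1.tgt, l5ExtSeed2.tgt, l5ExtSeed3.tgt, l5ExtSeed4.tgt, l5ExtSeed5.tgt, l5ExtSeed6.tgt, l5ExtSeed7.tgt, l5ExtSeed8.tgt, l5ExtSeed9.tgt, l5ExtSeed10.tgt, l5ExtSeed11.tgt, l5ExtSeed12.tgt, l5ExtSeed13.tgt, l5ExtSeed14.tgt, l5ExtSeed15.tgt, l5ExtSeed16.tgt, l5ExtSeed17.tgt, l5ExtSeed18.tgt, l5ExtSeed19.tgt, l5ExtSeed20.tgt, l5ExtSeed21.tgt, l5ExtSeed22.tgt, l5ExtSeed23.tgt]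
    (List.forall_mem_cons.mpr ⟨l5ExtSeed0_fix, (List.forall_mem_cons.mpr ⟨l5ExtSeed1_fix, (List.forall_mem_cons.mpr ⟨l5ExtSeed2_fix, (List.forall_mem_cons.mpr ⟨l5ExtSeed3_fix, (List.forall_mem_cons.mpr ⟨l5ExtSeed4_fix, (List.forall_mem_cons.mpr ⟨l5ExtSeed5_fix, (List.forall_mem_cons.mpr ⟨l5ExtSeed6_fix, (List.forall_mem_cons.mpr ⟨l5ExtSeed7_fix, (List.forall_mem_cons.mpr ⟨l5ExtSeed8_fix, (List.forall_mem_cons.mpr ⟨l5ExtSeed9_fix, (List.forall_mem_cons.mpr ⟨l5ExtSeed10_fix, (List.forall_mem_cons.mpr ⟨l5ExtSeed11_fix, (List.forall_mem_cons.mpr ⟨l5ExtSeed12_fix, (List.forall_mem_cons.mpr ⟨l5ExtSeed13_fix, (List.forall_mem_cons.mpr ⟨l5ExtSeed14_fix, (List.forall_mem_cons.mpr ⟨l5ExtSeed15_fix, (List.forall_mem_cons.mpr ⟨l5ExtSeed16_fix, (List.forall_mem_cons.mpr ⟨l5ExtSeed17_fix, (List.forall_mem_cons.mpr ⟨l5ExtSeed18_fix,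 (List.forall_mem_cons.mpr ⟨l5ExtSeed19_fix, (List.forall_mem_cons.mpr ⟨l5ExtSeed20_fix, (List.forall_mem_cons.mpr ⟨l5ExtSeed21_fix, (List.forall_mem_cons.mpr ⟨l5ExtSeed22_fix, (List.forall_mem_cons.mpr ⟨l5ExtSeed23_fix, (fun w hw => absurd hw List.not_mem_nil)⟩)⟩)⟩)⟩)⟩)⟩)⟩)⟩)⟩)⟩)⟩)⟩)⟩)⟩)⟩)⟩)⟩)⟩)⟩)⟩)⟩)⟩)⟩)⟩) (p := 22) (by decide +kernel)

theorem l5ExtSeed25_fix : Data.ev l5ExtSetup.el l5ExtSeed25.tgt • ((1 : l5ExtSetup.G) : l5ExtSetup.G ⧸ l5ExtSetup.closureOf l5ExtHs)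
    = ((1 : l5ExtSetup.G) : l5ExtSetup.G ⧸ l5ExtSetup.closureOf l5ExtHs) :=
  seed_fixes_seq l5ExtSetup_gens l5ExtLetters_ok l5ExtHw_eq l5ExtL_eq l5ExtSeed25_check [l5ExtSeed0.tgt, l5ExtSeed1.tgt, l5ExtSeed2.tgt, l5ExtSeed3.tgt, l5ExtSeed4.tgt, l5ExtSeed5.tgt, l5ExtSeed6.tgt, l5ExtSeed7.tgt, l5ExtSeed8.tgt, l5ExtSeed9.tgt, l5ExtSeed10.tgt, l5ExtSeed11.tgt, l5ExtSeed12.tgt, l5ExtSeed13.tgt, l5ExtSeed14.tgt, l5ExtSeed15.tgt, l5ExtSeed16.tgt, l5ExtSeed17.tgt, l5ExtSeed18.tgt, l5ExtSeed19.tgt, l5ExtSeed20.tgt, l5ExtSeed21.tgt, l5ExtSeed22.tgt, l5ExtSeed23.tgt, l5ExtSeed24.tgt]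
    (List.forall_mem_cons.mpr ⟨l5ExtSeed0_fix, (List.forall_mem_cons.mpr ⟨l5ExtSeed1_fix, (List.forall_mem_cons.mpr ⟨l5ExtSeed2_fix, (List.forall_mem_cons.mpr ⟨l5ExtSeed3_fix, (List.forall_mem_cons.mpr ⟨l5ExtSeed4_fix, (List.forall_mem_cons.mpr ⟨l5ExtSeed5_fix, (List.forall_mem_cons.mpr ⟨l5ExtSeed6_fix, (List.forall_mem_cons.mpr ⟨l5ExtSeed7_fix, (List.forall_mem_cons.mpr ⟨l5ExtSeed8_fix, (List.forall_mem_cons.mpr ⟨l5ExtSeed9_fix, (List.forall_mem_cons.mpr ⟨l5ExtSeed10_fix, (List.forall_mem_cons.mpr ⟨l5ExtSeed11_fix, (List.forall_mem_cons.mpr ⟨l5ExtSeed12_fix, (List.forall_mem_cons.mpr ⟨l5ExtSeed13_fix, (List.forall_mem_cons.mpr ⟨l5ExtSeed14_fix, (List.forall_mem_cons.mpr ⟨l5ExtSeed15_fix, (List.forall_mem_cons.mpr ⟨l5ExtSeed16_fix, (List.forall_mem_cons.mpr ⟨l5ExtSeed17_fix, (List.forall_mem_cons.mpr ⟨l5ExtSeed18_fix,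 (List.forall_mem_cons.mpr ⟨l5ExtSeed19_fix, (List.forall_mem_cons.mpr ⟨l5ExtSeed20_fix, (List.forall_mem_cons.mpr ⟨l5ExtSeed21_fix, (List.forall_mem_cons.mpr ⟨l5ExtSeed22_fix, (List.forall_mem_cons.mpr ⟨l5ExtSeed23_fix, (List.forall_mem_cons.mpr ⟨l5ExtSeed24_fix, (fun w hw => absurd hw List.not_mem_nil)⟩)⟩)⟩)⟩)⟩)⟩)⟩)⟩)⟩)⟩)⟩)⟩)⟩)⟩)⟩)⟩)⟩)⟩)⟩)⟩)⟩)⟩)⟩)⟩)⟩) (p := 4) (by decide +kernel)

theorem l5ExtSeed26_fix : Data.ev l5ExtSetup.el l5ExtSeed26.tgt • ((1 : l5ExtSetup.G) : l5ExtSetup.G ⧸ l5ExtSetup.closureOf l5ExtHs)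
    = ((1 : l5ExtSetup.G) : l5ExtSetup.G ⧸ l5ExtSetup.closureOf l5ExtHs) :=
  seed_fixes_seq l5ExtSetup_gens l5ExtLetters_ok l5ExtHw_eq l5ExtL_eq l5ExtSeed26_check [l5ExtSeed0.tgt, l5ExtSeed1.tgt, l5ExtSeed2.tgt, l5ExtSeed3.tgt, l5ExtSeed4.tgt, l5ExtSeed5.tgt, l5ExtSeed6.tgt, l5ExtSeed7.tgt, l5ExtSeed8.tgt, l5ExtSeed9.tgt, l5ExtSeed10.tgt, l5ExtSeed11.tgt, l5ExtSeed12.tgt, l5ExtSeed13.tgt, l5ExtSeed14.tgt, l5ExtSeed15.tgt, l5ExtSeed16.tgt, l5ExtSeed17.tgt, l5ExtSeed18.tgt, l5ExtSeed19.tgt, l5ExtSeed20.tgt, l5ExtSeed21.tgt, l5ExtSeed22.tgt, l5ExtSeed23.tgt, l5ExtSeed24.tgt, l5ExtSeed25.tgt]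
    (List.forall_mem_cons.mpr ⟨l5ExtSeed0_fix, (List.forall_mem_cons.mpr ⟨l5ExtSeed1_fix, (List.forall_mem_cons.mpr ⟨l5ExtSeed2_fix, (List.forall_mem_cons.mpr ⟨l5ExtSeed3_fix, (List.forall_mem_cons.mpr ⟨l5ExtSeed4_fix, (List.forall_mem_cons.mpr ⟨l5ExtSeed5_fix, (List.forall_mem_cons.mpr ⟨l5ExtSeed6_fix, (List.forall_mem_cons.mpr ⟨l5ExtSeed7_fix, (List.forall_mem_cons.mpr ⟨l5ExtSeed8_fix, (List.forall_mem_cons.mpr ⟨l5ExtSeed9_fix, (List.forall_mem_cons.mpr ⟨l5ExtSeed10_fix, (List.forall_mem_cons.mpr ⟨l5ExtSeed11_fix, (List.forall_mem_cons.mpr ⟨l5ExtSeed12_fix, (List.forall_mem_cons.mpr ⟨l5ExtSeed13_fix, (List.forall_mem_cons.mpr ⟨l5ExtSeed14_fix, (List.forall_mem_cons.mpr ⟨l5ExtSeed15_fix, (List.forall_mem_cons.mpr ⟨l5ExtSeed16_fix, (List.forall_mem_cons.mpr ⟨l5ExtSeed17_fix, (List.forall_mem_cons.mpr ⟨l5ExtSeed18_fix,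 (List.forall_mem_cons.mpr ⟨l5ExtSeed19_fix, (List.forall_mem_cons.mpr ⟨l5ExtSeed20_fix, (List.forall_mem_cons.mpr ⟨l5ExtSeed21_fix, (List.forall_mem_cons.mpr ⟨l5ExtSeed22_fix, (List.forall_mem_cons.mpr ⟨l5ExtSeed23_fix, (List.forall_mem_cons.mpr ⟨l5ExtSeed24_fix, (List.forall_mem_cons.mpr ⟨l5ExtSeed25_fix, (fun w hw => absurd hw List.not_mem_nil)⟩)⟩)⟩)⟩)⟩)⟩)⟩)⟩)⟩)⟩)⟩)⟩)⟩)⟩)⟩)⟩)⟩)⟩)⟩)⟩)⟩)⟩)⟩)⟩)⟩)⟩) (p := 8) (by decide +kernel)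

theorem l5ExtSeed27_fix : Data.ev l5ExtSetup.el l5ExtSeed27.tgt • ((1 : l5ExtSetup.G) : l5ExtSetup.G ⧸ l5ExtSetup.closureOf l5ExtHs)
    = ((1 : l5ExtSetup.G) : l5ExtSetup.G ⧸ l5ExtSetup.closureOf l5ExtHs) :=
  seed_fixes_seq l5ExtSetup_gens l5ExtLetters_ok l5ExtHw_eq l5ExtL_eq l5ExtSeed27_check [l5ExtSeed0.tgt, l5ExtSeed1.tgt, l5ExtSeed2.tgt, l5ExtSeed3.tgt, l5ExtSeed4.tgt, l5ExtSeed5.tgt, l5ExtSeed6.tgt, l5ExtSeed7.tgt, l5ExtSeed8.tgt, l5ExtSeed9.tgt, l5ExtSeed10.tgt, l5ExtSeed11.tgt, l5ExtSeed12.tgt, l5ExtSeed13.tgt, l5ExtSeed14.tgt, l5ExtSeed15.tgt, l5ExtSeed16.tgt, l5ExtSeed17.tgt, l5ExtSeed18.tgt, l5ExtSeed19.tgt, l5ExtSeed20.tgt, l5ExtSeed21.tgt, l5ExtSeed22.tgt, l5ExtSeed23.tgt, l5ExtSeed24.tgt, l5ExtSeed25.tgt, l5ExtSeed26.tgt]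
    (List.forall_mem_cons.mpr ⟨l5ExtSeed0_fix, (List.forall_mem_cons.mpr ⟨l5ExtSeed1_fix, (List.forall_mem_cons.mpr ⟨l5ExtSeed2_fix, (List.forall_mem_cons.mpr ⟨l5ExtSeed3_fix, (List.forall_mem_cons.mpr ⟨l5ExtSeed4_fix, (List.forall_mem_cons.mpr ⟨l5ExtSeed5_fix, (List.forall_mem_cons.mpr ⟨l5ExtSeed6_fix, (List.forall_mem_cons.mpr ⟨l5ExtSeed7_fix, (List.forall_mem_cons.mpr ⟨l5ExtSeed8_fix, (List.forall_mem_cons.mpr ⟨l5ExtSeed9_fix, (List.forall_mem_cons.mpr ⟨l5ExtSeed10_fix, (List.forall_mem_cons.mpr ⟨l5ExtSeed11_fix, (List.forall_mem_cons.mpr ⟨l5ExtSeed12_fix, (List.forall_mem_cons.mpr ⟨l5ExtSeed13_fix, (List.forall_mem_cons.mpr ⟨l5ExtSeed14_fix, (List.forall_mem_cons.mpr ⟨l5ExtSeed15_fix, (List.forall_mem_cons.mpr ⟨l5ExtSeed16_fix, (List.forall_mem_cons.mpr ⟨l5ExtSeed17_fix, (List.forall_mem_cons.mpr ⟨l5ExtSeed18_fix,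 (List.forall_mem_cons.mpr ⟨l5ExtSeed19_fix, (List.forall_mem_cons.mpr ⟨l5ExtSeed20_fix, (List.forall_mem_cons.mpr ⟨l5ExtSeed21_fix, (List.forall_mem_cons.mpr ⟨l5ExtSeed22_fix, (List.forall_mem_cons.mpr ⟨l5ExtSeed23_fix, (List.forall_mem_cons.mpr ⟨l5ExtSeed24_fix, (List.forall_mem_cons.mpr ⟨l5ExtSeed25_fix, (List.forall_mem_cons.mpr ⟨l5ExtSeed26_fix, (fun w hw => absurd hw List.not_mem_nil)⟩)⟩)⟩)⟩)⟩)⟩)⟩)⟩)⟩)⟩)⟩)⟩)⟩)⟩)⟩)⟩)⟩)⟩)⟩)⟩)⟩)⟩)⟩)⟩)⟩)⟩)⟩) (p := 6) (by decide +kernel)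

theorem l5ExtSeed28_fix : Data.ev l5ExtSetup.el l5ExtSeed28.tgt • ((1 : l5ExtSetup.G) : l5ExtSetup.G ⧸ l5ExtSetup.closureOf l5ExtHs)
    = ((1 : l5ExtSetup.G) : l5ExtSetup.G ⧸ l5ExtSetup.closureOf l5ExtHs) :=
  seed_fixes_seq l5ExtSetup_gens l5ExtLetters_ok l5ExtHw_eq l5ExtL_eq l5ExtSeed28_check [l5ExtSeed0.tgt, l5ExtSeed1.tgt, l5ExtSeed2.tgt, l5ExtSeed3.tgt, l5ExtSeed4.tgt, l5ExtSeed5.tgt, l5ExtSeed6.tgt, l5ExtSeed7.tgt, l5ExtSeed8.tgt, l5ExtSeed9.tgt, l5ExtSeed10.tgt, l5ExtSeed11.tgt, l5ExtSeed12.tgt, l5ExtSeed13.tgt, l5ExtSeed14.tgt, l5ExtSeed15.tgt, l5ExtSeed16.tgt, l5ExtSeed17.tgt, l5ExtSeed18.tgt, l5ExtSeed19.tgt, l5ExtSeed20.tgt, l5ExtSeed21.tgt, l5ExtSeed22.tgt, l5ExtSeed23.tgt, l5ExtSeed24.tgt, l5ExtSeed25.tgt, l5ExtSeed26.tgt, l5ExtSeed27.tgt]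
    (List.forall_mem_cons.mpr ⟨l5ExtSeed0_fix, (List.forall_mem_cons.mpr ⟨l5ExtSeed1_fix, (List.forall_mem_cons.mpr ⟨l5ExtSeed2_fix, (List.forall_mem_cons.mpr ⟨l5ExtSeed3_fix, (List.forall_mem_cons.mpr ⟨l5ExtSeed4_fix, (List.forall_mem_cons.mpr ⟨l5ExtSeed5_fix, (List.forall_mem_cons.mpr ⟨l5ExtSeed6_fix, (List.forall_mem_cons.mpr ⟨l5ExtSeed7_fix, (List.forall_mem_cons.mpr ⟨l5ExtSeed8_fix, (List.forall_mem_cons.mpr ⟨l5ExtSeed9_fix, (List.forall_mem_cons.mpr ⟨l5ExtSeed10_fix, (List.forall_mem_cons.mpr ⟨l5ExtSeed11_fix, (List.forall_mem_cons.mpr ⟨l5ExtSeed12_fix, (List.forall_mem_cons.mpr ⟨l5ExtSeed13_fix, (List.forall_mem_cons.mpr ⟨l5ExtSeed14_fix, (List.forall_mem_cons.mpr ⟨l5ExtSeed15_fix, (List.forall_mem_cons.mpr ⟨l5ExtSeed16_fix, (List.forall_mem_cons.mpr ⟨l5ExtSeed17_fix, (List.forall_mem_cons.mpr ⟨l5ExtSeed18_fix,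 (List.forall_mem_cons.mpr ⟨l5ExtSeed19_fix, (List.forall_mem_cons.mpr ⟨l5ExtSeed20_fix, (List.forall_mem_cons.mpr ⟨l5ExtSeed21_fix, (List.forall_mem_cons.mpr ⟨l5ExtSeed22_fix, (List.forall_mem_cons.mpr ⟨l5ExtSeed23_fix, (List.forall_mem_cons.mpr ⟨l5ExtSeed24_fix, (List.forall_mem_cons.mpr ⟨l5ExtSeed25_fix, (List.forall_mem_cons.mpr ⟨l5ExtSeed26_fix, (List.forall_mem_cons.mpr ⟨l5ExtSeed27_fix, (fun w hw => absurd hw List.not_mem_nil)⟩)⟩)⟩)⟩)⟩)⟩)⟩)⟩)⟩)⟩)⟩)⟩)⟩)⟩)⟩)⟩)⟩)⟩)⟩)⟩)⟩)⟩)⟩)⟩)⟩)⟩)⟩)⟩) (p := 7) (by decide +kernel)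

theorem l5ExtSeed29_fix : Data.ev l5ExtSetup.el l5ExtSeed29.tgt • ((1 : l5ExtSetup.G) : l5ExtSetup.G ⧸ l5ExtSetup.closureOf l5ExtHs)
    = ((1 : l5ExtSetup.G) : l5ExtSetup.G ⧸ l5ExtSetup.closureOf l5ExtHs) :=
  seed_fixes_seq l5ExtSetup_gens l5ExtLetters_ok l5ExtHw_eq l5ExtL_eq l5ExtSeed29_check [l5ExtSeed0.tgt, l5ExtSeed1.tgt, l5ExtSeed2.tgt, l5ExtSeed3.tgt, l5ExtSeed4.tgt, l5ExtSeed5.tgt, l5ExtSeed6.tgt, l5ExtSeed7.tgt, l5ExtSeed8.tgt, l5ExtSeed9.tgt, l5ExtSeed10.tgt, l5ExtSeed11.tgt, l5ExtSeed12.tgt, l5ExtSeed13.tgt, l5ExtSeed14.tgt, l5ExtSeed15.tgt, l5ExtSeed16.tgt, l5ExtSeed17.tgt, l5ExtSeed18.tgt, l5ExtSeed19.tgt, l5ExtSeed20.tgt, l5ExtSeed21.tgt, l5ExtSeed22.tgt, l5ExtSeed23.tgt, l5ExtSeed24.tgt, l5ExtSeed25.tgt, l5ExtSeed26.tgt, l5ExtSeed27.tgt, l5ExtSeed28.tgt]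
    (List.forall_mem_cons.mpr ⟨l5ExtSeed0_fix, (List.forall_mem_cons.mpr ⟨l5ExtSeed1_fix, (List.forall_mem_cons.mpr ⟨l5ExtSeed2_fix, (List.forall_mem_cons.mpr ⟨l5ExtSeed3_fix, (List.forall_mem_cons.mpr ⟨l5ExtSeed4_fix, (List.forall_mem_cons.mpr ⟨l5ExtSeed5_fix, (List.forall_mem_cons.mpr ⟨l5ExtSeed6_fix, (List.forall_mem_cons.mpr ⟨l5ExtSeed7_fix, (List.forall_mem_cons.mpr ⟨l5ExtSeed8_fix, (List.forall_mem_cons.mpr ⟨l5ExtSeed9_fix, (List.forall_mem_cons.mpr ⟨l5ExtSeed10_fix, (List.forall_mem_cons.mpr ⟨l5ExtSeed11_fix, (List.forall_mem_cons.mpr ⟨l5ExtSeed12_fix, (List.forall_mem_cons.mpr ⟨l5ExtSeed13_fix, (List.forall_mem_cons.mpr ⟨l5ExtSeed14_fix, (List.forall_mem_cons.mpr ⟨l5ExtSeed15_fix, (List.forall_mem_cons.mpr ⟨l5ExtSeed16_fix, (List.forall_mem_cons.mpr ⟨l5ExtSeed17_fix, (List.forall_mem_cons.mpr ⟨l5ExtSeed18_fix,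 (List.forall_mem_cons.mpr ⟨l5ExtSeed19_fix, (List.forall_mem_cons.mpr ⟨l5ExtSeed20_fix, (List.forall_mem_cons.mpr ⟨l5ExtSeed21_fix, (List.forall_mem_cons.mpr ⟨l5ExtSeed22_fix, (List.forall_mem_cons.mpr ⟨l5ExtSeed23_fix, (List.forall_mem_cons.mpr ⟨l5ExtSeed24_fix, (List.forall_mem_cons.mpr ⟨l5ExtSeed25_fix, (List.forall_mem_cons.mpr ⟨l5ExtSeed26_fix, (List.forall_mem_cons.mpr ⟨l5ExtSeed27_fix, (List.forall_mem_cons.mpr ⟨l5ExtSeed28_fix, (fun w hw => absurd hw List.not_mem_nil)⟩)⟩)⟩)⟩)⟩)⟩)⟩)⟩)⟩)⟩)⟩)⟩)⟩)⟩)⟩)⟩)⟩)⟩)⟩)⟩)⟩)⟩)⟩)⟩)⟩)⟩)⟩)⟩)⟩) (p := 12) (by decide +kernel)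

theorem l5ExtSeed30_fix : Data.ev l5ExtSetup.el l5ExtSeed30.tgt • ((1 : l5ExtSetup.G) : l5ExtSetup.G ⧸ l5ExtSetup.closureOf l5ExtHs)
    = ((1 : l5ExtSetup.G) : l5ExtSetup.G ⧸ l5ExtSetup.closureOf l5ExtHs) :=
  seed_fixes_seq l5ExtSetup_gens l5ExtLetters_ok l5ExtHw_eq l5ExtL_eq l5ExtSeed30_check [l5ExtSeed0.tgt, l5ExtSeed1.tgt, l5ExtSeed2.tgt, l5ExtSeed3.tgt, l5ExtSeed4.tgt, l5ExtSeed5.tgt, l5ExtSeed6.tgt, l5ExtSeed7.tgt, l5ExtSeed8.tgt, l5ExtSeed9.tgt, l5ExtSeed10.tgt, l5ExtSeed11.tgt, l5ExtSeed12.tgt, l5ExtSeed13.tgt, l5ExtSeed14.tgt, l5ExtSeed15.tgt, l5ExtSeed16.tgt, l5ExtSeed17.tgt, l5ExtSeed18.tgt, l5ExtSeed19.tgt, l5ExtSeed20.tgt, l5ExtSeed21.tgt, l5ExtSeed22.tgt, l5ExtSeed23.tgt, l5ExtSeed24.tgt, l5ExtSeed25.tgt, l5ExtSeed26.tgt, l5ExtSeed27.tgt, l5ExtSeed28.tgt, l5ExtSeed29.tgt]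
    (List.forall_mem_cons.mpr ⟨l5ExtSeed0_fix, (List.forall_mem_cons.mpr ⟨l5ExtSeed1_fix, (List.forall_mem_cons.mpr ⟨l5ExtSeed2_fix, (List.forall_mem_cons.mpr ⟨l5ExtSeed3_fix, (List.forall_mem_cons.mpr ⟨l5ExtSeed4_fix, (List.forall_mem_cons.mpr ⟨l5ExtSeed5_fix, (List.forall_mem_cons.mpr ⟨l5ExtSeed6_fix, (List.forall_mem_cons.mpr ⟨l5ExtSeed7_fix, (List.forall_mem_cons.mpr ⟨l5ExtSeed8_fix, (List.forall_mem_cons.mpr ⟨l5ExtSeed9_fix, (List.forall_mem_cons.mpr ⟨l5ExtSeed10_fix, (List.forall_mem_cons.mpr ⟨l5ExtSeed11_fix, (List.forall_mem_cons.mpr ⟨l5ExtSeed12_fix, (List.forall_mem_cons.mpr ⟨l5ExtSeed13_fix, (List.forall_mem_cons.mpr ⟨l5ExtSeed14_fix, (List.forall_mem_cons.mpr ⟨l5ExtSeed15_fix, (List.forall_mem_cons.mpr ⟨l5ExtSeed16_fix, (List.forall_mem_cons.mpr ⟨l5ExtSeed17_fix, (List.forall_mem_cons.mpr ⟨l5ExtSeed18_fix,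 (List.forall_mem_cons.mpr ⟨l5ExtSeed19_fix, (List.forall_mem_cons.mpr ⟨l5ExtSeed20_fix, (List.forall_mem_cons.mpr ⟨l5ExtSeed21_fix, (List.forall_mem_cons.mpr ⟨l5ExtSeed22_fix, (List.forall_mem_cons.mpr ⟨l5ExtSeed23_fix, (List.forall_mem_cons.mpr ⟨l5ExtSeed24_fix, (List.forall_mem_cons.mpr ⟨l5ExtSeed25_fix, (List.forall_mem_cons.mpr ⟨l5ExtSeed26_fix, (List.forall_mem_cons.mpr ⟨l5ExtSeed27_fix, (List.forall_mem_cons.mpr ⟨l5ExtSeed28_fix, (List.forall_mem_cons.mpr ⟨l5ExtSeed29_fix, (fun w hw => absurd hw List.not_mem_nil)⟩)⟩)⟩)⟩)⟩)⟩)⟩)⟩)⟩)⟩)⟩)⟩)⟩)⟩)⟩)⟩)⟩)⟩)⟩)⟩)⟩)⟩)⟩)⟩)⟩)⟩)⟩)⟩)⟩)⟩) (p := 10) (by decide +kernel)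

theorem l5ExtData_rels0 : Setup.relsChunkOK l5ExtSetup l5ExtData 0 20 = true := by decide +kernel

theorem l5ExtData_rels20 : Setup.relsChunkOK l5ExtSetup l5ExtData 20 20 = true := by decide +kernel

theorem l5ExtData_rels40 : Setup.relsChunkOK l5ExtSetup l5ExtData 40 20 = true := by decide +kernel

theorem l5ExtData_rels60 : Setup.relsChunkOK l5ExtSetup l5ExtData 60 20 = true := by decide +kernel

theorem l5ExtData_rels80 : Setup.relsChunkOK l5ExtSetup l5ExtData 80 20 = true := by decide +kernel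

theorem l5ExtData_rels100 : Setup.relsChunkOK l5ExtSetup l5ExtData 100 20 = true := by decide +kernel

theorem l5ExtData_rels120 : Setup.relsChunkOK l5ExtSetup l5ExtData 120 20 = true := by decide +kernel

theorem l5ExtData_rels140 : Setup.relsChunkOK l5ExtSetup l5ExtData 140 20 = true := by decide +kernel

theorem l5ExtData_rels160 : Setup.relsChunkOK l5ExtSetup l5ExtData 160 20 = true := by decide +kernel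

theorem l5ExtData_rels180 : Setup.relsChunkOK l5ExtSetup l5ExtData 180 20 = true := by decide +kernel

theorem l5ExtData_rels200 : Setup.relsChunkOK l5ExtSetup l5ExtData 200 20 = true := by decide +kernel

theorem l5ExtData_rels220 : Setup.relsChunkOK l5ExtSetup l5ExtData 220 20 = true := by decide +kernel

theorem l5ExtData_rels240 : Setup.relsChunkOK l5ExtSetup l5ExtData 240 20 = true := by decide +kernel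

theorem l5ExtData_rels260 : Setup.relsChunkOK l5ExtSetup l5ExtData 260 20 = true := by decide +kernel

theorem l5ExtData_rels280 : Setup.relsChunkOK l5ExtSetup l5ExtData 280 20 = true := by decide +kernel

theorem l5ExtData_rels300 : Setup.relsChunkOK l5ExtSetup l5ExtData 300 20 = true := by decide +kernel

theorem l5ExtData_rels320 : Setup.relsChunkOK l5ExtSetup l5ExtData 320 20 = true := by decide +kernel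

theorem l5ExtData_rels340 : Setup.relsChunkOK l5ExtSetup l5ExtData 340 20 = true := by decide +kernel

theorem l5ExtData_rels360 : Setup.relsChunkOK l5ExtSetup l5ExtData 360 20 = true := by decide +kernel

theorem l5ExtData_rels380 : Setup.relsChunkOK l5ExtSetup l5ExtData 380 20 = true := by decide +kernel

theorem l5ExtData_rels400 : Setup.relsChunkOK l5ExtSetup l5ExtData 400 20 = true := by decide +kernel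

theorem l5ExtData_rels420 : Setup.relsChunkOK l5ExtSetup l5ExtData 420 20 = true := by decide +kernel

theorem l5ExtData_rels440 : Setup.relsChunkOK l5ExtSetup l5ExtData 440 20 = true := by decide +kernel

theorem l5ExtData_rels460 : Setup.relsChunkOK l5ExtSetup l5ExtData 460 20 = true := by decide +kernel

theorem l5ExtData_rels480 : Setup.relsChunkOK l5ExtSetup l5ExtData 480 20 = true := by decide +kernel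

theorem l5ExtData_rels500 : Setup.relsChunkOK l5ExtSetup l5ExtData 500 20 = true := by decide +kernel

theorem l5ExtData_rels520 : Setup.relsChunkOK l5ExtSetup l5ExtData 520 20 = true := by decide +kernel

theorem l5ExtData_rels540 : Setup.relsChunkOK l5ExtSetup l5ExtData 540 20 = true := by decide +kernel

theorem l5ExtData_rels560 : Setup.relsChunkOK l5ExtSetup l5ExtData 560 20 = true := by decide +kernel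

theorem l5ExtData_rels580 : Setup.relsChunkOK l5ExtSetup l5ExtData 580 20 = true := by decide +kernel

theorem l5ExtData_rels600 : Setup.relsChunkOK l5ExtSetup l5ExtData 600 20 = true := by decide +kernel

theorem l5ExtData_rels620 : Setup.relsChunkOK l5ExtSetup l5ExtData 620 20 = true := by decide +kernel

theorem l5ExtData_rels640 : Setup.relsChunkOK l5ExtSetup l5ExtData 640 20 = true := by decide +kernel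

theorem l5ExtData_rels660 : Setup.relsChunkOK l5ExtSetup l5ExtData 660 20 = true := by decide +kernel

theorem l5ExtData_rels680 : Setup.relsChunkOK l5ExtSetup l5ExtData 680 20 = true := by decide +kernel

theorem l5ExtData_rels700 : Setup.relsChunkOK l5ExtSetup l5ExtData 700 20 = true := by decide +kernel

theorem l5ExtData_rels720 : Setup.relsChunkOK l5ExtSetup l5ExtData 720 20 = true := by decide +kernel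

theorem l5ExtData_rels740 : Setup.relsChunkOK l5ExtSetup l5ExtData 740 20 = true := by decide +kernel

theorem l5ExtData_rels760 : Setup.relsChunkOK l5ExtSetup l5ExtData 760 20 = true := by decide +kernel

theorem l5ExtData_rels780 : Setup.relsChunkOK l5ExtSetup l5ExtData 780 20 = true := by decide +kernel

theorem l5ExtData_rels800 : Setup.relsChunkOK l5ExtSetup l5ExtData 800 20 = true := by decide +kernel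

theorem l5ExtData_rels820 : Setup.relsChunkOK l5ExtSetup l5ExtData 820 20 = true := by decide +kernel

theorem l5ExtData_rels840 : Setup.relsChunkOK l5ExtSetup l5ExtData 840 20 = true := by decide +kernel

theorem l5ExtData_rels860 : Setup.relsChunkOK l5ExtSetup l5ExtData 860 20 = true := by decide +kernel

theorem l5ExtData_rels880 : Setup.relsChunkOK l5ExtSetup l5ExtData 880 20 = true := by decide +kernel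

theorem l5ExtData_rels900 : Setup.relsChunkOK l5ExtSetup l5ExtData 900 20 = true := by decide +kernel

theorem l5ExtData_rels920 : Setup.relsChunkOK l5ExtSetup l5ExtData 920 20 = true := by decide +kernel

theorem l5ExtData_rels940 : Setup.relsChunkOK l5ExtSetup l5ExtData 940 20 = true := by decide +kernel

theorem l5ExtData_rels960 : Setup.relsChunkOK l5ExtSetup l5ExtData 960 20 = true := by decide +kernel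

theorem l5ExtData_rels980 : Setup.relsChunkOK l5ExtSetup l5ExtData 980 20 = true := by decide +kernel

theorem l5ExtData_rels1000 : Setup.relsChunkOK l5ExtSetup l5ExtData 1000 20 = true := by decide +kernel

theorem l5ExtData_rels1020 : Setup.relsChunkOK l5ExtSetup l5ExtData 1020 20 = true := by decide +kernel

theorem l5ExtData_rels1040 : Setup.relsChunkOK l5ExtSetup l5ExtData 1040 20 = true := by decide +kernel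

theorem l5ExtData_rels1060 : Setup.relsChunkOK l5ExtSetup l5ExtData 1060 20 = true := by decide +kernel

theorem l5ExtData_rels1080 : Setup.relsChunkOK l5ExtSetup l5ExtData 1080 20 = true := by decide +kernel

theorem l5ExtData_rels1100 : Setup.relsChunkOK l5ExtSetup l5ExtData 1100 20 = true := by decide +kernel

theorem l5ExtData_rels1120 : Setup.relsChunkOK l5ExtSetup l5ExtData 1120 20 = true := by decide +kernel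

theorem l5ExtData_rels1140 : Setup.relsChunkOK l5ExtSetup l5ExtData 1140 20 = true := by decide +kernel

theorem l5ExtData_rels1160 : Setup.relsChunkOK l5ExtSetup l5ExtData 1160 20 = true := by decide +kernel

theorem l5ExtData_rels1180 : Setup.relsChunkOK l5ExtSetup l5ExtData 1180 20 = true := by decide +kernel

theorem l5ExtData_rels1200 : Setup.relsChunkOK l5ExtSetup l5ExtData 1200 20 = true := by decide +kernel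

theorem l5ExtData_rels1220 : Setup.relsChunkOK l5ExtSetup l5ExtData 1220 20 = true := by decide +kernel

theorem l5ExtData_rels1240 : Setup.relsChunkOK l5ExtSetup l5ExtData 1240 20 = true := by decide +kernel

theorem l5ExtData_rels1260 : Setup.relsChunkOK l5ExtSetup l5ExtData 1260 20 = true := by decide +kernel

theorem l5ExtData_rels1280 : Setup.relsChunkOK l5ExtSetup l5ExtData 1280 20 = true := by decide +kernel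

theorem l5ExtData_rels1300 : Setup.relsChunkOK l5ExtSetup l5ExtData 1300 20 = true := by decide +kernel

theorem l5ExtData_rels1320 : Setup.relsChunkOK l5ExtSetup l5ExtData 1320 20 = true := by decide +kernel

theorem l5ExtData_rels1340 : Setup.relsChunkOK l5ExtSetup l5ExtData 1340 20 = true := by decide +kernel

theorem l5ExtData_rels1360 : Setup.relsChunkOK l5ExtSetup l5ExtData 1360 20 = true := by decide +kernel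

theorem l5ExtData_rels1380 : Setup.relsChunkOK l5ExtSetup l5ExtData 1380 20 = true := by decide +kernel

theorem l5ExtData_rels1400 : Setup.relsChunkOK l5ExtSetup l5ExtData 1400 20 = true := by decide +kernel

theorem l5ExtData_rels1420 : Setup.relsChunkOK l5ExtSetup l5ExtData 1420 8 = true := by decide +kernel

theorem l5ExtTable : Setup.Table l5ExtSetup l5ExtData l5ExtHs :=
  Setup.Table.mk'' l5ExtSetup_gens l5ExtData_check (by decide +kernel)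
    (Setup.relsOK_of_chunk (m := 1428) (Setup.relsChunk_append (Setup.relsChunk_append (Setup.relsChunk_append (Setup.relsChunk_append (Setup.relsChunk_append (Setup.relsChunk_append (Setup.relsChunk_append (Setup.relsChunk_append (Setup.relsChunk_append (Setup.relsChunk_append (Setup.relsChunk_append (Setup.relsChunk_append (Setup.relsChunk_append (Setup.relsChunk_append (Setup.relsChunk_append (Setup.relsChunk_append (Setup.relsChunk_append (Setup.relsChunk_append (Setup.relsChunk_append (Setup.relsChunk_append (Setup.relsChunk_append (Setup.relsChunk_append (Setup.relsChunk_append (Setup.relsChunk_append (Setup.relsChunk_append (Setup.relsChunk_append (Setup.relsChunk_append (Setup.relsChunk_append (Setup.relsChunk_append (Setup.relsChunk_append (Setup.relsChunk_append (Setup.relsChunk_append (Setup.relsChunk_append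 (Setup.relsChunk_append (Setup.relsChunk_append (Setup.relsChunk_append (Setup.relsChunk_append (Setup.relsChunk_append (Setup.relsChunk_append (Setup.relsChunk_append (Setup.relsChunk_append (Setup.relsChunk_append (Setup.relsChunk_append (Setup.relsChunk_append (Setup.relsChunk_append (Setup.relsChunk_append (Setup.relsChunk_append (Setup.relsChunk_append (Setup.relsChunk_append (Setup.relsChunk_append (Setup.relsChunk_append (Setup.relsChunk_append (Setup.relsChunk_append (Setup.relsChunk_append (Setup.relsChunk_append (Setup.relsChunk_append (Setup.relsChunk_append (Setup.relsChunk_append (Setup.relsChunk_append (Setup.relsChunk_append (Setup.relsChunk_append (Setup.relsChunk_append (Setup.relsChunk_append (Setup.relsChunk_append (Setup.relsChunk_append (Setup.relsChunk_append (Setup.relsChunk_append (Setup.relsChunk_append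 (Setup.relsChunk_append (Setup.relsChunk_append (Setup.relsChunk_append l5ExtData_rels0 l5ExtData_rels20) l5ExtData_rels40) l5ExtData_rels60) l5ExtData_rels80) l5ExtData_rels100) l5ExtData_rels120) l5ExtData_rels140) l5ExtData_rels160) l5ExtData_rels180) l5ExtData_rels200) l5ExtData_rels220) l5ExtData_rels240) l5ExtData_rels260) l5ExtData_rels280) l5ExtData_rels300) l5ExtData_rels320) l5ExtData_rels340) l5ExtData_rels360) l5ExtData_rels380) l5ExtData_rels400) l5ExtData_rels420) l5ExtData_rels440) l5ExtData_rels460) l5ExtData_rels480) l5ExtData_rels500) l5ExtData_rels520) l5ExtData_rels540) l5ExtData_rels560) l5ExtData_rels580) l5ExtData_rels600) l5ExtData_rels620) l5ExtData_rels640) l5ExtData_rels660) l5ExtData_rels680) l5ExtData_rels700) l5ExtData_rels720) l5ExtData_rels740) l5ExtData_rels760) l5ExtData_rels780)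 l5ExtData_rels800) l5ExtData_rels820) l5ExtData_rels840) l5ExtData_rels860) l5ExtData_rels880) l5ExtData_rels900) l5ExtData_rels920) l5ExtData_rels940) l5ExtData_rels960) l5ExtData_rels980) l5ExtData_rels1000) l5ExtData_rels1020) l5ExtData_rels1040) l5ExtData_rels1060) l5ExtData_rels1080) l5ExtData_rels1100) l5ExtData_rels1120) l5ExtData_rels1140) l5ExtData_rels1160) l5ExtData_rels1180) l5ExtData_rels1200) l5ExtData_rels1220) l5ExtData_rels1240) l5ExtData_rels1260) l5ExtData_rels1280) l5ExtData_rels1300) l5ExtData_rels1320) l5ExtData_rels1340) l5ExtData_rels1360) l5ExtData_rels1380) l5ExtData_rels1400) l5ExtData_rels1420) (by decide +kernel))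
    (by decide +kernel) (ext := [l5ExtSeed0.tgt, l5ExtSeed1.tgt, l5ExtSeed2.tgt, l5ExtSeed3.tgt, l5ExtSeed4.tgt, l5ExtSeed5.tgt, l5ExtSeed6.tgt, l5ExtSeed7.tgt, l5ExtSeed8.tgt, l5ExtSeed9.tgt, l5ExtSeed10.tgt, l5ExtSeed11.tgt, l5ExtSeed12.tgt, l5ExtSeed13.tgt, l5ExtSeed14.tgt, l5ExtSeed15.tgt, l5ExtSeed16.tgt, l5ExtSeed17.tgt, l5ExtSeed18.tgt, l5ExtSeed19.tgt, l5ExtSeed20.tgt, l5ExtSeed21.tgt, l5ExtSeed22.tgt, l5ExtSeed23.tgt, l5ExtSeed24.tgt, l5ExtSeed25.tgt, l5ExtSeed26.tgt, l5ExtSeed27.tgt, l5ExtSeed28.tgt, l5ExtSeed29.tgt, l5ExtSeed30.tgt]) (by decide +kernel)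
    (List.forall_mem_cons.mpr ⟨l5ExtSeed0_fix, (List.forall_mem_cons.mpr ⟨l5ExtSeed1_fix, (List.forall_mem_cons.mpr ⟨l5ExtSeed2_fix, (List.forall_mem_cons.mpr ⟨l5ExtSeed3_fix, (List.forall_mem_cons.mpr ⟨l5ExtSeed4_fix, (List.forall_mem_cons.mpr ⟨l5ExtSeed5_fix, (List.forall_mem_cons.mpr ⟨l5ExtSeed6_fix, (List.forall_mem_cons.mpr ⟨l5ExtSeed7_fix, (List.forall_mem_cons.mpr ⟨l5ExtSeed8_fix, (List.forall_mem_cons.mpr ⟨l5ExtSeed9_fix, (List.forall_mem_cons.mpr ⟨l5ExtSeed10_fix, (List.forall_mem_cons.mpr ⟨l5ExtSeed11_fix, (List.forall_mem_cons.mpr ⟨l5ExtSeed12_fix, (List.forall_mem_cons.mpr ⟨l5ExtSeed13_fix, (List.forall_mem_cons.mpr ⟨l5ExtSeed14_fix, (List.forall_mem_cons.mpr ⟨l5ExtSeed15_fix, (List.forall_mem_cons.mpr ⟨l5ExtSeed16_fix, (List.forall_mem_cons.mpr ⟨l5ExtSeed17_fix, (List.forall_mem_cons.mpr ⟨l5ExtSeed18_fix,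 (List.forall_mem_cons.mpr ⟨l5ExtSeed19_fix, (List.forall_mem_cons.mpr ⟨l5ExtSeed20_fix, (List.forall_mem_cons.mpr ⟨l5ExtSeed21_fix, (List.forall_mem_cons.mpr ⟨l5ExtSeed22_fix, (List.forall_mem_cons.mpr ⟨l5ExtSeed23_fix, (List.forall_mem_cons.mpr ⟨l5ExtSeed24_fix, (List.forall_mem_cons.mpr ⟨l5ExtSeed25_fix, (List.forall_mem_cons.mpr ⟨l5ExtSeed26_fix, (List.forall_mem_cons.mpr ⟨l5ExtSeed27_fix, (List.forall_mem_cons.mpr ⟨l5ExtSeed28_fix, (List.forall_mem_cons.mpr ⟨l5ExtSeed29_fix, (List.forall_mem_cons.mpr ⟨l5ExtSeed30_fix, (fun w hw => absurd hw List.not_mem_nil)⟩)⟩)⟩)⟩)⟩)⟩)⟩)⟩)⟩)⟩)⟩)⟩)⟩)⟩)⟩)⟩)⟩)⟩)⟩)⟩)⟩)⟩)⟩)⟩)⟩)⟩)⟩)⟩)⟩)⟩)⟩)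

/-- The index of the subgroup in the presented group. -/
theorem l5Ext_index : ((ampSetup relsL5).closureOf xyHs).index ≤ 465 ∧ ((ampSetup relsL5).closureOf xyHs).index ≠ 0 :=
  ext_index (by decide +kernel) l5ExtTable (by decide +kernel) (k := 1428) (by decide +kernel) (extOK_append (extOK_append (extOK_append (extOK_append (extOK_append (extOK_append (extOK_append (extOK_append (extOK_append (extOK_append (extOK_append (extOK_append (extOK_append (extOK_append (extOK_append (extOK_append (extOK_append (extOK_append (extOK_append (extOK_append (extOK_append (extOK_append (extOK_append (extOK_append (extOK_append (extOK_append (extOK_append (extOK_append (extOK_append (extOK_append (extOK_append (extOK_append (extOK_append (extOK_append (extOK_append (extOK_append (extOK_append (extOK_append (extOK_append (extOK_append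 (extOK_append (extOK_append (extOK_append (extOK_append (extOK_append (extOK_append (extOK_append (extOK_append (extOK_append (extOK_append (extOK_append (extOK_append (extOK_append (extOK_append (extOK_append (extOK_append (extOK_append (extOK_append (extOK_append (extOK_append (extOK_append (extOK_append (extOK_append (extOK_append (extOK_append (extOK_append (extOK_append (extOK_append (extOK_append (extOK_append (extOK_append l5Ext_ok0 l5Ext_ok20) l5Ext_ok40) l5Ext_ok60) l5Ext_ok80) l5Ext_ok100) l5Ext_ok120) l5Ext_ok140) l5Ext_ok160) l5Ext_ok180) l5Ext_ok200) l5Ext_ok220) l5Ext_ok240) l5Ext_ok260) l5Ext_ok280) l5Ext_ok300) l5Ext_ok320) l5Ext_ok340) l5Ext_ok360) l5Ext_ok380) l5Ext_ok400) l5Ext_ok420) l5Ext_ok440) l5Ext_ok460) l5Ext_ok480) l5Ext_ok500) l5Ext_ok520) l5Ext_ok540) l5Ext_ok560) l5Ext_ok580) l5Ext_ok600)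 l5Ext_ok620) l5Ext_ok640) l5Ext_ok660) l5Ext_ok680) l5Ext_ok700) l5Ext_ok720) l5Ext_ok740) l5Ext_ok760) l5Ext_ok780) l5Ext_ok800) l5Ext_ok820) l5Ext_ok840) l5Ext_ok860) l5Ext_ok880) l5Ext_ok900) l5Ext_ok920) l5Ext_ok940) l5Ext_ok960) l5Ext_ok980) l5Ext_ok1000) l5Ext_ok1020) l5Ext_ok1040) l5Ext_ok1060) l5Ext_ok1080) l5Ext_ok1100) l5Ext_ok1120) l5Ext_ok1140) l5Ext_ok1160) l5Ext_ok1180) l5Ext_ok1200) l5Ext_ok1220) l5Ext_ok1240) l5Ext_ok1260) l5Ext_ok1280) l5Ext_ok1300) l5Ext_ok1320) l5Ext_ok1340) l5Ext_ok1360) l5Ext_ok1380) l5Ext_ok1400) l5Ext_ok1420)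
    (by decide +kernel) (ws := [[0], [1], [2], [3]]) (gc := l5ExtGc) (by decide +kernel)
    (fun w hw => by
      simp only [List.mem_cons, List.not_mem_nil, or_false] at hw
      rcases hw with rfl | rfl | rfl | rfl
      · exact Subgroup.subset_closure ⟨FreeGroup.of 0, by simp [xyHs], rfl⟩
      · rw [show wordFG [1] = (FreeGroup.of 0)⁻¹ from by decide +kernel, map_inv]
        exact inv_mem (Subgroup.subset_closure ⟨FreeGroup.of 0, by simp [xyHs], rfl⟩)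
      · exact Subgroup.subset_closure ⟨FreeGroup.of 1, by simp [xyHs], rfl⟩
      · rw [show wordFG [3] = (FreeGroup.of 1)⁻¹ from by decide +kernel, map_inv]
        exact inv_mem (Subgroup.subset_closure ⟨FreeGroup.of 1, by simp [xyHs], rfl⟩))

end Cfsg.Agent.TransvCent
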