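import Cfsg.Agent.Lib.TransvCent.CompleteL5Model
import Cfsg.Agent.Lib.TransvCent.CompleteL5Table

/-
The completion `SL₅(2)`.

* `l5_completes` : the completion
-/

set_option autoImplicit false

namespace Cfsg.Agent.TransvCent

/-- The completion `SL₅(2)`. -/
theorem l5_completes.{u} : Completes.{u} (Matrix.SpecialLinearGroup (Fin 5) (ZMod 2)) tL5 relsL5 := by
  have := isSimpleGroup_SL5
  refine completes_of_index l5Ext_index (xy_card_le (by decide +kernel)) ?_ satRels_tL5 closure_tL5
  rw [J4Type.TwoTen.natCard_SL5]

end Cfsg.Agent.TransvCent
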