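import Cfsg.Agent.Lib.TransvCent.CompleteExt
import Cfsg.Agent.Lib.CosetEnum.Order

/-
Generated extended presentation for the completion L5.

* `l5ExtSetup` : the presentation
* `l5ExtImg`, `l5ExtCases` : its meaning in four letters
-/

set_option autoImplicit false
set_option maxRecDepth 100000
set_option Elab.async false

namespace Cfsg.Agent.TransvCent

open Cfsg.Agent.CosetEnum

/-- The decoding of the letters. -/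
def l5ExtLt : List (Fin 23 × Bool) := [(0, true), (0, false), (1, true), (1, false), (2, true), (2, false), (3, true), (3, false), (4, true), (5, true), (6, true), (7, true), (8, true), (9, true), (10, true), (11, true), (12, true), (13, true), (14, true), (15, true), (16, true), (17, true), (18, true), (19, true), (20, true), (21, true), (21, false), (22, true), (22, false)]

/-- The further relators, as lists of letters. -/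
def l5ExtWords : List (List Nat) := [
  [4, 4, 4],
  [6, 6, 6],
  [9, 11, 24],
  [10, 16, 24],
  [14, 15, 17],
  [14, 22, 24],
  [4, 11, 5, 12],
  [4, 14, 5, 15],
  [4, 12, 5, 16],
  [4, 17, 5, 14],
  [6, 9, 7, 19],
  [6, 17, 7, 20],
  [6, 19, 7, 21],
  [6, 22, 7, 14],
  [25, 15, 26, 10],
  [25, 16, 26, 15],
  [25, 17, 26, 12],
  [25, 20, 25, 20],
  [25, 21, 26, 8],
  [25, 22, 26, 13],
  [25, 24, 26, 11],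
  [27, 9, 28, 9],
  [27, 12, 27, 12],
  [27, 14, 28, 19],
  [27, 15, 28, 23],
  [27, 18, 28, 13],
  [27, 19, 28, 15],
  [27, 20, 28, 11],
  [27, 21, 28, 22],
  [27, 23, 28, 14],
  [0, 12, 17, 1, 12],
  [0, 17, 1, 28, 28],
  [0, 18, 1, 21, 15],
  [0, 20, 1, 24, 20],
  [2, 8, 10, 3, 10],
  [2, 8, 14, 2, 14],
  [2, 9, 2, 9, 2],
  [2, 12, 2, 12, 2],
  [2, 20, 24, 3, 20],
  [8, 12, 26, 19, 25],
  [8, 16, 22, 8, 14],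
  [9, 12, 20, 12, 20],
  [9, 12, 26, 17, 25],
  [9, 13, 11, 24, 13],
  [9, 14, 19, 23, 15],
  [8, 25, 25, 4, 8, 5, 25, 25],
  [8, 26, 5, 25, 4, 25, 5, 25],
  [8, 4, 26, 5, 8, 4, 26, 5],
  [9, 12, 18, 6, 18, 7, 27, 27],
  [18, 28, 7, 27, 6, 27, 7, 27],
  [18, 6, 28, 7, 18, 6, 28, 7],
  [26, 4, 26, 4, 26, 4, 7, 16, 6],
  [3, 0, 3, 0, 0, 0, 2, 0, 26],
  [1, 3, 1, 1, 2, 1, 2, 0, 0, 23],
  [1, 1, 2, 1, 3, 0, 3, 1, 1, 1, 16],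
  [1, 1, 8, 0, 4, 26, 28, 6, 0, 9, 18, 23],
  [0, 2, 1, 1, 2, 1, 3, 0, 0, 0, 3, 28],
  [4, 9, 5, 10],
  [4, 10, 5, 13],
  [11, 12, 13, 10],
  [14, 16, 22, 10],
  [25, 8, 26, 23],
  [11, 15, 19, 23, 22],
  [8, 4, 8, 4, 8, 4],
  [23, 8, 23, 8, 23, 8],
  [23, 8, 25, 25, 8, 21],
  [0, 3, 0, 3, 0, 3, 1, 3, 0, 2, 8],
  [3, 1, 2, 0, 0, 3, 1, 1, 1, 2, 1, 13],
  [3, 1, 3, 0, 3, 1, 2, 1, 3, 0, 0, 0, 12],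
  [0, 2, 1, 2, 0, 3, 0, 2, 1, 3, 0, 3, 14],
  [2, 1, 1, 2, 1, 2, 1, 2, 1, 1, 3, 1, 1, 15],
  [0, 0, 2, 0, 3, 0, 2, 0, 0, 2, 0, 3, 0, 2, 9],
  [19, 21, 20, 17],
  [20, 23, 21, 9],
  [25, 9, 26, 9],
  [17, 20, 17, 20],
  [10, 12, 26, 22, 25],
  [1, 21, 0, 0, 16, 1],
  [1, 25, 2, 14, 12, 1],
  [9, 20, 8, 26, 26, 8],
  [10, 28, 21, 0, 13, 3],
  [12, 20, 26, 19, 26, 8],
  [13, 3, 25, 19, 26, 2],
  [19, 28, 25, 2, 25, 10],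
  [23, 25, 21, 25, 8, 21],
  [25, 25, 23, 26, 26, 21],
  [8, 21, 8, 21, 8, 21],
  [1, 1, 2, 1, 1, 3, 1, 2, 1, 1, 3, 0, 11],
  [8, 2, 10, 3],
  [9, 0, 9, 1],
  [12, 2, 12, 3],
  [12, 13, 16, 9],
  [15, 10, 15, 10],
  [2, 8, 3, 10, 8],
  [9, 21, 11, 24, 21],
  [1, 28, 8, 24, 21, 1],
  [8, 14, 3, 8, 14, 3],
  [10, 12, 15, 8, 15, 8],
  [11, 15, 8, 15, 13, 8],
  [12, 0, 14, 15, 12, 1],
  [12, 15, 16, 15, 13, 9],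
  [13, 1, 9, 0, 13, 9],
  [14, 3, 16, 8, 22, 3],
  [15, 1, 27, 27, 0, 14],
  [15, 2, 12, 3, 15, 12],
  [15, 21, 1, 22, 15, 3],
  [16, 3, 20, 8, 20, 2],
  [21, 10, 11, 16, 21, 9],
  [21, 12, 13, 16, 21, 9],
  [28, 8, 27, 0, 8, 1],
  [3, 1, 2, 1, 1, 3, 0, 0, 3, 0, 10],
  [0, 2, 0, 2, 1, 2, 1, 3, 1, 1, 3, 17],
  [10, 11, 16, 9],
  [25, 13, 26, 14],
  [8, 10, 8, 10],
  [13, 19, 13, 23, 22],
  [3, 21, 2, 0, 23, 1],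
  [10, 13, 8, 13, 10, 8],
  [16, 3, 25, 23, 26, 2],
  [16, 23, 1, 16, 23, 1],
  [8, 23, 8, 23, 8, 23],
  [17, 23, 19, 9],
  [9, 21, 9, 21],
  [17, 21, 17, 21],
  [12, 17, 21, 12, 21],
  [8, 12, 2, 12, 10, 3],
  [9, 12, 2, 12, 9, 3],
  [9, 22, 2, 23, 26, 1],
  [14, 2, 15, 17, 2, 8],
  [15, 27, 12, 27, 15, 12],
  [19, 27, 20, 28, 19, 11],
  [21, 2, 9, 3, 21, 9],
  [21, 27, 20, 28, 21, 11],
  [23, 3, 14, 0, 26, 11],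
  [24, 1, 1, 28, 8, 21],
  [6, 20, 7, 23],
  [6, 24, 7, 22],
  [11, 10, 16, 9],
  [11, 13, 12, 10],
  [20, 21, 23, 9],
  [9, 10, 9, 10],
  [10, 13, 10, 13],
  [16, 26, 27, 10, 26, 3],
  [26, 27, 12, 27, 25, 17],
  [3, 0, 3, 1, 1, 2, 1, 3, 19],
  [2, 1, 1, 3, 1, 2, 1, 1, 3, 1, 20],
  [2, 1, 2, 1, 1, 3, 1, 2, 1, 1, 2, 24],
  [0, 0, 0, 2, 1, 3, 1, 2, 0, 0, 3, 0, 18],
  [3, 0, 2, 1, 3, 0, 0, 3, 1, 3, 0, 2, 22],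
  [24, 23, 24, 23],
  [9, 23, 9, 23],
  [9, 10, 12, 24, 13],
  [11, 1, 9, 0, 24],
  [16, 3, 8, 2, 24],
  [10, 0, 9, 1, 10, 9],
  [10, 13, 23, 2, 28, 3],
  [11, 2, 11, 2, 24, 2],
  [15, 21, 11, 21, 15, 11],
  [24, 2, 12, 3, 24, 12],
  [11, 17, 11, 17],
  [11, 25, 14, 26, 13],
  [13, 26, 17, 25, 16],
  [14, 18, 17, 18, 15],
  [18, 20, 24, 18, 24],
  [8, 20, 26, 3, 22, 0],
  [12, 14, 16, 14, 13, 9],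
  [13, 18, 9, 18, 13, 9],
  [13, 25, 9, 26, 13, 9],
  [14, 8, 15, 17, 10, 8],
  [14, 19, 1, 20, 17, 3],
  [15, 25, 14, 10, 26, 13],
  [16, 26, 13, 25, 14, 10],
  [18, 19, 1, 22, 25, 1],
  [19, 8, 12, 8, 23, 12],
  [21, 18, 21, 18],
  [9, 23, 24, 23, 11],
  [9, 25, 11, 26, 11],
  [14, 18, 15, 21, 18],
  [9, 22, 0, 25, 23, 3],
  [10, 2, 16, 24, 8, 3],
  [11, 25, 13, 26, 22, 9],
  [11, 25, 25, 1, 24, 0],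
  [14, 2, 24, 8, 22, 2],
  [14, 3, 24, 22, 8, 3],
  [14, 8, 11, 8, 22, 9],
  [14, 25, 24, 26, 22, 9],
  [15, 18, 25, 0, 26, 8],
  [16, 3, 26, 21, 25, 2],
  [17, 8, 24, 8, 22, 15],
  [20, 10, 20, 16],
  [20, 14, 20, 14],
  [10, 12, 20, 13, 20],
  [9, 25, 25, 2, 20, 3],
  [15, 27, 9, 28, 15, 9],
  [2, 2, 2],
  [9, 2, 9, 3],
  [9, 8, 9, 8],
  [10, 8, 10, 8],
  [10, 9, 10, 9],
  [11, 8, 11, 8],
  [11, 14, 22, 9],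
  [11, 16, 10, 9],
  [11, 22, 14, 9],
  [12, 9, 12, 9],
  [12, 10, 12, 10],
  [12, 16, 13, 9],
  [13, 12, 16, 9],
  [14, 9, 14, 9],
  [14, 10, 14, 10],
  [14, 12, 14, 12],
  [16, 8, 16, 8],
  [17, 16, 17, 16],
  [17, 19, 23, 9],
  [17, 24, 22, 15],
  [19, 9, 19, 9],
  [19, 11, 19, 11],
  [19, 12, 23, 12],
  [19, 15, 19, 15],
  [19, 17, 23, 9],
  [19, 18, 19, 18],
  [19, 20, 21, 17],
  [20, 9, 20, 9],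
  [20, 15, 20, 15],
  [20, 17, 20, 17],
  [20, 18, 20, 18],
  [20, 19, 21, 17],
  [21, 20, 23, 9],
  [22, 13, 22, 13],
  [22, 15, 22, 15],
  [22, 17, 24, 15],
  [22, 19, 22, 19],
  [22, 21, 22, 21],
  [23, 11, 23, 11],
  [23, 18, 23, 18],
  [24, 8, 24, 8],
  [24, 19, 24, 19],
  [24, 20, 24, 20],
  [25, 11, 26, 24],
  [26, 26, 26, 26],
  [27, 16, 28, 18],
  [27, 24, 28, 20],
  [8, 9, 8, 9],
  [8, 11, 8, 11],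
  [8, 12, 8, 12],
  [8, 13, 8, 13],
  [8, 16, 8, 16],
  [9, 12, 9, 12],
  [9, 13, 9, 13],
  [9, 14, 9, 14],
  [9, 15, 9, 15],
  [9, 16, 9, 16],
  [9, 18, 9, 18],
  [9, 19, 9, 19],
  [9, 20, 9, 20],
  [9, 22, 9, 22],
  [10, 14, 10, 14],
  [10, 15, 10, 15],
  [10, 24, 10, 24],
  [11, 9, 11, 9],
  [11, 15, 11, 15],
  [11, 19, 11, 19],
  [11, 20, 11, 20],
  [11, 21, 11, 21],
  [11, 23, 11, 23],
  [12, 16, 12, 16],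
  [12, 17, 12, 17],
  [13, 16, 13, 16],
  [13, 22, 13, 22],
  [14, 17, 14, 17],
  [14, 19, 14, 19],
  [14, 20, 14, 20],
  [14, 21, 14, 21],
  [14, 23, 14, 23],
  [15, 19, 15, 19],
  [15, 21, 15, 21],
  [15, 22, 15, 22],
  [15, 23, 15, 23],
  [16, 12, 16, 12],
  [16, 13, 16, 13],
  [17, 18, 17, 18],
  [18, 20, 18, 20],
  [18, 23, 18, 23],
  [19, 23, 19, 23],
  [20, 19, 20, 19],
  [20, 22, 20, 22],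
  [21, 19, 21, 19],
  [22, 23, 22, 23],
  [23, 20, 23, 20],
  [24, 9, 24, 9],
  [24, 16, 24, 16],
  [2, 8, 2, 10, 2],
  [8, 10, 14, 8, 14],
  [8, 10, 22, 8, 22],
  [8, 12, 17, 8, 17],
  [8, 14, 16, 8, 22],
  [9, 14, 23, 19, 15],
  [9, 15, 22, 17, 11],
  [9, 17, 22, 15, 11],
  [9, 17, 25, 12, 26],
  [9, 17, 27, 17, 28],
  [9, 17, 28, 17, 27],
  [9, 19, 11, 24, 19],
  [9, 19, 14, 23, 15],
  [9, 19, 24, 19, 11],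
  [9, 20, 11, 24, 20],
  [9, 20, 27, 11, 28],
  [9, 21, 24, 21, 11],
  [9, 22, 17, 15, 11],
  [9, 23, 11, 24, 23],
  [9, 23, 14, 19, 15],
  [9, 26, 24, 25, 24],
  [10, 12, 25, 14, 26],
  [10, 13, 9, 24, 12],
  [10, 14, 19, 16, 19],
  [10, 14, 21, 10, 21],
  [10, 14, 23, 16, 23],
  [10, 15, 16, 24, 15],
  [10, 15, 22, 17, 16],
  [10, 20, 10, 24, 20],
  [10, 21, 16, 22, 21],
  [10, 21, 24, 21, 16],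
  [10, 25, 11, 26, 16],
  [10, 25, 17, 14, 26],
  [10, 26, 15, 25, 24],
  [11, 3, 9, 2, 24],
  [11, 15, 26, 16, 25],
  [11, 15, 28, 21, 27],
  [11, 17, 19, 24, 23],
  [11, 18, 11, 20, 18],
  [11, 19, 17, 24, 23],
  [11, 21, 20, 24, 23],
  [11, 21, 23, 24, 20],
  [11, 23, 9, 24, 23],
  [11, 23, 21, 24, 20],
  [11, 25, 9, 26, 24],
  [11, 26, 14, 22, 25],
  [11, 28, 23, 21, 27],
  [12, 20, 16, 13, 20],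
  [13, 15, 21, 13, 21],
  [13, 19, 22, 13, 23],
  [14, 19, 17, 19, 15],
  [14, 20, 21, 19, 15],
  [14, 28, 20, 27, 22],
  [15, 26, 24, 16, 25],
  [15, 27, 23, 28, 17],
  [16, 23, 16, 23, 22],
  [17, 21, 27, 22, 28],
  [18, 19, 22, 18, 22],
  [18, 20, 27, 10, 28],
  [19, 27, 17, 28, 23],
  [22, 27, 23, 28, 24],
  [18, 6, 18, 6, 18, 6],
  [1, 16, 19, 0, 28, 1],
  [1, 18, 8, 23, 2, 1],
  [1, 20, 0, 0, 11, 1],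
  [1, 23, 0, 0, 10, 1],
  [1, 25, 12, 2, 14, 1],
  [2, 10, 14, 0, 13, 1],
  [2, 16, 22, 0, 13, 1],
  [2, 18, 2, 28, 11, 1],
  [2, 19, 10, 0, 25, 0],
  [2, 22, 16, 0, 13, 1],
  [3, 8, 14, 2, 14, 3],
  [3, 8, 18, 16, 21, 0],
  [3, 11, 2, 0, 24, 1],
  [3, 15, 2, 0, 22, 1],
  [3, 16, 2, 1, 18, 0],
  [3, 20, 24, 3, 20, 3],
  [3, 22, 2, 0, 15, 1],
  [3, 23, 2, 0, 21, 1],
  [3, 24, 20, 3, 20, 3],
  [3, 25, 1, 26, 16, 0],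
  [8, 0, 8, 21, 8, 1],
  [8, 0, 13, 1, 14, 3],
  [8, 0, 24, 21, 27, 0],
  [8, 3, 16, 24, 8, 2],
  [8, 9, 2, 10, 9, 3],
  [8, 10, 1, 20, 18, 0],
  [8, 12, 27, 0, 27, 0],
  [8, 17, 27, 0, 28, 0],
  [8, 19, 1, 20, 15, 2],
  [8, 20, 1, 28, 23, 1],
  [8, 20, 2, 20, 16, 3],
  [8, 20, 8, 2, 20, 3],
  [8, 24, 26, 3, 14, 0],
  [8, 27, 0, 28, 12, 0],
  [9, 10, 8, 10, 9, 8],
  [9, 17, 2, 28, 28, 3],
  [9, 20, 2, 20, 11, 3],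
  [9, 20, 3, 26, 26, 2],
  [9, 20, 25, 21, 25, 8],
  [9, 20, 26, 23, 26, 8],
  [9, 25, 20, 23, 26, 8],
  [9, 26, 20, 21, 25, 8],
  [9, 26, 26, 2, 20, 3],
  [10, 1, 16, 18, 15, 2],
  [10, 1, 18, 20, 0, 8],
  [10, 1, 21, 16, 18, 2],
  [10, 2, 14, 8, 14, 3],
  [10, 12, 8, 12, 10, 8],
  [10, 13, 19, 2, 27, 3],
  [10, 15, 12, 8, 15, 8],
  [10, 18, 10, 0, 19, 1],
  [10, 20, 23, 21, 10, 9],
  [10, 27, 0, 10, 27, 0],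
  [11, 2, 12, 3, 13, 10],
  [11, 3, 8, 2, 16, 9],
  [11, 3, 20, 26, 26, 2],
  [11, 19, 2, 27, 12, 3],
  [11, 19, 12, 2, 28, 3],
  [11, 20, 2, 26, 26, 3],
  [11, 20, 10, 20, 10, 9],
  [11, 20, 14, 22, 20, 9],
  [11, 21, 10, 16, 21, 9],
  [11, 21, 14, 22, 21, 9],
  [11, 23, 25, 1, 14, 2],
  [11, 25, 3, 17, 28, 1],
  [11, 26, 0, 17, 27, 2],
  [11, 26, 26, 1, 24, 0],
  [11, 27, 12, 27, 13, 10],
  [11, 28, 12, 28, 13, 10],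
  [11, 28, 18, 27, 10, 9],
  [12, 0, 8, 17, 8, 1],
  [12, 0, 15, 14, 12, 1],
  [12, 0, 21, 12, 21, 1],
  [12, 1, 25, 2, 15, 1],
  [12, 1, 27, 27, 12, 0],
  [12, 18, 27, 27, 18, 9],
  [12, 21, 24, 1, 27, 0],
  [12, 25, 19, 3, 22, 0],
  [12, 25, 20, 19, 26, 8],
  [12, 25, 23, 19, 26, 9],
  [12, 27, 0, 24, 21, 1],
  [12, 27, 9, 28, 12, 9],
  [12, 27, 13, 16, 27, 9],
  [12, 27, 20, 28, 13, 10],
  [12, 28, 13, 28, 18, 9],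
  [12, 28, 16, 13, 28, 9],
  [13, 2, 27, 3, 23, 10],
  [13, 17, 19, 23, 13, 9],
  [13, 18, 13, 0, 21, 1],
  [13, 19, 11, 19, 12, 10],
  [13, 22, 2, 22, 13, 2],
  [13, 24, 26, 22, 25, 9],
  [13, 28, 26, 3, 18, 0],
  [14, 0, 18, 26, 19, 0],
  [14, 2, 10, 2, 14, 3],
  [14, 3, 9, 2, 14, 9],
  [14, 3, 15, 17, 8, 3],
  [14, 18, 0, 28, 26, 10],
  [14, 18, 2, 22, 21, 0],
  [14, 19, 2, 20, 17, 0],
  [14, 19, 11, 22, 19, 9],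
  [14, 20, 0, 26, 21, 3],
  [14, 20, 10, 22, 20, 10],
  [14, 25, 27, 1, 18, 10],
  [14, 27, 17, 28, 15, 9],
  [14, 28, 2, 25, 28, 3],
  [15, 1, 16, 2, 22, 0],
  [15, 3, 16, 0, 21, 2],
  [15, 8, 9, 8, 15, 9],
  [15, 18, 23, 22, 18, 11],
  [15, 19, 24, 23, 22, 9],
  [15, 20, 2, 8, 19, 1],
  [15, 21, 2, 22, 15, 0],
  [15, 22, 27, 17, 28, 11],
  [15, 23, 20, 21, 15, 9],
  [15, 26, 18, 0, 28, 13],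
  [15, 27, 1, 18, 25, 13],
  [15, 27, 18, 28, 15, 13],
  [15, 28, 1, 8, 20, 1],
  [16, 2, 8, 3, 24, 8],
  [16, 3, 22, 2, 22, 3],
  [16, 18, 16, 3, 19, 2],
  [16, 18, 20, 24, 18, 10],
  [16, 20, 18, 24, 18, 10],
  [16, 28, 3, 26, 22, 1],
  [16, 28, 13, 28, 18, 13],
  [17, 2, 18, 12, 18, 3],
  [17, 8, 14, 15, 12, 8],
  [17, 18, 23, 19, 18, 9],
  [17, 21, 0, 26, 19, 0],
  [17, 21, 1, 19, 25, 1],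
  [17, 21, 22, 24, 21, 15],
  [17, 26, 19, 25, 17, 8],
  [17, 27, 2, 26, 24, 0],
  [18, 0, 18, 28, 26, 10],
  [18, 0, 19, 1, 18, 10],
  [18, 1, 18, 14, 18, 0],
  [18, 1, 19, 20, 14, 0],
  [18, 3, 19, 2, 18, 16],
  [18, 3, 22, 28, 25, 15],
  [18, 10, 17, 10, 18, 17],
  [18, 13, 20, 13, 18, 11],
  [18, 14, 19, 20, 18, 14],
  [18, 19, 0, 26, 22, 0],
  [18, 19, 2, 22, 19, 3],
  [18, 19, 28, 26, 18, 0],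
  [18, 20, 17, 20, 18, 17],
  [18, 20, 28, 10, 28, 12],
  [18, 25, 9, 26, 18, 9],
  [18, 26, 12, 25, 18, 17],
  [18, 26, 21, 3, 19, 0],
  [18, 27, 0, 22, 25, 2],
  [19, 1, 9, 0, 19, 9],
  [19, 1, 19, 21, 3, 14],
  [19, 1, 21, 19, 3, 14],
  [19, 2, 9, 3, 19, 9],
  [19, 2, 17, 20, 0, 14],
  [19, 3, 12, 2, 23, 12],
  [19, 22, 12, 23, 22, 12],
  [19, 25, 9, 26, 19, 9],
  [19, 26, 8, 25, 20, 17],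
  [19, 27, 2, 27, 26, 3],
  [19, 27, 16, 28, 19, 18],
  [20, 0, 3, 24, 2, 1],
  [20, 0, 18, 1, 19, 14],
  [20, 0, 21, 23, 1, 11],
  [20, 1, 3, 20, 2, 0],
  [20, 1, 9, 20, 11, 0],
  [20, 1, 10, 20, 10, 0],
  [20, 1, 16, 20, 16, 0],
  [20, 1, 19, 22, 0, 18],
  [20, 1, 23, 21, 11, 0],
  [20, 2, 9, 20, 11, 3],
  [20, 2, 10, 20, 10, 3],
  [20, 2, 16, 20, 16, 3],
  [20, 3, 23, 21, 2, 11],
  [20, 8, 10, 8, 20, 16],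
  [20, 8, 26, 26, 9, 8],
  [20, 12, 28, 24, 27, 12],
  [20, 22, 15, 22, 20, 15],
  [20, 24, 1, 26, 26, 0],
  [20, 25, 23, 26, 20, 8],
  [20, 25, 24, 26, 20, 11],
  [20, 26, 21, 3, 22, 0],
  [20, 26, 22, 25, 20, 13],
  [20, 27, 12, 24, 27, 12],
  [20, 28, 12, 11, 28, 12],
  [20, 28, 18, 27, 20, 10],
  [21, 0, 20, 1, 23, 11],
  [21, 1, 17, 24, 3, 15],
  [21, 1, 24, 17, 3, 15],
  [21, 1, 26, 18, 25, 16],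
  [21, 2, 17, 24, 0, 15],
  [21, 2, 24, 17, 0, 15],
  [21, 3, 19, 14, 1, 19],
  [21, 10, 15, 21, 17, 10],
  [21, 12, 27, 22, 28, 12],
  [21, 13, 11, 13, 21, 11],
  [21, 25, 24, 26, 21, 11],
  [21, 26, 15, 18, 25, 0],
  [22, 0, 27, 8, 28, 1],
  [22, 3, 8, 2, 22, 10],
  [22, 3, 18, 19, 2, 19],
  [22, 18, 13, 23, 13, 18],
  [22, 25, 20, 25, 22, 20],
  [22, 28, 23, 17, 27, 11],
  [23, 1, 9, 0, 23, 9],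
  [23, 13, 24, 19, 14, 13],
  [23, 24, 18, 21, 11, 18],
  [23, 28, 19, 27, 23, 14],
  [24, 2, 10, 3, 24, 8],
  [24, 25, 20, 25, 24, 20],
  [24, 26, 17, 25, 13, 10],
  [25, 1, 20, 19, 1, 19],
  [25, 2, 9, 3, 26, 9],
  [25, 3, 9, 2, 26, 9],
  [25, 12, 13, 26, 15, 9],
  [25, 18, 20, 18, 25, 20],
  [25, 18, 21, 18, 26, 8],
  [26, 2, 9, 3, 25, 9],
  [26, 2, 11, 3, 25, 20],
  [26, 2, 12, 3, 25, 17],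
  [26, 17, 22, 25, 10, 9],
  [26, 18, 23, 18, 25, 8],
  [26, 27, 18, 28, 25, 22],
  [26, 28, 17, 27, 25, 12],
  [27, 8, 9, 8, 28, 9],
  [27, 13, 11, 10, 27, 12],
  [27, 13, 14, 13, 28, 19],
  [27, 13, 15, 13, 28, 23],
  [27, 13, 24, 13, 28, 20],
  [27, 17, 20, 17, 28, 11],
  [27, 27, 13, 28, 28, 16],
  [27, 27, 16, 28, 28, 13],
  [27, 27, 17, 28, 28, 17],
  [27, 27, 19, 28, 28, 23],
  [28, 8, 1, 28, 12, 1],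
  [28, 10, 28, 12, 20, 18],
  [28, 16, 18, 28, 16, 18],
  [28, 17, 18, 17, 27, 16],
  [8, 18, 8, 18, 8, 18],
  [10, 18, 10, 18, 10, 18],
  [18, 16, 18, 16, 18, 16],
  [12, 8, 12, 8],
  [12, 11, 13, 10],
  [13, 8, 13, 8],
  [13, 9, 13, 9],
  [13, 10, 13, 10],
  [14, 11, 22, 9],
  [14, 13, 14, 13],
  [15, 11, 15, 11],
  [15, 12, 15, 12],
  [15, 13, 15, 13],
  [16, 9, 16, 9],
  [16, 15, 16, 15],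
  [17, 9, 17, 9],
  [17, 10, 17, 10],
  [17, 11, 17, 11],
  [17, 12, 17, 12],
  [17, 13, 17, 13],
  [18, 9, 18, 9],
  [19, 14, 19, 14],
  [20, 11, 20, 11],
  [21, 11, 21, 11],
  [21, 14, 21, 14],
  [21, 15, 21, 15],
  [22, 9, 22, 9],
  [22, 10, 22, 10],
  [22, 12, 22, 12],
  [22, 20, 22, 20],
  [23, 15, 23, 15],
  [24, 12, 24, 12],
  [24, 13, 24, 13],
  [24, 15, 24, 15],
  [24, 21, 24, 21],
  [28, 28, 28, 28],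
  [9, 11, 9, 11],
  [9, 17, 9, 17],
  [12, 11, 12, 11],
  [12, 15, 12, 15],
  [12, 22, 12, 22],
  [12, 24, 12, 24],
  [14, 11, 14, 11],
  [17, 15, 17, 15],
  [17, 24, 17, 24],
  [18, 19, 18, 19],
  [20, 23, 20, 23],
  [21, 24, 21, 24],
  [22, 14, 22, 14],
  [24, 10, 24, 10],
  [24, 11, 24, 11],
  [9, 10, 13, 24, 12],
  [9, 12, 11, 24, 12],
  [9, 17, 11, 22, 15],
  [9, 17, 24, 17, 11],
  [9, 20, 28, 24, 27],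
  [10, 28, 18, 27, 24],
  [10, 28, 20, 27, 16],
  [11, 20, 9, 24, 20],
  [12, 21, 23, 12, 20],
  [13, 25, 24, 14, 26],
  [14, 19, 22, 24, 19],
  [3, 8, 15, 18, 16, 0],
  [3, 24, 2, 0, 11, 1],
  [8, 1, 28, 24, 21, 1],
  [8, 25, 20, 3, 22, 0],
  [8, 26, 11, 3, 14, 0],
  [9, 16, 8, 16, 9, 8],
  [9, 26, 21, 26, 20, 8],
  [10, 12, 14, 22, 13, 9],
  [10, 14, 13, 22, 12, 9],
  [10, 22, 13, 14, 12, 9],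
  [10, 26, 19, 22, 25, 8],
  [11, 0, 20, 1, 20, 9],
  [11, 0, 26, 26, 24, 1],
  [11, 18, 24, 20, 18, 9],
  [11, 25, 17, 26, 13, 10],
  [11, 27, 18, 28, 12, 10],
  [12, 17, 13, 17, 16, 9],
  [12, 18, 28, 28, 18, 9],
  [12, 21, 9, 21, 12, 9],
  [12, 21, 11, 21, 13, 10],
  [12, 22, 16, 22, 13, 9],
  [12, 24, 8, 24, 12, 8],
  [12, 25, 24, 26, 13, 10],
  [12, 26, 24, 25, 13, 10],
  [12, 27, 16, 27, 18, 9],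
  [13, 0, 9, 1, 13, 9],
  [13, 0, 18, 21, 13, 0],
  [13, 18, 1, 13, 18, 1],
  [13, 25, 15, 26, 13, 10],
  [14, 19, 13, 24, 23, 13],
  [15, 3, 12, 2, 15, 12],
  [15, 18, 22, 23, 18, 11],
  [15, 24, 25, 10, 26, 9],
  [16, 18, 27, 27, 18, 13],
  [16, 25, 14, 26, 24, 12],
  [16, 25, 19, 23, 26, 13],
  [17, 3, 8, 2, 17, 10],
  [17, 18, 21, 14, 18, 14],
  [17, 26, 13, 16, 25, 9],
  [18, 1, 14, 21, 17, 0],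
  [18, 11, 10, 16, 18, 9],
  [18, 19, 21, 20, 18, 17],
  [18, 26, 10, 27, 22, 2],
  [19, 24, 12, 24, 23, 12],
  [19, 25, 17, 26, 23, 12],
  [20, 25, 9, 21, 25, 8],
  [21, 1, 27, 0, 24, 12],
  [21, 3, 9, 2, 21, 9],
  [23, 3, 25, 25, 2, 21],
  [23, 8, 26, 26, 8, 21],
  [23, 25, 23, 21, 25, 21],
  [23, 26, 20, 26, 21, 9],
  [24, 0, 24, 11, 1, 11],
  [24, 1, 14, 2, 25, 8],
  [24, 18, 11, 20, 18, 9],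
  [25, 2, 11, 3, 26, 20],
  [25, 19, 24, 19, 26, 11],
  [25, 28, 21, 27, 26, 16],
  [26, 17, 20, 26, 12, 20],
  [26, 19, 17, 25, 9, 8],
  [27, 13, 18, 27, 13, 18],
  [27, 22, 16, 22, 28, 18],
  [28, 8, 13, 8, 27, 18],
  [21, 9, 21, 9],
  [23, 9, 23, 9],
  [13, 17, 13, 17],
  [15, 16, 15, 16],
  [13, 26, 24, 22, 25],
  [19, 27, 24, 22, 28],
  [22, 23, 14, 24, 23],
  [8, 0, 21, 8, 21, 1],
  [13, 2, 13, 2, 16, 2],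
  [13, 24, 25, 14, 26, 9],
  [14, 20, 2, 21, 25, 1],
  [14, 20, 23, 21, 14, 9],
  [19, 25, 20, 25, 21, 17],
  [19, 26, 20, 26, 21, 17],
  [20, 2, 25, 25, 3, 11],
  [20, 8, 9, 26, 26, 8],
  [24, 28, 15, 27, 24, 19],
  [25, 1, 11, 0, 25, 11],
  [25, 2, 25, 10, 28, 15],
  [25, 23, 21, 23, 26, 8],
  [16, 22, 14, 10],
  [17, 14, 17, 14],
  [9, 20, 24, 20, 11],
  [10, 19, 10, 22, 19],
  [11, 15, 25, 10, 26],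
  [12, 19, 20, 12, 21],
  [12, 26, 23, 19, 25],
  [14, 19, 20, 21, 15],
  [14, 20, 17, 20, 15],
  [14, 21, 15, 21, 17],
  [9, 26, 23, 25, 9, 8],
  [10, 15, 8, 15, 12, 8],
  [10, 20, 3, 8, 20, 2],
  [11, 0, 24, 26, 26, 1],
  [11, 23, 2, 28, 12, 3],
  [12, 14, 1, 1, 25, 2],
  [12, 15, 23, 13, 23, 10],
  [14, 8, 21, 10, 21, 8],
  [14, 21, 12, 21, 15, 12],
  [15, 21, 10, 21, 17, 10],
  [15, 23, 12, 13, 19, 10],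
  [15, 23, 13, 23, 12, 10],
  [16, 21, 1, 16, 21, 1],
  [17, 0, 18, 1, 21, 14],
  [17, 26, 11, 25, 22, 15],
  [18, 1, 13, 21, 13, 0],
  [18, 1, 20, 19, 14, 0],
  [18, 14, 25, 27, 19, 1],
  [18, 15, 20, 19, 18, 15],
  [18, 20, 21, 23, 18, 9],
  [18, 21, 24, 23, 18, 11],
  [18, 28, 12, 16, 27, 9],
  [19, 10, 20, 21, 16, 15],
  [19, 16, 20, 21, 15, 10],
  [19, 22, 20, 24, 21, 15],
  [20, 12, 27, 11, 28, 12],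
  [20, 22, 17, 24, 20, 15],
  [21, 25, 8, 21, 25, 8],
  [21, 26, 10, 25, 21, 15],
  [23, 13, 20, 24, 13, 21],
  [24, 27, 10, 28, 24, 18],
  [25, 2, 10, 3, 26, 23],
  [25, 10, 20, 16, 25, 20],
  [25, 28, 11, 27, 25, 20],
  [27, 27, 11, 28, 28, 24],
  [2, 1, 3, 0, 3, 0, 0, 21],
  [15, 9, 15, 9],
  [18, 17, 18, 17],
  [13, 14, 13, 14],
  [13, 24, 13, 24],
  [17, 23, 17, 23],
  [20, 24, 20, 24],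
  [9, 28, 20, 27, 11],
  [10, 22, 21, 16, 21],
  [11, 26, 22, 25, 13],
  [14, 28, 23, 27, 17],
  [19, 28, 17, 27, 23],
  [21, 28, 24, 27, 23],
  [1, 28, 24, 8, 21, 1],
  [10, 2, 24, 16, 8, 3],
  [11, 3, 12, 2, 13, 10],
  [11, 17, 13, 17, 12, 10],
  [12, 18, 9, 18, 12, 9],
  [12, 20, 23, 21, 12, 9],
  [12, 27, 18, 28, 16, 9],
  [13, 15, 19, 13, 19, 11],
  [13, 26, 23, 25, 13, 8],
  [13, 27, 9, 28, 13, 9],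
  [14, 26, 16, 25, 17, 11],
  [15, 8, 23, 13, 23, 8],
  [15, 27, 21, 17, 28, 11],
  [17, 0, 9, 1, 17, 9],
  [18, 2, 20, 28, 1, 2],
  [18, 12, 27, 16, 27, 9],
  [18, 27, 20, 10, 28, 11],
  [19, 1, 17, 20, 3, 14],
  [19, 2, 19, 21, 0, 14],
  [19, 25, 16, 26, 19, 15],
  [19, 26, 10, 25, 19, 15],
  [20, 1, 21, 23, 11, 0],
  [20, 26, 19, 26, 12, 8],
  [20, 28, 13, 10, 28, 12],
  [20, 28, 14, 27, 21, 9],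
  [21, 28, 17, 24, 27, 19],
  [22, 1, 9, 0, 22, 9],
  [24, 1, 11, 24, 0, 11],
  [24, 1, 12, 27, 0, 21],
  [25, 1, 28, 26, 18, 22],
  [27, 10, 14, 22, 28, 18],
  [27, 13, 28, 12, 18, 12],
  [27, 17, 22, 28, 21, 9],
  [14, 20, 22, 24, 20],
  [10, 14, 2, 14, 10, 2],
  [12, 25, 9, 26, 12, 9],
  [13, 19, 9, 19, 13, 9],
  [13, 19, 17, 23, 13, 9],
  [14, 18, 9, 18, 14, 9],
  [18, 11, 14, 22, 18, 9],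
  [19, 13, 14, 24, 23, 13],
  [20, 2, 14, 22, 20, 3],
  [24, 2, 24, 2, 24, 2],
  [16, 14, 22, 10],
  [17, 22, 24, 15],
  [21, 17, 21, 17],
  [9, 24, 9, 24],
  [10, 12, 10, 12],
  [11, 13, 11, 13],
  [11, 16, 11, 16],
  [11, 22, 11, 22],
  [13, 15, 13, 15],
  [14, 15, 14, 15],
  [14, 24, 14, 24],
  [16, 17, 16, 17],
  [16, 22, 16, 22],
  [19, 21, 19, 21],
  [21, 22, 21, 22],
  [22, 17, 22, 17],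
  [23, 19, 23, 19],
  [23, 24, 23, 24],
  [24, 17, 24, 17],
  [9, 23, 15, 19, 14],
  [9, 25, 24, 26, 24],
  [9, 27, 20, 28, 24],
  [10, 17, 24, 17, 16],
  [10, 19, 14, 16, 19],
  [10, 22, 17, 16, 15],
  [10, 22, 23, 10, 23],
  [11, 0, 9, 1, 24],
  [14, 27, 19, 28, 17],
  [14, 27, 21, 28, 24],
  [15, 16, 14, 17, 16],
  [15, 22, 10, 17, 16],
  [19, 27, 22, 28, 20],
  [3, 14, 2, 8, 14, 3],
  [8, 3, 22, 8, 22, 2],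
  [9, 20, 1, 20, 11, 0],
  [9, 25, 21, 26, 9, 8],
  [9, 25, 23, 3, 22, 0],
  [9, 26, 19, 17, 25, 8],
  [9, 27, 27, 3, 17, 2],
  [10, 1, 9, 0, 10, 9],
  [10, 2, 22, 8, 22, 3],
  [10, 13, 22, 14, 12, 9],
  [10, 17, 11, 17, 16, 9],
  [10, 19, 11, 19, 16, 9],
  [10, 19, 15, 16, 23, 9],
  [10, 20, 9, 20, 10, 9],
  [10, 21, 9, 21, 10, 9],
  [10, 23, 15, 16, 19, 9],
  [10, 26, 17, 22, 25, 9],
  [10, 27, 9, 28, 10, 9],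
  [11, 15, 16, 15, 10, 9],
  [11, 19, 10, 16, 19, 9],
  [11, 23, 10, 16, 23, 9],
  [11, 23, 12, 2, 27, 3],
  [11, 27, 21, 28, 14, 9],
  [11, 28, 19, 27, 22, 9],
  [12, 0, 9, 1, 12, 9],
  [12, 15, 13, 16, 15, 9],
  [13, 21, 9, 21, 13, 9],
  [13, 26, 9, 25, 13, 9],
  [13, 28, 12, 28, 16, 9],
  [14, 0, 9, 1, 14, 9],
  [14, 0, 24, 26, 23, 3],
  [14, 2, 17, 15, 2, 8],
  [14, 20, 11, 22, 20, 9],
  [14, 21, 11, 22, 21, 9],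
  [14, 27, 20, 28, 22, 9],
  [14, 28, 17, 27, 15, 9],
  [15, 0, 9, 1, 15, 9],
  [15, 3, 8, 2, 15, 10],
  [15, 3, 9, 2, 15, 9],
  [15, 20, 16, 20, 15, 10],
  [15, 20, 23, 21, 15, 9],
  [15, 25, 9, 26, 15, 9],
  [15, 28, 20, 21, 27, 9],
  [16, 3, 10, 2, 24, 8],
  [16, 18, 9, 18, 16, 9],
  [16, 18, 28, 28, 18, 13],
  [16, 19, 20, 16, 21, 15],
  [16, 20, 23, 21, 16, 9],
  [16, 27, 19, 28, 16, 15],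
  [17, 8, 9, 8, 17, 9],
  [17, 8, 10, 8, 17, 10],
  [17, 20, 10, 20, 17, 16],
  [17, 20, 22, 24, 20, 15],
  [17, 21, 9, 21, 17, 9],
  [17, 25, 8, 26, 19, 9],
  [17, 27, 15, 28, 19, 9],
  [17, 28, 15, 27, 23, 9],
  [18, 2, 9, 3, 18, 9],
  [18, 2, 21, 22, 0, 14],
  [18, 3, 9, 2, 18, 9],
  [18, 8, 9, 8, 18, 9],
  [18, 12, 28, 13, 28, 9],
  [18, 13, 3, 23, 2, 13],
  [18, 13, 21, 13, 18, 14],
  [18, 20, 1, 22, 19, 0],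
  [18, 21, 19, 20, 18, 17],
  [18, 21, 22, 24, 18, 15],
  [18, 25, 15, 27, 18, 1],
  [18, 27, 9, 28, 18, 9],
  [18, 28, 10, 11, 28, 12],
  [19, 0, 9, 1, 19, 9],
  [19, 3, 9, 2, 19, 9],
  [19, 8, 11, 8, 19, 11],
  [19, 10, 18, 22, 18, 10],
  [19, 26, 1, 22, 2, 17],
  [19, 27, 12, 27, 23, 12],
  [19, 28, 12, 28, 23, 12],
  [20, 12, 19, 12, 21, 9],
  [20, 22, 18, 24, 18, 14],
  [20, 24, 13, 20, 13, 9],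
  [20, 24, 27, 11, 28, 11],
  [20, 24, 28, 24, 27, 11],
  [20, 26, 9, 23, 26, 8],
  [20, 28, 10, 16, 27, 9],
  [21, 1, 15, 22, 3, 15],
  [21, 10, 20, 16, 23, 9],
  [21, 22, 17, 24, 21, 15],
  [22, 25, 16, 12, 26, 11],
  [23, 0, 9, 1, 23, 9],
  [23, 2, 12, 27, 3, 11],
  [23, 25, 13, 26, 23, 14],
  [23, 28, 9, 27, 23, 9],
  [23, 28, 10, 16, 27, 21],
  [23, 28, 13, 27, 23, 18],
  [25, 14, 20, 25, 13, 20],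
  [25, 23, 24, 23, 26, 11],
  [25, 27, 19, 28, 26, 10],
  [25, 27, 21, 28, 26, 13],
  [25, 27, 24, 28, 25, 20],
  [26, 2, 10, 3, 25, 21],
  [27, 1, 9, 0, 28, 9],
  [27, 8, 12, 8, 27, 12],
  [27, 8, 24, 8, 28, 20],
  [27, 11, 19, 11, 28, 15],
  [27, 11, 21, 11, 28, 22],
  [27, 17, 23, 28, 15, 9],
  [27, 27, 14, 28, 28, 15],
  [28, 10, 14, 16, 27, 21],
  [28, 10, 15, 10, 27, 19],
  [28, 17, 28, 28, 17, 28],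
  [28, 24, 28, 28, 11, 28],
  [13, 18, 13, 18, 13, 18],
  [2, 0, 0, 2, 0, 0, 0, 2, 0, 0, 2, 0, 0, 0],
  [14, 25, 16, 26, 17],
  [16, 19, 16, 22, 19],
  [11, 3, 26, 26, 20, 2],
  [11, 25, 15, 26, 16, 9],
  [12, 20, 10, 20, 13, 9],
  [12, 25, 22, 26, 16, 9],
  [13, 0, 21, 18, 13, 0],
  [14, 8, 23, 16, 23, 8],
  [17, 28, 1, 25, 24, 3],
  [19, 10, 11, 16, 19, 9],
  [20, 25, 8, 26, 21, 9],
  [21, 0, 9, 1, 21, 9],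
  [24, 27, 12, 27, 24, 12],
  [0, 0, 0, 0, 0, 0, 0],
  [10, 17, 10, 17],
  [11, 14, 11, 14],
  [12, 13, 12, 13],
  [15, 24, 15, 24],
  [19, 24, 19, 24],
  [23, 17, 23, 17],
  [9, 12, 10, 24, 13],
  [9, 13, 10, 24, 12],
  [10, 23, 14, 16, 23],
  [14, 21, 18, 15, 18],
  [14, 23, 17, 23, 15],
  [14, 23, 24, 23, 22],
  [8, 3, 24, 16, 8, 2],
  [8, 28, 12, 0, 27, 0],
  [10, 21, 11, 21, 16, 9],
  [12, 28, 18, 27, 13, 9],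
  [13, 2, 28, 3, 19, 10],
  [13, 25, 17, 26, 16, 9],
  [15, 22, 13, 22, 15, 13],
  [15, 23, 18, 22, 18, 11],
  [15, 25, 15, 26, 15, 10],
  [15, 25, 17, 26, 15, 12],
  [16, 17, 8, 22, 8, 15],
  [16, 27, 9, 28, 16, 9],
  [16, 27, 13, 16, 27, 13],
  [18, 10, 11, 16, 18, 9],
  [18, 10, 21, 10, 18, 15],
  [18, 11, 16, 10, 18, 9],
  [18, 19, 15, 20, 18, 15],
  [18, 22, 15, 24, 18, 17],
  [18, 22, 17, 22, 18, 17],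
  [20, 3, 21, 23, 2, 11],
  [20, 26, 12, 25, 20, 17],
  [20, 28, 22, 27, 23, 9],
  [21, 13, 14, 21, 17, 13],
  [22, 3, 13, 22, 3, 13],
  [22, 18, 20, 24, 18, 14],
  [23, 26, 12, 25, 19, 9],
  [24, 18, 14, 22, 20, 18],
  [24, 18, 19, 22, 18, 14],
  [24, 26, 10, 16, 25, 9],
  [24, 26, 12, 25, 22, 15],
  [25, 2, 20, 3, 25, 9],
  [25, 10, 17, 10, 26, 12],
  [25, 12, 17, 12, 26, 12],
  [25, 14, 10, 26, 15, 13],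
  [27, 3, 17, 2, 27, 9],
  [27, 11, 13, 10, 27, 12],
  [9, 15, 24, 15, 11],
  [10, 12, 16, 24, 12],
  [11, 20, 23, 24, 21],
  [12, 19, 10, 13, 23, 11],
  [12, 19, 15, 13, 19, 10],
  [17, 8, 11, 8, 17, 11],
  [19, 8, 19, 8, 19, 8],
  [19, 13, 17, 13, 23, 9],
  [19, 13, 24, 23, 14, 13],
  [20, 8, 11, 8, 20, 11],
  [21, 10, 19, 20, 15, 10],
  [21, 26, 1, 22, 2, 20],
  [22, 8, 13, 8, 22, 13],
  [22, 26, 8, 25, 22, 21],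
  [22, 27, 18, 28, 22, 13],
  [23, 26, 8, 23, 26, 8],
  [25, 25, 21, 26, 26, 23],
  [27, 27, 18, 12, 18, 9],
  [12, 18, 12, 18, 12, 18, 12, 18],
  [10, 19, 24, 19, 16],
  [10, 26, 11, 25, 16],
  [11, 17, 9, 22, 15],
  [11, 17, 23, 24, 19],
  [11, 19, 15, 23, 22],
  [14, 21, 16, 21, 16],
  [14, 21, 22, 24, 21],
  [10, 14, 11, 22, 10, 9],
  [10, 20, 11, 20, 16, 9],
  [14, 27, 12, 27, 14, 12],
  [18, 8, 18, 8, 18, 8],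
  [19, 2, 12, 28, 3, 11],
  [22, 23, 28, 21, 27, 19],
  [25, 1, 19, 20, 1, 19],
  [12, 15, 19, 13, 19, 10],
  [8, 24, 8, 24],
  [19, 22, 19, 22],
  [11, 23, 20, 24, 21],
  [10, 15, 23, 16, 19, 9],
  [10, 20, 21, 23, 10, 9],
  [10, 25, 9, 26, 10, 9],
  [12, 14, 11, 22, 12, 9],
  [13, 21, 1, 13, 21, 1],
  [13, 28, 9, 27, 13, 9],
  [14, 1, 12, 0, 15, 12],
  [14, 20, 9, 20, 14, 9],
  [16, 25, 23, 19, 26, 13],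
  [17, 28, 14, 27, 19, 9],
  [18, 0, 21, 1, 18, 13],
  [18, 28, 11, 10, 28, 12],
  [20, 26, 17, 19, 26, 8],
  [21, 8, 9, 8, 21, 9],
  [21, 8, 11, 8, 21, 11],
  [21, 16, 20, 10, 23, 9],
  [21, 25, 9, 26, 21, 9],
  [21, 25, 16, 26, 21, 15],
  [21, 28, 11, 27, 23, 9],
  [22, 27, 14, 28, 22, 19],
  [23, 10, 21, 23, 16, 21],
  [26, 28, 9, 27, 25, 9],
  [26, 28, 23, 27, 25, 16],
  [27, 8, 16, 8, 28, 18],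
  [27, 27, 23, 28, 28, 19],
  [8, 19, 8, 19, 8, 19],
  [21, 8, 21, 8, 21, 8],
  [16, 11, 16, 11],
  [15, 22, 28, 17, 27, 11],
  [12, 25, 21, 26, 12, 8],
  [13, 3, 9, 2, 13, 9],
  [20, 2, 18, 24, 18, 3],
  [21, 1, 9, 0, 21, 9],
  [12, 14, 12, 14],
  [15, 20, 15, 20],
  [11, 20, 21, 24, 23],
  [11, 25, 22, 14, 26],
  [15, 26, 22, 16, 25, 13],
  [19, 22, 17, 23, 22, 9],
  [19, 27, 10, 22, 28, 18],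
  [25, 14, 21, 14, 26, 8],
  [26, 22, 23, 22, 25, 8],
  [27, 0, 27, 0, 12, 8],
  [11, 20, 13, 20, 13],
  [14, 19, 21, 20, 15],
  [11, 26, 23, 25, 11, 8],
  [10, 20, 24, 20, 16],
  [14, 20, 15, 20, 17],
  [10, 23, 11, 23, 16, 9],
  [11, 17, 12, 17, 13, 10],
  [12, 20, 11, 20, 13, 10],
  [13, 2, 12, 3, 16, 9],
  [13, 21, 20, 23, 13, 9],
  [14, 2, 16, 22, 8, 2],
  [18, 16, 22, 25, 27, 1],
  [20, 12, 13, 20, 10, 9],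
  [21, 8, 22, 8, 21, 16]]

/-- The presentation with abbreviations for elements of the two-local subgroups. -/
def l5ExtSetup : Setup (Fin 23) where
  edges := [(4, 2, 5), (4, 2, 6), (4, 2, 7), (4, 2, 8), (4, 2, 9), (4, 4, 10), (4, 4, 11), (4, 2, 12), (4, 4, 13), (4, 3, 14), (4, 3, 15), (4, 4, 16), (4, 3, 17), (4, 4, 18), (4, 3, 19), (4, 2, 20), (5, 2, 6), (5, 2, 7), (5, 2, 8), (5, 2, 9), (5, 2, 10), (5, 2, 11), (5, 2, 12), (5, 2, 13), (5, 2, 14), (5, 2, 15), (5, 2, 16), (5, 2, 17), (5, 2, 18), (5, 2, 19), (5, 2, 20), (6, 2, 7), (6, 2, 8), (6, 2, 9), (6, 2, 10), (6, 2, 11), (6, 2, 12), (6, 2, 13), (6, 3, 14), (6, 4, 15), (6, 4, 16), (6, 4, 17), (6, 2, 18), (6, 4, 19), (6, 2, 20), (7, 2, 8), (7, 2, 9), (7, 2, 10), (7, 2, 11), (7, 2, 12), (7, 2, 13), (7, 4, 14), (7, 2, 15), (7, 2,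 16), (7, 2, 17), (7, 2, 18), (7, 2, 19), (7, 2, 20), (8, 2, 9), (8, 2, 10), (8, 2, 11), (8, 2, 12), (8, 2, 13), (8, 4, 14), (8, 4, 15), (8, 4, 16), (8, 4, 17), (8, 2, 18), (8, 4, 19), (8, 2, 20), (9, 2, 10), (9, 2, 11), (9, 2, 12), (9, 2, 13), (9, 3, 14), (9, 4, 15), (9, 4, 16), (9, 4, 17), (9, 2, 18), (9, 4, 19), (9, 2, 20), (10, 2, 11), (10, 2, 12), (10, 2, 13), (10, 4, 14), (10, 2, 15), (10, 2, 16), (10, 2, 17), (10, 2, 18), (10, 2, 19), (10, 2, 20), (11, 2, 12), (11, 2, 13), (11, 4, 14), (11, 2, 15), (11, 2, 16), (11, 2, 17), (11, 2, 18), (11, 2, 19), (11, 2, 20), (12, 2, 13), (12, 3, 14), (12, 4, 15), (12, 4, 16), (12, 4, 17), (12, 2, 18), (12, 4, 19), (12, 2, 20), (13, 2, 14), (13, 2, 15), (13, 2, 16), (13, 2, 17), (13, 2, 18), (13, 2, 19), (13, 2, 20), (14, 2, 15), (14, 2,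 16), (14, 2, 17), (14, 4, 18), (14, 2, 19), (14, 4, 20), (15, 2, 16), (15, 2, 17), (15, 2, 18), (15, 2, 19), (15, 2, 20), (16, 2, 17), (16, 2, 18), (16, 2, 19), (16, 2, 20), (17, 2, 18), (17, 2, 19), (17, 2, 20), (18, 2, 19), (18, 2, 20), (19, 2, 20)]
  extra := l5ExtWords.map fun w => FreeGroup.mk (w.map fun a => l5ExtLt.getD a (0, true))
  gens := List.finRange 23
  pos := [0, 2, 4, 6, 8, 9, 10, 11, 12, 13, 14, 15, 16, 17, 18, 19, 20, 21, 22, 23, 24, 25, 27]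
  lt := l5ExtLt

theorem l5ExtSetup_gens : ∀ x, x ∈ l5ExtSetup.gens := fun x => List.mem_finRange x

/-- The letters. -/
def l5ExtLetters : Data := letterData 29 [1, 0, 3, 2, 5, 4, 7, 6, 8, 9, 10, 11, 12, 13, 14, 15, 16, 17, 18, 19, 20, 21, 22, 23, 24, 26, 25, 28, 27]

theorem l5ExtLetters_ok : l5ExtSetup.lettersOK l5ExtLetters = true := by decide +kernel

/-- The subgroup. -/
def l5ExtJs : List (Fin 23) := [0, 1, 4, 5, 6, 7, 8, 9, 10, 11, 12, 13, 14, 15, 16, 17, 18, 19, 20, 21, 22]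

/-- The words of the generators in four letters. -/
def l5ExtImg : List (List Nat) := [
  [0],
  [2],
  [4],
  [6],
  [0, 3, 0, 3, 0, 3, 1, 3, 0, 2],
  [0, 0, 2, 0, 3, 0, 2, 0, 0, 2, 0, 3, 0, 2],
  [3, 1, 2, 1, 1, 3, 0, 0, 3, 0],
  [1, 1, 2, 1, 1, 3, 1, 2, 1, 1, 3, 0],
  [3, 1, 3, 0, 3, 1, 2, 1, 3, 0, 0, 0],
  [3, 1, 2, 0, 0, 3, 1, 1, 1, 2, 1],
  [0, 2, 1, 2, 0, 3, 0, 2, 1, 3, 0, 3],
  [2, 1, 1, 2, 1, 2, 1, 2, 1, 1, 3, 1, 1],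
  [1, 1, 2, 1, 3, 0, 3, 1, 1, 1],
  [0, 2, 0, 2, 1, 2, 1, 3, 1, 1, 3],
  [0, 0, 0, 2, 1, 3, 1, 2, 0, 0, 3, 0],
  [3, 0, 3, 1, 1, 2, 1, 3],
  [2, 1, 1, 3, 1, 2, 1, 1, 3, 1],
  [2, 1, 3, 0, 3, 0, 0],
  [3, 0, 2, 1, 3, 0, 0, 3, 1, 3, 0, 2],
  [1, 3, 1, 1, 2, 1, 2, 0, 0],
  [2, 1, 2, 1, 1, 3, 1, 2, 1, 1, 2],
  [3, 0, 3, 0, 0, 0, 2, 0],
  [0, 2, 1, 1, 2, 1, 3, 0, 0, 0, 3]]

/-- Rewritings into the relators. -/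
def l5ExtCases : List (List (List Nat × List Nat)) := [
  [([4], [4]), ([4], [4]), ([4], [4])],
  [([6], [6]), ([6], [6]), ([6], [6])],
  [([4], [4]), ([1, 1, 2, 1, 1, 3, 1, 2, 1, 1, 3, 0], [1, 1, 2, 1, 1, 3, 1, 2, 1, 1, 3, 0]), ([5], [5]), ([3, 1, 3, 0, 3, 1, 2, 1, 3, 0, 0, 0], [3, 1, 3, 0, 3, 1, 2, 1, 3, 0, 0, 0])],
  [([4], [4]), ([0, 2, 1, 2, 0, 3, 0, 2, 1, 3, 0, 3], [0, 2, 1, 2, 0, 3, 0, 2, 1, 3, 0, 3]), ([5], [5]), ([2, 1, 1, 2, 1, 2, 1, 2, 1, 1, 3, 1, 1], [2, 1, 1, 2, 1, 2, 1, 2, 1, 1, 3, 1, 1])],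
  [([4], [4]), ([3, 1, 3, 0, 3, 1, 2, 1, 3, 0, 0, 0], [1, 1, 1, 2, 0, 3, 0, 2, 1, 2, 0, 2]), ([5], [5]), ([1, 1, 2, 1, 3, 0, 3, 1, 1, 1], [1, 1, 2, 1, 3, 0, 3, 1, 1, 1])],
  [([4], [4]), ([0, 2, 0, 2, 1, 2, 1, 3, 1, 1, 3], [0, 2, 0, 2, 1, 2, 1, 3, 1, 1, 3]), ([5], [5]), ([0, 2, 1, 2, 0, 3, 0, 2, 1, 3, 0, 3], [2, 1, 2, 0, 3, 1, 2, 1, 3, 0, 3, 1])],
  [([6], [6]), ([0, 0, 2, 0, 3, 0, 2, 0, 0, 2, 0, 3, 0, 2], [0, 0, 2, 0, 3, 0, 2, 0, 0, 2, 0, 3, 0, 2]), ([7], [7]), ([3, 0, 3, 1, 1, 2, 1, 3], [3, 0, 3, 1, 1, 2, 1, 3])],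
  [([6], [6]), ([0, 2, 0, 2, 1, 2, 1, 3, 1, 1, 3], [0, 2, 0, 2, 1, 2, 1, 3, 1, 1, 3]), ([7], [7]), ([2, 1, 1, 3, 1, 2, 1, 1, 3, 1], [2, 1, 1, 3, 1, 2, 1, 1, 3, 1])],
  [([6], [6]), ([3, 0, 3, 1, 1, 2, 1, 3], [2, 0, 3, 0, 0, 2, 1, 2]), ([7], [7]), ([2, 1, 3, 0, 3, 0, 0], [2, 1, 3, 0, 3, 0, 0])],
  [([6], [6]), ([3, 0, 2, 1, 3, 0, 0, 3, 1, 3, 0, 2], [3, 0, 2, 1, 3, 0, 0, 3, 1, 3, 0, 2]), ([7], [7]), ([0, 2, 1, 2, 0, 3, 0, 2, 1, 3, 0, 3], [2, 1, 2, 0, 3, 1, 2, 1, 3, 0, 3, 1])],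
  [([0, 3, 0, 3, 0, 3, 1, 3, 0, 2, 3, 0, 3, 0, 0, 0, 2, 0, 3, 0, 3, 0, 0, 0, 2, 0], [0, 3, 0, 3, 0, 3, 1, 3, 0, 2, 1, 3, 1, 1, 1, 2, 1, 2, 1, 3, 1, 1, 1, 2, 1, 2]), ([4], [4]), ([0, 3, 0, 3, 0, 3, 1, 3, 0, 2], [3, 1, 2, 0, 2, 1, 2, 1, 2, 1]), ([5], [5]), ([3, 0, 3, 0, 0, 0, 2, 0, 3, 0, 3, 0, 0, 0, 2, 0], [3, 0, 3, 0, 0, 0, 2, 0, 3, 0, 3, 0, 0, 0, 2, 0])],
  [([0, 3, 0, 3, 0, 3, 1, 3, 0, 2, 1, 3, 1, 1, 1, 2, 1, 2], [0, 3, 0, 3, 0, 3, 1, 3, 0, 2, 1, 3, 1, 1, 1, 2, 1, 2]), ([5], [5]), ([3, 0, 3, 0, 0, 0, 2, 0], [3, 0, 3, 0, 0, 0, 2, 0]), ([4], [4]), ([3, 0, 3, 0, 0, 0, 2, 0], [3, 0, 3, 0, 0, 0, 2, 0]), ([5], [5]), ([3, 0, 3, 0, 0, 0, 2, 0], [3, 0, 3, 0, 0, 0, 2, 0])],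
  [([0, 3, 0, 3, 0, 3, 1, 3, 0, 2], [0, 3, 0, 3, 0, 3, 1, 3, 0, 2]), ([4], [4]), ([1, 3, 1, 1, 1, 2, 1, 2], [1, 3, 1, 1, 1, 2, 1, 2]), ([5], [5]), ([0, 3, 0, 3, 0, 3, 1, 3, 0, 2], [3, 1, 2, 0, 2, 1, 2, 1, 2, 1]), ([4], [4]), ([1, 3, 1, 1, 1, 2, 1, 2], [1, 3, 1, 1, 1, 2, 1, 2]), ([5], [5])],
  [([0, 0, 2, 0, 3, 0, 2, 0, 0, 2, 0, 3, 0, 2, 3, 1, 3, 0, 3, 1, 2, 1, 3, 0, 0, 0, 0, 0, 0, 2, 1, 3, 1, 2, 0, 0, 3, 0], [0, 0, 0, 2, 1, 3, 1, 2, 0, 0, 3, 0, 2, 1, 1, 1, 2, 0, 3, 0, 0, 3, 1, 2, 1, 1, 1, 2, 0, 3, 0, 0, 3, 1]), ([6], [6]), ([0, 0, 0, 2, 1, 3, 1, 2, 0, 0, 3, 0], [1, 2, 1, 1, 3, 0, 2, 0, 3, 1, 1, 1]), ([7], [7]), ([0, 2, 1, 1, 2, 1, 3, 0, 0, 0, 3, 0, 2, 1, 1, 2, 1, 3, 0, 0, 0, 3], [0, 2, 1, 1, 2, 1, 3, 0, 0, 0, 3, 0, 2, 1, 1, 2, 1, 3, 0, 0, 0, 3])],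
  [([0, 0, 0, 2, 1, 3, 1, 2, 0, 0, 3, 0, 2, 1, 1, 1, 2, 0, 3, 0, 0, 3, 1], [0, 0, 0, 2, 1, 3, 1, 2, 0, 0, 3, 0, 2, 1, 1, 1, 2, 0, 3, 0, 0, 3, 1]), ([7], [7]), ([0, 2, 1, 1, 2, 1, 3, 0, 0, 0, 3], [0, 2, 1, 1, 2, 1, 3, 0, 0, 0, 3]), ([6], [6]), ([0, 2, 1, 1, 2, 1, 3, 0, 0, 0, 3], [0, 2, 1, 1, 2, 1, 3, 0, 0, 0, 3]), ([7], [7]), ([0, 2, 1, 1, 2, 1, 3, 0, 0, 0, 3], [0, 2, 1, 1, 2, 1, 3, 0, 0, 0, 3])],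
  [([0, 0, 0, 2, 1, 3, 1, 2, 0, 0, 3, 0], [0, 0, 0, 2, 1, 3, 1, 2, 0, 0, 3, 0]), ([6], [6]), ([2, 1, 1, 1, 2, 0, 3, 0, 0, 3, 1], [2, 1, 1, 1, 2, 0, 3, 0, 0, 3, 1]), ([7], [7]), ([0, 0, 0, 2, 1, 3, 1, 2, 0, 0, 3, 0], [1, 2, 1, 1, 3, 0, 2, 0, 3, 1, 1, 1]), ([6], [6]), ([2, 1, 1, 1, 2, 0, 3, 0, 0, 3, 1], [2, 1, 1, 1, 2, 0, 3, 0, 0, 3, 1]), ([7], [7])],
  [([1, 3, 1, 1, 1, 2, 1, 2], [1, 3, 1, 1, 1, 2, 1, 2]), ([4], [4]), ([1, 3, 1, 1, 1, 2, 1, 2], [1, 3, 1, 1, 1, 2, 1, 2]), ([4], [4]), ([1, 3, 1, 1, 1, 2, 1, 2], [1, 3, 1, 1, 1, 2, 1, 2]), ([4], [4]), ([7], [7]), ([1, 1, 2, 1, 3, 0, 3, 1, 1, 1], [2, 1, 1, 1, 2, 0, 3, 0, 0, 3, 1, 1, 2, 1, 1, 3, 0, 2, 0, 3, 1, 1, 2, 1, 1, 2, 1, 3, 0, 0, 0, 3]), ([6], [6])],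
  [([1, 1, 0, 3, 0, 3, 0, 3, 1, 3, 0, 2, 0], [3, 0, 3, 0, 3, 1, 3, 0, 2, 1, 3, 1, 1, 1, 2, 1, 2, 0, 3, 0, 3, 0, 3, 1, 3, 0, 0, 3, 0, 0, 0, 2, 0, 0, 3, 0, 3, 0, 3, 1, 3, 0, 2]), ([4], [4]), ([1, 3, 1, 1, 1, 2, 1, 2, 2, 1, 1, 1, 2, 0, 3, 0, 0, 3, 1], [1, 3, 1, 1, 1, 2, 1, 2, 2, 1, 1, 1, 2, 0, 3, 0, 0, 3, 1]), ([6], [6]), ([0, 0, 0, 2, 0, 3, 0, 2, 0, 0, 2, 0, 3, 0, 2, 0, 0, 0, 2, 1, 3, 1, 2, 0, 0, 3, 0, 1, 3, 1, 1, 2, 1, 2, 0, 0], [1, 2, 1, 1, 3, 0, 2, 0, 3, 1, 1, 2, 1, 1, 2, 1, 3, 0, 0, 0, 3, 1, 2, 1, 1, 3, 0, 2, 0, 3, 1, 1, 1, 2, 1, 1, 1, 2, 0, 3, 0, 0, 3, 1, 1, 2, 1, 1, 3, 0, 2, 0, 3, 1, 1, 1, 3, 1, 3, 1, 1, 2, 1, 2, 1, 3, 1])],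
  [([4], [4]), ([0, 0, 2, 0, 3, 0, 2, 0, 0, 2, 0, 3, 0, 2], [0, 0, 2, 0, 3, 0, 2, 0, 0, 2, 0, 3, 0, 2]), ([5], [5]), ([3, 1, 2, 1, 1, 3, 0, 0, 3, 0], [3, 1, 2, 1, 1, 3, 0, 0, 3, 0])],
  [([4], [4]), ([3, 1, 2, 1, 1, 3, 0, 0, 3, 0], [1, 2, 1, 1, 2, 0, 0, 3, 0, 2]), ([5], [5]), ([3, 1, 2, 0, 0, 3, 1, 1, 1, 2, 1], [3, 1, 2, 0, 0, 3, 1, 1, 1, 2, 1])],
  [([0, 3, 0, 3, 0, 3, 1, 3, 0, 2], [0, 3, 0, 3, 0, 3, 1, 3, 0, 2]), ([4], [4]), ([0, 3, 0, 3, 0, 3, 1, 3, 0, 2], [3, 1, 2, 0, 2, 1, 2, 1, 2, 1]), ([4], [4]), ([0, 3, 0, 3, 0, 3, 1, 3, 0, 2], [3, 1, 2, 0, 2, 1, 2, 1, 2, 1]), ([4], [4])],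
  [([6], [6]), ([2, 1, 1, 3, 1, 2, 1, 1, 3, 1], [0, 2, 0, 0, 3, 0, 2, 0, 0, 3]), ([7], [7]), ([1, 3, 1, 1, 2, 1, 2, 0, 0], [1, 3, 1, 1, 2, 1, 2, 0, 0])],
  [([6], [6]), ([2, 1, 2, 1, 1, 3, 1, 2, 1, 1, 2], [2, 1, 2, 1, 1, 3, 1, 2, 1, 1, 2]), ([7], [7]), ([3, 0, 2, 1, 3, 0, 0, 3, 1, 3, 0, 2], [3, 1, 2, 0, 2, 1, 1, 2, 0, 3, 1, 2])],
  [([0, 0, 0, 2, 1, 3, 1, 2, 0, 0, 3, 0], [0, 0, 0, 2, 1, 3, 1, 2, 0, 0, 3, 0]), ([6], [6]), ([0, 0, 0, 2, 1, 3, 1, 2, 0, 0, 3, 0], [1, 2, 1, 1, 3, 0, 2, 0, 3, 1, 1, 1]), ([6], [6]), ([0, 0, 0, 2, 1, 3, 1, 2, 0, 0, 3, 0], [1, 2, 1, 1, 3, 0, 2, 0, 3, 1, 1, 1]), ([6], [6])]]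

/-- Rewritings of the generators of the subgroup. -/
def l5ExtGc : List (List (List Nat × List Nat)) := [
  [([0], [0])],
  [([2], [2])],
  [([0], [0]), ([3], [3]), ([0], [0]), ([3], [3]), ([0], [0]), ([3], [3]), ([1], [1]), ([3], [3]), ([0], [0]), ([2], [2])],
  [([0], [0]), ([0], [0]), ([2], [2]), ([0], [0]), ([3], [3]), ([0], [0]), ([2], [2]), ([0], [0]), ([0], [0]), ([2], [2]), ([0], [0]), ([3], [3]), ([0], [0]), ([2], [2])],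
  [([3], [3]), ([1], [1]), ([2], [2]), ([1], [1]), ([1], [1]), ([3], [3]), ([0], [0]), ([0], [0]), ([3], [3]), ([0], [0])],
  [([1], [1]), ([1], [1]), ([2], [2]), ([1], [1]), ([1], [1]), ([3], [3]), ([1], [1]), ([2], [2]), ([1], [1]), ([1], [1]), ([3], [3]), ([0], [0])],
  [([3], [3]), ([1], [1]), ([3], [3]), ([0], [0]), ([3], [3]), ([1], [1]), ([2], [2]), ([1], [1]), ([3], [3]), ([0], [0]), ([0], [0]), ([0], [0])],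
  [([3], [3]), ([1], [1]), ([2], [2]), ([0], [0]), ([0], [0]), ([3], [3]), ([1], [1]), ([1], [1]), ([1], [1]), ([2], [2]), ([1], [1])],
  [([0], [0]), ([2], [2]), ([1], [1]), ([2], [2]), ([0], [0]), ([3], [3]), ([0], [0]), ([2], [2]), ([1], [1]), ([3], [3]), ([0], [0]), ([3], [3])],
  [([2], [2]), ([1], [1]), ([1], [1]), ([2], [2]), ([1], [1]), ([2], [2]), ([1], [1]), ([2], [2]), ([1], [1]), ([1], [1]), ([3], [3]), ([1], [1]), ([1], [1])],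
  [([1], [1]), ([1], [1]), ([2], [2]), ([1], [1]), ([3], [3]), ([0], [0]), ([3], [3]), ([1], [1]), ([1], [1]), ([1], [1])],
  [([0], [0]), ([2], [2]), ([0], [0]), ([2], [2]), ([1], [1]), ([2], [2]), ([1], [1]), ([3], [3]), ([1], [1]), ([1], [1]), ([3], [3])],
  [([0], [0]), ([0], [0]), ([0], [0]), ([2], [2]), ([1], [1]), ([3], [3]), ([1], [1]), ([2], [2]), ([0], [0]), ([0], [0]), ([3], [3]), ([0], [0])],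
  [([3], [3]), ([0], [0]), ([3], [3]), ([1], [1]), ([1], [1]), ([2], [2]), ([1], [1]), ([3], [3])],
  [([2], [2]), ([1], [1]), ([1], [1]), ([3], [3]), ([1], [1]), ([2], [2]), ([1], [1]), ([1], [1]), ([3], [3]), ([1], [1])],
  [([2], [2]), ([1], [1]), ([3], [3]), ([0], [0]), ([3], [3]), ([0], [0]), ([0], [0])],
  [([3], [3]), ([0], [0]), ([2], [2]), ([1], [1]), ([3], [3]), ([0], [0]), ([0], [0]), ([3], [3]), ([1], [1]), ([3], [3]), ([0], [0]), ([2], [2])],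
  [([1], [1]), ([3], [3]), ([1], [1]), ([1], [1]), ([2], [2]), ([1], [1]), ([2], [2]), ([0], [0]), ([0], [0])],
  [([2], [2]), ([1], [1]), ([2], [2]), ([1], [1]), ([1], [1]), ([3], [3]), ([1], [1]), ([2], [2]), ([1], [1]), ([1], [1]), ([2], [2])],
  [([3], [3]), ([0], [0]), ([3], [3]), ([0], [0]), ([0], [0]), ([0], [0]), ([2], [2]), ([0], [0])],
  [([0], [0]), ([2], [2]), ([1], [1]), ([1], [1]), ([2], [2]), ([1], [1]), ([3], [3]), ([0], [0]), ([0], [0]), ([0], [0]), ([3], [3])]]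

end Cfsg.Agent.TransvCent
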