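import Cfsg.Agent.Lib.TransvCent.CompleteBase
import Cfsg.Agent.Lib.Golay.Generators
import Cfsg.Agent.Lib.Golay.Mathieu

/-
The model `M₂₄` of the completion.

* `tM24` : the images of the four generators; `satRels_tM24`, `closure_tM24`
-/

set_option autoImplicit false
set_option maxRecDepth 20000

namespace Cfsg.Agent.TransvCent

open Cfsg.Agent.Golay

/-- The code of the inverse is used for odd letters. -/
def codeM24 (a : Nat) : Nat :=
  if a % 2 = 0 then codesM24.getD (Fin.ofNat 4 (a / 2)).val 0
  else Golay.invCode (codesM24.getD (Fin.ofNat 4 (a / 2)).val 0)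

theorem codesM24_ok : ∀ i : Fin 4, isAut (codesM24.getD i.val 0) = true := by decide +kernel

theorem codesM24_inv : ∀ i : Fin 4, validPerm (Golay.invCode (codesM24.getD i.val 0)) = true ∧
    ∀ j < 24, fn (codesM24.getD i.val 0) (fn (Golay.invCode (codesM24.getD i.val 0)) j) = j := by
  decide +kernel

/-- The images of the generators in `M₂₄`. -/
noncomputable def tM24 (i : Fin 4) : M24 :=
  ⟨toPerm (codesM24.getD i.val 0), toPerm_mem_M24 (codesM24_ok i)⟩

/-- The action of a word on bit indices. -/
def appM24 : List Nat → Nat → Nat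
  | [], i => i
  | a :: w, i => fn (codeM24 a) (appM24 w i)

theorem idx_evL (a : Nat) (q : GolayPt) :
    idx ((evL tM24 a : M24).val q) = fn (codeM24 a) (idx q) := by
  unfold evL codeM24
  by_cases h : a % 2 = 0
  · simp only [h, if_true]
    exact idx_toPerm (validPerm_of_isAut (codesM24_ok _)) q
  · simp only [h, if_false]
    obtain ⟨hv, hi⟩ := codesM24_inv (Fin.ofNat 4 (a / 2))
    rw [Subgroup.coe_inv, ← idx_toPerm hv]
    refine congrArg idx (Equiv.Perm.inv_eq_iff_eq.mpr (idx_injective ?_))
    show idx q = idx (toPerm _ _)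
    rw [idx_toPerm (validPerm_of_isAut (codesM24_ok _)), idx_toPerm hv, hi _ (idx_lt q)]

theorem idx_evW : ∀ (w : List Nat) (q : GolayPt), idx ((evW tM24 w : M24).val q) = appM24 w (idx q)
  | [], q => rfl
  | a :: w, q => by
    rw [evW, List.map_cons, List.prod_cons, Subgroup.coe_mul, Equiv.Perm.mul_apply, idx_evL]
    exact congrArg _ (idx_evW w q)

/-- Words for the three standard generators. -/
def wordsM24 : List (List Nat) := [
  [1, 6, 0, 2, 1, 5, 0, 5, 3, 5, 7],
  [0, 5, 2, 6, 5, 0, 2, 5, 0, 5, 0, 3],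
  [0, 0, 3, 1, 7, 1, 7, 5, 6, 0, 7]]

theorem closure_tM24 : Subgroup.closure (Set.range tM24) = ⊤ := by
  have hmem : ∀ w, evW tM24 w ∈ Subgroup.closure (Set.range tM24) := fun w => by
    refine Subgroup.list_prod_mem _ fun x hx => ?_
    obtain ⟨a, -, rfl⟩ := List.mem_map.mp hx
    unfold evL
    split
    · exact Subgroup.subset_closure (Set.mem_range_self _)
    · exact Subgroup.inv_mem _ (Subgroup.subset_closure (Set.mem_range_self _))
  refine Subgroup.map_injective (f := M24.subtype) Subtype.val_injective ?_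
  refine le_antisymm (Subgroup.map_mono le_top) ?_
  rw [← MonoidHom.range_eq_map, Subgroup.range_subtype]
  conv_lhs => rw [← closure_three_eq]
  rw [Subgroup.closure_le]
  have hg : ∀ k < 3, toPerm (slpGens.getD k 0) ∈
      (Subgroup.closure (Set.range tM24)).map M24.subtype := by
    intro k hk
    have hc : ∀ k < 3, validPerm (slpGens.getD k 0) = true ∧
        ∀ i < 24, appM24 (wordsM24.getD k []) i = fn (slpGens.getD k 0) i := by decide +kernel
    refine ⟨evW tM24 (wordsM24.getD k []), hmem _, Equiv.ext fun q => idx_injective ?_⟩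
    show idx ((evW tM24 (wordsM24.getD k []) : M24).val q) = _
    rw [idx_evW, idx_toPerm (hc k hk).1, (hc k hk).2 _ (idx_lt q)]
  obtain ⟨h0, h1, h2⟩ := toPerm_slpGens
  rintro g (rfl | rfl | rfl)
  · exact h0 ▸ hg 0 (by norm_num)
  · exact h1 ▸ hg 1 (by norm_num)
  · exact h2 ▸ hg 2 (by norm_num)

theorem satRels_tM24 : SatRels relsM24 tM24 := by
  intro w hw
  have h : ∀ w ∈ relsM24, ∀ i < 24, appM24 w i = i := by decide +kernel
  exact Subtype.ext (Equiv.ext fun q => idx_injective (by rw [idx_evW, h w hw _ (idx_lt q)]; rfl))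

end Cfsg.Agent.TransvCent
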