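import Cfsg.Agent.Lib.TransvCent.Ext.BoundM24
import Cfsg.Agent.Lib.TransvCent.CompleteM24Model

/-
The completion M24.

* `m24_completes` : elements with these relators, the first not trivial, generate a copy of M24
-/

set_option autoImplicit false

namespace Cfsg.Agent.TransvCent

/-- The completion M24. -/
theorem m24_completes.{u} : Completes.{u} Cfsg.M24 tM24 relsM24 :=
  Ext.compM24.completes Ext.m24_ok Ext.m24_xTable (by decide) (by decide +kernel) Ext.m24_lt
    (by rw [Golay.natCard_M24]; exact Ext.m24_card) closure_tM24 Golay.isSimpleGroup_m24 satRels_tM24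

end Cfsg.Agent.TransvCent
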