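import Cfsg.Agent.Lib.TransvCent.Data

/-
Generated data: involutions commuting with the four outer representatives, and elements moving their
elementary subgroups of order `64` to the standard ones.

* `elemInv*`, `elemMove*`
-/

set_option autoImplicit false

namespace Cfsg.Agent.TransvCent

/-- The involutions commuting with the representative. -/
def elemInvD : List ℕ := [
  10752, 10753, 10756, 10757, 10762, 10763, 10766, 10767, 10784, 10785, 10794, 10795,
  10832, 10833, 10836, 10837, 10842, 10843, 10846, 10847, 10864, 10865, 10874, 10875,
  15872, 15873, 15882, 15883, 15904, 15905, 15914, 15915, 15952, 15953, 15962, 15963,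
  15984, 15985, 15994, 15995, 27392, 27393, 27396, 27397, 27402, 27403, 27406, 27407,
  27472, 27473, 27476, 27477, 27482, 27483, 27486, 27487, 34945, 34948, 34949, 34954,
  34955, 34958, 34959, 34976, 34977, 34986, 34987, 35024, 35025, 35028, 35029, 35034,
  35035, 35038, 35039, 35056, 35057, 35066, 35067, 40064, 40065, 40074, 40075, 40096,
  40097, 40106, 40107, 40144, 40145, 40154, 40155, 40176, 40177, 40186, 40187, 51584,
  51585, 51588, 51589, 51594, 51595, 51598, 51599, 51664, 51665, 51668, 51669, 51674,
  51675, 51678, 51679]

/-- Moves to the two standard subgroups, each with its inverse. -/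
def elemMoveD : (ℕ × ℕ) × (ℕ × ℕ) := ((35456, 35456), (43136, 43136))

/-- The involutions commuting with the representative. -/
def elemInvF : List ℕ := [
  10752, 10753, 10756, 10757, 10762, 10763, 10766, 10767, 10784, 10785, 10794, 10795,
  10832, 10833, 10836, 10837, 10842, 10843, 10846, 10847, 10864, 10865, 10874, 10875,
  15872, 15873, 15882, 15883, 15904, 15905, 15914, 15915, 15952, 15953, 15962, 15963,
  15984, 15985, 15994, 15995, 27392, 27393, 27396, 27397, 27402, 27403, 27406, 27407,
  27472, 27473, 27476, 27477, 27482, 27483, 27486, 27487, 34945, 34948, 34949, 34954,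
  34955, 34958, 34959, 34976, 34977, 34986, 34987, 35024, 35025, 35028, 35029, 35034,
  35035, 35038, 35039, 35056, 35057, 35066, 35067, 40064, 40065, 40074, 40075, 40096,
  40097, 40106, 40107, 40144, 40145, 40154, 40155, 40176, 40177, 40186, 40187, 51584,
  51585, 51588, 51589, 51594, 51595, 51598, 51599, 51664, 51665, 51668, 51669, 51674,
  51675, 51678, 51679]

/-- Moves to the two standard subgroups, each with its inverse. -/
def elemMoveF : (ℕ × ℕ) × (ℕ × ℕ) := ((35456, 35456), (43136, 43136))

/-- The involutions commuting with the representative. -/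
def elemInvH1 : List ℕ := [
  10752, 10753, 10756, 10757, 10762, 10763, 10766, 10767, 10832, 10833, 10836, 10837,
  10842, 10843, 10846, 10847, 15878, 15879, 15884, 15885, 27392, 27393, 27396, 27397,
  27402, 27403, 27406, 27407, 27472, 27473, 27476, 27477, 27482, 27483, 27486, 27487,
  34945, 34948, 34949, 34954, 34955, 34958, 34959, 35024, 35025, 35028, 35029, 35034,
  35035, 35038, 35039, 40066, 40067, 40072, 40073, 51584, 51585, 51588, 51589, 51594,
  51595, 51598, 51599, 51664, 51665, 51668, 51669, 51674, 51675, 51678, 51679]

/-- Moves to the two standard subgroups, each with its inverse. -/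
def elemMoveH1 : (ℕ × ℕ) × (ℕ × ℕ) := ((34944, 34944), (43136, 43136))

/-- The involutions commuting with the representative. -/
def elemInvH2 : List ℕ := [
  10752, 10753, 10762, 10763, 10784, 10785, 10794, 10795, 10832, 10833, 10842, 10843,
  10864, 10865, 10874, 10875, 15872, 15873, 15882, 15883, 15904, 15905, 15914, 15915,
  15952, 15953, 15962, 15963, 15984, 15985, 15994, 15995, 27440, 27441, 27488, 27489,
  34945, 34954, 34955, 34976, 34977, 34986, 34987, 35024, 35025, 35034, 35035, 35056,
  35057, 35066, 35067, 40064, 40065, 40074, 40075, 40096, 40097, 40106, 40107, 40144,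
  40145, 40154, 40155, 40176, 40177, 40186, 40187, 51600, 51601, 51648, 51649]

/-- Moves to the two standard subgroups, each with its inverse. -/
def elemMoveH2 : (ℕ × ℕ) × (ℕ × ℕ) := ((35456, 35456), (34944, 34944))

end Cfsg.Agent.TransvCent
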