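import Cfsg.Agent.Lib.TransvCent.CompleteDef
import Cfsg.Agent.Lib.CosetEnum.BaseHe
import Cfsg.Agent.S1683
import Cfsg.Agent.S1695

/-
The model in the Held group, evaluated in its permutation representation on 2058 points.

* `tHe` : the images of the four generators in the presented Held group
* `evW_tHe` : a word in them as a word in the seven involutions
* `exists_rho` : the faithful representation, with the image vector of a word
-/

set_option autoImplicit false

namespace Cfsg.Agent.TransvCent

open Cfsg.Agent.CosetEnum Cfsg.Agent.CosetEnum.Data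

/-- The images of the four generators, products from left to right of the seven involutions. -/
def tHe (i : Fin 4) : heSetup.G := ev heSetup.el (wordsHe.getD i.val []).reverse

/-- The seven-letter word of a letter. -/
def expL (a : ℕ) : List ℕ :=
  if a % 2 = 0 then wordsHe.getD (Fin.ofNat 4 (a / 2)).val [] else (wordsHe.getD (Fin.ofNat 4 (a / 2)).val []).reverse

/-- The seven-letter word of a word, in the order of application. -/
def expW (w : List ℕ) : List ℕ := (w.flatMap expL).reverse

theorem check_he_inv : ((List.range 7).all (fun a => heLetters.invl a == a) &&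
    wordsHe.all fun w => w.all fun a => Nat.blt a 7) = true := by decide +kernel

theorem he_lettersOK : heSetup.lettersOK heLetters = true := by decide +kernel

theorem el_sq {a : ℕ} (ha : a < 7) : heSetup.el a * heSetup.el a = 1 := by
  have h := Setup.el_inv (D := heLetters) heSetup_gens he_lettersOK a ha
  have hi := check_he_inv
  rw [Bool.and_eq_true, List.all_eq_true] at hi
  rwa [beq_iff_eq.1 (hi.1 a (List.mem_range.2 ha))] at h

theorem wordsHe_lt (i : ℕ) : ∀ a ∈ wordsHe.getD i [], a < 7 := by
  intro a ha
  have hi := check_he_inv
  rw [Bool.and_eq_true, List.all_eq_true, List.all_eq_true] at hi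
  rcases Nat.lt_or_ge i wordsHe.length with h | h
  · rw [List.getD_eq_getElem _ _ h] at ha
    exact Nat.blt_eq.mp (List.all_eq_true.1 (hi.2 _ (List.getElem_mem h)) a ha)
  · rw [List.getD_eq_default _ _ h] at ha
    simp at ha

theorem ev_mul_reverse : ∀ l : List ℕ, (∀ a ∈ l, a < 7) →
    ev heSetup.el l * ev heSetup.el l.reverse = 1
  | [], _ => by simp [ev]
  | a :: l, h => by
    have ih := ev_mul_reverse l fun b hb => h b (List.mem_cons_of_mem a hb)
    have ha : heSetup.el a * heSetup.el a = 1 := el_sq (h a List.mem_cons_self)
    rw [List.reverse_cons, ev_append, show ev heSetup.el (a :: l) = ev heSetup.el l * heSetup.el a from rfl,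
      show ev heSetup.el [a] = heSetup.el a by simp [ev],
      show ev heSetup.el l * heSetup.el a * (heSetup.el a * ev heSetup.el l.reverse) =
        ev heSetup.el l * (heSetup.el a * heSetup.el a) * ev heSetup.el l.reverse by group, ha, mul_one, ih]

theorem evL_tHe (a : ℕ) : evL tHe a = ev heSetup.el (expL a).reverse := by
  unfold evL expL tHe
  split
  · rfl
  · rw [List.reverse_reverse]
    exact inv_eq_of_mul_eq_one_left (ev_mul_reverse _ (wordsHe_lt _))

/-- A word in the four generators as a word in the seven involutions. -/
theorem evW_tHe : ∀ w : List ℕ, evW tHe w = ev heSetup.el (expW w)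
  | [] => by simp [evW, expW, ev]
  | a :: w => by
    rw [show evW tHe (a :: w) = evL tHe a * evW tHe w by simp [evW], evW_tHe w, evL_tHe]
    simp [expW, List.flatMap_cons, List.reverse_append, ev_append]

theorem expW_lt (w : List ℕ) : ∀ a ∈ expW w, a < 7 := by
  intro a ha
  rw [expW, List.mem_reverse, List.mem_flatMap] at ha
  obtain ⟨b, -, hb⟩ := ha
  unfold expL at hb
  split at hb
  · exact wordsHe_lt _ a hb
  · exact wordsHe_lt _ a (List.mem_reverse.1 hb)

/-- The image vector of a word. -/
noncomputable def heVec (w : List ℕ) : ℕ := he2058.trace (expW w)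

/-- The faithful representation, read off the image vectors. -/
theorem exists_rho : ∃ ρ : heSetup.G →* Equiv.Perm (Fin he2058.n), Function.Injective ρ ∧
    ∀ w (i : Fin he2058.n), (ρ (evW tHe w) i : ℕ) = lane he2058.B (heVec w) i := by
  have T := Cfsg.Agent.S1683.table
  have hch := he2058_chain_check
  simp only [Bool.and_eq_true] at hch
  obtain ⟨-, hinj⟩ := Setup.card_eq_of_bounds T.gens T.letters T.perm T.rels he2058_chain hch.1 he_card_le
    (CosetEnum.beq_iff.mp hch.2)
  refine ⟨Setup.hom T.gens T.letters T.perm T.rels, hinj, fun w i => ?_⟩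
  have hk : ∀ a ∈ expW w, a < he2058.k := expW_lt w
  have hev : ∀ l : List ℕ, (∀ a ∈ l, a < he2058.k) →
      Setup.hom T.gens T.letters T.perm T.rels (ev heSetup.el l) = ev (Setup.perm he2058 T.perm) l := by
    intro l
    induction l with
    | nil => intro _; simp [ev]
    | cons a l ih =>
      intro h
      rw [show ev heSetup.el (a :: l) = ev heSetup.el l * heSetup.el a from rfl, map_mul,
        ih fun b hb => h b (List.mem_cons_of_mem a hb), Setup.hom_el _ _ _ _ (h a List.mem_cons_self)]
      rfl
  rw [evW_tHe, hev _ hk, Setup.ev_perm T.perm _ hk]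
  have hlg := T.perm.hlg
  rw [heVec, Data.trace_eq T.perm _ hk, lane_pack T.perm.hB
    (fun j hj => self_lt_two_pow_of_lt (by omega) (Data.tw_lt T.perm _ hk j hj))
    (lt_of_lt_of_le i.2 T.perm.hnN)]

end Cfsg.Agent.TransvCent
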