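import Cfsg.Agent.Lib.TransvCent.RecogB
import Cfsg.Agent.Lib.TransvCent.Assembly
import Cfsg.Agent.Lib.TransvCent.Targets
import Cfsg.Agent.S1682

/-!
# The Held group from its order and involution centraliser

* `isoHe_of_completes` : S1659, given the three completions and the witness in the presented group
* `sp4_of_isoHe` : a group isomorphic to the presented group contains `Sp₄(4):2` (S1653)
-/

set_option autoImplicit false
set_option linter.style.haveILetI false

open Cfsg

universe u

namespace Cfsg.Agent.TransvCent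

local notation "SL5" => Matrix.SpecialLinearGroup (Fin 5) (ZMod 2)

/-- The Held group from the completions. -/
theorem isoHe_of_completes {G : Type u} [Group G] [Finite G] [IsSimpleGroup G]
    {tL : Fin 4 → SL5} {tM : Fin 4 → ↥Cfsg.M24} {tH : Fin 4 → Cfsg.Spor.He}
    (h1 : Completes.{u} SL5 tL relsL5) (h2 : Completes.{u} (↥Cfsg.M24) tM relsM24)
    (h3 : Completes.{u} Cfsg.Spor.He tH relsHe) (hwit : Coding.HeWitness (evW tH Amalgam.zWord))
    {t : G} (ht : orderOf t = 2) (Q : Subgroup ↥(Subgroup.centralizer ({t} : Set G))) [Q.Normal]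
    (hQ : Cfsg.IsExtraspecial 2 Q) (hcard : Nat.card Q = 2 ^ 7)
    (hself : Subgroup.centralizer (Q : Set ↥(Subgroup.centralizer ({t} : Set G))) ≤ Q)
    (e : ↥(Subgroup.centralizer ({t} : Set G)) ⧸ Q ≃* Matrix.SpecialLinearGroup (Fin 3) (ZMod 2))
    (hG : Nat.card G = 4030387200) : Cfsg.Spor.IsoHe G := by
  obtain ⟨c⟩ := coding_of_simple_count ht Q hQ hcard hself e hG
  obtain ⟨g, ⟨hq, -⟩, hne⟩ := exists_conj_in_pCore_of_simple c
  have h := four_of_completes h1 h2 h3 hwit c (x := g * t * g⁻¹)
    (Subgroup.mem_centralizer_singleton_iff.1 hq) hne (isConj_iff.2 ⟨g, rfl⟩)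
  rcases three_of_four h with ⟨⟨f⟩⟩ | ⟨⟨f⟩⟩ | h
  · have := Nat.card_congr f.toEquiv
    rw [J4Type.TwoTen.natCard_SL5] at this
    omega
  · have := Nat.card_congr f.toEquiv
    rw [Golay.natCard_M24] at this
    omega
  · exact h

/-- A subgroup with a normal subgroup of index 2 moves along an isomorphism. -/
theorem index_two_move {A : Type*} {B : Type u} [Group A] [Group B] (φ : A ≃* B) (H : Subgroup A)
    (N : Subgroup H) (hN : N.Normal) (hidx : N.index = 2) {K : Type} [Field K] [Fintype K]
    (hK : Fintype.card K = 4) (ψ : N ≃* Matrix.symplecticGroup (Fin 2) K) :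
    ∃ (H : Subgroup B) (N : Subgroup H) (K : Type) (_ : Field K) (_ : Fintype K), N.Normal ∧ N.index = 2 ∧
      Fintype.card K = 4 ∧ Nonempty (N ≃* Matrix.symplecticGroup (Fin 2) K) := by
  let f : H →* (H.map (φ : A →* B) : Subgroup B) := (φ.subgroupMap H).toMonoidHom
  have hf : Function.Bijective f := (φ.subgroupMap H).bijective
  refine ⟨H.map (φ : A →* B), N.map f, K, inferInstance, inferInstance, hN.map f hf.2, ?_, hK,
    ⟨(N.equivMapOfInjective f hf.1).symm.trans ψ⟩⟩
  rw [Subgroup.index_map_of_bijective hf]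
  exact hidx

/-- The presented Held group, moved along an isomorphism, contains `Sp₄(4):2`. -/
theorem sp4_of_isoHe {G : Type u} [Group G] (h : Cfsg.Spor.IsoHe G) :
    ∃ (H : Subgroup G) (N : Subgroup H) (K : Type) (_ : Field K) (_ : Fintype K), N.Normal ∧ N.index = 2 ∧
      Fintype.card K = 4 ∧ Nonempty (N ≃* Matrix.symplecticGroup (Fin 2) K) := by
  obtain ⟨φ⟩ := h
  obtain ⟨N, K, iK, iF, hN, hidx, hK, ⟨ψ⟩⟩ := S1682.result
  exact index_two_move φ.symm _ N hN hidx hK ψ

end Cfsg.Agent.TransvCent
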