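import Cfsg.Agent.Lib.TransvCent.CompleteHeModel
import Cfsg.Agent.Lib.TransvCent.AmalgamTop

/-
The witness in the Held group: a pair centralising a group `7:3`.

* `he_witness` : `Coding.HeWitness (evW tHe Amalgam.zWord)`

The classes of involutions are told apart by their numbers of fixed points (`42` and `154`).
-/

set_option autoImplicit false
set_option maxRecDepth 100000

namespace Cfsg.Agent.TransvCent

open Cfsg.Agent.CosetEnum

/-- The first word of the pair. -/
def hwA : List ℕ := [0, 2, 0, 0, 2, 0, 2, 1, 3, 1]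

/-- The second word of the pair. -/
def hwB : List ℕ := [0, 2, 0, 3, 0, 3, 0, 2, 0, 0]

/-- An element of order 7. -/
def hwY : List ℕ := [2, 7, 3, 7, 2, 6, 1, 3, 1, 1]

/-- Half of an element of order 3. -/
def hwH : List ℕ := [1, 2, 0, 7, 3, 1, 3, 0, 4, 1]

/-- The points fixed by a map. -/
noncomputable def heFix (f : ℕ → ℕ) : ℕ :=
  (List.range he2058.n).countP fun i => Nat.beq (f i) i

/-- All checks on the image vectors. -/
noncomputable def heWitOK : Bool :=
  force (he2058.trace <| shortW Amalgam.zWord) fun Z => force (he2058.trace <| shortW hwA) fun A => force (he2058.trace <| shortW hwB) fun B =>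
  force (he2058.trace <| shortW hwY) fun Y => force (he2058.trace <| shortW hwH) fun H =>
    let z := lane he2058.B Z
    let a := lane he2058.B A
    let b := lane he2058.B B
    let y := lane he2058.B Y
    let x := fun i => lane he2058.B H (lane he2058.B H i)
    ((List.range he2058.n).all fun i =>
      Nat.beq (a (a i)) i && Nat.beq (b (b i)) i && Nat.beq (a (b i)) (b (a i)) && Nat.beq (z (a i)) (a (z i)) &&
      Nat.beq (z (b i)) (b (z i)) && Nat.beq (x (a i)) (a (x i)) && Nat.beq (x (b i)) (b (x i)) &&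
      Nat.beq (y (a i)) (a (y i)) && Nat.beq (y (b i)) (b (y i)) &&
      Nat.beq (y (y (y (y (y (y (y i))))))) i && Nat.beq (x (x (x i))) i && Nat.beq (x (y i)) (y (y (x i)))) &&
    Nat.beq (heFix z) 42 && Nat.beq (heFix a) 154 && Nat.beq (heFix b) 154 &&
    Nat.beq (heFix fun i => a (b i)) 154 && Nat.beq (heFix fun i => z (a i)) 154 &&
    Nat.beq (heFix fun i => z (b i)) 154 && Nat.beq (heFix fun i => z (a (b i))) 154 &&
    !Nat.beq (heFix y) he2058.n && Nat.beq he2058.n 2058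

theorem heWitOK_true : heWitOK = true := by decide +kernel

/-- The fixed points of a permutation. -/
noncomputable def fixN {n : ℕ} (p : Equiv.Perm (Fin n)) : ℕ := Nat.card {i : Fin n // p i = i}

theorem fixN_conj {n : ℕ} (g p : Equiv.Perm (Fin n)) : fixN (g * p * g⁻¹) = fixN p := by
  refine (Nat.card_congr (Equiv.subtypeEquiv g fun i => ?_)).symm
  simp

theorem fixN_one (n : ℕ) : fixN (1 : Equiv.Perm (Fin n)) = n := by
  simp [fixN]

theorem fixN_eq {n : ℕ} (p : Equiv.Perm (Fin n)) (f : ℕ → ℕ) (h : ∀ i : Fin n, (p i : ℕ) = f i) :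
    fixN p = (List.range n).countP fun i => Nat.beq (f i) i := by
  rw [fixN, Nat.card_eq_fintype_card, Fintype.card_subtype, ← List.map_coe_finRange_eq_range, List.countP_map,
    List.countP_eq_length_filter, ← List.toFinset_card_of_nodup ((List.nodup_finRange n).filter _)]
  congr 1
  ext i
  simp [Fin.ext_iff, h i]

/-- The witness in the Held group. -/
theorem he_witness : Coding.HeWitness (evW tHe Amalgam.zWord) := by
  obtain ⟨ρ, hinj, hρ⟩ := exists_rho_short
  have hok := heWitOK_true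
  simp only [heWitOK, force_eq, Bool.and_eq_true, List.all_eq_true, List.mem_range, CosetEnum.beq_iff,
    Bool.not_eq_true'] at hok
  obtain ⟨⟨⟨⟨⟨⟨⟨⟨⟨hp, fz⟩, fa⟩, fb⟩, fab⟩, fza⟩, fzb⟩, fzab⟩, fy⟩, hn⟩ := hok
  have hz := hρ Amalgam.zWord
  have ha := hρ hwA
  have hb := hρ hwB
  have hy := hρ hwY
  have hh := hρ hwH
  clear hρ
  generalize lane he2058.B (he2058.trace (shortW Amalgam.zWord)) = fz' at hz hp fz fza fzb fzab
  generalize lane he2058.B (he2058.trace (shortW hwA)) = fa' at ha hp fa fab fza fzab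
  generalize lane he2058.B (he2058.trace (shortW hwB)) = fb' at hb hp fb fab fzb fzab
  generalize lane he2058.B (he2058.trace (shortW hwY)) = fy' at hy hp fy
  generalize lane he2058.B (he2058.trace (shortW hwH)) = fh' at hh hp
  set z := evW tHe Amalgam.zWord
  set a := evW tHe hwA
  set b := evW tHe hwB
  set y := evW tHe hwY
  set h := evW tHe hwH
  obtain ⟨x, hx⟩ : ∃ x : heSetup.G, ∀ i, (ρ x i : ℕ) = fh' (fh' i) :=
    ⟨h * h, fun i => by rw [map_mul, Equiv.Perm.mul_apply, hh, hh]⟩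
  have ext' : ∀ p q : heSetup.G, (∀ i : Fin he2058.n, (ρ p i : ℕ) = ρ q i) → p = q := fun p q e =>
    hinj (Equiv.ext fun i => Fin.ext (e i))
  have comm2 : ∀ {p q : heSetup.G} {f g : ℕ → ℕ}, (∀ i, (ρ p i : ℕ) = f i) → (∀ i, (ρ q i : ℕ) = g i) →
      (∀ i < he2058.n, f (g i) = g (f i)) → p * q = q * p := fun {p q f g} e1 e2 e => ext' _ _ fun i => by
    rw [map_mul, map_mul, Equiv.Perm.mul_apply, Equiv.Perm.mul_apply, e1, e2, e2, e1]
    exact e i i.2
  have sq : ∀ {p : heSetup.G} {f : ℕ → ℕ}, (∀ i, (ρ p i : ℕ) = f i) →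
      (∀ i < he2058.n, f (f i) = i) → p ^ 2 = 1 := fun {p f} e1 e => ext' _ _ fun i => by
    rw [pow_two, map_mul, map_one, Equiv.Perm.mul_apply, e1, e1, Equiv.Perm.one_apply]
    exact e i i.2
  have cz : ∀ p : heSetup.G, IsConj z p → fixN (ρ p) = 42 := fun p hp => by
    obtain ⟨g, rfl⟩ := isConj_iff.1 hp
    rw [map_mul, map_mul, map_inv, fixN_conj, fixN_eq _ _ hz]
    exact fz
  have nc : ∀ {p : heSetup.G}, fixN (ρ p) = 154 → ¬ IsConj z p := fun {p} e hp => by
    rw [cz p hp] at e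
    omega
  have f2 : ∀ {p q : heSetup.G} {f g : ℕ → ℕ}, (∀ i, (ρ p i : ℕ) = f i) → (∀ i, (ρ q i : ℕ) = g i) →
      ∀ i, (ρ (p * q) i : ℕ) = f (g i) := fun {p q f g} e1 e2 i => by
    rw [map_mul, Equiv.Perm.mul_apply, e1, e2]
  have ne1 : ∀ {p : heSetup.G}, fixN (ρ p) ≠ he2058.n → p ≠ 1 := fun {p} e hp => e (by
    rw [hp, map_one, fixN_one])
  have ea : orderOf a = 2 := orderOf_eq_prime (sq ha fun i hi => (hp i hi).1.1.1.1.1.1.1.1.1.1.1)
    (ne1 (by rw [fixN_eq _ _ ha]; exact fun e => by rw [heFix, e] at fa; omega))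
  have eb : orderOf b = 2 := orderOf_eq_prime (sq hb fun i hi => (hp i hi).1.1.1.1.1.1.1.1.1.1.2)
    (ne1 (by rw [fixN_eq _ _ hb]; exact fun e => by rw [heFix, e] at fb; omega))
  have : Fact (Nat.Prime 3) := ⟨Nat.prime_three⟩
  have : Fact (Nat.Prime 7) := ⟨by norm_num⟩
  have hy1 : y ≠ 1 := ne1 (by
    rw [fixN_eq _ _ hy]
    exact fun e => by rw [heFix, e, ← Bool.not_eq_true, CosetEnum.beq_iff] at fy; exact fy rfl)
  have hxy : x * y = y * y * x := ext' _ _ fun i => by
    rw [f2 (f := fun i => fh' (fh' i)) hx hy i, f2 (f := fun i => fy' (fy' i)) (g := fun i => fh' (fh' i)) (f2 hy hy) hx i]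
    exact (hp i i.2).2
  have hne : x * y ≠ y * x := fun e => hy1 (by
    rw [e, mul_assoc] at hxy
    simpa using hxy)
  refine ⟨z, a, b, x, y, ⟨IsConj.refl z, ea, eb, ?_, comm2 ha hb fun i hi => (hp i hi).1.1.1.1.1.1.1.1.1.2,
    comm2 hz ha fun i hi => (hp i hi).1.1.1.1.1.1.1.1.2,
    comm2 hz hb fun i hi => (hp i hi).1.1.1.1.1.1.1.2, ?_, ?_, ?_, ?_, ?_, ?_⟩, ?_, ?_, ?_, ?_, ?_, hne⟩
  · intro e
    have hab : fixN (ρ (a * b)) = 154 := (fixN_eq _ _ (f2 ha hb)).trans fab
    rw [e, show b * b = 1 by rw [← pow_two, ← eb]; exact pow_orderOf_eq_one b, map_one,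
      fixN_one] at hab
    omega
  · exact nc ((fixN_eq _ _ ha).trans fa)
  · exact nc ((fixN_eq _ _ hb).trans fb)
  · exact nc ((fixN_eq _ _ (f2 ha hb)).trans fab)
  · exact nc ((fixN_eq _ _ (f2 hz ha)).trans fza)
  · exact nc ((fixN_eq _ _ (f2 hz hb)).trans fzb)
  · exact nc ((fixN_eq _ _ (f2 (g := fun i => fa' (fb' i)) hz (f2 ha hb))).trans fzab)
  · rintro w (rfl | rfl)
    · exact comm2 (f := fun i => fh' (fh' i)) hx ha fun i hi => (hp i hi).1.1.1.1.1.1.2
    · exact comm2 (f := fun i => fh' (fh' i)) hx hb fun i hi => (hp i hi).1.1.1.1.1.2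
  · rintro w (rfl | rfl)
    · exact comm2 hy ha fun i hi => (hp i hi).1.1.1.1.2
    · exact comm2 hy hb fun i hi => (hp i hi).1.1.1.2
  · refine orderOf_eq_prime (ext' _ _ fun i => ?_) hy1
    simp only [pow_succ, pow_zero, one_mul, map_mul, map_one, Equiv.Perm.mul_apply, Equiv.Perm.one_apply, hy]
    exact (hp i i.2).1.1.2
  · refine orderOf_eq_prime (ext' _ _ fun i => ?_) fun e => hne (by rw [e, one_mul, mul_one])
    simp only [pow_succ, pow_zero, one_mul, map_mul, map_one, Equiv.Perm.mul_apply, Equiv.Perm.one_apply, hx]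
    exact (hp i i.2).1.2
  · rw [hxy, mul_inv_cancel_right]
    exact mul_mem (Subgroup.mem_zpowers y) (Subgroup.mem_zpowers y)

end Cfsg.Agent.TransvCent
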