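import Cfsg.Agent.Lib.TransvCent.RecogBInside
import Mathlib.GroupTheory.Perm.Cycle.Type
import Mathlib.GroupTheory.GroupAction.Quotient

/-!
# Recognition from simplicity: fusion of the central involution

* `Local.exists_fused` : if `t` is not isolated, a further conjugate of `t` lies in the radical
* `Local.mem_split` : with two invariant elementary halves `E`, `F`, conjugates in the radical lie in them
* `Local.not_uniserial` : with one invariant half and a transitive complement there are not 187425 conjugates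
-/

set_option autoImplicit false
set_option linter.style.haveILetI false

namespace Cfsg.Agent.TransvCent.RecogB

open Subgroup

namespace Local

variable {G : Type*} [Group G] {x t : G}

/-- The data at a conjugate, through a chosen conjugating element. -/
theorem exists_at (T : Local t) {y : G} (g : G) (hg : g * t * g⁻¹ = y) :
    ∃ Y : Local y, ∀ q, q ∈ Y.Q ↔ g⁻¹ * q * g ∈ T.Q := by
  subst hg
  exact ⟨T.conj g, fun q => by
    show q ∈ T.Q.map (MulAut.conj g).toMonoidHom ↔ _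
    rw [mem_map_equiv, MulAut.conj_symm_apply]⟩

theorem isConj_back {g w : G} (h : IsConj t w) : IsConj t (g⁻¹ * w * g) :=
  h.trans (isConj_iff.2 ⟨g⁻¹, by rw [inv_inv]⟩)

theorem back_ne {g y w : G} (hg : g * t * g⁻¹ = y) (h : w ≠ y) : g⁻¹ * w * g ≠ t := fun e => h (by
  rw [← hg, ← e]; group)

/-- If `t` is not isolated, a further conjugate lies in its radical. -/
theorem exists_fused [Finite G] (T : Local t) {y : G} (hy : IsConj t y) (hne : y ≠ t) (hc : Commute t y) :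
    ∃ a ∈ T.Q, a ≠ t ∧ IsConj t a := by
  obtain ⟨g, hg⟩ := isConj_iff.1 hy
  obtain ⟨Y, hY⟩ := T.exists_at g hg
  by_cases hyT : y ∈ T.Q
  · exact ⟨y, hyT, hne, hy⟩
  by_cases htY : t ∈ Y.Q
  · exact ⟨y, mem_back Y T htY hne.symm, hne, hy⟩
  obtain ⟨n, hnT, hnY, hn1, ⟨q, hq, h⟩ | ⟨q, hq, h⟩⟩ := outside T Y hc hyT htY
  · refine ⟨g⁻¹ * (n * y) * g, (hY _).1 (mul_mem hnY Y.mem), back_ne hg ?_, isConj_back ?_⟩
    · exact fun e => hn1 (mul_eq_right.1 e)
    · exact hy.trans (isConj_iff.2 ⟨q, h⟩)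
  · exact ⟨n * t, mul_mem hnT T.mem, fun e => hn1 (mul_eq_right.1 e), isConj_iff.2 ⟨q, h⟩⟩

variable [Finite G]

/-- An element acting on an elementary half modulo the centre with square in the radical is a transvection. -/
theorem axis (X : Local x) {E : Subgroup G} (hEQ : E ≤ X.Q) (hx : x ∈ E) (hcard : Nat.card E = 16)
    {b : G} (hb : Commute b x) (hbb : b * b ∈ X.Q) (hnorm : ∀ u ∈ E, b * u * b⁻¹ ∈ E)
    {u₀ e : G} (hu₀ : u₀ ∈ E) (he : e ∈ E) (hez : ¬ (e = 1 ∨ e = x))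
    (heq : (b * u₀ * b⁻¹ * u₀⁻¹)⁻¹ * e = 1 ∨ (b * u₀ * b⁻¹ * u₀⁻¹)⁻¹ * e = x) :
    (b * e * b⁻¹ * e⁻¹ = 1 ∨ b * e * b⁻¹ * e⁻¹ = x) ∧
      ∀ u ∈ E, (b * u * b⁻¹ * u⁻¹ = 1 ∨ b * u * b⁻¹ * u⁻¹ = x) ∨
        ((b * u * b⁻¹ * u⁻¹)⁻¹ * e = 1 ∨ (b * u * b⁻¹ * u⁻¹)⁻¹ * e = x) := by
  have hkey : ∀ q : X.Q, X.dl hb q =
      ((⟨b * q * b⁻¹ * (q : G)⁻¹, mul_mem (X.norm hb q.2) (inv_mem q.2)⟩ : X.Q) : X.V) := by
    intro q
    have hq : ((q : X.V))⁻¹ = (q : X.V) := inv_eq_of_mul_eq_one_right (V_sq X _)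
    show X.cq hb q * (q : X.V) = _
    conv_lhs => rw [← hq]
    rw [← QuotientGroup.mk_inv, show X.cq hb q = ((⟨b * q * b⁻¹, X.norm hb q.2⟩ : X.Q) : X.V) from rfl,
      ← QuotientGroup.mk_mul]
    rfl
  set χ : ↥E →* X.V := (X.dl hb).comp (Subgroup.inclusion hEQ)
  have hχ : ∀ u : E, χ u = ((⟨b * u * b⁻¹ * (u : G)⁻¹,
      mul_mem (X.norm hb (hEQ u.2)) (inv_mem (hEQ u.2))⟩ : X.Q) : X.V) := fun u => hkey ⟨u, hEQ u.2⟩
  have hker : ∀ u : E, χ u = 1 ↔ b * u * b⁻¹ * (u : G)⁻¹ = 1 ∨ b * u * b⁻¹ * (u : G)⁻¹ = x := fun u => by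
    rw [hχ, QuotientGroup.eq_one_iff, mem_Zq_iff]
  have hcomm : ∀ u ∈ E, b * u * b⁻¹ * u⁻¹ ∈ E := fun u hu => mul_mem (hnorm u hu) (inv_mem hu)
  -- images lie in the kernel
  have hsq : ∀ u : E, χ ⟨_, hcomm u u.2⟩ = 1 := by
    intro u
    have h1 : χ ⟨_, hcomm u u.2⟩ = X.dV hb (X.dV hb ((⟨u, hEQ u.2⟩ : X.Q) : X.V)) := by
      show X.dl hb _ = _
      rw [show X.dV hb ((⟨u, hEQ u.2⟩ : X.Q) : X.V) = X.dl hb ⟨u, hEQ u.2⟩ from rfl, hkey ⟨u, hEQ u.2⟩]
      rfl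
    rw [h1, dV_dV, dV_congr X (hb.mul_left hb) (Commute.one_left x) (by simpa using hbb), dV_mk,
      show X.cq (Commute.one_left x) ⟨(u : G), hEQ u.2⟩ = ((⟨(u : G), hEQ u.2⟩ : X.Q) : X.V) from
        congrArg QuotientGroup.mk (Subtype.ext (by simp)), V_sq]
  -- the image has at most two elements
  have hr : Nat.card χ.range ≤ 2 := by
    choose pre hpre using fun v : χ.range => v.2
    let w : χ.range → E := fun v => ⟨_, hcomm (pre v) (pre v).2⟩
    have hw : ∀ v : χ.range, ((⟨(w v : G), hEQ (w v).2⟩ : X.Q) : X.V) = v := fun v => by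
      rw [← hpre v, hχ]
    let f : χ.range × X.Zq → χ.ker := fun p => ⟨w p.1 * ⟨(p.2 : X.Q), by
        rcases (X.mem_Zq_iff).1 p.2.2 with h | h <;> rw [h]
        exacts [one_mem _, hx]⟩, by
      rw [MonoidHom.mem_ker, map_mul, hsq, one_mul, hker]
      rcases (X.mem_Zq_iff).1 p.2.2 with h | h <;> simp only [h]
      · left; simp
      · left; rw [hb.eq, mul_inv_cancel_right, mul_inv_cancel]⟩
    have hf : Function.Injective f := by
      rintro ⟨v, z⟩ ⟨v', z'⟩ h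
      have h' : ((w v : E) : G) * ((z : X.Q) : G) = (w v' : G) * ((z' : X.Q) : G) :=
        congrArg (fun k : χ.ker => ((k : E) : G)) h
      have hv : v = v' := by
        refine Subtype.ext ?_
        rw [← hw v, ← hw v']
        have := congrArg (fun q : X.Q => (q : X.V))
          (Subtype.ext h' : (⟨(w v : G), hEQ (w v).2⟩ : X.Q) * z = ⟨(w v' : G), hEQ (w v').2⟩ * z')
        simpa [QuotientGroup.mk_mul, (QuotientGroup.eq_one_iff _).2 z.2, (QuotientGroup.eq_one_iff _).2 z'.2]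
          using this
      subst hv
      exact Prod.ext rfl (Subtype.ext (Subtype.ext (mul_left_cancel h')))
    have h1 := Nat.card_le_card_of_injective f hf
    rw [Nat.card_prod, X.card_Zq] at h1
    have h2 := χ.ker.card_mul_index
    rw [index_ker, hcard] at h2
    nlinarith
  have heV : ((⟨e, hEQ he⟩ : X.Q) : X.V) ∈ χ.range := ⟨⟨u₀, hu₀⟩, by
    rw [hχ, mk_eq_mk]; exact heq⟩
  have hene : ((⟨e, hEQ he⟩ : X.Q) : X.V) ≠ 1 := fun h => hez (X.mem_Zq_iff.1 ((QuotientGroup.eq_one_iff _).1 h))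
  refine ⟨(hker ⟨e, he⟩).1 ?_, fun u hu => ?_⟩
  · have h := hsq ⟨u₀, hu₀⟩
    have h2 : χ ⟨e, he⟩ = χ ⟨_, hcomm u₀ hu₀⟩ := by
      show X.dl hb ⟨e, hEQ he⟩ = X.dl hb ⟨_, hEQ (hcomm u₀ hu₀)⟩
      rw [show X.dl hb ⟨e, hEQ he⟩ = X.dV hb ((⟨e, hEQ he⟩ : X.Q) : X.V) from rfl,
        show X.dl hb ⟨_, hEQ (hcomm u₀ hu₀)⟩ = X.dV hb ((⟨_, hEQ (hcomm u₀ hu₀)⟩ : X.Q) : X.V) from rfl]
      exact congrArg _ ((mk_eq_mk X).2 heq).symm
    rw [h2]; exact h
  · by_cases h1 : χ ⟨u, hu⟩ = 1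
    · exact Or.inl ((hker _).1 h1)
    refine Or.inr ?_
    have h2 : χ ⟨u, hu⟩ = ((⟨e, hEQ he⟩ : X.Q) : X.V) := by
      by_contra hne
      have hs : ({1, χ ⟨u, hu⟩, ((⟨e, hEQ he⟩ : X.Q) : X.V)} : Set X.V) ⊆ (χ.range : Set X.V) := by
        rintro v (rfl | rfl | rfl)
        exacts [one_mem _, ⟨_, rfl⟩, heV]
      have := Set.ncard_le_ncard hs (Set.toFinite _)
      rw [Set.ncard_eq_three.2 ⟨_, _, _, Ne.symm h1, hene.symm, hne, rfl⟩, ← Nat.card_coe_set_eq] at this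
      simp only [SetLike.coe_sort_coe] at this
      omega
    rw [hχ, mk_eq_mk] at h2
    exact h2

/-- With two invariant halves, conjugates of `t` in the radical lie in one of them. -/
theorem mem_split (T : Local t) {E F : Subgroup G} (hEQ : E ≤ T.Q) (hFQ : F ≤ T.Q) (htE : t ∈ E)
    (htF : t ∈ F) (hEF : E ⊓ F = zpowers t) (hE : Nat.card E = 16) (hF : Nat.card F = 16)
    (hEab : ∀ e ∈ E, e * e = 1) (hEn : ∀ c, Commute c t → ∀ e ∈ E, c * e * c⁻¹ ∈ E)
    (hFn : ∀ c, Commute c t → ∀ e ∈ F, c * e * c⁻¹ ∈ F)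
    (hfaith : ∀ c, Commute c t → (∀ e ∈ E, c * e * c⁻¹ * e⁻¹ ∈ zpowers t) → c ∈ T.Q)
    {a : G} (ha : a ∈ T.Q) (hat : a ≠ t) (hconj : IsConj t a) : a ∈ E ∨ a ∈ F := by
  have hZ : ∀ {w}, w ∈ zpowers t ↔ w = 1 ∨ w = t := fun {w} => by
    refine ⟨fun h => ?_, fun h => h.elim (fun e => e ▸ one_mem _) fun e => e ▸ mem_zpowers t⟩
    obtain ⟨k, rfl⟩ := mem_zpowers_iff.1 h
    rcases Int.even_or_odd k with ⟨l, hl⟩ | ⟨l, hl⟩
    · left; rw [hl, ← two_mul, zpow_mul, zpow_two, T.sq_x, one_zpow]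
    · right; rw [hl, zpow_add_one, zpow_mul, zpow_two, T.sq_x, one_zpow, one_mul]
  have hint : ∀ {w}, w ∈ E → w ∈ F → w = 1 ∨ w = t := fun h1 h2 => hZ.1 (hEF ▸ ⟨h1, h2⟩)
  -- the product of the halves is the radical
  have hdec : ∀ q ∈ T.Q, ∃ e ∈ E, ∃ f ∈ F, q = e * f := by
    classical
    haveI := Fintype.ofFinite G
    intro q hq
    let s : Finset (G × G) := (Finset.univ.filter (· ∈ E)) ×ˢ (Finset.univ.filter (· ∈ F))
    have hs : s.card = 256 := by
      rw [Finset.card_product, ← Fintype.card_subtype, ← Fintype.card_subtype, ← Nat.card_eq_fintype_card,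
        ← Nat.card_eq_fintype_card]
      change Nat.card E * Nat.card F = 256
      rw [hE, hF]
    have hfib : ∀ w ∈ s.image (fun p => p.1 * p.2), (s.filter fun p => p.1 * p.2 = w).card ≤ 2 := by
      intro w hw
      obtain ⟨⟨e, f⟩, hp, rfl⟩ := Finset.mem_image.1 hw
      simp only [s, Finset.mem_product, Finset.mem_filter, Finset.mem_univ, true_and] at hp
      refine (Finset.card_le_card (t := {(e, f), (e * t, t * f)}) ?_).trans Finset.card_le_two
      rintro ⟨e', f'⟩ h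
      simp only [s, Finset.mem_product, Finset.mem_filter, Finset.mem_univ, true_and] at h
      obtain ⟨⟨h1, h2⟩, h3⟩ := h
      have hm : e⁻¹ * e' = f * f'⁻¹ := by
        rw [eq_mul_inv_iff_mul_eq, mul_assoc, h3]; group
      simp only [Finset.mem_insert, Finset.mem_singleton, Prod.mk.injEq]
      rcases hint (mul_mem (inv_mem hp.1) h1) (hm ▸ mul_mem hp.2 (inv_mem h2)) with h | h
      · rw [hm] at h
        exact Or.inl ⟨(mul_inv_eq_one.1 (show e' * e⁻¹ = 1 by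
          rw [← hm] at h; rw [(inv_mul_eq_one.1 h), mul_inv_cancel])), (mul_inv_eq_one.1 h).symm⟩
      · refine Or.inr ⟨inv_mul_eq_iff_eq_mul.1 h, ?_⟩
        rw [hm] at h
        rw [← h]
        have : f * f'⁻¹ * f = f' := by
          rw [h]
          have e2 : f * f'⁻¹ = t := h
          calc t * f = t * (f * f'⁻¹ * f') := by group
            _ = t * t * f' := by rw [e2, mul_assoc]
            _ = f' := by rw [T.sq_x, one_mul]
        exact this.symm
    have h1 := Finset.card_le_mul_card_image s 2 hfib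
    have h2 : s.image (fun p => p.1 * p.2) = Finset.univ.filter (· ∈ T.Q) := by
      refine Finset.eq_of_subset_of_card_le ?_ ?_
      · intro w hw
        obtain ⟨⟨e, f⟩, hp, rfl⟩ := Finset.mem_image.1 hw
        simp only [s, Finset.mem_product, Finset.mem_filter, Finset.mem_univ, true_and] at hp ⊢
        exact mul_mem (hEQ hp.1) (hFQ hp.2)
      · rw [← Fintype.card_subtype, ← Nat.card_eq_fintype_card]
        change Nat.card T.Q ≤ _
        rw [T.card]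
        omega
    have hmem : q ∈ s.image (fun p => p.1 * p.2) := by
      rw [h2]; exact Finset.mem_filter.2 ⟨Finset.mem_univ _, hq⟩
    obtain ⟨⟨e, f⟩, hp, rfl⟩ := Finset.mem_image.1 hmem
    simp only [s, Finset.mem_product, Finset.mem_filter, Finset.mem_univ, true_and] at hp
    exact ⟨e, hp.1, f, hp.2, rfl⟩
  by_contra hno
  rw [not_or] at hno
  obtain ⟨e, he, f, hf, rfl⟩ := hdec a ha
  have hez : ¬ (e = 1 ∨ e = t) := by
    rintro (rfl | rfl)
    · exact hno.2 (by rwa [one_mul])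
    · exact hno.2 (mul_mem htF hf)
  have hfz : ¬ (f = 1 ∨ f = t) := by
    rintro (rfl | rfl)
    · exact hno.1 (by rwa [mul_one])
    · exact hno.1 (mul_mem he htE)
  obtain ⟨g, hg⟩ := isConj_iff.1 hconj
  obtain ⟨A, -⟩ := T.exists_at g hg
  obtain ⟨-, -, -, B, hB, himg, hmove, -⟩ := inside T A ha hat
  have hBc : ∀ b ∈ B, Commute b t := fun b hb => ((hB b).1 hb).2
  obtain ⟨h4, hinv⟩ := himg hBc
  -- what one element of `B` outside the radical says
  have one : ∀ b ∈ B, b ∉ T.Q → b * b ∈ T.Q ∧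
      (b * e * b⁻¹ * e⁻¹ = 1 ∨ b * e * b⁻¹ * e⁻¹ = t) ∧
      (∀ u ∈ E, (b * u * b⁻¹ * u⁻¹ = 1 ∨ b * u * b⁻¹ * u⁻¹ = t) ∨
        ((b * u * b⁻¹ * u⁻¹)⁻¹ * e = 1 ∨ (b * u * b⁻¹ * u⁻¹)⁻¹ * e = t)) ∧
      ∀ u ∈ E, (b * u * b⁻¹ * u⁻¹ = 1 ∨ b * u * b⁻¹ * u⁻¹ = t) → Commute f u := by
    intro b hb hbT
    have hbc := hBc b hb
    have hbb : b * b ∈ T.Q := by
      refine (T.θ_ker _ (hbc.mul_left hbc)).1 ?_
      rw [T.θ_mul _ _ hbc hbc]
      exact hinv _ ⟨⟨b, hb⟩, rfl⟩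
    obtain ⟨r, hr, hbr⟩ := hmove b hb hbT
    obtain ⟨r₁, hr₁, r₂, hr₂, rfl⟩ := hdec r hr.1
    have hc₁ : b * r₁ * b⁻¹ * r₁⁻¹ ∈ E := mul_mem (hEn b hbc r₁ hr₁) (inv_mem hr₁)
    have hc₂ : b * r₂ * b⁻¹ * r₂⁻¹ ∈ F := mul_mem (hFn b hbc r₂ hr₂) (inv_mem hr₂)
    set c₁ := b * r₁ * b⁻¹ * r₁⁻¹ with hc₁d
    set c₂ := b * r₂ * b⁻¹ * r₂⁻¹ with hc₂d
    have e1 : c₁ * (r₁ * c₂ * r₁⁻¹) = e * f := by rw [← hbr, hc₁d, hc₂d]; group
    obtain ⟨ε, hε, e2⟩ : ∃ ε, (ε = 1 ∨ ε = t) ∧ r₁ * c₂ * r₁⁻¹ = c₂ * ε := by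
      rcases T.commute_or (hEQ hr₁) (hFQ hc₂) with h | h
      · exact ⟨1, Or.inl rfl, by rw [h, mul_one]⟩
      · exact ⟨t, Or.inr rfl, h⟩
    rw [e2] at e1
    have hεF : ε ∈ F := by rcases hε with rfl | rfl; exacts [one_mem _, htF]
    have hq : c₁⁻¹ * e = c₂ * ε * f⁻¹ := by
      rw [eq_mul_inv_iff_mul_eq, mul_assoc, ← e1]; group
    have hcz := hint (mul_mem (inv_mem hc₁) he) (hq ▸ mul_mem (mul_mem hc₂ hεF) (inv_mem hf))
    obtain ⟨h5, h6⟩ := T.axis hEQ htE hE hbc hbb (hEn b hbc) hr₁ he hez hcz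
    refine ⟨hbb, h5, h6, fun u hu h => ?_⟩
    have hperp : Commute c₂ u := T.perp hbc (hEQ hu) (hFQ hr₂) h
    have hfe : f = (c₁⁻¹ * e)⁻¹ * (c₂ * ε) := by rw [hq]; group
    rw [hfe]
    have hεu : Commute ε u := by
      rcases hε with rfl | rfl
      · exact Commute.one_left u
      · exact (T.le u (hEQ hu)).symm
    refine Commute.mul_left ?_ (hperp.mul_left hεu)
    rcases hcz with h | h <;> rw [h]
    · simp
    · exact (T.le u (hEQ hu)).symm.inv_left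
  -- two elements with different images
  obtain ⟨b, hb, hbT, b', hb', hb'T, hne⟩ : ∃ b ∈ B, b ∉ T.Q ∧ ∃ b' ∈ B, b' ∉ T.Q ∧ T.θ b ≠ T.θ b' := by
    set P := (T.img B hBc).range
    have h3 : 1 < ((P : Set (Matrix.SpecialLinearGroup (Fin 3) (ZMod 2))) \ {1}).ncard := by
      have := Set.ncard_sdiff_singleton_add_one (s := (P : Set (Matrix.SpecialLinearGroup (Fin 3) (ZMod 2)))) (one_mem P) (Set.toFinite _)
      rw [← Nat.card_coe_set_eq (P : Set (Matrix.SpecialLinearGroup (Fin 3) (ZMod 2))), SetLike.coe_sort_coe, h4] at this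
      omega
    obtain ⟨_, ⟨⟨⟨b, hb⟩, rfl⟩, h1⟩, _, ⟨⟨⟨b', hb'⟩, rfl⟩, h2⟩, hne⟩ :=
      (Set.one_lt_ncard (Set.toFinite _)).1 h3
    exact ⟨b, hb, fun h => h1 ((T.θ_ker b (hBc b hb)).2 h), b', hb',
      fun h => h2 ((T.θ_ker b' (hBc b' hb')).2 h), hne⟩
  -- so `f` centralises `E`
  have hcomm : ∀ u ∈ E, Commute f u := by
    have half : ∀ {b b'}, b ∈ B → b ∉ T.Q → b' ∈ B → b' ∉ T.Q → ∀ {w}, w ∈ E →
        (b' * w * b'⁻¹ * w⁻¹ = 1 ∨ b' * w * b'⁻¹ * w⁻¹ = t) →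
        ¬ (b * w * b⁻¹ * w⁻¹ = 1 ∨ b * w * b⁻¹ * w⁻¹ = t) → ∀ u ∈ E, Commute f u := by
      intro b b' hb hbT hb' hb'T w hw hw' hwn u hu
      obtain ⟨-, -, hdi, hk⟩ := one b hb hbT
      rcases hdi u hu with h | h
      · exact hk u hu h
      have hwe := (hdi w hw).resolve_left hwn
      have h' : Commute f w := (one b' hb' hb'T).2.2.2 w hw hw'
      have h'' : Commute f (w⁻¹ * u) := by
        refine hk _ (mul_mem (inv_mem hw) hu) (hint ?_ ?_)
        · exact mul_mem (hEn b (hBc b hb) _ (mul_mem (inv_mem hw) hu)) (inv_mem (mul_mem (inv_mem hw) hu))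
        · set cw := b * w * b⁻¹ * w⁻¹
          set cu := b * u * b⁻¹ * u⁻¹
          have e3 : b * (w⁻¹ * u) * b⁻¹ * (w⁻¹ * u)⁻¹ = (w⁻¹ * (cw⁻¹ * cu) * w⁻¹⁻¹) := by
            simp only [cw, cu]; group
          have e4 : cw⁻¹ * cu = (cw⁻¹ * e) * (cu⁻¹ * e)⁻¹ := by group
          have hm : cw⁻¹ * cu ∈ zpowers t := e4 ▸ mul_mem (hZ.2 hwe) (inv_mem (hZ.2 h))
          rw [e3]
          rcases hZ.1 hm with h1 | h1 <;> rw [h1]
          · simp
          · rw [(T.le _ (inv_mem (hEQ hw))).eq, mul_inv_cancel_right]; exact htF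
      have := h'.mul_right h''
      rwa [mul_inv_cancel_left] at this
    by_cases h1 : ∃ w ∈ E, (b' * w * b'⁻¹ * w⁻¹ = 1 ∨ b' * w * b'⁻¹ * w⁻¹ = t) ∧
        ¬ (b * w * b⁻¹ * w⁻¹ = 1 ∨ b * w * b⁻¹ * w⁻¹ = t)
    · obtain ⟨w, hw, hw', hwn⟩ := h1
      exact half hb hbT hb' hb'T hw hw' hwn
    by_cases h2 : ∃ w ∈ E, (b * w * b⁻¹ * w⁻¹ = 1 ∨ b * w * b⁻¹ * w⁻¹ = t) ∧
        ¬ (b' * w * b'⁻¹ * w⁻¹ = 1 ∨ b' * w * b'⁻¹ * w⁻¹ = t)
    · obtain ⟨w, hw, hw', hwn⟩ := h2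
      exact half hb' hb'T hb hbT hw hw' hwn
    push Not at h1 h2
    exfalso
    have hc := hBc b hb
    have hc' := hBc b' hb'
    have hmem : b * b' ∈ T.Q := by
      refine hfaith _ (hc.mul_left hc') fun u hu => hZ.2 (hint ?_ ?_)
      · exact mul_mem (hEn _ (hc.mul_left hc') u hu) (inv_mem hu)
      have e5 : b * b' * u * (b * b')⁻¹ * u⁻¹ = b * (b' * u * b'⁻¹ * u⁻¹) * b⁻¹ * (b * u * b⁻¹ * u⁻¹) := by
        group
      rw [e5]
      obtain ⟨-, hbe, hdi, -⟩ := one b hb hbT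
      obtain ⟨-, -, hdi', -⟩ := one b' hb' hb'T
      set cu := b * u * b⁻¹ * u⁻¹
      set cu' := b' * u * b'⁻¹ * u⁻¹
      by_cases hu1 : cu = 1 ∨ cu = t
      · have hm : ∀ {w}, (w = 1 ∨ w = t) → w ∈ F ∧ b * w * b⁻¹ = w := fun {w} h => by
          rcases h with rfl | rfl
          · exact ⟨one_mem _, by simp⟩
          · exact ⟨htF, by rw [hc.eq, mul_inv_cancel_right]⟩
        rw [(hm (h2 u hu hu1)).2]
        exact mul_mem (hm (h2 u hu hu1)).1 (hm hu1).1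
      · have hd := (hdi u hu).resolve_left hu1
        have hd' := (hdi' u hu).resolve_left fun h => hu1 (h1 u hu h)
        set k := cu⁻¹ * e
        set k' := cu'⁻¹ * e
        have hkF : ∀ {w}, (w = 1 ∨ w = t) → w ∈ F ∧ ∀ v, Commute v t → Commute v w := fun {w} h => by
          rcases h with rfl | rfl
          · exact ⟨one_mem _, fun v _ => Commute.one_right v⟩
          · exact ⟨htF, fun v hv => hv⟩
        have het := T.le e (hEQ he)
        have e6 : b * cu' * b⁻¹ * cu = (b * e * b⁻¹ * e⁻¹) * (e * e) * (k'⁻¹ * k⁻¹) := by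
          have hk' : Commute b k'⁻¹ := ((hkF hd').2 b hc).inv_right
          have hke : Commute e k'⁻¹ := ((hkF hd').2 e het).inv_right
          have c1 : cu = e * k⁻¹ := by simp only [k]; group
          have c2 : cu' = e * k'⁻¹ := by simp only [k']; group
          calc b * cu' * b⁻¹ * cu = b * e * (k'⁻¹ * b⁻¹) * (e * k⁻¹) := by rw [c1, c2]; group
            _ = b * e * (b⁻¹ * k'⁻¹) * (e * k⁻¹) := by rw [hk'.inv_left.eq]
            _ = b * e * b⁻¹ * (k'⁻¹ * e) * k⁻¹ := by group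
            _ = b * e * b⁻¹ * (e * k'⁻¹) * k⁻¹ := by rw [hke.eq]
            _ = _ := by group
        rw [e6, hEab e he, mul_one]
        exact mul_mem (hkF hbe).1 (mul_mem (inv_mem (hkF hd').1) (inv_mem (hkF hd).1))
    refine hne ?_
    have := (T.θ_ker _ (hc.mul_left hc')).2 hmem
    rw [T.θ_mul _ _ hc hc', ← (hinv (T.θ b) ⟨⟨b, hb⟩, rfl⟩)] at this
    exact (mul_left_cancel this).symm
  have hfC : f ∈ T.Q ⊓ centralizer (E : Set G) := ⟨hFQ hf, fun u hu => (hcomm u hu).symm⟩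
  have hEC : E = T.Q ⊓ centralizer (E : Set G) := by
    refine eq_of_le_of_card_ge (fun u hu => ⟨hEQ hu, fun v hv => ?_⟩) ?_
    · show v * u = u * v
      have h1 := hEab _ (mul_mem hu hv)
      have h2 := hEab u hu
      have h3 := hEab v hv
      have := inv_eq_of_mul_eq_one_right h1
      rwa [mul_inv_rev, inv_eq_of_mul_eq_one_right h2, inv_eq_of_mul_eq_one_right h3] at this
    · have h := T.dual E hEQ htE
      rw [hE] at h
      omega
  exact hfz (hint (hEC ▸ hfC) hf)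

/-- The centraliser of `x` has order 21504. -/
theorem card_centralizer (X : Local x) : Nat.card (centralizer ({x} : Set G)) = 21504 := by
  have hC : ∀ h ∈ centralizer ({x} : Set G), Commute h x := fun h hh => mem_centralizer_singleton_iff.1 hh
  have hr : (X.img _ hC).range = ⊤ := by
    refine eq_top_iff.2 fun l _ => ?_
    obtain ⟨a, ha, rfl⟩ := X.θ_surj l
    exact ⟨⟨a, mem_centralizer_singleton_iff.2 ha⟩, rfl⟩
  rw [X.card_img _ hC, hr, card_top, card_SL32,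
    inf_eq_right.2 (fun q hq => mem_centralizer_singleton_iff.2 (X.le q hq)), X.card]

omit [Finite G] in
/-- Orbit and stabiliser for conjugation by a subgroup. -/
theorem card_orbit (H : Subgroup G) (S : Set G) (r : G) (hS : ∀ h ∈ H, h * r * h⁻¹ ∈ S)
    (htr : ∀ s ∈ S, ∃ h ∈ H, h * r * h⁻¹ = s) :
    Nat.card H = S.ncard * Nat.card ↥(H ⊓ centralizer ({r} : Set G)) := by
  choose k hk hks using fun s : S => htr s s.2
  rw [← Nat.card_coe_set_eq S, ← Nat.card_prod]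
  refine Nat.card_congr
    { toFun := fun h => (⟨_, hS h h.2⟩, ⟨(k ⟨_, hS h h.2⟩)⁻¹ * h, ?_⟩)
      invFun := fun p => ⟨k p.1 * (p.2 : G), mul_mem (hk p.1) p.2.2.1⟩
      left_inv := fun h => Subtype.ext (mul_inv_cancel_left _ _)
      right_inv := fun p => ?_ }
  · refine mem_inf.2 ⟨mul_mem (inv_mem (hk _)) h.2, mem_centralizer_singleton_iff.2 ?_⟩
    have h1 := hks ⟨_, hS h h.2⟩
    set K := k ⟨_, hS h h.2⟩
    change K * r * K⁻¹ = (h : G) * r * (h : G)⁻¹ at h1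
    calc K⁻¹ * h * r = K⁻¹ * ((h : G) * r * (h : G)⁻¹) * h := by group
      _ = r * (K⁻¹ * h) := by rw [← h1]; group
  · obtain ⟨s, c, hc⟩ := p
    have hcr : c * r = r * c := mem_centralizer_singleton_iff.1 hc.2
    have e : (⟨k s * c * r * (k s * c)⁻¹, hS _ (mul_mem (hk s) hc.1)⟩ : S) = s := Subtype.ext (by
      show k s * c * r * (k s * c)⁻¹ = s
      rw [mul_assoc (k s) c r, hcr]
      calc k s * (r * c) * (k s * c)⁻¹ = k s * r * (k s)⁻¹ := by group
        _ = s := hks s)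
    simp only [Prod.mk.injEq]
    refine ⟨e, Subtype.ext ?_⟩
    show (k ⟨k s * c * r * (k s * c)⁻¹, _⟩)⁻¹ * (k s * c) = c
    rw [e, inv_mul_cancel_left]

/-- With one invariant half and a transitive rest, the conjugates do not number 187425. -/
theorem not_uniserial (T : Local t) {E : Subgroup G} (hEQ : E ≤ T.Q) (htE : t ∈ E)
    (hE : Nat.card E = 16) (hEab : ∀ e ∈ E, e * e = 1)
    (hEn : ∀ c, Commute c t → ∀ e ∈ E, c * e * c⁻¹ ∈ E)
    (hEtr : ∀ a ∈ E, a ≠ 1 → a ≠ t → ∀ b ∈ E, b ≠ 1 → b ≠ t → ∃ c, Commute c t ∧ c * a * c⁻¹ = b)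
    (htr : ∀ r, r ∈ T.Q → r * r = 1 → r ≠ 1 → r ≠ t → r ∉ E →
      ∀ s, s ∈ T.Q → s * s = 1 → s ≠ 1 → s ≠ t → s ∉ E → ∃ c, Commute c t ∧ c * r * c⁻¹ = s)
    (h56 : {r | r ∈ T.Q ∧ r * r = 1 ∧ r ≠ 1 ∧ r ≠ t ∧ r ∉ E}.ncard = 56)
    (hfused : ∃ a ∈ T.Q, a ≠ t ∧ IsConj t a)
    (hcount : {w | IsConj t w}.ncard = 187425) : False := by
  set C := centralizer ({t} : Set G)
  have hCc : ∀ c ∈ C, Commute c t := fun c hc => mem_centralizer_singleton_iff.1 hc
  have hC : Nat.card C = 21504 := T.card_centralizer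
  have hfix : ∀ {c : G}, Commute c t → c * t * c⁻¹ = t := fun {c} hc => by
    rw [hc.eq, mul_inv_cancel_right]
  have hcne : ∀ {c r w : G}, c * r * c⁻¹ = c * w * c⁻¹ → r = w := fun {c r w} h =>
    mul_left_cancel (mul_right_cancel h)
  -- the stabiliser of an involution outside `E` maps onto six elements
  set S56 := {r | r ∈ T.Q ∧ r * r = 1 ∧ r ≠ 1 ∧ r ≠ t ∧ r ∉ E}
  have himg6 : ∀ r ∈ S56, ∀ hH : ∀ h ∈ C ⊓ centralizer ({r} : Set G), Commute h t,
      Nat.card (T.img (C ⊓ centralizer ({r} : Set G)) hH).range = 6 := by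
    intro r hr hH
    obtain ⟨hrQ, hr2, hr1, hrt, hrE⟩ := hr
    have h1 := card_orbit C S56 r (fun h hh => by
        refine ⟨T.norm (hCc h hh) hrQ, ?_, ?_, ?_, ?_⟩
        · rw [show h * r * h⁻¹ * (h * r * h⁻¹) = h * (r * r) * h⁻¹ by group, hr2]; group
        · exact fun e => hr1 (conj_eq_one_iff.1 e)
        · exact fun e => hrt (hcne (e.trans (hfix (hCc h hh)).symm))
        · intro e
          refine hrE ?_
          have := hEn h⁻¹ (hCc h hh).inv_left _ e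
          rwa [inv_inv, show h⁻¹ * (h * r * h⁻¹) * h = r by group] at this)
      (fun s hs => by
        obtain ⟨c, hc, h⟩ := htr r hrQ hr2 hr1 hrt hrE s hs.1 hs.2.1 hs.2.2.1 hs.2.2.2.1 hs.2.2.2.2
        exact ⟨c, mem_centralizer_singleton_iff.2 hc, h⟩)
    have e : C ⊓ centralizer ({r} : Set G) ⊓ T.Q = T.Q ⊓ centralizer ({r} : Set G) :=
      le_antisymm (fun q hq => ⟨hq.2, hq.1.2⟩)
        fun q hq => ⟨⟨mem_centralizer_singleton_iff.2 (T.le q hq.1), hq.2⟩, hq.1⟩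
    have h2 := T.card_img _ hH
    rw [e, (T.card_cent hrQ hr2 hr1 hrt).1] at h2
    rw [hC, h56, h2] at h1
    omega
  -- fused elements of the radical
  have claim : ∀ a ∈ T.Q, a ≠ t → IsConj t a → ∀ (A : Local a), a ∈ E ∧ E ≤ A.Q := by
    intro a ha hat hconj A
    obtain ⟨htA, hR16, hRab, B, hB, himg, -, hBr⟩ := inside T A ha hat
    have hBc : ∀ b ∈ B, Commute b t := fun b hb => ((hB b).1 hb).2
    obtain ⟨h4, -⟩ := himg hBc
    have haE : a ∈ E := by
      by_contra haE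
      have hH : ∀ h ∈ C ⊓ centralizer ({a} : Set G), Commute h t := fun h hh => hCc h hh.1
      have h6 := himg6 a ⟨ha, A.sq_x, A.ne_one, hat, haE⟩ hH
      have hle : (T.img B hBc).range ≤ (T.img _ hH).range := by
        rintro _ ⟨⟨b, hb⟩, rfl⟩
        exact ⟨⟨b, mem_centralizer_singleton_iff.2 (hBc b hb),
          mem_centralizer_singleton_iff.2 (A.le b ((hB b).1 hb).1)⟩, rfl⟩
      have := card_dvd_of_le hle
      rw [h4, h6] at this
      omega
    refine ⟨haE, ?_⟩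
    suffices h : T.Q ⊓ A.Q ≤ E by
      have := eq_of_le_of_card_ge h (by rw [hE, hR16])
      exact this ▸ inf_le_right
    intro r hr
    by_contra hrE
    have hr2 := (hRab r hr).1
    have hr1 : r ≠ 1 := fun e => hrE (e ▸ one_mem E)
    have hrt : r ≠ t := fun e => hrE (e ▸ htE)
    -- the stabiliser of `a` moves `r` to at most twelve elements
    set P := C ⊓ centralizer ({a} : Set G)
    set O := {s | ∃ h ∈ P, h * r * h⁻¹ = s}
    have hP : Nat.card P = 1536 := by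
      have h := card_orbit C {s | s ∈ E ∧ s ≠ 1 ∧ s ≠ t} a (fun h hh => ⟨hEn h (hCc h hh) a haE,
          fun e => A.ne_one (conj_eq_one_iff.1 e), fun e => hat (hcne (e.trans (hfix (hCc h hh)).symm))⟩)
        (fun s hs => by
          obtain ⟨c, hc, h⟩ := hEtr a haE A.ne_one hat s hs.1 hs.2.1 hs.2.2
          exact ⟨c, mem_centralizer_singleton_iff.2 hc, h⟩)
      have h14 : {s | s ∈ E ∧ s ≠ 1 ∧ s ≠ t}.ncard = 14 := by
        have e : {s | s ∈ E ∧ s ≠ 1 ∧ s ≠ t} = (E : Set G) \ {1, t} := by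
          ext s; simp
        rw [e, Set.ncard_sdiff (by rintro s (rfl | rfl); exacts [one_mem E, htE]) (Set.toFinite _),
          Set.ncard_pair T.ne_one.symm, ← Nat.card_coe_set_eq, SetLike.coe_sort_coe, hE]
      rw [hC, h14] at h
      change 21504 = 14 * Nat.card P at h
      omega
    have hO : O.ncard ≤ 12 := by
      have hs : O ⊆ ((T.Q ⊓ A.Q : Subgroup G) : Set G) \ {1, t, a, a * t} := by
        rintro _ ⟨h, ⟨hh1, hh2⟩, rfl⟩
        have hha := mem_centralizer_singleton_iff.1 hh2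
        refine ⟨⟨T.norm (hCc h hh1) hr.1, A.norm hha hr.2⟩, fun hm => hrE ?_⟩
        have hm' : h * r * h⁻¹ ∈ E := by
          rcases hm with hm | hm | hm | hm <;> rw [hm]
          exacts [one_mem E, htE, haE, mul_mem haE htE]
        have := hEn h⁻¹ (hCc h hh1).inv_left _ hm'
        rwa [inv_inv, show h⁻¹ * (h * r * h⁻¹) * h = r by group] at this
      refine (Set.ncard_le_ncard hs (Set.toFinite _)).trans ?_
      have h4' : ({1, t, a, a * t} : Set G).ncard = 4 := by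
        have := T.card_four A.sq_x (T.le a ha) A.ne_one hat
        change Nat.card ({g | g = 1 ∨ g = t ∨ g = a ∨ g = a * t} : Set G) = 4 at this
        rw [Nat.card_coe_set_eq] at this
        exact this
      rw [Set.ncard_sdiff (by
          rintro s (rfl | rfl | rfl | rfl)
          exacts [one_mem _, ⟨T.mem, htA⟩, ⟨ha, A.mem⟩, ⟨mul_mem ha T.mem, mul_mem A.mem htA⟩])
          (Set.toFinite _), h4', ← Nat.card_coe_set_eq, SetLike.coe_sort_coe, hR16]
    have horb := card_orbit P O r (fun h hh => ⟨h, hh, rfl⟩) (fun s hs => hs)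
    rw [hP] at horb
    set S' := P ⊓ centralizer ({r} : Set G)
    have hS' : ∀ h ∈ S', Commute h t := fun h hh => hCc h hh.1.1
    have hk : Nat.card ↥(S' ⊓ T.Q) ≤ 32 := by
      obtain ⟨h64a, hca⟩ := T.card_cent ha A.sq_x A.ne_one hat
      obtain ⟨h64r, hcr⟩ := T.card_cent hr.1 hr2 hr1 hrt
      have hle : S' ⊓ T.Q ≤ T.Q ⊓ centralizer ({a} : Set G) := fun q hq => ⟨hq.2, hq.1.1.2⟩
      obtain ⟨c, hc⟩ := h64a ▸ card_dvd_of_le hle
      have hne : Nat.card ↥(S' ⊓ T.Q) ≠ 64 := by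
        intro e64
        have e1 := eq_of_le_of_card_ge hle (by rw [h64a, e64])
        have hle2 : S' ⊓ T.Q ≤ T.Q ⊓ centralizer ({r} : Set G) := fun q hq => ⟨hq.2, hq.1.2⟩
        have e2 := eq_of_le_of_card_ge hle2 (by rw [h64r, e64])
        have hm : r ∈ T.four r hr2 (T.le r hr.1) := Or.inr (Or.inr (Or.inl rfl))
        rw [← hcr, ← e2, e1, hca] at hm
        refine hrE ?_
        rcases hm with h | h | h | h <;> rw [h]
        exacts [one_mem E, htE, haE, mul_mem haE htE]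
      have := Nat.le_of_dvd (by norm_num) (Dvd.intro c hc.symm : Nat.card ↥(S' ⊓ T.Q) ∣ 64)
      interval_cases h : Nat.card ↥(S' ⊓ T.Q) <;> omega
    have hcard := T.card_img S' hS'
    have hH : ∀ h ∈ C ⊓ centralizer ({r} : Set G), Commute h t := fun h hh => hCc h hh.1
    have h6 := himg6 r ⟨hr.1, hr2, hr1, hrt, hrE⟩ hH
    have hle : (T.img S' hS').range ≤ (T.img _ hH).range := by
      rintro _ ⟨⟨h, hh⟩, rfl⟩
      exact ⟨⟨h, hh.1.1, hh.2⟩, rfl⟩
    have h128 : 128 ≤ Nat.card S' := by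
      by_contra hlt
      have := Nat.mul_le_mul hO (Nat.le_of_lt_succ (not_le.1 hlt))
      omega
    have hd6 := card_dvd_of_le hle
    rw [h6] at hd6
    have h6' : Nat.card (T.img S' hS').range = 6 := by
      rw [hcard] at h128
      have h5 : 4 ≤ Nat.card (T.img S' hS').range := by
        by_contra hlt
        have := Nat.mul_le_mul hk (Nat.le_of_lt_succ (not_le.1 hlt))
        omega
      have := Nat.le_of_dvd (by norm_num) hd6
      interval_cases h : Nat.card (T.img S' hS').range <;> omega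
    set S6 := (T.img S' hS').range
    -- an element of `B` commuting with `r`
    obtain ⟨b₀, hb₀, hb₀T, hb₀r⟩ := hBr r hr
    set U := (T.img B hBc).range
    have hi : T.θ b₀ ∈ U ⊓ S6 := by
      refine ⟨⟨⟨b₀, hb₀⟩, rfl⟩, ⟨⟨b₀, ⟨mem_centralizer_singleton_iff.2 (hBc b₀ hb₀),
        mem_centralizer_singleton_iff.2 (A.le b₀ ((hB b₀).1 hb₀).1)⟩,
        mem_centralizer_singleton_iff.2 hb₀r⟩, rfl⟩⟩
    have hi1 : T.θ b₀ ≠ 1 := fun e => hb₀T ((T.θ_ker b₀ (hBc b₀ hb₀)).1 e)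
    have hU2 : Nat.card ↥(U ⊓ S6) = 2 := by
      have h1 : Nat.card ↥(U ⊓ S6) ∣ 4 := h4 ▸ card_dvd_of_le inf_le_left
      have h2 : Nat.card ↥(U ⊓ S6) ∣ 6 := h6' ▸ card_dvd_of_le inf_le_right
      have h3 : Nat.card ↥(U ⊓ S6) ≠ 1 := fun e => hi1 (by
        have := eq_bot_of_card_eq _ e
        rw [this, mem_bot] at hi
        exact hi)
      have := Nat.le_of_dvd (by norm_num) h1
      interval_cases h : Nat.card ↥(U ⊓ S6) <;> omega
    have honly : ∀ u ∈ U ⊓ S6, u = 1 ∨ u = T.θ b₀ := by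
      intro u hu
      by_contra hne
      rw [not_or] at hne
      have hs : ({1, T.θ b₀, u} : Set _) ⊆ ((U ⊓ S6 : Subgroup _) : Set _) := by
        rintro v (rfl | rfl | rfl)
        exacts [one_mem _, hi, hu]
      have := Set.ncard_le_ncard hs (Set.toFinite _)
      rw [Set.ncard_eq_three.2 ⟨_, _, _, hi1.symm, Ne.symm hne.1, Ne.symm hne.2, rfl⟩,
        ← Nat.card_coe_set_eq] at this
      simp only [SetLike.coe_sort_coe] at this
      omega
    haveI : Fact (Nat.Prime 3) := ⟨Nat.prime_three⟩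
    obtain ⟨⟨g3, hg3⟩, hord⟩ := exists_prime_orderOf_dvd_card' (G := S6) 3 (by rw [h6']; norm_num)
    rw [Subgroup.orderOf_mk] at hord
    obtain ⟨⟨s, hs⟩, rfl⟩ := hg3
    have hst := hS' s hs
    have hsa : Commute s a := mem_centralizer_singleton_iff.1 hs.1.2
    have hconjU : T.θ s * T.θ b₀ * (T.θ s)⁻¹ ∈ U ⊓ S6 := by
      refine mem_inf.2 ⟨⟨⟨s * b₀ * s⁻¹, (hB _).2 ⟨A.norm hsa ((hB b₀).1 hb₀).1,
        (hst.mul_left (hBc b₀ hb₀)).mul_left hst.inv_left⟩⟩, ?_⟩, mul_mem (mul_mem ⟨⟨s, hs⟩, rfl⟩ hi.2)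
          (S6.inv_mem ⟨⟨s, hs⟩, rfl⟩)⟩
      show T.θ (s * b₀ * s⁻¹) = _
      rw [T.θ_mul _ _ (hst.mul_left (hBc b₀ hb₀)) hst.inv_left, T.θ_mul _ _ hst (hBc b₀ hb₀), T.θ_inv hst]
    have hcomm : Commute (T.θ s) (T.θ b₀) := by
      refine mul_inv_eq_iff_eq_mul.1 ((honly _ hconjU).resolve_left fun e => hi1 (conj_eq_one_iff.1 e))
    change orderOf (T.θ s) = 3 at hord
    have hs3 : T.θ s ^ 3 = 1 := by
      have := pow_orderOf_eq_one (T.θ s); rwa [hord] at this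
    have hb2 : T.θ b₀ ^ 2 = 1 := by
      rw [pow_two]; exact (himg hBc).2 _ ⟨⟨b₀, hb₀⟩, rfl⟩
    rcases no_six (x := T.θ s * T.θ b₀) (by
        rw [hcomm.mul_pow, show (6 : ℕ) = 3 * 2 from rfl, pow_mul, hs3, one_pow,
          show (3 : ℕ) * 2 = 2 * 3 from rfl, pow_mul, hb2, one_pow, mul_one]) with h | h
    · rw [hcomm.mul_pow, hb2, mul_one] at h
      have := orderOf_dvd_of_pow_eq_one h
      rw [hord] at this
      norm_num at this
    · rw [hcomm.mul_pow, hs3, one_mul, pow_succ, hb2, one_mul] at h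
      exact hi1 h
  -- every nontrivial element of `E` is fused, and defines the same subgroup
  obtain ⟨a₀, ha₀, ha₀t, ha₀c⟩ := hfused
  obtain ⟨g₀, hg₀⟩ := isConj_iff.1 ha₀c
  obtain ⟨A₀, -⟩ := T.exists_at g₀ hg₀
  have ha₀E := (claim a₀ ha₀ ha₀t ha₀c A₀).1
  have hall : ∀ e ∈ E, e ≠ 1 → IsConj t e := by
    intro e he he1
    by_cases het : e = t
    · exact het ▸ IsConj.refl t
    obtain ⟨c, -, hc⟩ := hEtr a₀ ha₀E A₀.ne_one ha₀t e he he1 het
    exact ha₀c.trans (isConj_iff.2 ⟨c, hc⟩)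
  have hradE : ∀ w ∈ T.Q, IsConj t w → w ∈ E := by
    intro w hw hwc
    by_cases hwt : w = t
    · exact hwt ▸ htE
    obtain ⟨g, hg⟩ := isConj_iff.1 hwc
    obtain ⟨W, -⟩ := T.exists_at g hg
    exact (claim w hw hwt hwc W).1
  have hsame : ∀ w ∈ E, ∀ g : G, g * t * g⁻¹ = w → ∀ u, u ∈ E ↔ g⁻¹ * u * g ∈ E := by
    intro w hw g hg
    set E' := E.map (MulAut.conj g).toMonoidHom
    have hmem : ∀ u, u ∈ E' ↔ g⁻¹ * u * g ∈ E := fun u => by
      rw [mem_map_equiv, MulAut.conj_symm_apply]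
    suffices h : E = E' by intro u; rw [← hmem, ← h]
    refine eq_of_le_of_card_ge (fun u hu => (hmem u).2 ?_) ?_
    · by_cases hu1 : u = 1
      · rw [hu1]; simp
      by_cases hwt : w = t
      · have hgt : Commute g t := mul_inv_eq_iff_eq_mul.1 (hwt ▸ hg)
        have := hEn g⁻¹ hgt.inv_left u hu
        rwa [inv_inv] at this
      obtain ⟨W, hW⟩ := T.exists_at g hg
      have huW := (claim w (hEQ hw) hwt (isConj_iff.2 ⟨g, hg⟩) W).2 hu
      exact hradE _ ((hW u).1 huW) (isConj_back (hall u hu hu1))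
    · rw [Nat.card_congr (E.equivMapOfInjective (MulAut.conj g).toMonoidHom (MulAut.conj g).injective).toEquiv]
  have hcent : ∀ y, IsConj t y → Commute t y → y ∈ E := by
    intro y hy hc
    by_cases hyT : y ∈ T.Q
    · exact hradE y hyT hy
    obtain ⟨g, hg⟩ := isConj_iff.1 hy
    obtain ⟨Y, hY⟩ := T.exists_at g hg
    by_cases hyt : y = t
    · exact hyt ▸ htE
    by_cases htY : t ∈ Y.Q
    · exact absurd (mem_back Y T htY (Ne.symm hyt)) hyT
    -- an element of both halves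
    suffices h : ∃ n, n ≠ 1 ∧ n ∈ E ∧ g⁻¹ * n * g ∈ E by
      obtain ⟨n, hn1, hnE, hnE'⟩ := h
      obtain ⟨k, hk⟩ := isConj_iff.1 (hall n hnE hn1)
      have hk' : g⁻¹ * k * t * (g⁻¹ * k)⁻¹ = g⁻¹ * n * g := by rw [← hk]; group
      refine (hsame n hnE k hk y).2 ?_
      have h := (hsame _ hnE' (g⁻¹ * k) hk' (g⁻¹ * y * g)).1 (by
        rw [← hg, show g⁻¹ * (g * t * g⁻¹) * g = t by group]; exact htE)
      rwa [show (g⁻¹ * k)⁻¹ * (g⁻¹ * y * g) * (g⁻¹ * k) = k⁻¹ * y * k by group] at h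
    obtain ⟨n, hnT, hnY, hn1, ⟨q, hq, h⟩ | ⟨q, hq, h⟩⟩ := outside T Y hc hyT htY
    · have h1 : g⁻¹ * (n * y) * g ∈ E :=
        hradE _ ((hY _).1 (mul_mem hnY Y.mem)) (isConj_back (hy.trans (isConj_iff.2 ⟨q, h⟩)))
      have h2 : g⁻¹ * n * g ∈ E := by
        have := mul_mem h1 htE
        rwa [show g⁻¹ * (n * y) * g * t = g⁻¹ * n * g by
          rw [← hg, show g⁻¹ * (n * (g * t * g⁻¹)) * g * t = g⁻¹ * n * g * (t * t) by group, T.sq_x, mul_one]]
          at this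
      refine ⟨n, hn1, hradE n hnT ?_, h2⟩
      have h3 : IsConj t (g⁻¹ * n * g) := hall _ h2 (fun e => hn1 (by
        calc n = g * (g⁻¹ * n * g) * g⁻¹ := by group
          _ = 1 := by rw [e]; group))
      exact h3.trans (isConj_iff.2 ⟨g, by group⟩)
    · have h1 : n * t ∈ E := hradE _ (mul_mem hnT T.mem) (isConj_iff.2 ⟨q, h⟩)
      have h2 : n ∈ E := by
        have := mul_mem h1 htE
        rwa [mul_assoc, T.sq_x, mul_one] at this
      exact ⟨n, hn1, h2, hradE _ ((hY n).1 hnY) (isConj_back (hall n h2 hn1))⟩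
  -- `E` moves every other conjugate
  let X := {w // IsConj t w ∧ w ∉ E}
  have hact : ∀ e ∈ E, ∀ w, w ∉ E → e * w * e⁻¹ ∉ E := fun e he w hw hm => hw (by
    have := mul_mem (mul_mem (inv_mem he) hm) he
    rwa [show e⁻¹ * (e * w * e⁻¹) * e = w by group] at this)
  letI : MulAction E X :=
    { smul := fun e w => ⟨(e : G) * w.1 * (e : G)⁻¹,
        w.2.1.trans (isConj_iff.2 ⟨(e : G), rfl⟩), hact e e.2 w.1 w.2.2⟩
      one_smul := fun w => Subtype.ext (show ((1 : E) : G) * w.1 * ((1 : E) : G)⁻¹ = w.1 by simp)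
      mul_smul := fun a b w => Subtype.ext
        (show ((a * b : E) : G) * w.1 * ((a * b : E) : G)⁻¹ = (a : G) * ((b : G) * w.1 * (b : G)⁻¹) * (a : G)⁻¹ by
          push_cast; group) }
  have hfree : ∀ w : X, MulAction.stabilizer E w = ⊥ := by
    intro w
    rw [eq_bot_iff]
    intro e he
    rw [mem_bot]
    by_contra hne
    have hew : (e : G) * w.1 * (e : G)⁻¹ = w.1 := congrArg Subtype.val (MulAction.mem_stabilizer_iff.1 he)
    have he1 : (e : G) ≠ 1 := fun h => hne (Subtype.ext h)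
    obtain ⟨k, hk⟩ := isConj_iff.1 (hall e e.2 he1)
    refine w.2.2 ((hsame e e.2 k hk w.1).2 (hcent _ (isConj_back w.2.1) ?_))
    have hc : Commute (k * t * k⁻¹) w.1 := hk ▸ mul_inv_eq_iff_eq_mul.1 hew
    rw [← Commute.conj_iff k, show k * (k⁻¹ * w.1 * k) * k⁻¹ = w.1 by group]
    exact hc
  have hdvd : 16 ∣ Nat.card X := by
    rw [Nat.card_congr (MulAction.selfEquivOrbitsQuotientProd hfree), Nat.card_prod, hE]
    exact Dvd.intro_left _ rfl
  have hX : Nat.card X = 187425 - 15 := by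
    have e : {w | IsConj t w ∧ w ∉ E} = {w | IsConj t w} \ ((E : Set G) \ {1}) := by
      ext w
      simp only [Set.mem_ofPred_eq, Set.mem_sdiff, SetLike.mem_coe, Set.mem_singleton_iff, not_and, not_not]
      refine ⟨fun h => ⟨h.1, fun h' => absurd h' h.2⟩, fun h => ⟨h.1, fun h' => ?_⟩⟩
      obtain ⟨g, hg⟩ := isConj_iff.1 h.1
      rw [h.2 h'] at hg
      exact T.ne_one (conj_eq_one_iff.1 hg)
    show Nat.card ↥{w | IsConj t w ∧ w ∉ E} = _
    rw [Nat.card_coe_set_eq, e, Set.ncard_sdiff (show (E : Set G) \ {1} ⊆ {w | IsConj t w} from fun w hw => hall w hw.1 hw.2) (Set.toFinite _), hcount,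
      Set.ncard_sdiff_singleton_of_mem (one_mem E), ← Nat.card_coe_set_eq, SetLike.coe_sort_coe, hE]
  omega

end Local

end Cfsg.Agent.TransvCent.RecogB
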