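import Cfsg.Agent.Lib.TransvCent.RecogShapeA
import Mathlib.GroupTheory.GroupAction.ConjAct
import Mathlib.GroupTheory.GroupAction.Quotient

/-!
# The orbits of the centraliser on the involutions of the radical

* `RecogBase.Inv` : the non-central involutions of `Q`
* `RecogBase.Good` : an invariant subgroup on which the centraliser is transitive and faithful
* `RecogBase.exists_shape` : both subgroups are good, or one is and the other 56 involutions are one orbit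
-/

set_option autoImplicit false
set_option linter.style.haveILetI false
open scoped commutatorElement

namespace Cfsg.Agent.TransvCent

namespace RecogBase

variable {C : Type*} [Group C] (D : RecogBase C)

/-- The non-central involutions of `Q`. -/
def Inv : Set C := {r | r ∈ D.Q ∧ r * r = 1 ∧ r ∉ D.Zs}

/-- An invariant subgroup on which the centraliser is transitive and faithful. -/
structure Good (E : Subgroup C) : Prop where
  conj : ∀ g : C, ∀ x ∈ E, cj g x ∈ E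
  trans : ∀ x ∈ E, ∀ y ∈ E, x ∉ D.Zs → y ∉ D.Zs → ∃ g, cj g x = y
  faithful : ∀ c : C, (∀ x ∈ E, D.π (cj c x) = D.π x) → c ∈ D.Q

theorem Inv_cj {r : C} (hr : r ∈ D.Inv) (g : C) : cj g r ∈ D.Inv :=
  ⟨D.cj_mem hr.1 g, by rw [← cj_mul, hr.2.1]; simp [cj], cj_not_Zs hr.2.2⟩

/-- A normal subgroup above `Q` is everything or `Q`. -/
theorem top_or_le (N : Subgroup C) [N.Normal] (hN : D.Q ≤ N) : N = ⊤ ∨ N ≤ D.Q := by
  haveI := D.normal
  obtain ⟨e⟩ := D.iso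
  haveI := isSimpleGroup_recogSL32
  set μ : C →* _ := e.toMonoidHom.comp (QuotientGroup.mk' D.Q) with hμ
  have hμs : Function.Surjective μ := e.surjective.comp (QuotientGroup.mk'_surjective _)
  have hker : ∀ x : C, μ x = 1 ↔ x ∈ D.Q := fun x => by
    rw [hμ, MonoidHom.comp_apply, MulEquiv.coe_toMonoidHom, e.map_eq_one_iff]
    exact QuotientGroup.eq_one_iff x
  haveI : (N.map μ).Normal := Subgroup.Normal.map inferInstance μ hμs
  rcases (inferInstance : (N.map μ).Normal).eq_bot_or_eq_top with h | h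
  · exact Or.inr fun x hx => (hker x).1 (Subgroup.mem_bot.1 (h ▸ Subgroup.mem_map_of_mem μ hx))
  · refine Or.inl ((Subgroup.eq_top_iff' N).2 fun x => ?_)
    obtain ⟨y, hy, e'⟩ : μ x ∈ N.map μ := by rw [h]; exact Subgroup.mem_top _
    have h1 : y⁻¹ * x ∈ D.Q := (hker _).1 (by rw [map_mul, map_inv, e', inv_mul_cancel])
    have := mul_mem hy (hN h1)
    rwa [mul_inv_cancel_left] at this

include D in
/-- An orbit of conjugation has size dividing the order. -/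
theorem ncard_orbit_dvd [Finite C] (x : C) : {y | ∃ g, cj g x = y}.ncard ∣ 21504 := by
  haveI := D.normal
  obtain ⟨i⟩ := D.iso
  have hC : Nat.card (ConjAct C) = 21504 := by
    rw [Nat.card_congr ConjAct.ofConjAct.toEquiv,
      Subgroup.card_eq_card_quotient_mul_card_subgroup D.Q, D.cardQ,
      Nat.card_congr i.toEquiv, natCard_recogSL32]
  have e : {y | ∃ g, cj g x = y} = MulAction.orbit (ConjAct C) x := by
    ext y
    rw [Set.mem_ofPred_eq, MulAction.mem_orbit_iff]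
    exact ⟨fun ⟨g, h⟩ => ⟨ConjAct.toConjAct g, by rw [ConjAct.toConjAct_smul]; exact h⟩,
      fun ⟨g, h⟩ => ⟨ConjAct.ofConjAct g, by rw [ConjAct.smul_def] at h; exact h⟩⟩
  rw [e, ← hC, ← Nat.card_coe_set_eq, Nat.card_congr (MulAction.orbitEquivQuotientStabilizer (ConjAct C) x)]
  exact Subgroup.card_quotient_dvd_card _

namespace Seven

variable {D} {T : D.Seven} (P : T.Pair)

/-- The commutators between the two classes. -/
noncomputable def Pair.gam (n : ℕ) : ZMod 2 := D.cv P.a (T.mv n P.b)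

theorem Pair.mem_E {x : C} : x ∈ P.E ↔ x ∈ T.orb P.a ∨ x ∈ D.Zs := Set.ext_iff.1 P.E_eq x

theorem Pair.mem_F {x : C} : x ∈ P.F ↔ x ∈ T.orb P.b ∨ x ∈ D.Zs := Set.ext_iff.1 P.F_eq x

theorem Pair.gam_eq_zero [Finite C] (n : ℕ) : P.gam n = 0 ↔ (n % 7 = 3 ∨ n % 7 = 5 ∨ n % 7 = 6) := by
  have hbm := fun i => T.mv_mem P.hb.1 i
  have hrec : ∀ i, P.gam (i + 3) = P.gam (i + 2) + P.gam i := fun i => by
    have e : D.π (T.mv (i + 3) P.b) = D.π (T.mv (i + 2) P.b * T.mv i P.b) := by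
      rw [P.hb.shift T i, map_mul]
    show D.cv _ _ = _
    rw [cv_congr P.ha.1 (hbm _) (mul_mem (hbm _) (hbm _)) e, cv_mul P.ha.1 (hbm _) (hbm _)]
    rfl
  have hmod : ∀ i, P.gam i = P.gam (i % 7) := fun i => by
    show D.cv _ _ = D.cv _ _
    rw [← T.mv_mod]
  have hdbl : ∀ i, P.gam (2 * i) = P.gam i := fun i => by
    have hka := D.cj_mem P.ha.1 P.k
    have e : D.π (cj P.k (T.mv i P.b)) = D.π (T.mv (2 * i) P.b) := by
      rw [P.k_rel i P.b P.hb.1, T.π_mv_congr _ P.k_b]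
    show D.cv P.a _ = D.cv P.a _
    rw [← cv_cj P.ha.1 (hbm i) P.k, cv_congr hka (D.cj_mem (hbm i) _) (hbm _) e,
      ← cv_symm hka (hbm _), cv_congr (hbm _) hka P.ha.1 P.k_a, cv_symm P.ha.1 (hbm _)]
  have h0 : P.gam 0 = 1 ∨ P.gam 1 = 1 ∨ P.gam 2 = 1 := by
    by_contra hne
    push Not at hne
    have key : ∀ x : ZMod 2, x ≠ 1 → x = 0 := by decide
    have hall : ∀ i, P.gam i = 0 ∧ P.gam (i + 1) = 0 ∧ P.gam (i + 2) = 0 := by
      intro i
      induction i with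
      | zero => exact ⟨key _ hne.1, key _ hne.2.1, key _ hne.2.2⟩
      | succ i ih =>
        refine ⟨ih.2.1, ih.2.2, ?_⟩
        rw [show i + 1 + 2 = i + 3 from rfl, hrec]
        simp [ih]
    refine P.haZ (D.central_mem_Zs P.ha.1 fun q hq => ?_)
    obtain ⟨e, he, f, hf, rfl⟩ := P.decomp q hq
    refine (commutatorElement_eq_one_iff_mul_comm.1 ((cv_eq_zero P.ha.1 (mul_mem (P.E_le he) (P.F_le hf))).1 ?_)).symm
    have h1 : D.cv P.a e = 0 := by
      rcases P.mem_E.1 he with ⟨i, hi⟩ | h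
      · rw [cv_congr P.ha.1 (P.E_le he) (T.mv_mem P.ha.1 i) hi]
        exact (cv_eq_zero P.ha.1 (T.mv_mem P.ha.1 i)).2 ((T.singular P.ha.1 1 (Or.inl rfl) P.ha.2).1 i)
      · exact (cv_eq_zero P.ha.1 (P.E_le he)).2 (commutatorElement_eq_one_iff_mul_comm.2 (D.Zs_comm h _))
    have h2 : D.cv P.a f = 0 := by
      rcases P.mem_F.1 hf with ⟨i, hi⟩ | h
      · rw [cv_congr P.ha.1 (P.F_le hf) (hbm i) hi]
        exact (hall i).1
      · exact (cv_eq_zero P.ha.1 (P.F_le hf)).2 (commutatorElement_eq_one_iff_mul_comm.2 (D.Zs_comm h _))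
    rw [cv_mul P.ha.1 (P.E_le he) (P.F_le hf), h1, h2, add_zero]
  have g3 : P.gam 3 = P.gam 2 + P.gam 0 := hrec 0
  have g4 : P.gam 4 = P.gam 3 + P.gam 1 := hrec 1
  have g5 : P.gam 5 = P.gam 4 + P.gam 2 := hrec 2
  have g6 : P.gam 6 = P.gam 5 + P.gam 3 := hrec 3
  have d1 : P.gam 2 = P.gam 1 := hdbl 1
  have d2 : P.gam 4 = P.gam 2 := hdbl 2
  have key : ∀ v0 v1 : ZMod 2, (v0 = 1 ∨ v1 = 1 ∨ v1 = 1) → v1 + v0 + v1 = v1 → v0 = 1 ∧ v1 = 1 := by
    decide
  obtain ⟨k0, k1⟩ := key (P.gam 0) (P.gam 1) (by rw [d1] at h0; exact h0) (by rw [← d1, ← g3, d1, ← g4, d2, d1])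
  rw [d1, k1] at d2
  rw [k1] at d1
  rw [d1, k0] at g3
  rw [d2, d1] at g5
  rw [g5, g3] at g6
  rw [hmod]
  have h7 : n % 7 < 7 := Nat.mod_lt _ (by norm_num)
  interval_cases h : n % 7
  · simp [k0]
  · simp [k1]
  · simp [d1]
  · rw [g3]; simp; decide
  · simp [d2]
  · rw [g5]; simp; decide
  · rw [g6]; simp; decide

/-- A mixed class. -/
def Pair.w (n : ℕ) : C := P.a * T.mv n P.b

/-- The mixed involutions. -/
def Pair.mix : Set C := T.orb (P.w 3) ∪ T.orb (P.w 5) ∪ T.orb (P.w 6)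

theorem Pair.w_mem (n : ℕ) : P.w n ∈ D.Q := mul_mem P.ha.1 (T.mv_mem P.hb.1 n)

theorem sq_congr {r s : C} (hs : s ∈ D.Q) (h : D.π r = D.π s) : r * r = s * s := by
  obtain ⟨ζ, hζ, rfl⟩ : ∃ ζ ∈ D.Zs, r = s * ζ := ⟨s⁻¹ * r, D.π_eq_iff.1 h.symm, by group⟩
  rw [D.mul_sq hs (D.Zs_le hζ), D.Zs_sq hζ, commutatorElement_eq_one_iff_mul_comm.2 (D.Zs_comm hζ _),
    mul_one, mul_one]

theorem Pair.w_sq [Finite C] (n : ℕ) : P.w n * P.w n = 1 ↔ (n % 7 = 3 ∨ n % 7 = 5 ∨ n % 7 = 6) := by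
  have hb' : T.mv n P.b * T.mv n P.b = 1 := (P.hb.mv T n).sq T
  rw [Pair.w, D.mul_sq P.ha.1 (T.mv_mem P.hb.1 n), P.ha.sq T, hb', one_mul, one_mul,
    ← cv_eq_zero P.ha.1 (T.mv_mem P.hb.1 n)]
  exact P.gam_eq_zero n

theorem Pair.orb_E {x : C} (h : x ∈ T.orb P.a) : x ∈ P.E := P.mem_E.2 (Or.inl h)

theorem Pair.orb_F {x : C} (h : x ∈ T.orb P.b) : x ∈ P.F := P.mem_F.2 (Or.inl h)

theorem orb_not_Zs {a x : C} (h : a ∉ D.Zs) (hx : x ∈ T.orb a) : x ∉ D.Zs := fun hZ => by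
  obtain ⟨i, hi⟩ := hx
  exact cj_not_Zs h (Zs_of_π (hi.symm.trans (π_of_Zs hZ)))

theorem Pair.w_not_EF (n : ℕ) : P.w n ∉ P.E ∧ P.w n ∉ P.F := by
  have hb' : T.mv n P.b ∈ P.F := P.orb_F ⟨n, rfl⟩
  have ha' : P.a ∈ P.E := P.orb_E (T.mem_orb_self _)
  constructor
  · intro h
    have := mul_mem (inv_mem ha') h
    rw [Pair.w, inv_mul_cancel_left] at this
    exact cj_not_Zs P.hbZ (P.inter _ this hb')
  · intro h
    have := mul_mem h (inv_mem hb')
    rw [Pair.w, mul_inv_cancel_right] at this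
    exact P.haZ (P.inter _ ha' this)

theorem Pair.w_not_Zs (n : ℕ) : P.w n ∉ D.Zs := fun h => (P.w_not_EF n).1 (P.mem_E.2 (Or.inr h))

theorem Pair.E_mv {x : C} (i : ℕ) (hx : x ∈ P.E) : T.mv i x ∈ P.E := by
  rcases P.mem_E.1 hx with ⟨j, hj⟩ | h
  · exact P.orb_E ⟨i + j, by rw [T.π_mv_congr i hj]; exact congrArg D.π (T.mv_mv i j P.a)⟩
  · rw [Seven.mv, D.cj_eq_of_Zs h]; exact hx

theorem Pair.F_mv {x : C} (i : ℕ) (hx : x ∈ P.F) : T.mv i x ∈ P.F := by
  rcases P.mem_F.1 hx with ⟨j, hj⟩ | h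
  · exact P.orb_F ⟨i + j, by rw [T.π_mv_congr i hj]; exact congrArg D.π (T.mv_mv i j P.b)⟩
  · rw [Seven.mv, D.cj_eq_of_Zs h]; exact hx

theorem Pair.mix_not_EF {x : C} (hx : x ∈ P.mix) : x ∉ P.E ∧ x ∉ P.F ∧ x ∉ D.Zs := by
  obtain ⟨n, i, hi⟩ : ∃ n i, D.π x = D.π (T.mv i (P.w n)) := by
    rcases hx with (⟨i, hi⟩ | ⟨i, hi⟩) | ⟨i, hi⟩ <;> exact ⟨_, i, hi⟩
  obtain ⟨ζ, hζ, rfl⟩ : ∃ ζ ∈ D.Zs, x = T.mv i (P.w n) * ζ :=
    ⟨(T.mv i (P.w n))⁻¹ * x, D.π_eq_iff.1 hi.symm, by group⟩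
  have hback : T.mv (6 * i) (T.mv i (P.w n)) = P.w n := by
    rw [T.mv_mv, T.mv_mod, show (6 * i + i) % 7 = 0 by omega, T.mv_zero]
  refine ⟨fun h => (P.w_not_EF n).1 ?_, fun h => (P.w_not_EF n).2 ?_, fun h => P.w_not_Zs n ?_⟩
  · have h1 := mul_mem h (inv_mem (P.mem_E.2 (Or.inr hζ)))
    rw [mul_inv_cancel_right] at h1
    rw [← hback]; exact P.E_mv _ h1
  · have h1 := mul_mem h (inv_mem (P.mem_F.2 (Or.inr hζ)))
    rw [mul_inv_cancel_right] at h1
    rw [← hback]; exact P.F_mv _ h1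
  · have h1 := mul_mem h (inv_mem hζ)
    rw [mul_inv_cancel_right] at h1
    rw [← hback, Seven.mv, D.cj_eq_of_Zs h1]; exact h1

theorem Pair.inv_iff [Finite C] (r : C) :
    r ∈ D.Inv ↔ r ∈ T.orb P.a ∨ r ∈ T.orb P.b ∨ r ∈ P.mix := by
  constructor
  · rintro ⟨hrQ, hr2, hrZ⟩
    obtain ⟨e, he, f, hf, rfl⟩ := P.decomp r hrQ
    rcases P.mem_E.1 he with ⟨i, hi⟩ | he'
    · rcases P.mem_F.1 hf with ⟨j, hj⟩ | hf'
      · obtain ⟨n, hn7, hin⟩ : ∃ n, n < 7 ∧ (i + n) % 7 = j % 7 :=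
          ⟨(j + 6 * i) % 7, Nat.mod_lt _ (by norm_num), by omega⟩
        have hπ : D.π (e * f) = D.π (T.mv i (P.w n)) := by
          rw [Pair.w, T.mv_mul, map_mul, map_mul, hi, hj, T.mv_mv, T.mv_mod (i + n), hin, ← T.mv_mod]
          rfl
        have h2 : P.w n * P.w n = 1 := by
          have e1 := Seven.sq_congr (T.mv_mem (P.w_mem n) i) hπ
          rw [hr2, ← T.mv_mul] at e1
          exact cj_inj (g := T.d ^ i) (by
            rw [show cj (T.d ^ i) (P.w n * P.w n) = 1 from e1.symm]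
            simp [cj])
        rcases (P.w_sq n).1 h2 with k | k | k <;> rw [Nat.mod_eq_of_lt hn7] at k <;> subst k
        · exact Or.inr (Or.inr (Or.inl (Or.inl ⟨i, hπ⟩)))
        · exact Or.inr (Or.inr (Or.inl (Or.inr ⟨i, hπ⟩)))
        · exact Or.inr (Or.inr (Or.inr ⟨i, hπ⟩))
      · exact Or.inl ⟨i, by rw [map_mul, π_of_Zs hf', mul_one, hi]⟩
    · rcases P.mem_F.1 hf with ⟨j, hj⟩ | hf'
      · exact Or.inr (Or.inl ⟨j, by rw [map_mul, π_of_Zs he', one_mul, hj]⟩)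
      · exact absurd (mul_mem he' hf') hrZ
  · intro h
    rcases h with h | h | h
    · exact ⟨P.E_le (P.orb_E h), P.E_sq _ (P.orb_E h), Seven.orb_not_Zs P.haZ h⟩
    · exact ⟨P.F_le (P.orb_F h), P.F_sq _ (P.orb_F h), Seven.orb_not_Zs P.hbZ h⟩
    · obtain ⟨n, i, hn, hi⟩ : ∃ n i, (n = 3 ∨ n = 5 ∨ n = 6) ∧ D.π r = D.π (T.mv i (P.w n)) := by
        rcases h with (⟨i, hi⟩ | ⟨i, hi⟩) | ⟨i, hi⟩
        exacts [⟨3, i, by norm_num, hi⟩, ⟨5, i, by norm_num, hi⟩, ⟨6, i, by norm_num, hi⟩]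
      refine ⟨?_, ?_, (P.mix_not_EF h).2.2⟩
      · have hm := mul_mem (T.mv_mem (P.w_mem n) i) (D.Zs_le (D.π_eq_iff.1 hi.symm))
        rwa [mul_inv_cancel_left] at hm
      · rw [Seven.sq_congr (T.mv_mem (P.w_mem n) i) hi, ← T.mv_mul,
          (P.w_sq n).2 (by rcases hn with rfl | rfl | rfl <;> norm_num)]
        simp [Seven.mv, cj]

theorem orb_related {x y : C} (hx : x ∈ D.Q) (hxZ : x ∉ D.Zs) (hy : y ∈ T.orb x) : ∃ g, cj g x = y := by
  obtain ⟨i, hi⟩ := hy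
  exact exists_cj_of_π hx hxZ hi.symm

theorem Pair.mix_related [Finite C] {y : C} (hy : y ∈ P.mix) : ∃ g, cj g (P.w 3) = y := by
  have step : ∀ n m, (2 * n) % 7 = m → m < 7 → ∃ g, cj g (P.w n) = P.w m := fun n m h hm => by
    refine exists_cj_of_π (g := P.k) (P.w_mem n) (P.w_not_Zs n) ?_
    rw [Pair.w, cj_mul, map_mul, P.k_a, P.k_rel n P.b P.hb.1, T.π_mv_congr _ P.k_b, T.mv_mod (2 * n), h,
      Pair.w, map_mul]
  obtain ⟨g6, h6⟩ := step 3 6 (by norm_num) (by norm_num)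
  obtain ⟨g5, h5⟩ := step 6 5 (by norm_num) (by norm_num)
  rcases hy with (hy | hy) | hy
  · exact Seven.orb_related (P.w_mem 3) (P.w_not_Zs 3) hy
  · obtain ⟨g, rfl⟩ := Seven.orb_related (P.w_mem 5) (P.w_not_Zs 5) hy
    exact ⟨g * g5 * g6, by rw [← cj_cj, h6, ← cj_cj, h5]⟩
  · obtain ⟨g, rfl⟩ := Seven.orb_related (P.w_mem 6) (P.w_not_Zs 6) hy
    exact ⟨g * g6, by rw [← cj_cj, h6]⟩

theorem Pair.disjoint_w [Finite C] {n m : ℕ} (hn : n < 7) (hm : m < 7) (hne : n ≠ m) :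
    Disjoint (T.orb (P.w n)) (T.orb (P.w m)) := by
  refine Set.disjoint_left.2 fun x h1 h2 => hne ?_
  obtain ⟨i, hi⟩ := T.orb_trans h1 (T.orb_symm h2)
  change D.π (P.w m) = D.π (T.mv i (P.w n)) at hi
  rw [Pair.w, Pair.w, T.mv_mul, T.mv_mv, map_mul, map_mul] at hi
  have hE : (T.mv i P.a)⁻¹ * P.a ∈ P.E :=
    mul_mem (inv_mem (P.orb_E ⟨i, rfl⟩)) (P.orb_E (T.mem_orb_self _))
  have hF : T.mv (i + n) P.b * (T.mv m P.b)⁻¹ ∈ P.F :=
    mul_mem (P.orb_F ⟨_, rfl⟩) (inv_mem (P.orb_F ⟨_, rfl⟩))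
  have h3 : D.π ((T.mv i P.a)⁻¹ * P.a) = D.π (T.mv (i + n) P.b * (T.mv m P.b)⁻¹) := by
    rw [map_mul, map_mul, map_inv, map_inv]
    calc (D.π (T.mv i P.a))⁻¹ * D.π P.a
        = (D.π (T.mv i P.a))⁻¹ * (D.π P.a * D.π (T.mv m P.b)) * (D.π (T.mv m P.b))⁻¹ := by group
      _ = _ := by rw [hi]; group
  have hEF : (T.mv i P.a)⁻¹ * P.a ∈ P.F := by
    have := mul_mem hF (P.mem_F.2 (Or.inr (D.π_eq_iff.1 h3.symm)))
    rwa [mul_inv_cancel_left] at this
  have hz := P.inter _ hE hEF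
  have hi0 := T.π_mv_eq P.ha.1 P.haZ (D.π_eq_iff.2 hz)
  rw [π_of_Zs hz] at h3
  rw [map_mul, map_inv, eq_comm, mul_inv_eq_one, T.mv_mod (i + n), show (i + n) % 7 = n by omega] at h3
  have h7 := T.π_mv_congr (7 - m) h3
  rw [T.mv_mv, T.mv_mv, show 7 - m + m = 7 by omega, show T.mv 7 P.b = P.b from T.cj_pow_seven P.b] at h7
  have := T.π_mv_eq P.hb.1 P.hbZ h7
  omega

theorem Pair.ncard_mix [Finite C] : P.mix.ncard = 42 := by
  have h := fun n => T.ncard_orb (P.w_mem n) (P.w_not_Zs n)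
  rw [Pair.mix, Set.ncard_union_eq (Set.disjoint_union_left.2
    ⟨P.disjoint_w (by norm_num) (by norm_num) (by norm_num), P.disjoint_w (by norm_num) (by norm_num) (by norm_num)⟩)
    (Set.toFinite _) (Set.toFinite _),
    Set.ncard_union_eq (P.disjoint_w (by norm_num) (by norm_num) (by norm_num)) (Set.toFinite _) (Set.toFinite _),
    h, h, h]

theorem Pair.good [Finite C] (hE : ∀ g : C, ∀ x ∈ P.E, cj g x ∈ P.E) : D.Good P.E where
  conj := hE
  trans x hx y hy hxZ hyZ := by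
    have h1 := T.orb_trans (T.orb_symm ((P.mem_E.1 hx).resolve_right hxZ)) ((P.mem_E.1 hy).resolve_right hyZ)
    exact Seven.orb_related (P.E_le hx) hxZ h1
  faithful c hc := by
    let N : Subgroup C :=
      { carrier := {g | ∀ x ∈ P.E, D.π (cj g x) = D.π x}
        one_mem' := fun x _ => by rw [cj_one]
        mul_mem' := fun {g k} hg hk x hx => by rw [← cj_cj, hg _ (hE k x hx), hk x hx]
        inv_mem' := fun {g} hg x hx => by
          conv_rhs => rw [← cj_one x, ← inv_mul_cancel g, ← cj_cj]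
          exact (D.π_cj_congr _ (hg x hx)).symm }
    haveI : N.Normal := ⟨fun n hn g x hx => by
      rw [← cj_cj, ← cj_cj, D.π_cj_congr g (hn _ (hE g⁻¹ x hx)), cj_cj, mul_inv_cancel, cj_one]⟩
    refine ((D.top_or_le N fun q hq x hx => D.π_cj_of_mem hq (P.E_le hx)).resolve_left fun h => ?_) hc
    have h1 : T.d ^ 1 ∈ N := h ▸ Subgroup.mem_top _
    exact absurd (T.π_mv_eq P.ha.1 P.haZ (h1 P.a (P.orb_E (T.mem_orb_self _)))) (by norm_num)

/-- The pair with the roles exchanged, for the statements symmetric in them. -/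
theorem Pair.good' [Finite C] (hF : ∀ g : C, ∀ x ∈ P.F, cj g x ∈ P.F) : D.Good P.F where
  conj := hF
  trans x hx y hy hxZ hyZ := by
    have h1 := T.orb_trans (T.orb_symm ((P.mem_F.1 hx).resolve_right hxZ)) ((P.mem_F.1 hy).resolve_right hyZ)
    exact Seven.orb_related (P.F_le hx) hxZ h1
  faithful c hc := by
    let N : Subgroup C :=
      { carrier := {g | ∀ x ∈ P.F, D.π (cj g x) = D.π x}
        one_mem' := fun x _ => by rw [cj_one]
        mul_mem' := fun {g k} hg hk x hx => by rw [← cj_cj, hg _ (hF k x hx), hk x hx]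
        inv_mem' := fun {g} hg x hx => by
          conv_rhs => rw [← cj_one x, ← inv_mul_cancel g, ← cj_cj]
          exact (D.π_cj_congr _ (hg x hx)).symm }
    haveI : N.Normal := ⟨fun n hn g x hx => by
      rw [← cj_cj, ← cj_cj, D.π_cj_congr g (hn _ (hF g⁻¹ x hx)), cj_cj, mul_inv_cancel, cj_one]⟩
    refine ((D.top_or_le N fun q hq x hx => D.π_cj_of_mem hq (P.F_le hx)).resolve_left fun h => ?_) hc
    have h1 : T.d ^ 1 ∈ N := h ▸ Subgroup.mem_top _
    exact absurd (T.π_mv_eq P.hb.1 P.hbZ (h1 P.b (P.orb_F (T.mem_orb_self _)))) (by norm_num)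

end Seven

/-- The orbit shape. -/
theorem exists_shape [Finite C] : ∃ E F : Subgroup C, E ≤ D.Q ∧ F ≤ D.Q ∧ Nat.card E = 16 ∧ Nat.card F = 16 ∧
    D.z ∈ E ∧ D.z ∈ F ∧ (∀ x ∈ E, x ∈ F → x ∈ D.Zs) ∧ (∀ x ∈ E, x * x = 1) ∧ (∀ x ∈ F, x * x = 1) ∧
    D.Good E ∧
    ((D.Good F ∧ {r | r ∈ D.Q ∧ (r ∈ E ∨ r ∈ F) ∧ r ∉ D.Zs}.ncard = 28) ∨
      ((∀ r ∈ D.Inv, r ∉ E → ∀ s ∈ D.Inv, s ∉ E → ∃ g, cj g r = s) ∧ {r | r ∈ D.Inv ∧ r ∉ E}.ncard = 56)) := by
  obtain ⟨T⟩ := D.exists_seven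
  obtain ⟨P⟩ := T.exists_pair
  have haQ := P.ha.1
  have hbQ := P.hb.1
  have hrefl : ∀ {x y : C}, (∃ g, cj g x = y) → ∃ g, cj g y = x := fun ⟨g, h⟩ =>
    ⟨g⁻¹, by rw [← h, cj_cj, inv_mul_cancel, cj_one]⟩
  have htrans : ∀ {x y w : C}, (∃ g, cj g x = y) → (∃ g, cj g y = w) → ∃ g, cj g x = w :=
    fun ⟨g, h⟩ ⟨k, k'⟩ => ⟨k * g, by rw [← cj_cj, h, k']⟩
  have hca : ∀ {x}, x ∈ T.orb P.a → ∃ g, cj g P.a = x := fun h => Seven.orb_related haQ P.haZ h
  have hcb : ∀ {x}, x ∈ T.orb P.b → ∃ g, cj g P.b = x := fun h => Seven.orb_related hbQ P.hbZ h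
  have dab : Disjoint (T.orb P.a) (T.orb P.b) := Set.disjoint_left.2 fun x h1 h2 =>
    Seven.orb_not_Zs P.haZ h1 (P.inter _ (P.orb_E h1) (P.orb_F h2))
  have dam : Disjoint (T.orb P.a) P.mix := Set.disjoint_left.2 fun x h1 h2 => (P.mix_not_EF h2).1 (P.orb_E h1)
  have dbm : Disjoint (T.orb P.b) P.mix := Set.disjoint_left.2 fun x h1 h2 => (P.mix_not_EF h2).2.1 (P.orb_F h1)
  have cA := T.ncard_orb haQ P.haZ
  have cB := T.ncard_orb hbQ P.hbZ
  have cM := P.ncard_mix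
  have hInv : D.Inv = T.orb P.a ∪ T.orb P.b ∪ P.mix := Set.ext fun r => by
    rw [P.inv_iff, Set.mem_union, Set.mem_union, or_assoc]
  have hzE : D.z ∈ P.E := P.mem_E.2 (Or.inr D.z_mem_Zs)
  have hzF : D.z ∈ P.F := P.mem_F.2 (Or.inr D.z_mem_Zs)
  have haI : P.a ∈ D.Inv := (P.inv_iff _).2 (Or.inl (T.mem_orb_self _))
  have hbI : P.b ∈ D.Inv := (P.inv_iff _).2 (Or.inr (Or.inl (T.mem_orb_self _)))
  have hnot : ¬ ((∃ g, cj g (P.w 3) = P.a) ∧ ∃ g, cj g (P.w 3) = P.b) := by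
    rintro ⟨h1, h2⟩
    have e : {y | ∃ g, cj g (P.w 3) = y} = D.Inv := by
      refine Set.ext fun y => ⟨?_, fun hy => ?_⟩
      · rintro ⟨g, rfl⟩
        exact D.Inv_cj ((P.inv_iff _).2 (Or.inr (Or.inr (Or.inl (Or.inl (T.mem_orb_self _)))))) g
      · rcases (P.inv_iff y).1 hy with h | h | h
        exacts [htrans h1 (hca h), htrans h2 (hcb h), P.mix_related h]
    have := D.ncard_orbit_dvd (P.w 3)
    rw [e, hInv, Set.ncard_union_eq (Set.disjoint_union_left.2 ⟨dam, dbm⟩) (Set.toFinite _) (Set.toFinite _),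
      Set.ncard_union_eq dab (Set.toFinite _) (Set.toFinite _), cA, cB, cM] at this
    norm_num at this
  by_cases hPE : ∃ g, cj g (P.w 3) = P.a
  · -- `F` is invariant
    have hF : ∀ g : C, ∀ x ∈ P.F, cj g x ∈ P.F := by
      intro g x hx
      rcases P.mem_F.1 hx with h | h
      swap; · rw [D.cj_eq_of_Zs h]; exact hx
      have hbx := htrans (hcb h) ⟨g, rfl⟩
      rcases (P.inv_iff _).1 (D.Inv_cj ((P.inv_iff x).2 (Or.inr (Or.inl h))) g) with k | k | k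
      · exact absurd ⟨hPE, htrans hPE (htrans (hca k) (hrefl hbx))⟩ hnot
      · exact P.orb_F k
      · exact absurd ⟨hPE, htrans (P.mix_related k) (hrefl hbx)⟩ hnot
    have hall : ∀ r ∈ D.Inv, r ∉ P.F → ∃ g, cj g (P.w 3) = r := fun r hr hrF => by
      rcases (P.inv_iff r).1 hr with k | k | k
      exacts [htrans hPE (hca k), absurd (P.orb_F k) hrF, P.mix_related k]
    refine ⟨P.F, P.E, P.F_le, P.E_le, P.F_card, P.E_card, hzF, hzE, fun x hx hx' => P.inter x hx' hx,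
      P.F_sq, P.E_sq, P.good' hF, Or.inr ⟨fun r hr hrF s hs hsF => htrans (hrefl (hall r hr hrF)) (hall s hs hsF), ?_⟩⟩
    have e : {r | r ∈ D.Inv ∧ r ∉ P.F} = T.orb P.a ∪ P.mix := by
      refine Set.ext fun r => ⟨fun ⟨hr, hrF⟩ => ?_, fun h => ?_⟩
      · rcases (P.inv_iff r).1 hr with k | k | k
        exacts [Or.inl k, absurd (P.orb_F k) hrF, Or.inr k]
      · rcases h with h | h
        · exact ⟨(P.inv_iff r).2 (Or.inl h), fun h' => Seven.orb_not_Zs P.haZ h (P.inter _ (P.orb_E h) h')⟩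
        · exact ⟨(P.inv_iff r).2 (Or.inr (Or.inr h)), (P.mix_not_EF h).2.1⟩
    rw [e, Set.ncard_union_eq dam (Set.toFinite _) (Set.toFinite _), cA, cM]
  by_cases hPF : ∃ g, cj g (P.w 3) = P.b
  · -- `E` is invariant
    have hE : ∀ g : C, ∀ x ∈ P.E, cj g x ∈ P.E := by
      intro g x hx
      rcases P.mem_E.1 hx with h | h
      swap; · rw [D.cj_eq_of_Zs h]; exact hx
      have hax := htrans (hca h) ⟨g, rfl⟩
      rcases (P.inv_iff _).1 (D.Inv_cj ((P.inv_iff x).2 (Or.inl h)) g) with k | k | k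
      · exact P.orb_E k
      · exact absurd (htrans hPF (htrans (hcb k) (hrefl hax))) hPE
      · exact absurd (htrans (P.mix_related k) (hrefl hax)) hPE
    have hall : ∀ r ∈ D.Inv, r ∉ P.E → ∃ g, cj g (P.w 3) = r := fun r hr hrE => by
      rcases (P.inv_iff r).1 hr with k | k | k
      exacts [absurd (P.orb_E k) hrE, htrans hPF (hcb k), P.mix_related k]
    refine ⟨P.E, P.F, P.E_le, P.F_le, P.E_card, P.F_card, hzE, hzF, P.inter,
      P.E_sq, P.F_sq, P.good hE, Or.inr ⟨fun r hr hrE s hs hsE => htrans (hrefl (hall r hr hrE)) (hall s hs hsE), ?_⟩⟩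
    have e : {r | r ∈ D.Inv ∧ r ∉ P.E} = T.orb P.b ∪ P.mix := by
      refine Set.ext fun r => ⟨fun ⟨hr, hrE⟩ => ?_, fun h => ?_⟩
      · rcases (P.inv_iff r).1 hr with k | k | k
        exacts [absurd (P.orb_E k) hrE, Or.inl k, Or.inr k]
      · rcases h with h | h
        · exact ⟨(P.inv_iff r).2 (Or.inr (Or.inl h)), fun h' => Seven.orb_not_Zs P.hbZ h (P.inter _ h' (P.orb_F h))⟩
        · exact ⟨(P.inv_iff r).2 (Or.inr (Or.inr h)), (P.mix_not_EF h).1⟩
    rw [e, Set.ncard_union_eq dbm (Set.toFinite _) (Set.toFinite _), cB, cM]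
  -- the union is invariant
  have hunion : ∀ g : C, ∀ w, (w ∈ P.E ∨ w ∈ P.F) → cj g w ∈ P.E ∨ cj g w ∈ P.F := by
    intro g w hw
    by_cases hwZ : w ∈ D.Zs
    · rw [D.cj_eq_of_Zs hwZ]; exact hw
    have hwI : w ∈ D.Inv := (P.inv_iff w).2 (hw.imp (fun h => (P.mem_E.1 h).resolve_right hwZ)
      (fun h => Or.inl ((P.mem_F.1 h).resolve_right hwZ)))
    rcases (P.inv_iff _).1 (D.Inv_cj hwI g) with k | k | k
    · exact Or.inl (P.orb_E k)
    · exact Or.inr (P.orb_F k)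
    exfalso
    have h3 := htrans (P.mix_related k) (hrefl ⟨g, rfl⟩)
    rcases hw with h | h
    · exact hPE (htrans h3 (hrefl (hca ((P.mem_E.1 h).resolve_right hwZ))))
    · exact hPF (htrans h3 (hrefl (hcb ((P.mem_F.1 h).resolve_right hwZ))))
  have haE := P.orb_E (T.mem_orb_self P.a)
  have hdich : ∀ g : C, (∀ x ∈ P.E, cj g x ∈ P.E) ∨ (∀ x ∈ P.E, cj g x ∈ P.F) := by
    intro g
    by_contra h
    push Not at h
    obtain ⟨⟨x, hx, hx'⟩, ⟨y, hy, hy'⟩⟩ := h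
    rcases hunion g (x * y) (Or.inl (mul_mem hx hy)) with k | k
    · refine hx' ?_
      have := mul_mem k (inv_mem ((hunion g y (Or.inl hy)).resolve_right hy'))
      rwa [cj_mul, mul_inv_cancel_right] at this
    · refine hy' ?_
      have := mul_mem (inv_mem ((hunion g x (Or.inl hx)).resolve_left hx')) k
      rwa [cj_mul, inv_mul_cancel_left] at this
  have himage : ∀ (g : C) (H : Subgroup C), Nat.card H = 16 → (∀ x ∈ P.E, cj g x ∈ H) → ∀ y ∈ H,
      ∃ x ∈ P.E, cj g x = y := by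
    intro g H hH hg y hy
    have hsurj : (fun w => cj g w) '' (P.E : Set C) = (H : Set C) := by
      refine Set.eq_of_subset_of_ncard_le ?_ ?_ (Set.toFinite _)
      · rintro _ ⟨w, hw, rfl⟩; exact hg w hw
      · rw [Set.ncard_image_of_injective _ fun u v e => cj_inj e, ← Nat.card_coe_set_eq,
          ← Nat.card_coe_set_eq]
        exact (hH.trans P.E_card.symm).le
    obtain ⟨w, hw, e⟩ : y ∈ (fun w => cj g w) '' (P.E : Set C) := by rw [hsurj]; exact hy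
    exact ⟨w, hw, e⟩
  let K : Subgroup C :=
    { carrier := {g | ∀ x ∈ P.E, cj g x ∈ P.E}
      one_mem' := fun x hx => by rwa [cj_one]
      mul_mem' := fun {g k} hg hk x hx => by rw [← cj_cj]; exact hg _ (hk x hx)
      inv_mem' := fun {g} hg x hx => by
        obtain ⟨w, hw, rfl⟩ := himage g P.E P.E_card hg x hx
        rwa [cj_cj, inv_mul_cancel, cj_one] }
  have hcov : ∀ g k : C, g ∉ K → k ∉ K → g⁻¹ * k ∈ K := fun g k hg hk x hx => by
    obtain ⟨w, hw, e⟩ := himage g P.F P.F_card ((hdich g).resolve_left hg) _ (((hdich k).resolve_left hk) x hx)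
    have := congrArg (cj g⁻¹) e
    rw [cj_cj, cj_cj, inv_mul_cancel, cj_one] at this
    exact this ▸ hw
  have hKtop : K = ⊤ := by
    have hidx : K.index ≤ 2 := by
      by_cases h : ∀ g, g ∈ K
      · rw [(Subgroup.eq_top_iff' K).2 h, Subgroup.index_top]; norm_num
      push Not at h
      obtain ⟨s, hs⟩ := h
      refine (Subgroup.index_eq_card K).le.trans ?_
      have hsur : Function.Surjective (fun t : Bool => ((if t then 1 else s : C) : C ⧸ K)) := by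
        intro q
        induction q using QuotientGroup.induction_on with
        | _ g =>
          by_cases hg : g ∈ K
          · exact ⟨true, QuotientGroup.eq.2 (by simpa using hg)⟩
          · exact ⟨false, QuotientGroup.eq.2 (by simpa using hcov s g hs hg)⟩
      exact (Nat.card_le_card_of_surjective _ hsur).trans (by simp)
    haveI : K.Normal := by
      rcases (show K.index = 1 ∨ K.index = 2 by
        have := Nat.pos_of_ne_zero (Subgroup.index_ne_zero_of_finite (H := K)); omega) with e | e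
      · rw [Subgroup.index_eq_one.1 e]; infer_instance
      · exact Subgroup.normal_of_index_eq_two e
    refine (D.top_or_le K fun q hq x hx => ?_).resolve_right fun h => ?_
    · have := mul_mem hx (P.mem_E.2 (Or.inr (D.π_eq_iff.1 (D.π_cj_of_mem hq (P.E_le hx)).symm)))
      rwa [mul_inv_cancel_left] at this
    · refine T.d_not_mem ?_
      rw [← pow_one T.d]
      exact h fun x hx => P.E_mv 1 hx
  have hE : ∀ g : C, ∀ x ∈ P.E, cj g x ∈ P.E := fun g => (hKtop ▸ Subgroup.mem_top g : g ∈ K)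
  have hF : ∀ g : C, ∀ x ∈ P.F, cj g x ∈ P.F := by
    intro g x hx
    rcases hunion g x (Or.inr hx) with k | k
    swap; · exact k
    obtain ⟨w, hw, e⟩ := himage g P.E P.E_card (hE g) _ k
    obtain rfl := cj_inj e
    have hz := P.inter _ hw hx
    rw [D.cj_eq_of_Zs hz]; exact hx
  refine ⟨P.E, P.F, P.E_le, P.F_le, P.E_card, P.F_card, hzE, hzF, P.inter, P.E_sq, P.F_sq, P.good hE,
    Or.inl ⟨P.good' hF, ?_⟩⟩
  have e : {r | r ∈ D.Q ∧ (r ∈ P.E ∨ r ∈ P.F) ∧ r ∉ D.Zs} = T.orb P.a ∪ T.orb P.b := by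
    refine Set.ext fun r => ⟨fun ⟨_, h, hz⟩ => ?_, fun h => ?_⟩
    · exact h.imp (fun h => (P.mem_E.1 h).resolve_right hz) (fun h => (P.mem_F.1 h).resolve_right hz)
    · rcases h with h | h
      · exact ⟨P.E_le (P.orb_E h), Or.inl (P.orb_E h), Seven.orb_not_Zs P.haZ h⟩
      · exact ⟨P.F_le (P.orb_F h), Or.inr (P.orb_F h), Seven.orb_not_Zs P.hbZ h⟩
  rw [e, Set.ncard_union_eq dab (Set.toFinite _) (Set.toFinite _), cA, cB]

end RecogBase

end Cfsg.Agent.TransvCent
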