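import Cfsg.Agent.Lib.TransvCent.RecogBLocal
import Cfsg.Agent.Lib.TransvCent.RecogShapeB
import Cfsg.Agent.Lib.LargeExtraspecial.Central

/-!
# Recognition from simplicity: the orbit shape at one involution

* `Local.toBase` : the data inside the centraliser as a `RecogBase`
* `Local.orbit_shape` : an invariant elementary 16 with a complement, and the orbits on the involutions
-/

set_option autoImplicit false
set_option linter.style.haveILetI false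

namespace Cfsg.Agent.TransvCent.RecogB

open Subgroup
open scoped commutatorElement

namespace Local

variable {G : Type*} [Group G] {x : G}

/-- The setting inside the centraliser. -/
theorem toBase [Finite G] (X : Local x)
    (hself : ∀ c : G, Commute c x → (∀ r ∈ X.Q, Commute c r) → c ∈ X.Q) :
    ∃ D : RecogBase ↥(centralizer ({x} : Set G)),
      (D.z : G) = x ∧ ∀ c : ↥(centralizer ({x} : Set G)), c ∈ D.Q ↔ (c : G) ∈ X.Q := by
  set C := centralizer ({x} : Set G) with hC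
  have hH : ∀ h ∈ C, Commute h x := fun h hh => mem_centralizer_singleton_iff.1 hh
  have hle : X.Q ≤ C := fun q hq => mem_centralizer_singleton_iff.2 (X.le q hq)
  set Q' : Subgroup C := X.Q.subgroupOf C with hQ'
  have hker : (X.img C hH).ker = Q' := by
    ext c
    rw [MonoidHom.mem_ker, mem_subgroupOf]
    exact X.θ_ker _ (hH _ c.2)
  have hsur : Function.Surjective (X.img C hH) := fun l => by
    obtain ⟨a, ha, e⟩ := X.θ_surj l
    exact ⟨⟨a, mem_centralizer_singleton_iff.2 ha⟩, e⟩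
  haveI hn : Q'.Normal := hker ▸ inferInstance
  have hcard : Nat.card Q' = 128 := by
    rw [Nat.card_congr (subgroupOfEquivOfLe hle).toEquiv, X.card]
  set zC : C := ⟨x, mem_centralizer_singleton_iff.2 rfl⟩ with hzC
  have hnab : ∃ a ∈ Q', ∃ b ∈ Q', ⁅a, b⁆ ≠ 1 := by
    by_contra hne
    push Not at hne
    have hall : ∀ q : X.Q, (q : G) = 1 ∨ (q : G) = x := fun q => X.central q q.2 fun r hr => by
      have := hne ⟨q, hle q.2⟩ (mem_subgroupOf.2 q.2) ⟨r, hle hr⟩ (mem_subgroupOf.2 hr)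
      exact congrArg Subtype.val (commutatorElement_eq_one_iff_mul_comm.1 this)
    haveI : Finite X.Q := inferInstance
    let f : Bool → X.Q := fun b => if b then ⟨x, X.mem⟩ else 1
    have hf : Function.Surjective f := fun q => by
      rcases hall q with e | e
      · exact ⟨false, Subtype.ext e.symm⟩
      · exact ⟨true, Subtype.ext e.symm⟩
    have := Nat.card_le_card_of_surjective f hf
    rw [X.card, Nat.card_eq_fintype_card, Fintype.card_bool] at this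
    omega
  have hext := (LargeExtraspecial.isExtraspecial_of_gen (P := Q') (z := zC)
    (IsPGroup.of_card (n := 7) (by rw [hcard]; norm_num)) (mem_subgroupOf.2 X.mem)
    (fun h => X.ne_one (congrArg Subtype.val h))
    (fun q hq => Subtype.ext (X.le q (mem_subgroupOf.1 hq)))
    (fun q hq h => (X.central q (mem_subgroupOf.1 hq) fun r hr =>
      (congrArg Subtype.val (h ⟨r, hle hr⟩ (mem_subgroupOf.2 hr))).symm).imp Subtype.ext Subtype.ext)
    (fun a ha b hb => (X.comm a (mem_subgroupOf.1 ha) b (mem_subgroupOf.1 hb)).imp Subtype.ext Subtype.ext)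
    (fun a ha => (X.sq a (mem_subgroupOf.1 ha)).imp Subtype.ext Subtype.ext) hnab).1
  exact ⟨{
    z := zC
    Q := Q'
    normal := hn
    z_mem := mem_subgroupOf.2 X.mem
    z_sq := Subtype.ext X.sq_x
    z_ne := fun h => X.ne_one (congrArg Subtype.val h)
    z_comm := fun g => Subtype.ext (hH g g.2)
    cardQ := hcard
    ext := hext
    self_cent := fun g h => mem_subgroupOf.2 (hself g (hH g g.2) fun r hr =>
      congrArg Subtype.val (h ⟨r, hle hr⟩ (mem_subgroupOf.2 hr)))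
    iso := ⟨(QuotientGroup.quotientMulEquivOfEq hker.symm).trans
      (QuotientGroup.quotientKerEquivOfSurjective _ hsur)⟩ }, rfl, fun c => mem_subgroupOf⟩

/-- The orbit shape. -/
theorem orbit_shape [Finite G] (X : Local x)
    (hself : ∀ c : G, Commute c x → (∀ r ∈ X.Q, Commute c r) → c ∈ X.Q) :
    ∃ E F : Subgroup G, E ≤ X.Q ∧ F ≤ X.Q ∧ x ∈ E ∧ x ∈ F ∧ E ⊓ F = zpowers x ∧
      Nat.card E = 16 ∧ Nat.card F = 16 ∧ (∀ e ∈ E, e * e = 1) ∧ (∀ e ∈ F, e * e = 1) ∧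
      (∀ c, Commute c x → ∀ e ∈ E, c * e * c⁻¹ ∈ E) ∧
      (∀ a ∈ E, a ≠ 1 → a ≠ x → ∀ b ∈ E, b ≠ 1 → b ≠ x → ∃ c, Commute c x ∧ c * a * c⁻¹ = b) ∧
      (∀ c, Commute c x → (∀ e ∈ E, c * e * c⁻¹ * e⁻¹ ∈ zpowers x) → c ∈ X.Q) ∧
      (((∀ c, Commute c x → ∀ e ∈ F, c * e * c⁻¹ ∈ F) ∧
          (∀ a ∈ F, a ≠ 1 → a ≠ x → ∀ b ∈ F, b ≠ 1 → b ≠ x → ∃ c, Commute c x ∧ c * a * c⁻¹ = b) ∧
          (∀ c, Commute c x → (∀ e ∈ F, c * e * c⁻¹ * e⁻¹ ∈ zpowers x) → c ∈ X.Q) ∧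
          {r | r ∈ X.Q ∧ (r ∈ E ∨ r ∈ F) ∧ r ≠ 1 ∧ r ≠ x}.ncard = 28) ∨
        ((∀ r, r ∈ X.Q → r * r = 1 → r ≠ 1 → r ≠ x → r ∉ E →
            ∀ s, s ∈ X.Q → s * s = 1 → s ≠ 1 → s ≠ x → s ∉ E → ∃ c, Commute c x ∧ c * r * c⁻¹ = s) ∧
          {r | r ∈ X.Q ∧ r * r = 1 ∧ r ≠ 1 ∧ r ≠ x ∧ r ∉ E}.ncard = 56)) := by
  obtain ⟨D, hz, hQ⟩ := X.toBase hself
  obtain ⟨E, F, hEQ, hFQ, hEc, hFc, hzE, hzF, hint, hEs, hFs, hE, hor⟩ := D.exists_shape
  have hx2 : ∀ {e : G}, e ∈ zpowers x ↔ e = 1 ∨ e = x := by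
    intro e
    constructor
    · intro h
      obtain ⟨k, rfl⟩ := mem_zpowers_iff.1 h
      rcases Int.even_or_odd k with ⟨l, hl⟩ | ⟨l, hl⟩
      · left; rw [hl, ← two_mul, zpow_mul, zpow_two, X.sq_x, one_zpow]
      · right; rw [hl, zpow_add_one, zpow_mul, zpow_two, X.sq_x, one_zpow, one_mul]
    · rintro (rfl | rfl)
      exacts [one_mem _, mem_zpowers _]
  have hne : ∀ {c : ↥(centralizer ({x} : Set G))}, c ∉ D.Zs ↔ (c : G) ≠ 1 ∧ (c : G) ≠ x := by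
    intro c
    rw [RecogBase.mem_Zs, not_or]
    exact and_congr (not_congr ⟨fun h => congrArg Subtype.val h, fun h => Subtype.ext h⟩)
      (not_congr ⟨fun h => (congrArg Subtype.val h).trans hz, fun h => Subtype.ext (h.trans hz.symm)⟩)
  set ι := (centralizer ({x} : Set G)).subtype
  have hmap : ∀ {H : Subgroup ↥(centralizer ({x} : Set G))} {e : G}, e ∈ H.map ι →
      ∃ c ∈ H, (c : G) = e := fun h => mem_map.1 h
  have hmemι : ∀ {H : Subgroup ↥(centralizer ({x} : Set G))} {c : ↥(centralizer ({x} : Set G))},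
      (c : G) ∈ H.map ι ↔ c ∈ H := fun {H c} => mem_map_iff_mem (Subgroup.subtype_injective _)
  have hcardι : ∀ H : Subgroup ↥(centralizer ({x} : Set G)), Nat.card (H.map ι) = Nat.card H := fun H =>
    (Nat.card_congr (H.equivMapOfInjective ι (Subgroup.subtype_injective _)).toEquiv).symm
  have lift : ∀ {g : G}, Commute g x → ∃ c : ↥(centralizer ({x} : Set G)), (c : G) = g := fun {g} h =>
    ⟨⟨g, mem_centralizer_singleton_iff.2 h⟩, rfl⟩
  have hgood : ∀ {H : Subgroup ↥(centralizer ({x} : Set G))}, H ≤ D.Q → D.Good H →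
      (∀ c, Commute c x → ∀ e ∈ H.map ι, c * e * c⁻¹ ∈ H.map ι) ∧
      (∀ a ∈ H.map ι, a ≠ 1 → a ≠ x → ∀ b ∈ H.map ι, b ≠ 1 → b ≠ x → ∃ c, Commute c x ∧ c * a * c⁻¹ = b) ∧
      (∀ c, Commute c x → (∀ e ∈ H.map ι, c * e * c⁻¹ * e⁻¹ ∈ zpowers x) → c ∈ X.Q) := by
    intro H _ hH
    refine ⟨fun g hg e he => ?_, fun a ha ha1 hax b hb hb1 hbx => ?_, fun g hg h => ?_⟩
    · obtain ⟨c, rfl⟩ := lift hg
      obtain ⟨e, he', rfl⟩ := hmap he
      exact mem_map.2 ⟨cj c e, hH.conj c e he', rfl⟩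
    · obtain ⟨a, ha', rfl⟩ := hmap ha
      obtain ⟨b, hb', rfl⟩ := hmap hb
      obtain ⟨c, hc⟩ := hH.trans a ha' b hb' (hne.2 ⟨ha1, hax⟩) (hne.2 ⟨hb1, hbx⟩)
      exact ⟨c, mem_centralizer_singleton_iff.1 c.2, congrArg Subtype.val hc⟩
    · obtain ⟨c, rfl⟩ := lift hg
      refine (hQ c).1 (hH.faithful c fun e he => ?_)
      have h1 := hx2.1 (h e (mem_map.2 ⟨e, he, rfl⟩))
      rw [eq_comm, RecogBase.π_eq_iff]
      have h2 : cj c e * e⁻¹ ∈ D.Zs := h1.imp (fun k => Subtype.ext k) (fun k => Subtype.ext (k.trans hz.symm))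
      have h3 : e⁻¹ * cj c e = cj c e * e⁻¹ := by
        calc e⁻¹ * cj c e = e⁻¹ * (cj c e * e⁻¹) * e := by group
          _ = _ := by rw [D.Zs_comm h2 e⁻¹]; group
      rw [h3]; exact h2
  obtain ⟨hE1, hE2, hE3⟩ := hgood hEQ hE
  refine ⟨E.map ι, F.map ι, ?_, ?_, mem_map.2 ⟨D.z, hzE, hz⟩, mem_map.2 ⟨D.z, hzF, hz⟩, ?_,
    (hcardι E).trans hEc, (hcardι F).trans hFc, ?_, ?_, hE1, hE2, hE3, ?_⟩
  · rintro e he
    obtain ⟨c, hc, rfl⟩ := hmap he
    exact (hQ c).1 (hEQ hc)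
  · rintro e he
    obtain ⟨c, hc, rfl⟩ := hmap he
    exact (hQ c).1 (hFQ hc)
  · refine le_antisymm (fun e he => ?_) (zpowers_le.2
      ⟨mem_map.2 ⟨D.z, hzE, hz⟩, mem_map.2 ⟨D.z, hzF, hz⟩⟩)
    obtain ⟨c, hc, rfl⟩ := hmap he.1
    exact hx2.2 ((hint c hc (hmemι.1 he.2)).imp (fun k => congrArg Subtype.val k)
      (fun k => (congrArg Subtype.val k).trans hz))
  · rintro e he
    obtain ⟨c, hc, rfl⟩ := hmap he
    exact congrArg Subtype.val (hEs c hc)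
  · rintro e he
    obtain ⟨c, hc, rfl⟩ := hmap he
    exact congrArg Subtype.val (hFs c hc)
  rcases hor with ⟨hF, h28⟩ | ⟨htr, h56⟩
  · refine Or.inl ⟨(hgood hFQ hF).1, (hgood hFQ hF).2.1, (hgood hFQ hF).2.2, ?_⟩
    rw [← h28, ← Set.ncard_image_of_injective _ (Subgroup.subtype_injective _)]
    congr 1
    ext r
    constructor
    · rintro ⟨hr, h, h1, h2⟩
      obtain ⟨c, rfl⟩ := lift (X.le r hr)
      exact ⟨c, ⟨(hQ c).2 hr, h.imp hmemι.1 hmemι.1, hne.2 ⟨h1, h2⟩⟩, rfl⟩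
    · rintro ⟨c, ⟨hc, h, hcZ⟩, rfl⟩
      exact ⟨(hQ c).1 hc, h.imp hmemι.2 hmemι.2, (hne.1 hcZ).1, (hne.1 hcZ).2⟩
  · refine Or.inr ⟨fun r hr hr2 hr1 hrx hrE s hs hs2 hs1 hsx hsE => ?_, ?_⟩
    · obtain ⟨r, rfl⟩ := lift (X.le r hr)
      obtain ⟨s, rfl⟩ := lift (X.le s hs)
      obtain ⟨c, hc⟩ := htr r ⟨(hQ r).2 hr, Subtype.ext hr2, hne.2 ⟨hr1, hrx⟩⟩ (fun h => hrE (hmemι.2 h))
        s ⟨(hQ s).2 hs, Subtype.ext hs2, hne.2 ⟨hs1, hsx⟩⟩ (fun h => hsE (hmemι.2 h))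
      exact ⟨c, mem_centralizer_singleton_iff.1 c.2, congrArg Subtype.val hc⟩
    · rw [← h56, ← Set.ncard_image_of_injective _ (Subgroup.subtype_injective _)]
      congr 1
      ext r
      constructor
      · rintro ⟨hr, hr2, h1, h2, hrE⟩
        obtain ⟨c, rfl⟩ := lift (X.le r hr)
        exact ⟨c, ⟨⟨(hQ c).2 hr, Subtype.ext hr2, hne.2 ⟨h1, h2⟩⟩, fun h => hrE (hmemι.2 h)⟩, rfl⟩
      · rintro ⟨c, ⟨⟨hc, hc2, hcZ⟩, hcE⟩, rfl⟩
        exact ⟨(hQ c).1 hc, congrArg Subtype.val hc2, (hne.1 hcZ).1, (hne.1 hcZ).2, fun h => hcE (hmemι.1 h)⟩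

end Local

end Cfsg.Agent.TransvCent.RecogB
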