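import Cfsg.Agent.Lib.TransvCent.Recog
import Cfsg.Agent.Lib.TransvCent.RecogBFusion
import Cfsg.Agent.Lib.TransvCent.RecogBSeven
import Cfsg.Agent.Lib.Symplectic.Extraspecial
import Cfsg.Agent.Lib.ZStar.IsolatedCenter
import Cfsg.Agent.Lib.ZStar.Unique
import Mathlib.GroupTheory.Solvable

/-!
# Recognition of the coded centraliser from simplicity and the number of conjugates

* `coding_of_simple_count` : in a simple group an involution with 187425 conjugates, whose centraliser is an
  extraspecial group of order `2^7` by `SL(3,2)`, has a coded centraliser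
-/

set_option autoImplicit false
set_option linter.style.haveILetI false
open scoped commutatorElement

namespace Cfsg.Agent.TransvCent

namespace RecogB

open Subgroup

/-- The data at `t` from the data inside its centraliser. -/
theorem exists_local {G : Type*} [Group G] [Finite G] {t : G}
    (D : RecogBase ↥(centralizer ({t} : Set G))) (hDz : (D.z : G) = t) :
    ∃ T : Local t, T.Q = D.Q.map (centralizer ({t} : Set G)).subtype := by
  classical
  haveI := D.normal
  obtain ⟨e⟩ := D.iso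
  let χ : ↥(centralizer ({t} : Set G)) →* Matrix.SpecialLinearGroup (Fin 3) (ZMod 2) := e.toMonoidHom.comp (QuotientGroup.mk' D.Q)
  have hχ : ∀ c, χ c = 1 ↔ c ∈ D.Q := fun c => by
    show e (QuotientGroup.mk' D.Q c) = 1 ↔ _
    rw [MulEquiv.map_eq_one_iff, QuotientGroup.mk'_apply, QuotientGroup.eq_one_iff]
  have hC : ∀ {a : G}, Commute a t → a ∈ centralizer ({t} : Set G) := fun h => mem_centralizer_singleton_iff.2 h
  have hmem : ∀ {c : ↥(centralizer ({t} : Set G))}, (c : G) ∈ D.Q.map (centralizer ({t} : Set G)).subtype ↔ c ∈ D.Q := fun {c} =>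
    mem_map_iff_mem (Subgroup.subtype_injective _)
  have hout : ∀ {c : ↥(centralizer ({t} : Set G))}, c ∈ D.Zs → (c : G) = 1 ∨ (c : G) = t := fun {c} h => by
    rcases RecogBase.mem_Zs _ |>.1 h with h | h
    · exact Or.inl (congrArg Subtype.val h)
    · exact Or.inr ((congrArg Subtype.val h).trans hDz)
  refine ⟨{
    Q := D.Q.map (centralizer ({t} : Set G)).subtype
    θ := fun a => if h : Commute a t then χ ⟨a, hC h⟩ else 1
    θ_mul := fun a b ha hb => ?_
    θ_ker := fun a ha => ?_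
    θ_surj := fun l => ?_
    le := ?_
    mem := ?_
    sq_x := ?_
    ne_one := ?_
    card := ?_
    central := ?_
    comm := ?_
    sq := ?_
    dual := ?_ }, rfl⟩
  · simp only [dif_pos ha, dif_pos hb, dif_pos (ha.mul_left hb), ← map_mul]
    rfl
  · simp only [dif_pos ha, hχ]
    exact (hmem (c := ⟨a, hC ha⟩)).symm
  · obtain ⟨v, rfl⟩ := e.surjective l
    obtain ⟨c, rfl⟩ := QuotientGroup.mk'_surjective D.Q v
    have hc : Commute (c : G) t := mem_centralizer_singleton_iff.1 c.2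
    exact ⟨c, hc, by simp only [dif_pos hc]; rfl⟩
  · rintro _ ⟨c, -, rfl⟩
    exact mem_centralizer_singleton_iff.1 c.2
  · exact ⟨D.z, D.z_mem, hDz⟩
  · rw [← hDz]; exact congrArg Subtype.val D.z_sq
  · rw [← hDz]; exact fun h => D.z_ne (Subtype.ext h)
  · rw [← Nat.card_congr (D.Q.equivMapOfInjective (centralizer ({t} : Set G)).subtype (Subgroup.subtype_injective _)).toEquiv, D.cardQ]
  · rintro _ ⟨c, hc, rfl⟩ h
    exact hout (D.central_mem_Zs hc fun r hr => Subtype.ext (h (r : G) (hmem.2 hr)).eq.symm)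
  · rintro _ ⟨c, hc, rfl⟩ _ ⟨d, hd, rfl⟩
    exact hout (D.comm_mem_Zs hc hd)
  · rintro _ ⟨c, hc, rfl⟩
    exact hout (D.sq_mem_Zs hc)
  · intro W hW htW
    set φ : ↥D.Q →* G := (centralizer ({t} : Set G)).subtype.comp D.Q.subtype with hφdef
    have hφ : Function.Injective φ := (Subgroup.subtype_injective _).comp (Subgroup.subtype_injective _)
    have hrange : φ.range = D.Q.map (centralizer ({t} : Set G)).subtype := by
      rw [hφdef, MonoidHom.range_comp, Subgroup.range_subtype]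
    have hW' : (W.comap φ).map φ = W := map_comap_eq_self (hrange ▸ hW)
    have hz : center ↥D.Q ≤ W.comap φ := by
      intro c hc
      rcases hout (D.central_mem_Zs c.2 fun r hr =>
        congrArg Subtype.val (mem_center_iff.1 hc ⟨r, hr⟩)) with h | h
      · show φ c ∈ W
        rw [show φ c = 1 from h]; exact one_mem _
      · show φ c ∈ W
        rw [show φ c = t from h]; exact htW
    have hd := Symplectic.card_centralizer_mul D.ext hz
    have e1 : (centralizer ((W.comap φ : Subgroup ↥D.Q) : Set ↥D.Q)).map φ =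
        D.Q.map (centralizer ({t} : Set G)).subtype ⊓ centralizer (W : Set G) := by
      ext g
      constructor
      · rintro ⟨c, hc, rfl⟩
        refine ⟨⟨c, c.2, rfl⟩, fun w hw => ?_⟩
        rw [← hW'] at hw
        obtain ⟨w', hw', rfl⟩ := hw
        show φ w' * φ c = φ c * φ w'
        rw [← map_mul, ← map_mul, hc w' hw']
      · rintro ⟨⟨c, hc, rfl⟩, hg⟩
        refine ⟨⟨c, hc⟩, fun w hw => hφ ?_, rfl⟩
        rw [map_mul, map_mul]
        exact hg (φ w) hw
    rw [← e1, Nat.card_congr ((centralizer ((W.comap φ : Subgroup ↥D.Q) : Set ↥D.Q)).equivMapOfInjective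
      φ hφ).toEquiv.symm]
    have e2 : Nat.card W = Nat.card (W.comap φ) := by
      have h := Nat.card_congr ((W.comap φ).equivMapOfInjective φ hφ).toEquiv
      rw [hW'] at h
      exact h.symm
    rw [e2, hd, D.cardQ]

end RecogB

/-- **Recognition from simplicity.** -/
theorem coding_of_simple_count {G : Type*} [Group G] [Finite G] [IsSimpleGroup G] {t : G} (ht : orderOf t = 2)
    (Q : Subgroup ↥(Subgroup.centralizer ({t} : Set G))) [Q.Normal] (hQ : Cfsg.IsExtraspecial 2 Q)
    (hcard : Nat.card Q = 2 ^ 7)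
    (hself : Subgroup.centralizer (Q : Set ↥(Subgroup.centralizer ({t} : Set G))) ≤ Q)
    (e : ↥(Subgroup.centralizer ({t} : Set G)) ⧸ Q ≃* Matrix.SpecialLinearGroup (Fin 3) (ZMod 2))
    (hG : Nat.card G = 4030387200) : Nonempty (Coding t) := by
  classical
  let zC : ↥(Subgroup.centralizer ({t} : Set G)) := ⟨t, Subgroup.mem_centralizer_singleton_iff.2 rfl⟩
  have ht2 : t * t = 1 := by rw [← pow_two, ← ht]; exact pow_orderOf_eq_one t
  have ht1 : t ≠ 1 := fun h => by rw [h, orderOf_one] at ht; omega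
  have hzcomm : ∀ g : ↥(Subgroup.centralizer ({t} : Set G)), g * zC = zC * g := fun g =>
    Subtype.ext (Subgroup.mem_centralizer_singleton_iff.1 g.2)
  let B : RecogBase ↥(Subgroup.centralizer ({t} : Set G)) :=
    { z := zC
      Q := Q
      normal := inferInstance
      z_mem := hself (Subgroup.mem_centralizer_iff.2 fun q _ => hzcomm q)
      z_sq := Subtype.ext ht2
      z_ne := fun h => ht1 (congrArg Subtype.val h)
      z_comm := hzcomm
      cardQ := hcard.trans (by norm_num)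
      ext := hQ
      self_cent := fun g h => hself (Subgroup.mem_centralizer_iff.2 fun q hq => (h q hq).symm)
      iso := ⟨e⟩ }
  obtain ⟨T, hTQ⟩ := RecogB.exists_local B rfl
  have hTmem : ∀ {c : ↥(Subgroup.centralizer ({t} : Set G))}, (c : G) ∈ T.Q ↔ c ∈ Q := fun {c} => by
    rw [hTQ]; exact Subgroup.mem_map_iff_mem (Subgroup.subtype_injective _)
  have hTC : ∀ {a : G}, Commute a t → a ∈ Subgroup.centralizer ({t} : Set G) := fun h => Subgroup.mem_centralizer_singleton_iff.2 h
  have hTself : ∀ c : G, Commute c t → (∀ r ∈ T.Q, Commute c r) → c ∈ T.Q := fun c hc h =>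
    (hTmem (c := ⟨c, hTC hc⟩)).2 (B.self_cent ⟨c, hTC hc⟩ fun q hq => Subtype.ext (h q (hTmem.2 hq)))
  -- the class of `t`
  have hcount : {w | IsConj t w}.ncard = 187425 := by
    have h := RecogB.Local.card_orbit (⊤ : Subgroup G) {w | IsConj t w} t
      (fun h _ => isConj_iff.2 ⟨h, rfl⟩)
      (fun s hs => by obtain ⟨g, hg⟩ := isConj_iff.1 hs; exact ⟨g, Subgroup.mem_top g, hg⟩)
    rw [Subgroup.card_top, hG, top_inf_eq, T.card_centralizer] at h
    omega
  -- `t` is not isolated
  have hfused : ∃ a ∈ T.Q, a ≠ t ∧ IsConj t a := by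
    have hO : Cfsg.pPrimeCore 2 G = ⊥ := by
      refine (Subgroup.Normal.eq_bot_or_eq_top (Cores.pPrimeCore_normal 2 G)).resolve_right fun h => ?_
      have h1 := Cores.coprime_card_pPrimeCore (G := G) 2
      rw [h, Subgroup.card_top] at h1
      exact absurd (Nat.eq_one_of_dvd_coprimes h1 (ht ▸ orderOf_dvd_natCard t) dvd_rfl) (by norm_num)
    have hnot : ¬ Cfsg.IsIsolatedInvolution t := fun hiso => by
      have h := ZStar.isolated_mem_center ZStar.uniqueInvolution hiso hO
      have hall : ∀ g : G, g ∈ Subgroup.centralizer ({t} : Set G) := fun g => hTC (Subgroup.mem_center_iff.1 h g)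
      have := T.card_centralizer
      rw [show Subgroup.centralizer ({t} : Set G) = ⊤ from (Subgroup.eq_top_iff' _).2 hall,
        Subgroup.card_top, hG] at this
      omega
    simp only [Cfsg.IsIsolatedInvolution, ht, true_and, not_forall] at hnot
    obtain ⟨g, hg, hne⟩ := hnot
    exact T.exists_fused (isConj_iff.2 ⟨g, rfl⟩) hne hg
  obtain ⟨E, F, hEQ, hFQ, htE, htF, hEF, hE, hF, hEs, hFs, hEn, hEtr, hfaith, hcases⟩ := T.orbit_shape hTself
  rcases hcases with ⟨hFn, hFtr, -, h28⟩ | ⟨htr, h56⟩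
  swap
  · exact (T.not_uniserial hEQ htE hE hEs hEn hEtr htr h56 hfused hcount).elim
  have hsplit : ∀ a ∈ T.Q, a ≠ t → IsConj t a → a ∈ E ∨ a ∈ F := fun a h1 h2 h3 =>
    T.mem_split hEQ hFQ htE htF hEF hE hF hEs hEn hFn hfaith h1 h2 h3
  -- the marked involutions
  let S : Set ↥(Subgroup.centralizer ({t} : Set G)) := {c | ((c : G) ∈ E ∨ (c : G) ∈ F) ∧ c ≠ 1 ∧ c ≠ zC}
  have hval : ∀ {c : ↥(Subgroup.centralizer ({t} : Set G))}, (c ≠ 1 ↔ (c : G) ≠ 1) ∧ (c ≠ zC ↔ (c : G) ≠ t) := fun {c} =>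
    ⟨not_congr ⟨fun h => congrArg Subtype.val h, fun h => Subtype.ext h⟩,
      not_congr ⟨fun h => congrArg Subtype.val h, fun h => Subtype.ext h⟩⟩
  have hcj : ∀ {H : Subgroup G}, (∀ c, Commute c t → ∀ u ∈ H, c * u * c⁻¹ ∈ H) → ∀ (g : ↥(Subgroup.centralizer ({t} : Set G))) {c : ↥(Subgroup.centralizer ({t} : Set G))},
      (c : G) ∈ H → ((g * c * g⁻¹ : ↥(Subgroup.centralizer ({t} : Set G))) : G) ∈ H := fun hn g c hc => by
    push_cast; exact hn g (Subgroup.mem_centralizer_singleton_iff.1 g.2) c hc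
  have hScard : S.ncard = 28 := by
    rw [← h28]
    refine Set.ncard_congr (fun c _ => (c : G)) ?_ (fun a b _ _ h => Subtype.ext h) ?_
    · rintro c ⟨hc, h1, h2⟩
      exact ⟨hc.elim (fun h => hEQ h) (fun h => hFQ h), hc, hval.1.1 h1, hval.2.1 h2⟩
    · rintro r ⟨hr, hEF', h1, h2⟩
      exact ⟨⟨r, hTC (T.le r hr)⟩, ⟨hEF', hval.1.2 h1, hval.2.2 h2⟩, rfl⟩
  let D : RecogSetting ↥(Subgroup.centralizer ({t} : Set G)) :=
    { B with
      S := S
      S_mem := fun c hc => ⟨hTmem.1 (hc.1.elim (fun h => hEQ h) (fun h => hFQ h)),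
        Subtype.ext (hc.1.elim (hEs _) (hFs _)), hc.2.1, hc.2.2⟩
      S_conj := fun g c hc => ⟨hc.1.imp (hcj hEn g) (hcj hFn g), fun h => hc.2.1 (conj_eq_one_iff.1 h),
        fun h => hc.2.2 (by
          have h2 : g * c * g⁻¹ = g * zC * g⁻¹ := by rw [h, hzcomm, mul_inv_cancel_right]
          exact mul_left_cancel (mul_right_cancel h2))⟩
      S_card := hScard }
  -- a fused half
  obtain ⟨a, haQ, hat, hac⟩ := hfused
  obtain ⟨H, hHEF, haH, hHall⟩ : ∃ H : Subgroup G, (H = E ∨ H = F) ∧ a ∈ H ∧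
      ∀ u ∈ H, u ≠ 1 → u ≠ t → IsConj t u := by
    have ha1 : a ≠ 1 := fun h => ht1 (by
      obtain ⟨g, hg⟩ := isConj_iff.1 hac
      rw [h] at hg
      exact conj_eq_one_iff.1 hg)
    rcases hsplit a haQ hat hac with h | h
    · refine ⟨E, Or.inl rfl, h, fun u hu hu1 hut => ?_⟩
      obtain ⟨c, -, hc⟩ := hEtr a h ha1 hat u hu hu1 hut
      exact hac.trans (isConj_iff.2 ⟨c, hc⟩)
    · refine ⟨F, Or.inr rfl, h, fun u hu hu1 hut => ?_⟩
      obtain ⟨c, -, hc⟩ := hFtr a h ha1 hat u hu hu1 hut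
      exact hac.trans (isConj_iff.2 ⟨c, hc⟩)
  let aC : ↥(Subgroup.centralizer ({t} : Set G)) := ⟨a, hTC (T.le a haQ)⟩
  have ha1 : (a : G) ≠ 1 := fun h => ht1 (by
    obtain ⟨g, hg⟩ := isConj_iff.1 hac
    rw [h] at hg
    exact conj_eq_one_iff.1 hg)
  have haS : aC ∈ D.S := ⟨hsplit a haQ hat hac, hval.1.2 ha1, hval.2.2 hat⟩
  obtain ⟨P, haP⟩ : ∃ P : D.Split, aC ∈ P.E := by
    obtain ⟨P⟩ := D.exists_split
    rcases P.cover aC haS with h | h
    · exact ⟨P, h⟩
    · exact ⟨P.swap, h⟩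
  have hPH : ∀ u ∈ P.E, (u : G) ∈ H := by
    have hcov : ∀ u ∈ P.E, (u : G) ∈ E ∨ (u : G) ∈ F := fun u hu => by
      by_cases hz : u ∈ D.Zs
      · rcases hz with h | h
        · exact Or.inl (by rw [h]; exact E.one_mem)
        · exact Or.inl (by rw [h]; exact htE)
      · exact (P.E_S u hu hz).1
    have hsub : (∀ u ∈ P.E, (u : G) ∈ E) ∨ ∀ u ∈ P.E, (u : G) ∈ F := by
      by_contra hno
      simp only [not_or, not_forall, exists_prop] at hno
      obtain ⟨⟨u, hu, huE⟩, v, hv, hvF⟩ := hno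
      have huF := (hcov u hu).resolve_left huE
      have hvE := (hcov v hv).resolve_right hvF
      rcases hcov (u * v) (mul_mem hu hv) with h | h
      · exact huE (by simpa using mul_mem h (E.inv_mem hvE))
      · exact hvF (by simpa using mul_mem (F.inv_mem huF) h)
    have hnot : ¬ (a ∈ E ∧ a ∈ F) := fun h => by
      have : a ∈ Subgroup.zpowers t := hEF ▸ h
      obtain ⟨k, hk⟩ := Subgroup.mem_zpowers_iff.1 this
      rcases Int.even_or_odd k with ⟨l, hl⟩ | ⟨l, hl⟩
      · exact ha1 (by rw [← hk, hl, ← two_mul, zpow_mul, zpow_two, ht2, one_zpow])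
      · exact hat (by rw [← hk, hl, zpow_add_one, zpow_mul, zpow_two, ht2, one_zpow, one_mul])
    intro u hu
    rcases hHEF with rfl | rfl <;> rcases hsub with h | h
    · exact h u hu
    · exact absurd ⟨haH, h aC haP⟩ hnot
    · exact absurd ⟨h aC haP, haH⟩ hnot
    · exact h u hu
  refine RecogSetting.coding_of_split D P (Subgroup.centralizer ({t} : Set G)).subtype (Subgroup.subtype_injective _)
    (fun g hg => ⟨⟨g, Subgroup.mem_centralizer_singleton_iff.2 hg⟩, rfl⟩)
    (fun u hu hz => ?_) (fun u hu huc hne => ?_)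
  · have h1 : u ≠ 1 := fun h => hz (h ▸ one_mem _)
    have h2 : u ≠ zC := fun h => hz (h ▸ D.z_mem_Zs)
    exact (hHall _ (hPH u hu) (hval.1.1 h1) (hval.2.1 h2)).symm
  · have hc : IsConj t (u : G) := huc.symm
    refine ⟨hsplit _ (hTmem.2 hu) (hval.2.1 hne) hc, fun h => ht1 ?_, hne⟩
    obtain ⟨g, hg⟩ := isConj_iff.1 hc
    rw [h] at hg
    exact conj_eq_one_iff.1 hg

end Cfsg.Agent.TransvCent
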