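import Cfsg.Agent.Lib.TransvCent.RecogBLocal

/-!
# Recognition from simplicity: an involution acting on the radical

* `Local.exists_KI` : for an involution `y` outside the radical, the elements it centralises modulo the centre (`K`)
  and its commutators (`I`): `|K| |I| = 256`, `32 ≤ |K|`, `I = C_Q(K)`
-/

set_option autoImplicit false

namespace Cfsg.Agent.TransvCent.RecogB

open Subgroup

namespace Local

variable {G : Type*} [Group G] {x : G} (X : Local x)

/-- The centre inside the radical. -/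
def Zq : Subgroup X.Q := zpowers (⟨x, X.mem⟩ : X.Q)

theorem mem_Zq_iff {q : X.Q} : q ∈ X.Zq ↔ (q : G) = 1 ∨ (q : G) = x := by
  constructor
  · intro h
    obtain ⟨k, rfl⟩ := mem_zpowers_iff.1 h
    rcases Int.even_or_odd k with ⟨l, hl⟩ | ⟨l, hl⟩
    · left; rw [SubgroupClass.coe_zpow, hl, ← two_mul, zpow_mul, zpow_two, X.sq_x, one_zpow]
    · right; rw [SubgroupClass.coe_zpow, hl, zpow_add_one, zpow_mul, zpow_two, X.sq_x, one_zpow, one_mul]
  · rintro (h | h)
    · rw [show q = 1 from Subtype.ext h]; exact one_mem _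
    · rw [show q = ⟨x, X.mem⟩ from Subtype.ext h]; exact mem_zpowers _

instance Zq_normal : X.Zq.Normal := by
  refine ⟨fun q hq g => ?_⟩
  rw [mem_Zq_iff] at hq ⊢
  rcases hq with h | h
  · left; simp [h]
  · right; simp [h, (X.le g g.2).eq]

theorem card_Zq : Nat.card X.Zq = 2 := by
  rw [Zq, Nat.card_zpowers]
  exact orderOf_eq_prime (hp := ⟨Nat.prime_two⟩) (by rw [pow_two]; exact Subtype.ext X.sq_x)
    (fun h => X.ne_one (congrArg Subtype.val h))

/-- The radical modulo the centre. -/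
abbrev V := ↥X.Q ⧸ X.Zq

theorem mk_eq_mk {p q : X.Q} : (p : X.V) = q ↔ (p : G)⁻¹ * q = 1 ∨ (p : G)⁻¹ * q = x := by
  rw [QuotientGroup.eq, mem_Zq_iff]; simp

theorem V_comm (v w : X.V) : v * w = w * v := by
  obtain ⟨p, rfl⟩ := QuotientGroup.mk_surjective v
  obtain ⟨q, rfl⟩ := QuotientGroup.mk_surjective w
  rw [← QuotientGroup.mk_mul, ← QuotientGroup.mk_mul, mk_eq_mk]
  have e : ((p * q : X.Q) : G)⁻¹ * ((q * p : X.Q) : G) =
      (q : G)⁻¹ * (p : G)⁻¹ * (q : G)⁻¹⁻¹ * (p : G)⁻¹⁻¹ := by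
    push_cast; group
  rw [e]
  exact X.comm _ (inv_mem q.2) _ (inv_mem p.2)

theorem V_sq (v : X.V) : v * v = 1 := by
  obtain ⟨p, rfl⟩ := QuotientGroup.mk_surjective v
  rw [← QuotientGroup.mk_mul, QuotientGroup.eq_one_iff, mem_Zq_iff]
  exact X.sq p p.2

theorem card_V [Finite G] : Nat.card X.V = 64 := by
  have h := X.Zq.card_eq_card_quotient_mul_card_subgroup
  rw [X.card, X.card_Zq] at h
  change 128 = Nat.card X.V * 2 at h
  omega

/-- Conjugation into the quotient. -/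
def cq {c : G} (hc : Commute c x) : ↥X.Q →* X.V where
  toFun q := ((⟨c * q * c⁻¹, X.norm hc q.2⟩ : X.Q) : X.V)
  map_one' := by
    rw [show (⟨c * ((1 : X.Q) : G) * c⁻¹, X.norm hc (1 : X.Q).2⟩ : X.Q) = 1 from Subtype.ext (by simp)]
    rfl
  map_mul' p q := by
    rw [← QuotientGroup.mk_mul]
    refine congrArg QuotientGroup.mk (Subtype.ext ?_)
    push_cast; group

/-- The commutator with `c`, modulo the centre. -/
def dl {c : G} (hc : Commute c x) : ↥X.Q →* X.V where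
  toFun q := X.cq hc q * (q : X.V)
  map_one' := by simp
  map_mul' p q := by
    rw [map_mul, QuotientGroup.mk_mul, mul_assoc, ← mul_assoc (X.cq hc q), V_comm X (X.cq hc q) (p : X.V),
      mul_assoc, ← mul_assoc]

theorem Zq_le_ker {c : G} (hc : Commute c x) : X.Zq ≤ (X.dl hc).ker := by
  intro q hq
  show X.cq hc q * (q : X.V) = 1
  have h1 : c * (q : G) * c⁻¹ = q := by
    rcases (X.mem_Zq_iff).1 hq with h | h <;> rw [h]
    · simp
    · rw [hc.eq, mul_inv_cancel_right]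
  have : X.cq hc q = (q : X.V) := congrArg QuotientGroup.mk (Subtype.ext h1)
  rw [this, V_sq]

/-- The commutator with `c` on the quotient. -/
def dV {c : G} (hc : Commute c x) : X.V →* X.V := QuotientGroup.lift X.Zq (X.dl hc) (X.Zq_le_ker hc)

theorem dV_mk {c : G} (hc : Commute c x) (q : X.Q) : X.dV hc q = X.cq hc q * (q : X.V) := rfl

theorem dV_dV {c : G} (hc : Commute c x) (v : X.V) :
    X.dV hc (X.dV hc v) = X.dV (hc.mul_left hc) v := by
  obtain ⟨q, rfl⟩ := QuotientGroup.mk_surjective v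
  rw [dV_mk, dV_mk, map_mul, dV_mk, show X.cq hc q = ((⟨c * q * c⁻¹, X.norm hc q.2⟩ : X.Q) : X.V) from rfl,
    dV_mk]
  have e : X.cq hc ⟨c * q * c⁻¹, X.norm hc q.2⟩ = X.cq (hc.mul_left hc) q :=
    congrArg QuotientGroup.mk (Subtype.ext (show c * (c * (q : G) * c⁻¹) * c⁻¹ = c * c * q * (c * c)⁻¹ by group))
  rw [e]
  set a := X.cq (hc.mul_left hc) q
  set b : X.V := ((⟨c * q * c⁻¹, X.norm hc q.2⟩ : X.Q) : X.V)
  set d : X.V := (q : X.V)
  calc a * b * (b * d) = a * (b * b) * d := by simp only [mul_assoc]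
    _ = a * d := by rw [V_sq, mul_one]

theorem cq_congr {c d : G} (hc : Commute c x) (hd : Commute d x) (h : c * d⁻¹ ∈ X.Q) (q : X.Q) :
    X.cq hc q = X.cq hd q := by
  refine (mk_eq_mk X).2 ?_
  have hr := X.norm hd q.2
  have e : (c * (q : G) * c⁻¹)⁻¹ * (d * (q : G) * d⁻¹) =
      (c * d⁻¹) * (d * q * d⁻¹)⁻¹ * (c * d⁻¹)⁻¹ * (d * q * d⁻¹)⁻¹⁻¹ := by group
  show (c * (q : G) * c⁻¹)⁻¹ * (d * q * d⁻¹) = 1 ∨ (c * (q : G) * c⁻¹)⁻¹ * (d * q * d⁻¹) = x
  rw [e]
  exact X.comm _ h _ (inv_mem hr)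

theorem dV_congr {c d : G} (hc : Commute c x) (hd : Commute d x) (h : c * d⁻¹ ∈ X.Q) :
    X.dV hc = X.dV hd := by
  refine MonoidHom.ext fun v => ?_
  obtain ⟨q, rfl⟩ := QuotientGroup.mk_surjective v
  rw [dV_mk, dV_mk, cq_congr X hc hd h]

/-- The centralised part and the commutators of an involution outside the radical. -/
theorem exists_KI [Finite G] {y : G} (hy : Commute y x) (hy2 : y * y = 1) (hyQ : y ∉ X.Q) :
    ∃ K I : Subgroup G, K ≤ X.Q ∧ I ≤ X.Q ∧ x ∈ K ∧ x ∈ I ∧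
      (∀ q, q ∈ K ↔ q ∈ X.Q ∧ (y * q * y⁻¹ * q⁻¹ = 1 ∨ y * q * y⁻¹ * q⁻¹ = x)) ∧
      (∀ i, i ∈ I ↔ ∃ q ∈ X.Q, i = y * q * y⁻¹ * q⁻¹ ∨ i = y * q * y⁻¹ * q⁻¹ * x) ∧
      I ≤ K ∧ 32 ≤ Nat.card K ∧ Nat.card K * Nat.card I = 256 ∧
      I = X.Q ⊓ centralizer (K : Set G) := by
  set δ := X.dl hy
  have hδ : ∀ q : X.Q, δ q = ((⟨y * q * y⁻¹, X.norm hy q.2⟩ * q : X.Q) : X.V) := fun q =>
    (QuotientGroup.mk_mul _ _ _).symm
  have key : ∀ q : X.Q, δ q = ((⟨y * q * y⁻¹ * (q : G)⁻¹, mul_mem (X.norm hy q.2) (inv_mem q.2)⟩ : X.Q) : X.V) := by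
    intro q
    have hq : ((q : X.V))⁻¹ = (q : X.V) := inv_eq_of_mul_eq_one_right (V_sq X _)
    rw [hδ, QuotientGroup.mk_mul, ← hq, ← QuotientGroup.mk_inv, ← QuotientGroup.mk_mul]
    exact congrArg QuotientGroup.mk (Subtype.ext rfl)
  set K : Subgroup G := δ.ker.map X.Q.subtype
  set I : Subgroup G := (δ.range.comap (QuotientGroup.mk' X.Zq)).map X.Q.subtype
  have hK : ∀ q, q ∈ K ↔ q ∈ X.Q ∧ (y * q * y⁻¹ * q⁻¹ = 1 ∨ y * q * y⁻¹ * q⁻¹ = x) := by
    intro q
    constructor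
    · rintro ⟨p, hp, rfl⟩
      refine ⟨p.2, ?_⟩
      have := hp
      rw [SetLike.mem_coe, MonoidHom.mem_ker, key, QuotientGroup.eq_one_iff, mem_Zq_iff] at this
      exact this
    · rintro ⟨hq, h⟩
      refine ⟨⟨q, hq⟩, ?_, rfl⟩
      rw [SetLike.mem_coe, MonoidHom.mem_ker, key, QuotientGroup.eq_one_iff, mem_Zq_iff]
      exact h
  have hI : ∀ i, i ∈ I ↔ ∃ q ∈ X.Q, i = y * q * y⁻¹ * q⁻¹ ∨ i = y * q * y⁻¹ * q⁻¹ * x := by
    intro i
    constructor
    · rintro ⟨p, hp, rfl⟩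
      obtain ⟨q, hq⟩ := hp
      rw [key, QuotientGroup.mk'_apply, mk_eq_mk] at hq
      refine ⟨q, q.2, ?_⟩
      rcases hq with hq | hq
      · exact Or.inl (inv_mul_eq_one.1 hq).symm
      · exact Or.inr (inv_mul_eq_iff_eq_mul.1 hq)
    · rintro ⟨q, hq, h⟩
      have hm : i ∈ X.Q := by
        rcases h with rfl | rfl
        · exact mul_mem (X.norm hy hq) (inv_mem hq)
        · exact mul_mem (mul_mem (X.norm hy hq) (inv_mem hq)) X.mem
      refine ⟨⟨i, hm⟩, ⟨⟨q, hq⟩, ?_⟩, rfl⟩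
      rw [key, QuotientGroup.mk'_apply, mk_eq_mk]
      rcases h with h | h
      · exact Or.inl (inv_mul_eq_one.2 h.symm)
      · exact Or.inr (inv_mul_eq_iff_eq_mul.2 h)
  have hcK : Nat.card K = Nat.card δ.ker :=
    (Nat.card_congr (δ.ker.equivMapOfInjective _ Subtype.val_injective).toEquiv).symm
  have hcI : Nat.card I = 2 * Nat.card δ.range := by
    rw [← Nat.card_congr ((δ.range.comap (QuotientGroup.mk' X.Zq)).equivMapOfInjective _
      Subtype.val_injective).toEquiv]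
    have h1 := (δ.range.comap (QuotientGroup.mk' X.Zq)).card_mul_index
    have h2 := δ.range.card_mul_index
    rw [index_comap_of_surjective _ (QuotientGroup.mk'_surjective _), X.card] at h1
    rw [X.card_V] at h2
    have hpos : 0 < δ.range.index := Nat.pos_of_ne_zero index_ne_zero_of_finite
    refine Nat.eq_of_mul_eq_mul_right hpos ?_
    rw [h1, mul_assoc, h2]; norm_num
  have hKI : Nat.card K * Nat.card I = 256 := by
    have h1 := δ.ker.card_mul_index
    rw [index_ker, X.card] at h1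
    rw [hcK, hcI, mul_left_comm, h1]; norm_num
  -- the root
  have hi : X.θ y * X.θ y = 1 := by rw [← X.θ_mul _ _ hy hy, hy2, θ_one]
  obtain ⟨l, hl⟩ := exists_root hi fun e => hyQ ((X.θ_ker y hy).1 e)
  obtain ⟨s, hs, rfl⟩ := X.θ_surj l
  have hss : Commute (s * s) x := hs.mul_left hs
  have hsy : s * s * y⁻¹ ∈ X.Q := (X.θ_eq_iff hss hy).1 (by rw [X.θ_mul _ _ hs hs, hl])
  have h4 : ∀ v, X.dV hs (X.dV hs (X.dV hs (X.dV hs v))) = 1 := by
    intro v
    rw [dV_dV, dV_dV, dV_congr X hss hy hsy, dV_dV, dV_congr X (hy.mul_left hy) (Commute.one_left x)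
      (by rw [hy2]; simp)]
    obtain ⟨q, rfl⟩ := QuotientGroup.mk_surjective v
    rw [dV_mk, show X.cq (Commute.one_left x) q = (q : X.V) from
      congrArg QuotientGroup.mk (Subtype.ext (by simp)), V_sq]
  have h16 := ker_sq_large X.card_V (X.dV hs) h4
  have hdd : (X.dV hs).comp (X.dV hs) = X.dV hy := MonoidHom.ext fun v => by
    rw [MonoidHom.comp_apply, dV_dV, dV_congr X hss hy hsy]
  rw [hdd] at h16
  have h32 : 32 ≤ Nat.card K := by
    have hcm : δ.ker = (X.dV hy).ker.comap (QuotientGroup.mk' X.Zq) := rfl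
    have h1 := ((X.dV hy).ker.comap (QuotientGroup.mk' X.Zq)).card_mul_index
    have h2 := (X.dV hy).ker.card_mul_index
    rw [index_comap_of_surjective _ (QuotientGroup.mk'_surjective _), X.card, ← hcm, ← hcK] at h1
    rw [X.card_V] at h2
    have hpos : 0 < (X.dV hy).ker.index := Nat.pos_of_ne_zero index_ne_zero_of_finite
    have h3 : Nat.card K = 2 * Nat.card (X.dV hy).ker :=
      Nat.eq_of_mul_eq_mul_right hpos (by rw [h1, mul_assoc, h2]; norm_num)
    omega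
  have hKQ : K ≤ X.Q := fun q hq => ((hK q).1 hq).1
  have hIQ : I ≤ X.Q := by rintro _ ⟨p, -, rfl⟩; exact p.2
  have hxK : x ∈ K := (hK x).2 ⟨X.mem, Or.inl (by rw [hy.eq, mul_inv_cancel_right, mul_inv_cancel])⟩
  have hxI : x ∈ I := (hI x).2 ⟨1, one_mem _, Or.inr (by simp)⟩
  -- commutators commute with the centralised part
  have hperp : I ≤ centralizer (K : Set G) := by
    intro i hi k hk
    obtain ⟨hkQ, hk'⟩ := (hK k).1 hk
    obtain ⟨q, hq, hi⟩ := (hI i).1 hi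
    show Commute k i
    suffices h : Commute k (y * q * y⁻¹ * q⁻¹) by
      rcases hi with rfl | rfl
      · exact h
      · exact h.mul_right (X.le k hkQ)
    obtain ⟨e, hexv, hye⟩ : ∃ e, (e = 1 ∨ e = x) ∧ y * k * y⁻¹ = e * k := by
      refine ⟨y * k * y⁻¹ * k⁻¹, hk', by group⟩
    have hec : ∀ a ∈ X.Q, Commute e a := fun a ha => by
      rcases hexv with rfl | rfl
      · exact Commute.one_left a
      · exact (X.le a ha).symm
    obtain ⟨ε, hε, hkq⟩ : ∃ ε, (ε = 1 ∨ ε = x) ∧ k * q = ε * q * k := by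
      refine ⟨k * q * k⁻¹ * q⁻¹, X.comm k hkQ q hq, by group⟩
    have hεy : y * ε * y⁻¹ = ε := by
      rcases hε with rfl | rfl
      · simp
      · rw [hy.eq, mul_inv_cancel_right]
    have h1 : k * (y * q * y⁻¹) = ε * (y * q * y⁻¹) * k := by
      have h2 : (y * k * y⁻¹) * (y * q * y⁻¹) = ε * (y * q * y⁻¹) * (y * k * y⁻¹) := by
        calc (y * k * y⁻¹) * (y * q * y⁻¹) = y * (k * q) * y⁻¹ := by group
          _ = y * ε * y⁻¹ * (y * q * y⁻¹) * (y * k * y⁻¹) := by rw [hkq]; group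
          _ = _ := by rw [hεy]
      have hm := X.norm hy hq
      have he2 : ε * (y * q * y⁻¹) ∈ X.Q := by
        rcases hε with rfl | rfl
        · rwa [one_mul]
        · exact mul_mem X.mem hm
      rw [hye, mul_assoc e, ← mul_assoc (ε * _) e, ← (hec _ he2).eq, mul_assoc e] at h2
      exact mul_left_cancel h2
    have h3 : k * q⁻¹ = ε⁻¹ * q⁻¹ * k := by
      have hεq : Commute q ε := by
        rcases hε with rfl | rfl
        · exact Commute.one_right q
        · exact X.le q hq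
      calc k * q⁻¹ = ε⁻¹ * q⁻¹ * (ε * q * k) * q⁻¹ := by
            rw [show ε⁻¹ * q⁻¹ * (ε * q * k) * q⁻¹ = ε⁻¹ * (q⁻¹ * (ε * q)) * (k * q⁻¹) by group,
              ← hεq.eq]
            group
        _ = ε⁻¹ * q⁻¹ * k := by rw [← hkq]; group
    have hε2 : ∀ a ∈ X.Q, Commute ε a := fun a ha => by
      rcases hε with rfl | rfl
      · exact Commute.one_left a
      · exact (X.le a ha).symm
    show k * (y * q * y⁻¹ * q⁻¹) = y * q * y⁻¹ * q⁻¹ * k
    calc k * (y * q * y⁻¹ * q⁻¹) = ε * (y * q * y⁻¹) * (k * q⁻¹) := by rw [← mul_assoc, h1]; group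
      _ = ε * ((y * q * y⁻¹) * ε⁻¹) * q⁻¹ * k := by rw [h3]; group
      _ = _ := by rw [((hε2 _ (X.norm hy hq)).symm.inv_right).eq]; group
  have hIeq : I = X.Q ⊓ centralizer (K : Set G) := by
    refine eq_of_le_of_card_ge (le_inf hIQ hperp) ?_
    have hd := X.dual K hKQ hxK
    rw [← hKI, mul_comm] at hd
    exact (Nat.eq_of_mul_eq_mul_left (by omega) hd).le
  have hIK : I ≤ K := by
    intro i hi
    refine (hK i).2 ⟨hIQ hi, ?_⟩
    obtain ⟨q, hq, h⟩ := (hI i).1 hi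
    have hy' : y⁻¹ = y := inv_eq_of_mul_eq_one_right hy2
    set c := y * q * y⁻¹ * q⁻¹ with hc
    have hcQ : c ∈ X.Q := mul_mem (X.norm hy hq) (inv_mem hq)
    have hinv : y * c * y⁻¹ = c⁻¹ := by
      rw [hc, hy']
      calc y * (y * q * y * q⁻¹) * y = (y * y) * q * y * q⁻¹ * y := by group
        _ = _ := by rw [hy2]; rw [mul_inv_rev, mul_inv_rev, mul_inv_rev, inv_inv, hy']; group
    have hcc : ∀ d, d = c ∨ d = c * x → y * d * y⁻¹ * d⁻¹ = (c * c)⁻¹ := by
      rintro d (rfl | rfl)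
      · rw [hinv]; group
      · have hxy : y * x * y⁻¹ = x := by rw [hy.eq, mul_inv_cancel_right]
        calc y * (c * x) * y⁻¹ * (c * x)⁻¹ = (y * c * y⁻¹) * (y * x * y⁻¹) * x⁻¹ * c⁻¹ := by group
          _ = _ := by rw [hinv, hxy]; group
    rw [hcc i h]
    rcases X.sq c hcQ with e | e
    · exact Or.inl (by rw [e, inv_one])
    · exact Or.inr (by rw [e, X.inv_x])
  exact ⟨K, I, hKQ, hIQ, hxK, hxI, hK, hI, hIK, h32, hKI, hIeq⟩

end Local

end Cfsg.Agent.TransvCent.RecogB
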