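import Cfsg.Agent.EqLemmas
import Mathlib.LinearAlgebra.Matrix.SpecialLinearGroup
import Mathlib.LinearAlgebra.Matrix.Determinant.Basic
import Mathlib.Data.Set.Card
import Mathlib.Data.ZMod.Basic
import Mathlib.Tactic.FinCases
import Mathlib.Tactic.Ring

/-!
# Recognition from simplicity: finite facts about `SL(3,2)`

* `exists_root` : every involution is a square, and its roots are mutually inverse
* `ncard_comm` : its centraliser has eight elements, not all commuting
* `no_six` : no element has order six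
-/

set_option autoImplicit false

namespace Cfsg.Agent.TransvCent.RecogB

local notation "SL32" => Matrix.SpecialLinearGroup (Fin 3) (ZMod 2)

/-- A three by three table over two elements. -/
abbrev T2 := Fin 3 → Fin 3 → ZMod 2

/-- The product of tables. -/
def mul2 (g h : T2) : T2 := fun i j => g i 0 * h 0 j + g i 1 * h 1 j + g i 2 * h 2 j

/-- The identity table. -/
def one2 : T2 := ![![1, 0, 0], ![0, 1, 0], ![0, 0, 1]]

/-- Powers. -/
def pow2 (g : T2) : ℕ → T2
  | 0 => one2
  | n + 1 => mul2 g (pow2 g n)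

/-- The table of an element. -/
def tab (x : SL32) : T2 := fun i j => (x : Matrix (Fin 3) (Fin 3) (ZMod 2)) i j

theorem tab_mul (x y : SL32) : tab (x * y) = mul2 (tab x) (tab y) := by
  funext i j
  simp [tab, mul2, Matrix.mul_apply, Fin.sum_univ_three]

theorem tab_one : tab 1 = one2 := by
  funext i j
  fin_cases i <;> fin_cases j <;> simp [tab, one2]

theorem tab_pow (x : SL32) : ∀ n : ℕ, tab (x ^ n) = pow2 (tab x) n
  | 0 => by rw [pow_zero, tab_one]; rfl
  | n + 1 => by rw [pow_succ', tab_mul, tab_pow x n]; rfl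

theorem tab_injective : Function.Injective tab := fun x y h =>
  Subtype.ext (Matrix.ext fun i j => congrFun (congrFun h i) j)

theorem exists_tab (t : T2) (h : Matrix.det (Matrix.of t) = 1) : ∃ x : SL32, tab x = t :=
  ⟨⟨Matrix.of t, h⟩, rfl⟩

/-- Determinant of a table. -/
def det2 (t : T2) : ZMod 2 :=
  t 0 0 * (t 1 1 * t 2 2 + t 1 2 * t 2 1) + t 0 1 * (t 1 0 * t 2 2 + t 1 2 * t 2 0) +
    t 0 2 * (t 1 0 * t 2 1 + t 1 1 * t 2 0)

/-- All tables. -/
def allT : List T2 :=
  (List.range 512).map fun n i j => if n.testBit (3 * i.val + j.val) then 1 else 0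

/-- All group tables. -/
def grpT : List T2 := allT.filter fun t => det2 t == 1

/-- The statement about one table. -/
def okT (t : T2) : Bool :=
  (!(decide (mul2 t t = one2) && decide (t ≠ one2))) ||
    (let C := grpT.filter fun l => decide (mul2 l t = mul2 t l)
     let R := C.filter fun l => decide (mul2 l l = t)
     (C.length == 8) && (R.length == 2) && (C.any fun a => C.any fun b => decide (mul2 a b ≠ mul2 b a)))

theorem check_T : (grpT.all fun t => okT t) = true := by decide +kernel

theorem check_six : (grpT.all fun t =>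
    !decide (pow2 t 6 = one2) || decide (pow2 t 2 = one2) || decide (pow2 t 3 = one2)) = true := by
  decide +kernel

theorem nodup_grpT : grpT.Nodup := by decide +kernel

theorem det2_eq (x : SL32) : det2 (tab x) = 1 := by
  have h := x.property
  rw [Matrix.det_fin_three] at h
  have hn : ∀ a : ZMod 2, -a = a := by decide
  simp only [sub_eq_add_neg, hn] at h
  rw [← h]
  simp only [det2, tab]
  ring

theorem mem_allT : ∀ a b c d e f g h i : ZMod 2,
    (![![a, b, c], ![d, e, f], ![g, h, i]] : T2) ∈ allT := by decide +kernel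

theorem tab_mem (x : SL32) : tab x ∈ grpT := by
  refine List.mem_filter.2 ⟨?_, by rw [det2_eq]; rfl⟩
  have h := mem_allT (tab x 0 0) (tab x 0 1) (tab x 0 2) (tab x 1 0) (tab x 1 1) (tab x 1 2) (tab x 2 0)
    (tab x 2 1) (tab x 2 2)
  convert h using 1
  funext i j
  fin_cases i <;> fin_cases j <;> rfl

theorem exists_of_mem {t : T2} (h : t ∈ grpT) : ∃ x : SL32, tab x = t := by
  obtain ⟨-, hd⟩ := List.mem_filter.1 h
  refine exists_tab t ?_
  rw [beq_iff_eq] at hd
  rw [Matrix.det_fin_three]
  have hn : ∀ a : ZMod 2, -a = a := by decide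
  simp only [sub_eq_add_neg, hn, Matrix.of_apply]
  rw [← hd, det2]
  ring

/-- The set form of a filter of `grpT`. -/
theorem ncard_eq_filter (P : SL32 → Prop) (p : T2 → Bool) (h : ∀ x, P x ↔ p (tab x) = true) :
    {x | P x}.ncard = (grpT.filter p).length := by
  classical
  rw [← List.toFinset_card_of_nodup (nodup_grpT.filter p), ← Set.ncard_coe_finset]
  refine Set.ncard_congr (fun x _ => tab x) ?_ (fun a b _ _ e => tab_injective e) ?_
  · intro x hx
    simp only [Finset.mem_coe, List.mem_toFinset, List.mem_filter]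
    exact ⟨tab_mem x, (h x).1 hx⟩
  · intro t ht
    simp only [Finset.mem_coe, List.mem_toFinset, List.mem_filter] at ht
    obtain ⟨x, rfl⟩ := exists_of_mem ht.1
    exact ⟨x, (h x).2 ht.2, rfl⟩

theorem ok_of_invol {i : SL32} (h : i * i = 1) (h1 : i ≠ 1) :
    (grpT.filter fun l => decide (mul2 l (tab i) = mul2 (tab i) l)).length = 8 ∧
      ((grpT.filter fun l => decide (mul2 l (tab i) = mul2 (tab i) l)).filter fun l =>
        decide (mul2 l l = tab i)).length = 2 ∧
      ∃ a b : SL32, a * i = i * a ∧ b * i = i * b ∧ a * b ≠ b * a := by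
  have hk := List.all_eq_true.1 check_T _ (tab_mem i)
  have e1 : mul2 (tab i) (tab i) = one2 := by rw [← tab_mul, h, tab_one]
  have e2 : tab i ≠ one2 := fun e => h1 (tab_injective (e.trans tab_one.symm))
  simp only [okT, Bool.or_eq_true, Bool.not_eq_true', Bool.and_eq_false_iff, decide_eq_false_iff_not,
    Bool.and_eq_true, beq_iff_eq, List.any_eq_true, decide_eq_true_eq, List.mem_filter] at hk
  rcases hk with (hk | hk) | ⟨⟨h8, h2⟩, a, ⟨ha, hai⟩, b, ⟨hb, hbi⟩, hab⟩
  · exact absurd e1 hk
  · exact absurd e2 hk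
  refine ⟨h8, h2, ?_⟩
  obtain ⟨x, rfl⟩ := exists_of_mem ha
  obtain ⟨y, rfl⟩ := exists_of_mem hb
  exact ⟨x, y, tab_injective (by rw [tab_mul, tab_mul, hai]),
    tab_injective (by rw [tab_mul, tab_mul, hbi]), fun e => hab (by rw [← tab_mul, ← tab_mul, e])⟩

/-- The centraliser of an involution has eight elements. -/
theorem ncard_comm {i : SL32} (h : i * i = 1) (h1 : i ≠ 1) : {l | l * i = i * l}.ncard = 8 := by
  rw [ncard_eq_filter (fun l => l * i = i * l) (fun l => decide (mul2 l (tab i) = mul2 (tab i) l))]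
  · exact (ok_of_invol h h1).1
  · intro x
    rw [decide_eq_true_eq, ← tab_mul, ← tab_mul]
    exact ⟨fun e => e ▸ rfl, fun e => tab_injective e⟩

/-- The centraliser of an involution is not commutative. -/
theorem exists_noncomm {i : SL32} (h : i * i = 1) (h1 : i ≠ 1) :
    ∃ a b : SL32, a * i = i * a ∧ b * i = i * b ∧ a * b ≠ b * a := (ok_of_invol h h1).2.2

theorem ncard_roots {i : SL32} (h : i * i = 1) (h1 : i ≠ 1) : {l | l * l = i}.ncard = 2 := by
  rw [ncard_eq_filter (fun l => l * l = i)
    (fun l => decide (mul2 l l = tab i) && decide (mul2 l (tab i) = mul2 (tab i) l))]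
  · rw [← List.filter_filter]
    exact (ok_of_invol h h1).2.1
  · intro x
    rw [Bool.and_eq_true, decide_eq_true_eq, decide_eq_true_eq, ← tab_mul, ← tab_mul, ← tab_mul]
    refine ⟨fun e => ⟨e ▸ rfl, ?_⟩, fun e => tab_injective e.1⟩
    rw [← e, mul_assoc]

/-- Every involution is a square. -/
theorem exists_root {i : SL32} (h : i * i = 1) (h1 : i ≠ 1) : ∃ l, l * l = i :=
  Set.nonempty_of_ncard_ne_zero (by rw [ncard_roots h h1]; norm_num : ({l | l * l = i}).ncard ≠ 0)

/-- Two roots of one involution are equal or inverse. -/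
theorem roots_eq {i a b : SL32} (h : i * i = 1) (h1 : i ≠ 1) (ha : a * a = i) (hb : b * b = i) :
    b = a ∨ b = a⁻¹ := by
  have hai : a⁻¹ * a⁻¹ = i := by
    rw [← mul_inv_rev, ha]
    exact inv_eq_of_mul_eq_one_left h
  have hne : a ≠ a⁻¹ := fun e => h1 (by rw [← ha]; nth_rw 2 [e]; exact mul_inv_cancel a)
  by_contra hc
  rw [not_or] at hc
  have hs : ({a, a⁻¹, b} : Set SL32) ⊆ {l | l * l = i} := by
    rintro x (rfl | rfl | rfl) <;> assumption
  have := Set.ncard_le_ncard hs (Set.toFinite _)
  rw [ncard_roots h h1, Set.ncard_eq_three.2 ⟨a, a⁻¹, b, hne, Ne.symm hc.1, Ne.symm hc.2, rfl⟩] at this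
  omega

/-- No element has order six. -/
theorem no_six {x : SL32} (h : x ^ 6 = 1) : x ^ 2 = 1 ∨ x ^ 3 = 1 := by
  have hk := List.all_eq_true.1 check_six _ (tab_mem x)
  simp only [Bool.or_eq_true, Bool.not_eq_true', decide_eq_false_iff_not, decide_eq_true_eq] at hk
  rcases hk with (hk | hk) | hk
  · exact absurd (by rw [← tab_pow, h, tab_one]) hk
  · exact Or.inl (tab_injective (by rw [tab_pow, hk, tab_one]))
  · exact Or.inr (tab_injective (by rw [tab_pow, hk, tab_one]))

theorem card_SL32 : Nat.card SL32 = 168 := by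
  have h := ncard_eq_filter (fun _ => True) (fun _ => true) (fun _ => by simp)
  simp only [Set.setOf_true, Set.ncard_univ, List.filter_true] at h
  rw [h]
  decide +kernel

end Cfsg.Agent.TransvCent.RecogB
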