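import Cfsg.Agent.Lib.TransvCent.RecogBOutside

/-!
# Recognition from simplicity: an involution inside the radical of the other

* `Local.card_cent` : the centraliser in the radical of an element outside the centre has order 64
* `Local.mem_back` : if `a ∈ Q_x` is a further involution then `x ∈ Q_a`
* `Local.inside` : `Q_x ∩ Q_a` is abelian of order 16, and a four group of `C(x)/Q_x` moves it along `a`
* `Local.perp` : a commutator with `c` commutes with what `c` centralises modulo the centre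
-/

set_option autoImplicit false
set_option linter.style.haveILetI false

namespace Cfsg.Agent.TransvCent.RecogB

open Subgroup

theorem card_le_four (P : Subgroup (Matrix.SpecialLinearGroup (Fin 3) (ZMod 2)))
    (hab : ∀ u ∈ P, ∀ v ∈ P, u * v = v * u) (hsq : ∀ u ∈ P, u * u = 1) : Nat.card P ≤ 4 := by
  by_cases h1 : ∀ u ∈ P, u = 1
  · rw [(eq_bot_iff_forall P).2 h1, card_bot]; norm_num
  push Not at h1
  obtain ⟨i, hi, hi1⟩ := h1
  set D : Subgroup (Matrix.SpecialLinearGroup (Fin 3) (ZMod 2)) := centralizer {i}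
  have hset : (D : Set _) = {l | l * i = i * l} := by
    ext l; exact mem_centralizer_singleton_iff
  have hD : Nat.card D = 8 := by
    rw [← SetLike.coe_sort_coe, Nat.card_coe_set_eq, hset, ncard_comm (hsq i hi) hi1]
  have hle : P ≤ D := fun u hu => mem_centralizer_singleton_iff.2 (hab u hu i hi)
  obtain ⟨k, hk⟩ := hD ▸ card_dvd_of_le hle
  have h8 : Nat.card P ≠ 8 := fun e => by
    have he := eq_of_le_of_card_ge hle (by rw [hD, e])
    obtain ⟨a, b, ha, hb, hne⟩ := exists_noncomm (hsq i hi) hi1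
    exact hne (hab a (he ▸ mem_centralizer_singleton_iff.2 ha) b (he ▸ mem_centralizer_singleton_iff.2 hb))
  have := Nat.le_of_dvd (by norm_num) (Dvd.intro k hk.symm : Nat.card P ∣ 8)
  interval_cases Nat.card P <;> omega

namespace Local

variable {G : Type*} [Group G] {x a : G}

/-- The subgroup generated by the centre and one element of square one. -/
def four (X : Local x) (a : G) (ha : a * a = 1) (hc : Commute a x) : Subgroup G where
  carrier := {g | g = 1 ∨ g = x ∨ g = a ∨ g = a * x}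
  one_mem' := Or.inl rfl
  mul_mem' := by
    have h1 : x * a = a * x := hc.symm.eq
    have h2 : a * x * a = x := by rw [mul_assoc, h1, ← mul_assoc, ha, one_mul]
    have h3 : a * x * x = a := by rw [mul_assoc, X.sq_x, mul_one]
    have h4 : a * (a * x) = x := by rw [← mul_assoc, ha, one_mul]
    have h5 : x * (a * x) = a := by rw [← mul_assoc, h1, h3]
    have h6 : a * x * (a * x) = 1 := by rw [← mul_assoc, h2, X.sq_x]
    rintro p q (rfl | rfl | rfl | rfl) (rfl | rfl | rfl | rfl) <;>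
      simp [X.sq_x, ha, h1, h2, h3, h4, h5, h6]
  inv_mem' := by
    rintro p (rfl | rfl | rfl | rfl)
    · exact Or.inl inv_one
    · exact Or.inr (Or.inl X.inv_x)
    · exact Or.inr (Or.inr (Or.inl (inv_eq_of_mul_eq_one_right ha)))
    · refine Or.inr (Or.inr (Or.inr ?_))
      rw [mul_inv_rev, X.inv_x, inv_eq_of_mul_eq_one_right ha, hc.eq]

theorem mem_four (X : Local x) {a : G} (ha : a * a = 1) (hc : Commute a x) {g : G} :
    g ∈ X.four a ha hc ↔ g = 1 ∨ g = x ∨ g = a ∨ g = a * x := Iff.rfl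

theorem card_four (X : Local x) {a : G} (ha : a * a = 1) (hc : Commute a x) (h1 : a ≠ 1) (hx : a ≠ x) :
    Nat.card (X.four a ha hc) = 4 := by
  change Nat.card ({g | g = 1 ∨ g = x ∨ g = a ∨ g = a * x} : Set G) = 4
  rw [Nat.card_coe_set_eq]
  refine Set.ncard_eq_four.2 ⟨1, x, a, a * x, X.ne_one.symm, h1.symm, ?_, hx.symm, ?_, ?_, rfl⟩
  · intro e
    exact hx ((eq_inv_of_mul_eq_one_left e.symm).trans X.inv_x)
  · exact fun e => h1 (right_eq_mul.1 e)
  · exact fun e => X.ne_one (left_eq_mul.1 e)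

variable [Finite G]

theorem card_cent (X : Local x) (ha : a ∈ X.Q) (ha2 : a * a = 1) (h1 : a ≠ 1) (hx : a ≠ x) :
    Nat.card ↥(X.Q ⊓ centralizer ({a} : Set G)) = 64 ∧
      X.Q ⊓ centralizer ((X.Q ⊓ centralizer ({a} : Set G) : Subgroup G) : Set G) =
        X.four a ha2 (X.le a ha) := by
  set W := X.four a ha2 (X.le a ha)
  have hW := X.card_four ha2 (X.le a ha) h1 hx
  have hWQ : W ≤ X.Q := by
    rintro g (rfl | rfl | rfl | rfl)
    exacts [one_mem _, X.mem, ha, mul_mem ha X.mem]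
  have hxW : x ∈ W := Or.inr (Or.inl rfl)
  have e : X.Q ⊓ centralizer ({a} : Set G) = X.Q ⊓ centralizer (W : Set G) := by
    refine le_antisymm (fun g hg => ⟨hg.1, ?_⟩) (inf_le_inf_left _ (centralizer_le (by
      rintro g rfl; exact Or.inr (Or.inr (Or.inl rfl)))))
    have hga : Commute g a := mem_centralizer_singleton_iff.1 hg.2
    rintro w (rfl | rfl | rfl | rfl)
    · simp
    · exact (X.le g hg.1).symm.eq
    · exact hga.symm.eq
    · exact (hga.symm.mul_left (X.le g hg.1).symm).eq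
  have hd := X.dual W hWQ hxW
  rw [← e, hW] at hd
  refine ⟨by omega, ?_⟩
  have h64 : Nat.card ↥(X.Q ⊓ centralizer ({a} : Set G)) = 64 := by omega
  have hxC : x ∈ X.Q ⊓ centralizer ({a} : Set G) :=
    ⟨X.mem, mem_centralizer_singleton_iff.2 (X.le a ha).symm.eq⟩
  have hd2 := X.dual (X.Q ⊓ centralizer ({a} : Set G)) inf_le_left hxC
  rw [h64] at hd2
  symm
  refine eq_of_le_of_card_ge (fun w hw => ⟨hWQ hw, fun g hg => ?_⟩) (by rw [hW]; omega)
  rw [e] at hg
  exact (hg.2 w hw).symm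

/-- If `a ∈ Q_x` then `x ∈ Q_a`. -/
theorem mem_back (X : Local x) (A : Local a) (ha : a ∈ X.Q) (hax : a ≠ x) : x ∈ A.Q := by
  by_contra hxA
  have hc : Commute x a := (X.le a ha).symm
  obtain ⟨h64, hcc⟩ := X.card_cent ha A.sq_x A.ne_one hax
  set P := X.Q ⊓ centralizer ({a} : Set G)
  have hPa : ∀ g ∈ P, Commute g a := fun g hg => mem_centralizer_singleton_iff.1 hg.2
  have hr := (A.range_le P hPa hc hxA X.sq_x fun g hg => X.le g hg.1).1
  have hcard := A.card_img P hPa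
  have hle : P ⊓ A.Q ≤ X.four a A.sq_x (X.le a ha) := by
    rw [← hcc]
    intro n hn
    exact ⟨hn.1.1, fun g hg =>
      (inter_central X A hxA hn.1.1 hn.2 hg.1 (hPa g hg)).symm⟩
  have h4 := card_le_of_le hle
  rw [X.card_four A.sq_x (X.le a ha) A.ne_one hax] at h4
  rw [h64] at hcard
  nlinarith

/-- The intersection of the radicals. -/
theorem inside (X : Local x) (A : Local a) (ha : a ∈ X.Q) (hax : a ≠ x) :
    x ∈ A.Q ∧ Nat.card ↥(X.Q ⊓ A.Q) = 16 ∧
      (∀ r ∈ X.Q ⊓ A.Q, r * r = 1 ∧ ∀ s ∈ X.Q ⊓ A.Q, Commute r s) ∧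
      (∃ B : Subgroup G, (∀ b, b ∈ B ↔ b ∈ A.Q ∧ Commute b x) ∧
        (∀ hB : ∀ b ∈ B, Commute b x, Nat.card (X.img B hB).range = 4 ∧
          ∀ u ∈ (X.img B hB).range, u * u = 1) ∧
        (∀ b ∈ B, b ∉ X.Q → ∃ r ∈ X.Q ⊓ A.Q, b * r * b⁻¹ * r⁻¹ = a) ∧
        ∀ r ∈ X.Q ⊓ A.Q, ∃ b ∈ B, b ∉ X.Q ∧ Commute b r) := by
  have hxA := X.mem_back A ha hax
  set R := X.Q ⊓ A.Q with hR
  have hRcomm : ∀ r ∈ R, ∀ s ∈ R, Commute r s := by
    intro r hr s hs
    rcases X.comm r hr.1 s hs.1 with h | h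
    · exact mul_inv_eq_iff_eq_mul.1 (mul_inv_eq_one.1 h)
    rcases A.comm r hr.2 s hs.2 with h' | h'
    · exact mul_inv_eq_iff_eq_mul.1 (mul_inv_eq_one.1 h')
    · exact absurd (h'.symm.trans h) hax
  have hRsq : ∀ r ∈ R, r * r = 1 := fun r hr =>
    (X.sq r hr.1).resolve_right fun h => by
      rcases A.sq r hr.2 with h' | h'
      · exact X.ne_one (h.symm.trans h')
      · exact hax (h'.symm.trans h)
  -- either side has image at most four
  have half : ∀ {x a : G} (X : Local x) (A : Local a), x ∈ A.Q → a ∈ X.Q → a ≠ x →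
      16 ≤ Nat.card ↥(X.Q ⊓ A.Q) ∧
        (∀ hB : ∀ b ∈ X.Q ⊓ centralizer ({a} : Set G), Commute b a,
          (Nat.card (A.img _ hB).range) * Nat.card ↥(X.Q ⊓ A.Q) = 64 ∧
            ∀ u ∈ (A.img _ hB).range, u * u = 1) := by
    intro x a X A hxA ha hax
    obtain ⟨h64, -⟩ := X.card_cent ha A.sq_x A.ne_one hax
    set P := X.Q ⊓ centralizer ({a} : Set G)
    have hPa : ∀ g ∈ P, Commute g a := fun g hg => mem_centralizer_singleton_iff.1 hg.2
    have e : P ⊓ A.Q = X.Q ⊓ A.Q := le_antisymm (inf_le_inf_right _ inf_le_left)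
      fun n hn => ⟨⟨hn.1, mem_centralizer_singleton_iff.2 (A.le n hn.2).eq⟩, hn.2⟩
    have hsq : ∀ u ∈ (A.img P hPa).range, u * u = 1 := by
      rintro _ ⟨⟨g, hg⟩, rfl⟩
      rw [← map_mul]
      refine (A.θ_ker _ ((hPa g hg).mul_left (hPa g hg))).2 ?_
      rcases X.sq g hg.1 with h | h
      · exact h ▸ one_mem _
      · exact h ▸ hxA
    have hcard := A.card_img P hPa
    rw [h64, e] at hcard
    have h4 : Nat.card (A.img P hPa).range ≤ 4 := by
      refine card_le_four _ ?_ hsq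
      rintro _ ⟨⟨g, hg⟩, rfl⟩ _ ⟨⟨g', hg'⟩, rfl⟩
      rw [← map_mul, ← map_mul]
      refine (A.θ_eq_iff ((hPa g hg).mul_left (hPa g' hg')) ((hPa g' hg').mul_left (hPa g hg))).2 ?_
      show g * g' * (g' * g)⁻¹ ∈ A.Q
      rw [show g * g' * (g' * g)⁻¹ = g * g' * g⁻¹ * g'⁻¹ by group]
      rcases X.comm g hg.1 g' hg'.1 with h | h
      · exact h ▸ one_mem _
      · exact h ▸ hxA
    refine ⟨by nlinarith, fun hB => ⟨?_, hsq⟩⟩
    rw [mul_comm]; exact hcard.symm
  have h16 := (half X A hxA ha hax).1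
  have hCR : Nat.card R = 16 ∧ X.Q ⊓ centralizer (R : Set G) = R ∧ A.Q ⊓ centralizer (R : Set G) = R := by
    have hle : ∀ {S : Subgroup G}, R ≤ S → R ≤ S ⊓ centralizer (R : Set G) := fun h r hr =>
      ⟨h hr, fun s hs => hRcomm s hs r hr⟩
    have h1 := X.dual R inf_le_left ⟨X.mem, hxA⟩
    have h2 := A.dual R inf_le_right ⟨ha, A.mem⟩
    have h1' := card_le_of_le (hle (S := X.Q) inf_le_left)
    have hR16 : Nat.card R = 16 := by
      change 16 ≤ Nat.card R at h16
      nlinarith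
    rw [hR16] at h1 h2
    exact ⟨hR16, (eq_of_le_of_card_ge (hle inf_le_left) (by omega)).symm,
      (eq_of_le_of_card_ge (hle inf_le_right) (by omega)).symm⟩
  obtain ⟨hR16, -, hAR⟩ := hCR
  refine ⟨hxA, hR16, fun r hr => ⟨hRsq r hr, hRcomm r hr⟩,
    A.Q ⊓ centralizer ({x} : Set G), fun b => ?_, fun hB => ?_, fun b hb hbX => ?_, fun r hr => ?_⟩
  · rw [mem_inf, mem_centralizer_singleton_iff]; rfl
  · obtain ⟨h, hsq⟩ := (half A X ha hxA hax.symm).2 hB
    rw [show A.Q ⊓ X.Q = R from inf_comm _ _] at h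
    rw [hR16] at h
    exact ⟨by omega, hsq⟩
  · by_contra hno
    push Not at hno
    have : b ∈ A.Q ⊓ centralizer (R : Set G) := by
      refine ⟨hb.1, fun r hr => ?_⟩
      have h := (A.comm b hb.1 r hr.2).resolve_right (hno r hr)
      exact (mul_inv_eq_iff_eq_mul.1 (mul_inv_eq_one.1 h)).symm
    rw [hAR] at this
    exact hbX this.1
  · obtain ⟨h64, -⟩ := A.card_cent hxA X.sq_x X.ne_one hax.symm
    set B := A.Q ⊓ centralizer ({x} : Set G)
    have hBR : B ⊓ X.Q = R := le_antisymm (fun g hg => ⟨hg.2, hg.1.1⟩)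
      fun g hg => ⟨⟨hg.2, mem_centralizer_singleton_iff.2 (X.le g hg.1).eq⟩, hg.1⟩
    by_contra hno
    push Not at hno
    obtain ⟨b1, hb1, hb1'⟩ : ∃ b ∈ B, b ∉ X.Q := by
      by_contra hall
      push Not at hall
      have : Nat.card B ≤ Nat.card R := card_le_of_le fun g hg => hBR ▸ ⟨hg, hall g hg⟩
      omega
    have hs : (B : Set G) ⊆ (R : Set G) ∪ (fun g => b1 * g) '' (R : Set G) := by
      intro g hg
      by_cases hgX : g ∈ X.Q
      · exact Or.inl (hBR ▸ ⟨hg, hgX⟩)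
      refine Or.inr ⟨b1⁻¹ * g, hBR ▸ mem_inf.2 ⟨mul_mem (inv_mem hb1) hg, ?_⟩, mul_inv_cancel_left _ _⟩
      by_contra hdX
      refine hno _ (mul_mem (inv_mem hb1) hg) hdX ?_
      -- two elements with non-trivial commutator differ by a commuting one
      have e : ∀ b ∈ B, b ∉ X.Q → b * r * b⁻¹ = a * r := fun b hb hbX => by
        have h := (A.comm b hb.1 r hr.2).resolve_left fun h =>
          hno b hb hbX (mul_inv_eq_iff_eq_mul.1 (mul_inv_eq_one.1 h))
        exact eq_mul_of_mul_inv_eq h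
      have e1 := e b1 hb1 hb1'
      have e2 := e g hg hgX
      refine mul_inv_eq_iff_eq_mul.1 ?_
      calc b1⁻¹ * g * r * (b1⁻¹ * g)⁻¹ = b1⁻¹ * (g * r * g⁻¹) * b1 := by group
        _ = b1⁻¹ * (b1 * r * b1⁻¹) * b1 := by rw [e1, e2]
        _ = r := by group
    have := (Set.ncard_le_ncard hs (Set.toFinite _)).trans ((Set.ncard_union_le _ _).trans
      (Nat.add_le_add_left (Set.ncard_image_le (Set.toFinite _)) _))
    simp only [← Nat.card_coe_set_eq, SetLike.coe_sort_coe] at this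
    omega

omit [Finite G] in
/-- A commutator with `c` commutes with what `c` centralises modulo the centre. -/
theorem perp (X : Local x) {c u v : G} (hc : Commute c x) (hu : u ∈ X.Q) (hv : v ∈ X.Q)
    (h : c * u * c⁻¹ * u⁻¹ = 1 ∨ c * u * c⁻¹ * u⁻¹ = x) : Commute (c * v * c⁻¹ * v⁻¹) u := by
  have hw := X.norm hc hv
  -- conjugating by `c` keeps the commutator of `u` and `v`
  have h1 : c * u * c⁻¹ * (c * v * c⁻¹) * (c * u * c⁻¹)⁻¹ * (c * v * c⁻¹)⁻¹ = u * v * u⁻¹ * v⁻¹ := by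
    have e : c * u * c⁻¹ * (c * v * c⁻¹) * (c * u * c⁻¹)⁻¹ * (c * v * c⁻¹)⁻¹ =
        c * (u * v * u⁻¹ * v⁻¹) * c⁻¹ := by group
    rw [e]
    rcases X.comm u hu v hv with h | h <;> rw [h]
    · simp
    · rw [hc.eq, mul_inv_cancel_right]
  have h2 : u * (c * v * c⁻¹) * u⁻¹ * (c * v * c⁻¹)⁻¹ = u * v * u⁻¹ * v⁻¹ := by
    rw [← h1]
    rcases h with h | h
    · rw [mul_inv_eq_one.1 h]
    · rw [eq_mul_of_mul_inv_eq h]
      set w := c * v * c⁻¹
      calc u * w * u⁻¹ * w⁻¹ = x * (u * w * u⁻¹) * x⁻¹ * w⁻¹ := by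
            rw [((X.le _ (mul_mem (mul_mem hu hw) (inv_mem hu))).symm).eq, mul_inv_cancel_right]
        _ = _ := by group
  set w := c * v * c⁻¹
  have e3 : u * w * u⁻¹ = (u * v * u⁻¹ * v⁻¹) * w := eq_mul_of_mul_inv_eq h2
  have e4 : u * v⁻¹ * u⁻¹ = v⁻¹ * (u * v * u⁻¹ * v⁻¹)⁻¹ := by group
  refine (show Commute u (w * v⁻¹) from mul_inv_eq_iff_eq_mul.1 ?_).symm
  rw [show u * (w * v⁻¹) * u⁻¹ = (u * w * u⁻¹) * (u * v⁻¹ * u⁻¹) by group, e3, e4]
  rcases X.comm u hu v hv with h | h <;> rw [h]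
  · simp
  · rw [X.inv_x, mul_assoc x, ← mul_assoc w, ((X.le _ (mul_mem hw (inv_mem hv)))).eq, ← mul_assoc, X.sq_x,
      one_mul]

end Local

end Cfsg.Agent.TransvCent.RecogB
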