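import Cfsg.Agent.Lib.TransvCent.RecogBFacts
import Mathlib.GroupTheory.QuotientGroup.Basic
import Mathlib.GroupTheory.Subgroup.Centralizer
import Mathlib.GroupTheory.OrderOfElement
import Mathlib.GroupTheory.Index
import Mathlib.Tactic.Group

/-!
# Recognition from simplicity: the two-local data at one involution

* `Local x` : the radical of `C(x)` and the map onto `SL(3,2)`, as statements inside the group
* `Local.card_img` : counting along that map
* `ker_sq_large` : the square of an endomorphism with vanishing fourth power of a group of order 64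
-/

set_option autoImplicit false

namespace Cfsg.Agent.TransvCent.RecogB

open Subgroup

local notation "SL32" => Matrix.SpecialLinearGroup (Fin 3) (ZMod 2)

/-- The data at an involution `x`. -/
structure Local {G : Type*} [Group G] (x : G) where
  Q : Subgroup G
  θ : G → SL32
  θ_mul : ∀ a b, Commute a x → Commute b x → θ (a * b) = θ a * θ b
  θ_ker : ∀ a, Commute a x → (θ a = 1 ↔ a ∈ Q)
  θ_surj : ∀ l, ∃ a, Commute a x ∧ θ a = l
  le : ∀ q ∈ Q, Commute q x
  mem : x ∈ Q
  sq_x : x * x = 1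
  ne_one : x ≠ 1
  card : Nat.card Q = 128
  central : ∀ q ∈ Q, (∀ r ∈ Q, Commute q r) → q = 1 ∨ q = x
  comm : ∀ q ∈ Q, ∀ r ∈ Q, q * r * q⁻¹ * r⁻¹ = 1 ∨ q * r * q⁻¹ * r⁻¹ = x
  sq : ∀ q ∈ Q, q * q = 1 ∨ q * q = x
  dual : ∀ W : Subgroup G, W ≤ Q → x ∈ W →
    Nat.card ↥(Q ⊓ centralizer (W : Set G)) * Nat.card W = 256

namespace Local

variable {G : Type*} [Group G] {x : G} (X : Local x)

theorem θ_one : X.θ 1 = 1 := (X.θ_ker 1 (Commute.one_left x)).2 (one_mem _)

theorem θ_inv {a : G} (ha : Commute a x) : X.θ a⁻¹ = (X.θ a)⁻¹ :=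
  eq_inv_of_mul_eq_one_left (by rw [← X.θ_mul _ _ ha.inv_left ha, inv_mul_cancel, θ_one])

theorem norm {c q : G} (hc : Commute c x) (hq : q ∈ X.Q) : c * q * c⁻¹ ∈ X.Q := by
  have hqx := X.le q hq
  refine (X.θ_ker _ ((hc.mul_left hqx).mul_left hc.inv_left)).1 ?_
  rw [X.θ_mul _ _ (hc.mul_left hqx) hc.inv_left, X.θ_mul _ _ hc hqx, (X.θ_ker q hqx).2 hq, mul_one,
    X.θ_inv hc, mul_inv_cancel]

include X in
theorem inv_x : x⁻¹ = x := inv_eq_of_mul_eq_one_right X.sq_x

theorem θ_eq_iff {a b : G} (ha : Commute a x) (hb : Commute b x) :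
    X.θ a = X.θ b ↔ a * b⁻¹ ∈ X.Q := by
  rw [← X.θ_ker _ (ha.mul_left hb.inv_left), X.θ_mul _ _ ha hb.inv_left, X.θ_inv hb, mul_inv_eq_one]

/-- The map restricted to a subgroup of the centraliser. -/
def img (H : Subgroup G) (hH : ∀ h ∈ H, Commute h x) : ↥H →* SL32 where
  toFun h := X.θ h
  map_one' := X.θ_one
  map_mul' a b := X.θ_mul a b (hH a a.2) (hH b b.2)

theorem img_apply {H : Subgroup G} (hH : ∀ h ∈ H, Commute h x) (h : H) : X.img H hH h = X.θ h := rfl

theorem card_img [Finite G] (H : Subgroup G) (hH : ∀ h ∈ H, Commute h x) :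
    Nat.card H = Nat.card ↥(H ⊓ X.Q) * Nat.card (X.img H hH).range := by
  rw [← card_mul_index (X.img H hH).ker, index_ker]
  congr 1
  refine Nat.card_congr
    { toFun := fun h => ⟨(h.1 : G), h.1.2, (X.θ_ker _ (hH _ h.1.2)).1 h.2⟩
      invFun := fun h => ⟨⟨h.1, h.2.1⟩, (X.θ_ker _ (hH _ h.2.1)).2 h.2.2⟩
      left_inv := fun _ => rfl
      right_inv := fun _ => rfl }

/-- An image commuting with an involution has at most eight elements, fewer when abelian. -/
theorem range_le [Finite G] (H : Subgroup G) (hH : ∀ h ∈ H, Commute h x) {y : G} (hy : Commute y x)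
    (hyQ : y ∉ X.Q) (hy2 : y * y = 1) (hHy : ∀ h ∈ H, Commute h y) :
    Nat.card (X.img H hH).range ≤ 8 ∧
      ((∀ a ∈ H, ∀ b ∈ H, X.θ a * X.θ b = X.θ b * X.θ a) → Nat.card (X.img H hH).range ≤ 4) ∧
      (Nat.card (X.img H hH).range = 8 → ∀ l, l * X.θ y = X.θ y * l → ∃ h ∈ H, X.θ h = l) := by
  have hi : X.θ y * X.θ y = 1 := by rw [← X.θ_mul _ _ hy hy, hy2, θ_one]
  have hi1 : X.θ y ≠ 1 := fun e => hyQ ((X.θ_ker y hy).1 e)
  set D : Subgroup SL32 := centralizer ({X.θ y} : Set SL32)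
  have hset : (D : Set SL32) = {l | l * X.θ y = X.θ y * l} := by
    ext l; exact mem_centralizer_singleton_iff
  have hD : Nat.card D = 8 := by
    rw [← SetLike.coe_sort_coe, Nat.card_coe_set_eq, hset, ncard_comm hi hi1]
  have hle : (X.img H hH).range ≤ D := by
    rintro _ ⟨h, rfl⟩
    refine mem_centralizer_singleton_iff.2 ?_
    rw [img_apply, ← X.θ_mul _ _ (hH _ h.2) hy, ← X.θ_mul _ _ hy (hH _ h.2), (hHy _ h.2).eq]
  refine ⟨hD ▸ card_le_of_le hle, fun hab => ?_, fun h8 l hl => ?_⟩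
  · have hd : Nat.card (X.img H hH).range ∣ 8 := hD ▸ card_dvd_of_le hle
    have h8 : Nat.card (X.img H hH).range ≠ 8 := fun e => by
      obtain ⟨a, b, ha, hb, hne⟩ := exists_noncomm hi hi1
      have he := eq_of_le_of_card_ge hle (by rw [hD, e])
      obtain ⟨a', ha'⟩ : a ∈ (X.img H hH).range := by rw [he]; exact mem_centralizer_singleton_iff.2 ha
      obtain ⟨b', hb'⟩ : b ∈ (X.img H hH).range := by rw [he]; exact mem_centralizer_singleton_iff.2 hb
      exact hne (by rw [← ha', ← hb', img_apply, img_apply]; exact hab _ a'.2 _ b'.2)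
    have := Nat.le_of_dvd (by norm_num) hd
    obtain ⟨k, hk⟩ := hd
    interval_cases Nat.card (X.img H hH).range <;> omega
  · have he := eq_of_le_of_card_ge hle (by rw [hD, h8])
    obtain ⟨a', ha'⟩ : l ∈ (X.img H hH).range := by rw [he]; exact mem_centralizer_singleton_iff.2 hl
    exact ⟨a', a'.2, ha'⟩

theorem commute_or {q r : G} (hq : q ∈ X.Q) (hr : r ∈ X.Q) :
    q * r * q⁻¹ = r ∨ q * r * q⁻¹ = r * x := by
  rcases X.comm q hq r hr with h | h
  · exact Or.inl (mul_inv_eq_one.1 h)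
  · refine Or.inr ?_
    rw [← (X.le r hr).symm.eq]
    exact eq_mul_of_mul_inv_eq h

/-- Transport along a conjugation. -/
def conj (g : G) : Local (g * x * g⁻¹) where
  Q := X.Q.map (MulAut.conj g).toMonoidHom
  θ a := X.θ (g⁻¹ * a * g)
  θ_mul a b ha hb := by
    rw [← X.θ_mul _ _ (back ha) (back hb)]
    congr 1; group
  θ_ker a ha := by
    rw [X.θ_ker _ (back ha), mem_map_equiv, MulAut.conj_symm_apply]
  θ_surj l := by
    obtain ⟨a, ha, rfl⟩ := X.θ_surj l
    exact ⟨g * a * g⁻¹, (Commute.conj_iff g).2 ha, by congr 1; group⟩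
  le := by
    rintro q ⟨p, hp, rfl⟩
    exact (Commute.conj_iff g).2 (X.le p hp)
  mem := ⟨x, X.mem, rfl⟩
  sq_x := by rw [show g * x * g⁻¹ * (g * x * g⁻¹) = g * (x * x) * g⁻¹ by group, X.sq_x]; group
  ne_one h := X.ne_one (conj_eq_one_iff.1 h)
  card := by
    rw [← X.card]
    exact Nat.card_congr (X.Q.equivMapOfInjective _ (MulAut.conj g).injective).toEquiv.symm
  central := by
    rintro q ⟨p, hp, rfl⟩ h
    rcases X.central p hp fun r hr => (Commute.conj_iff g).1 (h _ ⟨r, hr, rfl⟩) with e | e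
    · exact Or.inl (by rw [e, map_one])
    · exact Or.inr (by rw [e]; rfl)
  comm := by
    rintro q ⟨p, hp, rfl⟩ r ⟨s, hs, rfl⟩
    simp only [← map_inv, ← map_mul]
    rcases X.comm p hp s hs with e | e
    · exact Or.inl (by rw [e, map_one])
    · exact Or.inr (by rw [e]; rfl)
  sq := by
    rintro q ⟨p, hp, rfl⟩
    rw [← map_mul]
    rcases X.sq p hp with e | e
    · exact Or.inl (by rw [e, map_one])
    · exact Or.inr (by rw [e]; rfl)
  dual W hW hx := by
    have hinj := (MulAut.conj g).injective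
    set φ := (MulAut.conj g).toMonoidHom
    obtain ⟨W₀, rfl⟩ : ∃ W₀ : Subgroup G, W₀.map φ = W :=
      ⟨W.comap φ, map_comap_eq_self_of_surjective (MulAut.conj g).surjective W⟩
    have hW₀ : W₀ ≤ X.Q := (map_le_map_iff_of_injective hinj).1 hW
    have hx₀ : x ∈ W₀ := (mem_map_iff_mem (f := φ) hinj).1 hx
    have e : X.Q.map φ ⊓ centralizer ((W₀.map φ : Subgroup G) : Set G) =
        (X.Q ⊓ centralizer (W₀ : Set G)).map φ := by
      ext a
      constructor
      · rintro ⟨⟨p, hp, rfl⟩, ha⟩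
        exact ⟨p, ⟨hp, fun w hw => (Commute.conj_iff g).1 (ha _ ⟨w, hw, rfl⟩)⟩, rfl⟩
      · rintro ⟨p, ⟨hp, hp'⟩, rfl⟩
        refine ⟨⟨p, hp, rfl⟩, ?_⟩
        rintro _ ⟨w, hw, rfl⟩
        exact (Commute.conj_iff g).2 (hp' w hw)
    rw [e, ← X.dual W₀ hW₀ hx₀,
      Nat.card_congr (equivMapOfInjective (X.Q ⊓ centralizer (W₀ : Set G)) φ hinj).toEquiv.symm,
      Nat.card_congr (W₀.equivMapOfInjective φ hinj).toEquiv.symm]
where
  /-- Back to `C(x)`. -/
  back {g x a : G} (ha : Commute a (g * x * g⁻¹)) : Commute (g⁻¹ * a * g) x := by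
    rw [← Commute.conj_iff g]; simpa [mul_assoc] using ha

end Local

/-- The square of an endomorphism with vanishing fourth power of a group of order 64 has a large kernel. -/
theorem ker_sq_large {M : Type*} [Group M] [Finite M] (hM : Nat.card M = 64) (f : M →* M)
    (h4 : ∀ v, f (f (f (f v))) = 1) : 16 ≤ Nat.card (f.comp f).ker := by
  set g := f.comp f
  have hr : ∀ φ : M →* M, Nat.card φ.ker * Nat.card φ.range = 64 := fun φ => by
    rw [← hM, ← index_ker, card_mul_index]
  have hgg : g.range ≤ g.ker := by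
    rintro _ ⟨v, rfl⟩
    exact h4 v
  have h1 := card_le_of_le hgg
  have h2 := hr g
  have hd : Nat.card g.ker ∣ 64 := Dvd.intro _ h2
  by_contra hlt
  rw [not_le] at hlt
  have h8 : Nat.card g.ker = 8 ∧ Nat.card g.range = 8 := by
    interval_cases Nat.card g.ker <;> omega
  have heq : g.range = g.ker := eq_of_le_of_card_ge hgg (by omega)
  -- `g.range = f (f.range)` and `f.ker ≤ g.range ≤ f.range`
  have hkr : f.ker ≤ f.range := fun v hv => by
    have : v ∈ g.ker := by show f (f v) = 1; rw [hv, map_one]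
    rw [← heq] at this
    obtain ⟨w, rfl⟩ := this
    exact ⟨f w, rfl⟩
  have hmap : Nat.card g.range * Nat.card f.ker = Nat.card f.range := by
    have := card_mul_index (f.comp f.range.subtype).ker
    rw [index_ker, MonoidHom.range_comp, range_subtype] at this
    rw [← this, mul_comm]
    refine congrArg₂ _ ?_ ?_
    · refine Nat.card_congr
        { toFun := fun v => ⟨⟨v.1, hkr v.2⟩, v.2⟩
          invFun := fun v => ⟨v.1.1, v.2⟩
          left_inv := fun _ => rfl
          right_inv := fun _ => rfl }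
    · rw [show f.range.map f = g.range from (MonoidHom.range_comp f f).symm]
  have h3 := hr f
  rw [h8.2] at hmap
  have h64 : Nat.card f.ker * Nat.card f.ker * 8 = 64 := by rw [← hmap] at h3; linarith
  rcases Nat.lt_or_ge (Nat.card f.ker) 3 with h | h
  · interval_cases Nat.card f.ker <;> omega
  · have : 9 ≤ Nat.card f.ker * Nat.card f.ker := Nat.mul_le_mul h h
    omega

end Cfsg.Agent.TransvCent.RecogB
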