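import Cfsg.Agent.Lib.TransvCent.RecogBAction

/-!
# Recognition from simplicity: two commuting involutions, neither in the radical of the other

* `Local.side` : what follows if no non-trivial element of `Q_x ∩ Q_y` carries `y` to a `Q_x`-conjugate
* `Local.outside` : some non-trivial `n` in `Q_x ∩ Q_y` has `n y` conjugate to `y` under `Q_x`, or `n x` to `x` under `Q_y`
-/

set_option autoImplicit false
set_option linter.style.haveILetI false

namespace Cfsg.Agent.TransvCent.RecogB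

open Subgroup

namespace Local

variable {G : Type*} [Group G] [Finite G] {x y : G}

/-- The intersection with the other radical centralises the centraliser of `y` in the radical. -/
theorem inter_central (X : Local x) (Y : Local y) (hxY : x ∉ Y.Q) {n a : G} (hn : n ∈ X.Q) (hn' : n ∈ Y.Q)
    (ha : a ∈ X.Q) (hay : Commute a y) : Commute n a := by
  have h1 : n * a * n⁻¹ * a⁻¹ ∈ Y.Q := by
    have := mul_mem hn' (Y.norm hay (inv_mem hn'))
    rw [show n * (a * n⁻¹ * a⁻¹) = n * a * n⁻¹ * a⁻¹ by group] at this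
    exact this
  rcases X.comm n hn a ha with h | h
  · exact mul_inv_eq_iff_eq_mul.1 (mul_inv_eq_one.1 h)
  · exact absurd (h ▸ h1) hxY

/-- One side. -/
theorem side (X : Local x) (Y : Local y) (hc : Commute x y) (hyX : y ∉ X.Q) (hxY : x ∉ Y.Q)
    (hno : ∀ n, n ∈ X.Q → n ∈ Y.Q → n ≠ 1 → ∀ q ∈ X.Q, q * y * q⁻¹ ≠ n * y) :
    (∀ n, n ∈ X.Q → n ∈ Y.Q → n ≠ 1 → ∃ q ∈ X.Q, q * y * q⁻¹ = n * x * y) ∧
      4 ≤ Nat.card ↥(X.Q ⊓ Y.Q) ∧
      (∀ l, l * Y.θ x = Y.θ x * l → ∃ a ∈ X.Q, Commute a y ∧ Y.θ a = l) ∧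
      ∃ a ∈ X.Q, Commute a y ∧ a * a = x := by
  obtain ⟨K, I, hKQ, hIQ, hxK, hxI, hK, hI, hIK, h32, hKI, hIeq⟩ := X.exists_KI hc.symm Y.sq_x hyX
  set A : Subgroup G := X.Q ⊓ centralizer ({y} : Set G) with hA
  set N : Subgroup G := X.Q ⊓ Y.Q with hN
  have hAmem : ∀ {a}, a ∈ A ↔ a ∈ X.Q ∧ Commute a y := fun {a} => by
    rw [hA, mem_inf, mem_centralizer_singleton_iff]; rfl
  have hAy : ∀ a ∈ A, Commute a y := fun a ha => (hAmem.1 ha).2
  have hxA : x ∈ A := hAmem.2 ⟨X.mem, hc⟩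
  have hAK : A ≤ K := fun a ha => by
    refine (hK a).2 ⟨(hAmem.1 ha).1, Or.inl ?_⟩
    rw [(hAy a ha).symm.eq, mul_inv_cancel_right, mul_inv_cancel]
  have hAN : A ⊓ Y.Q = N := le_antisymm (inf_le_inf_right _ inf_le_left)
    (fun n hn => ⟨hAmem.2 ⟨hn.1, Y.le n hn.2⟩, hn.2⟩)
  have hNA : N ≤ A := hAN ▸ inf_le_left
  have hcard : Nat.card A = Nat.card N * Nat.card (Y.img A hAy).range := by
    rw [← hAN]; exact Y.card_img A hAy
  obtain ⟨hr8, hr4, hsurj⟩ := Y.range_le A hAy hc hxY X.sq_x (fun a ha => X.le a (hAmem.1 ha).1)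
  set M : Subgroup G := X.Q ⊓ centralizer (A : Set G) with hM
  have hMA : Nat.card M * Nat.card A = 256 := X.dual A inf_le_left hxA
  have hNM : N ≤ M := fun n hn => ⟨hn.1, fun a ha =>
    (inter_central X Y hxY hn.1 hn.2 (hAmem.1 ha).1 (hAy a ha)).symm⟩
  have hIM : I ≤ M := by
    rw [hIeq]
    exact inf_le_inf_left _ (centralizer_le (fun a ha => hAK ha))
  have hxN : x ∉ N := fun h => hxY h.2
  -- from a commutator to a conjugate
  have hy' : y⁻¹ = y := Y.inv_x
  have hconj : ∀ {m q : G}, m = y * q * y⁻¹ * q⁻¹ → Commute m y → q * y * q⁻¹ = m * y := by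
    intro m q hm hmy
    rw [hmy.eq, hm, hy', show y * (y * q * y * q⁻¹) = (y * y) * q * y * q⁻¹ by group, Y.sq_x, one_mul]
  by_cases hq0 : ∃ q ∈ X.Q, y * q * y⁻¹ * q⁻¹ = x
  · -- some element carries `y` to `x y`
    exfalso
    obtain ⟨q0, hq0, hq0x⟩ := hq0
    have hq0K : q0 ∈ K := (hK q0).2 ⟨hq0, Or.inr hq0x⟩
    have hNI : N ⊓ I = ⊥ := by
      rw [eq_bot_iff]
      rintro n ⟨⟨hnX, hnY⟩, hnI⟩
      rw [mem_bot]
      by_contra hne
      obtain ⟨q, hq, h⟩ := (hI n).1 hnI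
      rcases h with h | h
      · exact hno n hnX hnY hne q hq (hconj h (Y.le n hnY))
      · refine hno n hnX hnY hne (q0 * q) (mul_mem hq0 hq) (hconj ?_ (Y.le n hnY))
        rw [h]
        have e : y * (q0 * q) * y⁻¹ * (q0 * q)⁻¹ =
            (y * q0 * y⁻¹ * q0⁻¹) * (q0 * (y * q * y⁻¹ * q⁻¹) * q0⁻¹) := by group
        rw [e, hq0x]
        have hcQ : y * q * y⁻¹ * q⁻¹ ∈ X.Q := mul_mem (X.norm hc.symm hq) (inv_mem hq)
        rcases X.commute_or hq0 hcQ with e1 | e1
        · rw [e1, ← (X.le _ hcQ).eq]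
        · -- then the element commutes with nothing: exclude by orthogonality
          exfalso
          have hi : y * q * y⁻¹ * q⁻¹ ∈ I := (hI _).2 ⟨q, hq, Or.inl rfl⟩
          rw [hIeq] at hi
          have := hi.2 q0 hq0K
          rw [this, mul_inv_cancel_right] at e1
          exact X.ne_one (left_eq_mul.1 e1)
    have hcov : ∀ k ∈ K, k ∈ A ∨ q0⁻¹ * k ∈ A := by
      intro k hk
      obtain ⟨hkQ, hk'⟩ := (hK k).1 hk
      rcases hk' with h | h
      · refine Or.inl (hAmem.2 ⟨hkQ, (mul_inv_eq_iff_eq_mul.1 (mul_inv_eq_one.1 h)).symm⟩)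
      · refine Or.inr (hAmem.2 ⟨mul_mem (inv_mem hq0) hkQ, ?_⟩)
        have e1 : y * k * y⁻¹ = x * k := eq_mul_of_mul_inv_eq h
        have e2 : y * q0 * y⁻¹ = x * q0 := eq_mul_of_mul_inv_eq hq0x
        have e3 : y * (q0⁻¹ * k) * y⁻¹ = q0⁻¹ * k := by
          rw [show y * (q0⁻¹ * k) * y⁻¹ = (y * q0 * y⁻¹)⁻¹ * (y * k * y⁻¹) by group, e1, e2]
          group
        exact (mul_inv_eq_iff_eq_mul.1 e3).symm
    have hK2A : Nat.card K ≤ 2 * Nat.card A := by
      have hs : (K : Set G) ⊆ (A : Set G) ∪ (fun a => q0 * a) '' (A : Set G) := fun k hk =>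
        (hcov k hk).imp id fun h => ⟨q0⁻¹ * k, h, mul_inv_cancel_left _ _⟩
      have := (Set.ncard_le_ncard hs (Set.toFinite _)).trans ((Set.ncard_union_le _ _).trans
        (Nat.add_le_add_left (Set.ncard_image_le (Set.toFinite _)) _))
      simp only [← Nat.card_coe_set_eq, SetLike.coe_sort_coe] at this
      omega
    have hAne : A ≠ K := fun e => by
      have h := e ▸ hq0K
      have := (hAy q0 h)
      rw [this.symm.eq, mul_inv_cancel_right, mul_inv_cancel] at hq0x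
      exact X.ne_one hq0x.symm
    have hdvd : Nat.card A ∣ Nat.card K := card_dvd_of_le hAK
    have hlt : Nat.card A < Nat.card K := lt_of_le_of_ne (card_le_of_le hAK)
      fun e => hAne (eq_of_le_of_card_ge hAK e.ge)
    have hKA : Nat.card K = 2 * Nat.card A := by
      obtain ⟨c, hc⟩ := hdvd
      have hpos : 0 < Nat.card A := Nat.card_pos
      rcases Nat.lt_or_ge c 2 with h | h
      · interval_cases c <;> omega
      · nlinarith
    -- `N` and `I` inside `M`
    have hmul : ∀ {P R W : Subgroup G}, P ≤ W → R ≤ W → P ⊓ R = ⊥ → Nat.card P * Nat.card R ≤ Nat.card W := by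
      intro P R W hP hR hb
      rw [← Nat.card_prod]
      refine Nat.card_le_card_of_injective (fun p => (⟨(p.1 : G) * p.2, mul_mem (hP p.1.2) (hR p.2.2)⟩ : W)) ?_
      intro a b h
      exact Subgroup.mul_injective_of_disjoint (disjoint_iff.2 hb) (congrArg Subtype.val h :)
    have h1 : Nat.card N * Nat.card I ≤ Nat.card M := hmul hNM hIM hNI
    have hIpos : 0 < Nat.card I := Nat.card_pos
    have hM2 : Nat.card M = 2 * Nat.card I := by
      have h := hMA
      rw [← hKI, hKA] at h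
      have hpos : 0 < Nat.card A := Nat.card_pos
      nlinarith
    have hN2 : Nat.card N ≤ 2 := by nlinarith
    have hr := hr8
    have hA16 : 16 ≤ Nat.card A := by omega
    have hN2' : Nat.card N = 2 ∧ Nat.card (Y.img A hAy).range = 8 ∧ Nat.card A = 16 := by
      interval_cases h : Nat.card N <;> omega
    obtain ⟨hN, hr8', hA'⟩ := hN2'
    -- the centre of `A`
    have hAab : ¬ ∀ a ∈ A, ∀ b ∈ A, Commute a b := fun h => by
      have := hr4 fun a ha b hb => by
        rw [← Y.θ_mul _ _ (hAy a ha) (hAy b hb), ← Y.θ_mul _ _ (hAy b hb) (hAy a ha), (h a ha b hb).eq]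
      omega
    have hZ : Nat.card ↥(A ⊓ M) ≤ 4 := by
      have hd : Nat.card ↥(A ⊓ M) ∣ 16 := hA' ▸ card_dvd_of_le inf_le_left
      by_contra h4
      refine hAab fun a ha b hb => ?_
      have hZc : ∀ c ∈ A ⊓ M, ∀ d ∈ A, Commute c d := fun c hc d hd => (hc.2.2 d hd).symm
      by_cases haZ : a ∈ A ⊓ M
      · exact hZc a haZ b hb
      by_cases hbZ : b ∈ A ⊓ M
      · exact (hZc b hbZ a ha).symm
      have h8 : Nat.card ↥(A ⊓ M) = 8 := by
        have hne : Nat.card ↥(A ⊓ M) ≠ 16 := fun e => haZ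
          ((eq_of_le_of_card_ge inf_le_left (by rw [hA', e])).symm ▸ ha)
        have := Nat.le_of_dvd (by norm_num) hd
        interval_cases Nat.card ↥(A ⊓ M) <;> omega
      have hidx : ((A ⊓ M).subgroupOf A).index = 2 := by
        have h := ((A ⊓ M).subgroupOf A).card_mul_index
        rw [Nat.card_congr (subgroupOfEquivOfLe (inf_le_left : A ⊓ M ≤ A)).toEquiv, h8, hA'] at h
        omega
      have hm : a⁻¹ * b ∈ A ⊓ M := by
        have := (mul_mem_iff_of_index_two hidx (a := (⟨a, ha⟩ : A)⁻¹) (b := ⟨b, hb⟩)).2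
          (by simp only [mem_subgroupOf, inv_mem_iff]; exact iff_of_false haZ hbZ)
        exact mem_inf.2 ⟨mul_mem (inv_mem ha) hb, by simpa [mem_subgroupOf] using this⟩
      have : Commute a (a * (a⁻¹ * b)) := (Commute.refl a).mul_right (hZc _ hm a ha).symm
      rwa [mul_inv_cancel_left] at this
    have hIA : 4 ≤ Nat.card ↥(I ⊓ A) := by
      have hI8 : Nat.card I = 8 := by rw [hKA, hA'] at hKI; omega
      by_contra hlt
      obtain ⟨i0, hi0, hi0'⟩ : ∃ i, i ∈ I ∧ i ∉ A := by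
        by_contra hall
        push Not at hall
        rw [inf_eq_left.2 (fun i hi => hall i hi)] at hlt
        omega
      have h0 : q0⁻¹ * i0 ∈ A := (hcov i0 (hIK hi0)).resolve_left hi0'
      have hs : (I : Set G) ⊆ ((I ⊓ A : Subgroup G) : Set G) ∪
          (fun a => i0 * a) '' ((I ⊓ A : Subgroup G) : Set G) := by
        intro i hi
        rcases hcov i (hIK hi) with h | h
        · exact Or.inl ⟨hi, h⟩
        · refine Or.inr ⟨i0⁻¹ * i, mem_inf.2 ⟨mul_mem (inv_mem hi0) hi, ?_⟩, mul_inv_cancel_left _ _⟩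
          have := mul_mem (inv_mem h0) h
          rwa [show (q0⁻¹ * i0)⁻¹ * (q0⁻¹ * i) = i0⁻¹ * i by group] at this
      have := (Set.ncard_le_ncard hs (Set.toFinite _)).trans ((Set.ncard_union_le _ _).trans
        (Nat.add_le_add_left (Set.ncard_image_le (Set.toFinite _)) _))
      simp only [← Nat.card_coe_set_eq, SetLike.coe_sort_coe] at this
      omega
    have := hmul (P := N) (R := I ⊓ A) (W := A ⊓ M) (le_inf hNA hNM)
      (le_inf inf_le_right (inf_le_left.trans hIM)) (by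
        rw [eq_bot_iff, ← hNI]; exact inf_le_inf_left _ inf_le_left)
    nlinarith
  -- `A = K`
  push Not at hq0
  have hKA : K = A := le_antisymm (fun k hk => by
    obtain ⟨hkQ, hk'⟩ := (hK k).1 hk
    refine hAmem.2 ⟨hkQ, ?_⟩
    exact (mul_inv_eq_iff_eq_mul.1 (mul_inv_eq_one.1 (hk'.resolve_right (hq0 k hkQ)))).symm) hAK
  have hMI : M = I := by rw [hM, hIeq, hKA]
  have hA32 : 32 ≤ Nat.card A := hKA ▸ h32
  have hab : ¬ ∀ a ∈ A, ∀ b ∈ A, Commute a b := fun h => by
    have hle : A ≤ M := fun a ha => ⟨(hAmem.1 ha).1, fun b hb => h b hb a ha⟩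
    have := card_le_of_le hle
    nlinarith
  have hr : Nat.card (Y.img A hAy).range = 8 := by
    push Not at hab
    obtain ⟨a, ha, b, hb, hne⟩ := hab
    have hd : a * b * a⁻¹ * b⁻¹ = x :=
      (X.comm a (hAmem.1 ha).1 b (hAmem.1 hb).1).resolve_left fun h =>
        hne (mul_inv_eq_iff_eq_mul.1 (mul_inv_eq_one.1 h))
    have hd' : Nat.card (Y.img A hAy).range ∣ 8 := by
      obtain ⟨k, hk⟩ : Nat.card A ∣ 128 := X.card ▸ card_dvd_of_le inf_le_left
      have : Nat.card (Y.img A hAy).range ∣ 128 := ⟨Nat.card N * k, by rw [hk, hcard]; ring⟩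
      obtain ⟨j, hj, he⟩ := (Nat.dvd_prime_pow Nat.prime_two).1 (show _ ∣ 2 ^ 7 from this)
      rw [he] at hr8 ⊢
      interval_cases j <;> omega
    by_contra hne8
    have h4 : Nat.card (Y.img A hAy).range ≤ 4 := by
      obtain ⟨k, hk⟩ := hd'
      interval_cases Nat.card (Y.img A hAy).range <;> omega
    set P := (Y.img A hAy).range
    haveI : Finite P := inferInstance
    have hcomm : ∀ u v : P, u * v = v * u := by
      intro u v
      have hp : Nat.card P = 1 ∨ Nat.card P = 2 ∨ Nat.card P = 4 := by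
        obtain ⟨k, hk⟩ := hd'
        interval_cases Nat.card P <;> omega
      rcases hp with h | h | h
      · haveI := (Nat.card_eq_one_iff_unique.1 h).1
        exact Subsingleton.elim _ _
      · haveI : Fact (Nat.Prime 2) := ⟨Nat.prime_two⟩
        haveI := isCyclic_of_prime_card h
        exact (IsCyclic.isMulCommutative (α := P)).is_comm.comm u v
      · haveI : Fact (Nat.Prime 2) := ⟨Nat.prime_two⟩
        exact (IsPGroup.isMulCommutative_of_card_eq_prime_sq (p := 2) (by rw [h]; norm_num)).is_comm.comm u v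
    have := congrArg Subtype.val (hcomm ⟨_, ⟨⟨a, ha⟩, rfl⟩⟩ ⟨_, ⟨⟨b, hb⟩, rfl⟩⟩)
    change Y.θ a * Y.θ b = Y.θ b * Y.θ a at this
    rw [← Y.θ_mul _ _ (hAy a ha) (hAy b hb), ← Y.θ_mul _ _ (hAy b hb) (hAy a ha),
      Y.θ_eq_iff ((hAy a ha).mul_left (hAy b hb)) ((hAy b hb).mul_left (hAy a ha)),
      show a * b * (b * a)⁻¹ = a * b * a⁻¹ * b⁻¹ by group, hd] at this
    exact hxY this
  refine ⟨?_, ?_, fun l hl => ?_, ?_⟩
  · intro n hnX hnY hne
    have hnI : n ∈ I := hMI ▸ hNM ⟨hnX, hnY⟩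
    obtain ⟨q, hq, h | h⟩ := (hI n).1 hnI
    · exact absurd (hconj h (Y.le n hnY)) (hno n hnX hnY hne q hq)
    · refine ⟨q, hq, hconj ?_ ((Y.le n hnY).mul_left hc)⟩
      rw [h, mul_assoc, X.sq_x, mul_one]
  · have h := hcard
    rw [hr] at h
    change 4 ≤ Nat.card N
    omega
  · obtain ⟨a, ha, h⟩ := hsurj hr l hl
    exact ⟨a, (hAmem.1 ha).1, (hAmem.1 ha).2, h⟩
  · by_contra hns
    push Not at hns
    refine hab fun a ha b hb => ?_
    have h1 : ∀ c ∈ A, c * c = 1 := fun c hc =>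
      (X.sq c (hAmem.1 hc).1).resolve_right (hns c (hAmem.1 hc).1 (hAmem.1 hc).2)
    have e1 : ∀ c ∈ A, c⁻¹ = c := fun c hc => inv_eq_of_mul_eq_one_right (h1 c hc)
    show a * b = b * a
    have := e1 _ (mul_mem ha hb)
    rwa [mul_inv_rev, e1 a ha, e1 b hb, eq_comm] at this

/-- **Two commuting involutions outside each other's radical.** -/
theorem outside (X : Local x) (Y : Local y) (hc : Commute x y) (hyX : y ∉ X.Q) (hxY : x ∉ Y.Q) :
    ∃ n, n ∈ X.Q ∧ n ∈ Y.Q ∧ n ≠ 1 ∧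
      ((∃ q ∈ X.Q, q * y * q⁻¹ = n * y) ∨ ∃ q ∈ Y.Q, q * x * q⁻¹ = n * x) := by
  by_contra hno
  push Not at hno
  obtain ⟨hX, hN4, -, -⟩ := side X Y hc hyX hxY fun n h1 h2 h3 => (hno n h1 h2 h3).1
  obtain ⟨-, -, hBsurj, b0, hb0, hb0x, hb0y⟩ :=
    side Y X hc.symm hxY hyX fun n h1 h2 h3 => (hno n h2 h1 h3).2
  -- every element of the intersection times `x y` is the square of a product
  have key : ∀ n, n ∈ X.Q → n ∈ Y.Q → n ≠ 1 → ∃ a b, a ∈ X.Q ∧ Commute a y ∧ b ∈ Y.Q ∧ Commute b x ∧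
      a * a = x ∧ b * b = y ∧ a⁻¹ * b * a * b⁻¹ = n := by
    intro n hnX hnY hne
    obtain ⟨q, hq, hqy⟩ := hX n hnX hnY hne
    set c := q * b0 * q⁻¹ with hcdef
    have hqx := X.le q hq
    have hcx : Commute c x := (hqx.mul_left hb0x).mul_left hqx.inv_left
    have hcc : c * c = n * x * y := by
      rw [hcdef, show q * b0 * q⁻¹ * (q * b0 * q⁻¹) = q * (b0 * b0) * q⁻¹ by group, hb0y, hqy]
    have hcn : Commute c n := by
      have hb0n : Commute b0 n := (inter_central Y X hyX hnY hnX hb0 hb0x).symm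
      have hm : q⁻¹ * n * q = n ∨ q⁻¹ * n * q = n * x := by
        rcases X.commute_or (inv_mem hq) hnX with h | h <;> rw [inv_inv] at h
        · exact Or.inl h
        · exact Or.inr h
      have h2 : Commute b0 (q⁻¹ * n * q) := by
        rcases hm with h | h <;> rw [h]
        · exact hb0n
        · exact hb0n.mul_right hb0x
      have := (Commute.conj_iff q).2 h2
      rwa [show q * (q⁻¹ * n * q) * q⁻¹ = n by group] at this
    have hcy : Commute c y := by
      have e : y = (n * x)⁻¹ * (c * c) := by rw [hcc]; group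
      rw [e]
      exact (hcn.mul_right hcx).inv_right.mul_right ((Commute.refl c).mul_right (Commute.refl c))
    obtain ⟨b, hb, hbx, hbθ⟩ := hBsurj (X.θ c) (by
      rw [← X.θ_mul _ _ hcx hc.symm, ← X.θ_mul _ _ hc.symm hcx, hcy.eq])
    have hbyc : Commute b y := Y.le b hb
    have ha : c * b⁻¹ ∈ X.Q := (X.θ_eq_iff hcx hbx).1 hbθ.symm
    have hay : Commute (c * b⁻¹) y := hcy.mul_left hbyc.inv_left
    refine ⟨c * b⁻¹, b, ha, hay, hb, hbx, ?_⟩
    set a := c * b⁻¹
    have hw : a⁻¹ * b * a * b⁻¹ ∈ X.Q ∧ a⁻¹ * b * a * b⁻¹ ∈ Y.Q := by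
      constructor
      · have := mul_mem (inv_mem ha) (X.norm hbx ha)
        rwa [show a⁻¹ * (b * a * b⁻¹) = a⁻¹ * b * a * b⁻¹ by group] at this
      · have := mul_mem (Y.norm hay.inv_left hb) (inv_mem hb)
        rwa [inv_inv, show a⁻¹ * b * a * b⁻¹ = a⁻¹ * b * a * b⁻¹ from rfl] at this
    set w := a⁻¹ * b * a * b⁻¹ with hwdef
    have hprod : a * a * w * (b * b) = n * x * y := by
      rw [← hcc, show c = a * b by simp [a], hwdef]; group
    have hbb : b * b = y := by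
      refine (Y.sq b hb).resolve_left fun h1 => hyX ?_
      rw [h1, mul_one] at hprod
      rw [show y = (n * x)⁻¹ * (a * a * w) by rw [hprod]; group]
      exact mul_mem (inv_mem (mul_mem hnX X.mem)) (mul_mem (mul_mem ha ha) hw.1)
    rw [hbb] at hprod
    have hprod' : a * a * w = n * x := mul_right_cancel hprod
    have haa : a * a = x := by
      refine (X.sq a ha).resolve_left fun h1 => hxY ?_
      rw [h1, one_mul] at hprod'
      rw [show x = n⁻¹ * w by rw [hprod']; group]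
      exact mul_mem (inv_mem hnY) hw.2
    rw [haa, (X.le n hnX).eq] at hprod'
    exact ⟨haa, hbb, mul_left_cancel hprod'⟩
  -- but the root pair is unique
  obtain ⟨n1, n2, h1, h2, hne⟩ : ∃ n1 n2, (n1 ∈ X.Q ⊓ Y.Q ∧ n1 ≠ 1) ∧ (n2 ∈ X.Q ⊓ Y.Q ∧ n2 ≠ 1) ∧ n1 ≠ n2 := by
    have hlt : 1 < (((X.Q ⊓ Y.Q : Subgroup G) : Set G) \ {1}).ncard := by
      have := Set.ncard_sdiff_singleton_add_one (s := ((X.Q ⊓ Y.Q : Subgroup G) : Set G))
        (one_mem (X.Q ⊓ Y.Q)) (Set.toFinite _)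
      rw [← Nat.card_coe_set_eq ((X.Q ⊓ Y.Q : Subgroup G) : Set G), SetLike.coe_sort_coe] at this
      omega
    obtain ⟨n1, h1, n2, h2, hne⟩ := (Set.one_lt_ncard (Set.toFinite _)).1 hlt
    exact ⟨n1, n2, h1, h2, hne⟩
  obtain ⟨a, b, ha, hay, hb, hbx, haa, hbb, hw⟩ := key n1 h1.1.1 h1.1.2 h1.2
  obtain ⟨a', b', ha', hay', hb', hbx', haa', hbb', hw'⟩ := key n2 h2.1.1 h2.1.2 h2.2
  refine hne ?_
  -- up to the centre and the intersection the roots agree
  have root : ∀ {x y : G} (X : Local x) (Y : Local y), Commute x y → x ∉ Y.Q → ∀ {a a' : G},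
      a ∈ X.Q → Commute a y → a * a = x → a' ∈ X.Q → Commute a' y → a' * a' = x →
      ∃ m ε, (ε = 1 ∨ ε = x) ∧ m ∈ X.Q ∧ m ∈ Y.Q ∧ a' = a * (ε * m) := by
    intro x y X Y hc hxY a a' ha hay haa ha' hay' haa'
    have hi : Y.θ x * Y.θ x = 1 := by rw [← Y.θ_mul _ _ hc hc, X.sq_x, θ_one]
    have hi1 : Y.θ x ≠ 1 := fun e => hxY ((Y.θ_ker x hc).1 e)
    have h := roots_eq hi hi1 (a := Y.θ a) (b := Y.θ a') (by rw [← Y.θ_mul _ _ hay hay, haa])
      (by rw [← Y.θ_mul _ _ hay' hay', haa'])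
    have hax := X.le a ha
    rcases h with h | h
    · refine ⟨a⁻¹ * a', 1, Or.inl rfl, mul_mem (inv_mem ha) ha', ?_, by group⟩
      rw [← Y.θ_ker _ (hay.inv_left.mul_left hay'), Y.θ_mul _ _ hay.inv_left hay', Y.θ_inv hay, h,
        inv_mul_cancel]
    · refine ⟨a * a', x, Or.inr rfl, mul_mem ha ha', ?_, ?_⟩
      · rw [← Y.θ_ker _ (hay.mul_left hay'), Y.θ_mul _ _ hay hay', h, mul_inv_cancel]
      · calc a' = (a * a) * (a * a) * a' := by rw [haa, X.sq_x, one_mul]
          _ = a * (a * a * (a * a')) := by group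
          _ = _ := by rw [haa]
  obtain ⟨m, ε, hε, hmX, hmY, rfl⟩ := root X Y hc hxY ha hay haa ha' hay' haa'
  obtain ⟨m', ε', hε', hm'Y, hm'X, rfl⟩ := root Y X hc.symm hyX hb hbx hbb hb' hbx' hbb'
  have hmb : Commute (ε * m) b := by
    refine Commute.mul_left ?_ (inter_central Y X hyX hmY hmX hb hbx)
    rcases hε with rfl | rfl
    · exact Commute.one_left b
    · exact hbx.symm
  have hmb' : Commute (ε' * m') a := by
    refine Commute.mul_left ?_ (inter_central X Y hxY hm'X hm'Y ha hay)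
    rcases hε' with rfl | rfl
    · exact Commute.one_left a
    · exact hay.symm
  have hmn : Commute (ε * m) n1 := by
    refine Commute.mul_left ?_ (inter_central X Y hxY hmX hmY h1.1.1 (Y.le n1 h1.1.2))
    rcases hε with rfl | rfl
    · exact Commute.one_left n1
    · exact (X.le n1 h1.1.1).symm
  have hmm : Commute (ε * m) (ε' * m') := by
    refine Commute.mul_left ?_ ?_
    · rcases hε with rfl | rfl
      · exact Commute.one_left _
      · refine Commute.mul_right ?_ (X.le m' hm'X).symm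
        rcases hε' with rfl | rfl
        · exact Commute.one_right _
        · exact hc
    · refine Commute.mul_right ?_ (inter_central X Y hxY hmX hmY hm'X (Y.le m' hm'Y))
      rcases hε' with rfl | rfl
      · exact Commute.one_right _
      · exact Y.le m hmY
  rw [← hw, ← hw']
  set s := ε * m
  set s' := ε' * m'
  calc a⁻¹ * b * a * b⁻¹ = s⁻¹ * (s * (a⁻¹ * b * a * b⁻¹)) := by group
    _ = s⁻¹ * ((a⁻¹ * b * a * b⁻¹) * s) := by rw [hw, hmn.eq]
    _ = s⁻¹ * a⁻¹ * b * a * (b⁻¹ * s) := by group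
    _ = s⁻¹ * a⁻¹ * b * a * (s * b⁻¹) := by rw [hmb.inv_right.symm.eq]
    _ = s⁻¹ * a⁻¹ * b * (a * s) * (s' * s'⁻¹) * b⁻¹ := by group
    _ = s⁻¹ * a⁻¹ * b * ((a * s) * s') * (b * s')⁻¹ := by group
    _ = s⁻¹ * a⁻¹ * b * (s' * (a * s)) * (b * s')⁻¹ := by
      rw [(hmb'.symm.mul_left hmm).eq]
    _ = _ := by group

end Local

end Cfsg.Agent.TransvCent.RecogB
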