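import Cfsg.Agent.Lib.TransvCent.RecogTwist
import Cfsg.Agent.Lib.Solvable.Gaschutz

/-!
# A complement of the centre in the stabiliser of the coordinates

* `RecogSetting.Frame.exists_complement` : a subgroup mapped bijectively onto the Levi codes
-/

set_option autoImplicit false
set_option linter.style.haveILetI false
open scoped commutatorElement

namespace Cfsg.Agent.TransvCent

/-- A power of a code. -/
def lpow (d : ℕ) : ℕ → ℕ
  | 0 => one
  | n + 1 => mul (lpow d n) d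

theorem check_dihedral :
    pack 0 0 0 1 3 4 ∈ levi ∧ pack 0 0 0 1 2 6 ∈ levi ∧
    leviInv (pack 0 0 0 1 3 4) = true ∧ leviInv (pack 0 0 0 1 2 6) = true ∧
    leviInv (lpow (mul (pack 0 0 0 1 3 4) (pack 0 0 0 1 2 6)) 2) = true ∧
    ((List.range 8).map fun n => mul (lpow (mul (pack 0 0 0 1 3 4) (pack 0 0 0 1 2 6)) (n % 4))
      (lpow (pack 0 0 0 1 3 4) (n / 4))).Nodup := by
  decide +kernel

namespace RecogSetting

variable {C : Type*} [Group C] {D : RecogSetting C} {P : D.Split}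

namespace Frame

variable (Fr : D.Frame P)

theorem rho_eq_iff {g h : C} : Fr.rho g = Fr.rho h → Fr.rho (g⁻¹ * h) = one := fun e => by
  have hur : ∀ {r}, r < 8 → Fr.ur (g⁻¹ * h) r = r := fun {r} hr => by
    rw [Fr.ur_mul, ← Fr.ur_eq_of_rho e (Fr.ur_lt _ _), ← Fr.ur_mul, inv_mul_cancel, Fr.ur_one hr]
  rw [rho, hur (by norm_num), hur (by norm_num), hur (by norm_num)]
  rfl

theorem rho_mul_left {q : C} (hq : q ∈ D.Q) (g : C) : Fr.rho (q * g) = Fr.rho g := by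
  rw [rho, rho, Fr.ur_mul, Fr.ur_mul, Fr.ur_mul, Fr.ur_of_mem hq (by norm_num),
    Fr.ur_of_mem hq (by norm_num), Fr.ur_of_mem hq (by norm_num)]

theorem rho_pow (g : C) (n : ℕ) : Fr.rho (g ^ n) = lpow (Fr.rho g) n := by
  induction n with
  | zero => rw [pow_zero, Fr.rho_one]; rfl
  | succ n ih => rw [pow_succ, Fr.rho_mul, ih]; rfl

variable [Finite C] {G : Type*} [Group G]

theorem exists_complement (ι : C →* G) (hι : Function.Injective ι)
    (hcent : ∀ g : G, g * ι D.z = ι D.z * g → ∃ c, ι c = g)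
    (hS : ∀ a ∈ P.E, a ∉ D.Zs → IsConj (ι a) (ι D.z))
    (hfull : ∀ x ∈ D.Q, IsConj (ι x) (ι D.z) → x ≠ D.z → x ∈ D.S) :
    ∃ K : Subgroup C, K ≤ Fr.stab ∧ (∀ k ∈ K, Fr.rho k = one → k = 1) ∧
      (∀ g : C, ∃ q ∈ D.Q, ∃ k ∈ K, g = q * k) ∧ ∀ d ∈ levi, ∃ k ∈ K, Fr.rho k = d := by
  classical
  have hinv : ∀ {t : C}, t ∈ Fr.stab → leviInv (Fr.rho t) = true → t * t = 1 := fun {t} ht h => by
    rw [leviInv, Bool.and_eq_true, beq_iff_eq, bne_iff_ne] at h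
    exact Fr.sq_of_involution ι hι hcent hS hfull ht h.1 h.2
  obtain ⟨hp1, hp2, hi1, hi2, hi3, hnd⟩ := check_dihedral
  obtain ⟨x, hx, hxρ⟩ := Fr.rho_surj hp1
  obtain ⟨y, hy, hyρ⟩ := Fr.rho_surj hp2
  have hxx := hinv hx (hxρ ▸ hi1)
  have hyy := hinv hy (hyρ ▸ hi2)
  set c := x * y with hc
  have hcρ : Fr.rho c = mul (pack 0 0 0 1 3 4) (pack 0 0 0 1 2 6) := by rw [hc, Fr.rho_mul, hxρ, hyρ]
  have hc4 : c ^ 4 = 1 := by
    rw [show (4 : ℕ) = 2 * 2 from rfl, pow_mul, pow_two (c ^ 2)]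
    exact hinv (pow_mem (mul_mem hx hy) 2) (by rw [Fr.rho_pow, hcρ]; exact hi3)
  have hxc : ∀ k : ℕ, x * c ^ k = c ^ (3 * k) * x := by
    have h1 : x * c * x⁻¹ = c ^ 3 := by
      have h3 : c ^ 3 = c⁻¹ := eq_inv_of_mul_eq_one_left (by rw [← pow_succ, hc4])
      rw [h3, hc, mul_inv_rev, inv_eq_of_mul_eq_one_right hxx, inv_eq_of_mul_eq_one_right hyy,
        ← mul_assoc, hxx, one_mul]
    intro k
    rw [pow_mul, ← h1, conj_pow, inv_mul_cancel_right]
  have hxjc : ∀ j k : ℕ, x ^ j * c ^ k = c ^ (3 ^ j * k) * x ^ j := by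
    intro j
    induction j with
    | zero => intro k; simp
    | succ j ih =>
      intro k
      rw [pow_succ x, mul_assoc, hxc, ← mul_assoc, ih, mul_assoc, ← pow_succ, pow_succ 3, mul_assoc]
  have hxj : ∀ j : ℕ, x ^ j * x ^ j = 1 := fun j => by
    rw [← (Commute.refl x).mul_pow, hxx, one_pow]
  have hci : ∀ i : ℕ, c ^ i * c ^ (3 * i) = 1 := fun i => by
    rw [← pow_add, show i + 3 * i = 4 * i by ring, pow_mul, hc4, one_pow]
  let S := ↥Fr.stab
  let K₀ : Subgroup S := D.Zs.subgroupOf Fr.stab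
  let A : Subgroup S :=
    { carrier := {v | ∃ i j : ℕ, (v : C) = c ^ i * x ^ j}
      one_mem' := ⟨0, 0, by simp⟩
      mul_mem' := by
        rintro v w ⟨i, j, hv⟩ ⟨k, l, hw⟩
        refine ⟨i + 3 ^ j * k, j + l, ?_⟩
        rw [Subgroup.coe_mul, hv, hw, pow_add, pow_add, mul_assoc, ← mul_assoc (x ^ j), hxjc,
          mul_assoc, ← mul_assoc]
      inv_mem' := by
        rintro v ⟨i, j, hv⟩
        refine ⟨3 ^ j * (3 * i), j, ?_⟩
        rw [Subgroup.coe_inv, hv, ← hxjc, mul_inv_rev, inv_eq_of_mul_eq_one_right (hxj j),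
          inv_eq_of_mul_eq_one_right (hci i)] }
  have hcmem : ∀ n : ℕ, c ^ (n % 4) * x ^ (n / 4) ∈ Fr.stab := fun n =>
    mul_mem (pow_mem (mul_mem hx hy) _) (pow_mem hx _)
  let e : Fin 8 → A := fun n =>
    ⟨⟨_, hcmem n⟩, (n : ℕ) % 4, (n : ℕ) / 4, rfl⟩
  have heρ : ∀ n : Fin 8, Fr.rho ((e n : S) : C) = mul (lpow (mul (pack 0 0 0 1 3 4) (pack 0 0 0 1 2 6)) ((n : ℕ) % 4))
      (lpow (pack 0 0 0 1 3 4) ((n : ℕ) / 4)) := fun n => by
    show Fr.rho (c ^ ((n : ℕ) % 4) * x ^ ((n : ℕ) / 4)) = _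
    rw [Fr.rho_mul, Fr.rho_pow, Fr.rho_pow, hcρ, hxρ]
  have hρinj : ∀ n m : Fin 8, Fr.rho ((e n : S) : C) = Fr.rho ((e m : S) : C) → n = m := fun n m h => by
    rw [heρ, heρ] at h
    exact Fin.ext (List.inj_on_of_nodup_map hnd (List.mem_range.2 n.2) (List.mem_range.2 m.2) h)
  have hesurj : Function.Surjective e := by
    rintro ⟨v, i, j, hv⟩
    refine ⟨⟨i % 4 + 4 * (j % 2), by omega⟩, Subtype.ext (Subtype.ext ?_)⟩
    show c ^ ((i % 4 + 4 * (j % 2)) % 4) * x ^ ((i % 4 + 4 * (j % 2)) / 4) = (v : C)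
    rw [show (i % 4 + 4 * (j % 2)) % 4 = i % 4 by omega, show (i % 4 + 4 * (j % 2)) / 4 = j % 2 by omega,
      hv]
    conv_rhs => rw [← Nat.div_add_mod i 4, ← Nat.div_add_mod j 2, pow_add, pow_add, pow_mul, pow_mul,
      hc4, pow_two, hxx, one_pow, one_pow, one_mul, one_mul]
  have hA8 : Nat.card A = 8 := by
    rw [← Nat.card_eq_of_bijective e ⟨fun n m h => hρinj n m (by rw [h]), hesurj⟩, Nat.card_fin]
  have he0 : ((e 0 : S) : C) = 1 := by simp [e]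
  have hdisj : A ⊓ K₀ = ⊥ := by
    refine le_bot_iff.1 ?_
    rintro v ⟨hvA, hvK⟩
    obtain ⟨n, hn⟩ := hesurj ⟨v, hvA⟩
    have hv : ((e n : S) : C) = (v : C) := congrArg (fun w : A => ((w : S) : C)) hn
    have := hρinj n 0 (by rw [he0, Fr.rho_one, hv, Fr.rho_of_mem (D.Zs_le (Subgroup.mem_subgroupOf.1 hvK))])
    rw [this, he0] at hv
    exact Subgroup.mem_bot.2 (Subtype.ext hv.symm)
  haveI : K₀.Normal := by infer_instance
  haveI : IsMulCommutative K₀ :=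
    ⟨⟨fun u v => Subtype.ext (Subtype.ext (D.Zs_comm (Subgroup.mem_subgroupOf.1 v.2) _))⟩⟩
  have hK2 : Nat.card K₀ = 2 := by
    rw [Nat.card_congr (Subgroup.subgroupOfEquivOfLe Fr.Zs_le_stab).toEquiv]
    show Nat.card ({1, D.z} : Set C) = 2
    rw [Nat.card_coe_set_eq, Set.ncard_pair D.z_ne.symm]
  have hT : Nat.card S = 2 * 168 := by
    haveI := D.normal
    set μ : S →* C ⧸ D.Q := (QuotientGroup.mk' D.Q).comp Fr.stab.subtype with hμ
    have hker : μ.ker = K₀ := by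
      refine Subgroup.ext fun v => ?_
      rw [MonoidHom.mem_ker, Subgroup.mem_subgroupOf]
      exact ⟨fun h => Fr.stab_inf v.2 ((QuotientGroup.eq_one_iff (v : C)).1 h),
        fun h => (QuotientGroup.eq_one_iff (v : C)).2 (D.Zs_le h)⟩
    have hsur : Function.Surjective μ := fun q => by
      induction q using QuotientGroup.induction_on with
      | _ g =>
        obtain ⟨p, hp, ht⟩ := Fr.exists_stab g
        refine ⟨⟨_, ht⟩, ?_⟩
        show ((p * g : C) : C ⧸ D.Q) = g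
        rw [QuotientGroup.mk_mul, (QuotientGroup.eq_one_iff p).2 hp, one_mul]
    obtain ⟨i⟩ := D.iso
    rw [← Subgroup.card_mul_index μ.ker, Subgroup.index_ker, MonoidHom.range_eq_top.2 hsur,
      Subgroup.card_top, Nat.card_congr i.toEquiv, natCard_recogSL32, hker, hK2]
  have hU16 : Nat.card (K₀ ⊔ A : Subgroup S) = 16 := by
    let m : K₀ × A → (K₀ ⊔ A : Subgroup S) := fun w =>
      ⟨(w.1 : S) * (w.2 : S), Subgroup.mul_mem_sup w.1.2 w.2.2⟩
    have hm : Function.Bijective m := by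
      refine ⟨fun u v h => ?_, fun w => ?_⟩
      · exact Subgroup.mul_injective_of_disjoint (disjoint_iff.2 (inf_comm A K₀ ▸ hdisj))
          (congrArg Subtype.val h)
      · obtain ⟨k, hk, a, ha, e'⟩ := Subgroup.mem_sup_of_normal_left.1 w.2
        exact ⟨(⟨k, hk⟩, ⟨a, ha⟩), Subtype.ext e'⟩
    rw [← Nat.card_eq_of_bijective m hm, Nat.card_prod, hK2, hA8]
  obtain ⟨H, hH⟩ := Cfsg.Agent.Solvable.gaschutz_exists (K := K₀) (U := K₀ ⊔ A) le_sup_left
    (by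
      have h := Subgroup.card_mul_index (K₀ ⊔ A)
      rw [hU16, hT] at h
      have h21 : (K₀ ⊔ A).index = 21 := by omega
      rw [hK2, h21]
      norm_num) hdisj rfl
  have hall : ∀ t : S, ∃ k : S, k ∈ H ∧ ∃ ζ ∈ D.Zs, (t : C) = ζ * k := fun t => by
    obtain ⟨⟨k, h⟩, hkh, -⟩ := hH.existsUnique t
    exact ⟨h, h.2, _, Subgroup.mem_subgroupOf.1 k.2, by rw [← Subgroup.coe_mul, hkh]⟩
  refine ⟨H.map Fr.stab.subtype, ?_, ?_, ?_, ?_⟩
  · exact Subgroup.map_subtype_le H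
  · intro k hk h1
    obtain ⟨v, hv, rfl⟩ := Subgroup.mem_map.1 hk
    have hvK : v ∈ K₀ := Subgroup.mem_subgroupOf.2 (Fr.mem_Zs_of_stab v.2 h1)
    have := hH.disjoint.le_bot ⟨hvK, hv⟩
    rw [Subgroup.mem_bot.1 this]
    rfl
  · intro g
    obtain ⟨p, hp, ht⟩ := Fr.exists_stab g
    obtain ⟨k, hk, ζ, hζ, e'⟩ := hall ⟨_, ht⟩
    exact ⟨p⁻¹ * ζ, mul_mem (inv_mem hp) (D.Zs_le hζ), k, Subgroup.mem_map_of_mem _ hk, by
      rw [mul_assoc, ← e', inv_mul_cancel_left]⟩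
  · intro d hd
    obtain ⟨t, ht, rfl⟩ := Fr.rho_surj hd
    obtain ⟨k, hk, ζ, hζ, e'⟩ := hall ⟨t, ht⟩
    exact ⟨k, Subgroup.mem_map_of_mem _ hk, by
      show Fr.rho (k : C) = Fr.rho t
      rw [show t = ζ * (k : C) from e', Fr.rho_mul_left (D.Zs_le hζ)]⟩

end Frame

end RecogSetting

end Cfsg.Agent.TransvCent
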