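import Cfsg.Agent.Lib.TransvCent.RecogSplit
import Cfsg.Agent.Lib.TransvCent.Bits

/-!
# Dual coordinates on the two invariant subgroups

* `RecogSetting.Frame` : dual complements `U`, `W` of the centre, indexed by three bit words
* `RecogSetting.exists_frame` : they exist
-/

set_option autoImplicit false
set_option linter.style.haveILetI false
open scoped commutatorElement

namespace Cfsg.Agent.TransvCent

/-- The element or the identity. -/
def pw {C : Type*} [Group C] (a : C) (b : Bool) : C := if b then a else 1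

theorem pw_xor {C : Type*} [Group C] {a : C} (h : a * a = 1) (b b' : Bool) :
    pw a (b ^^ b') = pw a b * pw a b' := by
  cases b <;> cases b' <;> simp [pw, h]

/-- The word in three elements selected by the bits. -/
def comb {C : Type*} [Group C] (a₀ a₁ a₂ : C) (r : ℕ) : C :=
  pw a₀ (r.testBit 0) * pw a₁ (r.testBit 1) * pw a₂ (r.testBit 2)

theorem comb_xor {C : Type*} [Group C] {E : Subgroup C} {a₀ a₁ a₂ : C} (h₀ : a₀ ∈ E) (h₁ : a₁ ∈ E)
    (h₂ : a₂ ∈ E) (hc : ∀ x ∈ E, ∀ y ∈ E, x * y = y * x) (hs : ∀ x ∈ E, x * x = 1) (r s : ℕ) :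
    comb a₀ a₁ a₂ (r ^^^ s) = comb a₀ a₁ a₂ r * comb a₀ a₁ a₂ s := by
  have hm : ∀ {a : C}, a ∈ E → ∀ b, pw a b ∈ E := fun ha b => by
    cases b
    · exact one_mem _
    · exact ha
  simp only [comb, Nat.testBit_xor]
  rw [pw_xor (hs _ h₀), pw_xor (hs _ h₁), pw_xor (hs _ h₂)]
  have c1 : Commute (pw a₀ (s.testBit 0)) (pw a₁ (r.testBit 1)) := hc _ (hm h₀ _) _ (hm h₁ _)
  have c2 : Commute (pw a₀ (s.testBit 0) * pw a₁ (s.testBit 1)) (pw a₂ (r.testBit 2)) :=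
    hc _ (mul_mem (hm h₀ _) (hm h₁ _)) _ (hm h₂ _)
  rw [c1.mul_mul_mul_comm, c2.mul_mul_mul_comm]

theorem comb_mem {C : Type*} [Group C] {E : Subgroup C} {a₀ a₁ a₂ : C} (h₀ : a₀ ∈ E) (h₁ : a₁ ∈ E)
    (h₂ : a₂ ∈ E) (r : ℕ) : comb a₀ a₁ a₂ r ∈ E := by
  simp only [comb, pw]
  refine mul_mem (mul_mem ?_ ?_) ?_ <;> split <;> first | assumption | exact one_mem _

theorem par_lt_two (x : ℕ) : par x < 2 := Nat.lt_succ_of_le Nat.and_le_right

theorem and_lt_eight {r : ℕ} (hr : r < 8) (f : ℕ) : r &&& f < 8 := lt_of_le_of_lt Nat.and_le_left hr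

theorem xor_lt_eight {r s : ℕ} (hr : r < 8) (hs : s < 8) : r ^^^ s < 8 := by
  simpa using Nat.xor_lt_two_pow (n := 3) hr hs

theorem eq_zero_of_par {f : ℕ} (hf : f < 8) (h : ∀ r < 8, par (r &&& f) = 0) : f = 0 := by
  revert h; revert f; decide

theorem eq_of_par {f g : ℕ} (hf : f < 8) (hg : g < 8) (h : ∀ r < 8, par (r &&& f) = par (r &&& g)) :
    f = g := by
  have key : ∀ f < 8, ∀ g < 8, (∀ r < 8, par (r &&& f) = par (r &&& g)) → f = g := by decide +kernel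
  exact key f hf g hg h

namespace RecogSetting

variable {C : Type*} [Group C] (D : RecogSetting C)

/-- Dual coordinates. -/
structure Frame (P : D.Split) where
  U : ℕ → C
  W : ℕ → C
  U_mem : ∀ r, U r ∈ P.E
  W_mem : ∀ r, W r ∈ P.F
  U_xor : ∀ r s, U (r ^^^ s) = U r * U s
  W_xor : ∀ r s, W (r ^^^ s) = W r * W s
  U_Zs : ∀ r, r < 8 → U r ∈ D.Zs → r = 0
  W_Zs : ∀ r, r < 8 → W r ∈ D.Zs → r = 0
  pair : ∀ r, r < 8 → ∀ s, s < 8 → ⁅U r, W s⁆ = D.z ^ par (r &&& s)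
  U_exh : ∀ e ∈ P.E, ∃ r, r < 8 ∧ (U r)⁻¹ * e ∈ D.Zs
  W_exh : ∀ e ∈ P.F, ∃ r, r < 8 ∧ (W r)⁻¹ * e ∈ D.Zs
  decomp : ∀ q ∈ D.Q, ∃ c u f, c < 2 ∧ u < 8 ∧ f < 8 ∧ q = D.z ^ c * W f * U u

variable {D}

theorem exists_avoid [Finite C] {E : Subgroup C} (hE : Nat.card E = 16) (L : List C) (hL : L.length ≤ 4) :
    ∃ x ∈ E, ∀ g ∈ L, g * x ∉ D.Zs := by
  classical
  by_contra h
  push Not at h
  have hsub : (E : Set C) ⊆ ((L.flatMap fun g => [g⁻¹, g⁻¹ * D.z]).toFinset : Set C) := by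
    intro x hx
    obtain ⟨g, hg, hgx⟩ := h x hx
    rw [Finset.mem_coe, List.mem_toFinset, List.mem_flatMap]
    refine ⟨g, hg, ?_⟩
    rcases hgx with e | e
    · simp [eq_inv_of_mul_eq_one_right e]
    · simp [← e]
  have h1 := Set.ncard_le_ncard hsub (Set.toFinite _)
  rw [Set.ncard_coe_finset, ← Nat.card_coe_set_eq] at h1
  have h2 := List.toFinset_card_le (L.flatMap fun g => [g⁻¹, g⁻¹ * D.z])
  have h3 : (L.flatMap fun g => [g⁻¹, g⁻¹ * D.z]).length ≤ 8 := by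
    rw [List.length_flatMap]
    simp; omega
  simp only [SetLike.coe_sort_coe, hE] at h1
  omega

theorem exists_comb [Finite C] {E : Subgroup C} (hE : Nat.card E = 16) (_hz : D.z ∈ E) :
    ∃ a₀ a₁ a₂ : C, a₀ ∈ E ∧ a₁ ∈ E ∧ a₂ ∈ E ∧
      (∀ r, r < 8 → comb a₀ a₁ a₂ r ∈ D.Zs → r = 0) := by
  obtain ⟨a, ha, hao⟩ := exists_avoid (D := D) hE [1] (by simp)
  obtain ⟨b, hb, hbo⟩ := exists_avoid (D := D) hE [1, a] (by simp)
  obtain ⟨c, hc, hco⟩ := exists_avoid (D := D) hE [1, a, b, a * b] (by simp)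
  refine ⟨a, b, c, ha, hb, hc, fun r hr hm => ?_⟩
  simp only [List.mem_cons, List.not_mem_nil, or_false, forall_eq_or_imp, forall_eq, one_mul] at hao hbo hco
  obtain ⟨hb1, hb2⟩ := hbo
  obtain ⟨hc1, hc2, hc3, hc4⟩ := hco
  interval_cases r <;> simp_all [comb, pw, Nat.testBit, Nat.shiftRight_eq_div_pow]

/-- Every element of `E` is a word times a central one. -/
theorem exh_of [Finite C] {E : Subgroup C} (hE : Nat.card E = 16) (hz : D.z ∈ E) (U : ℕ → C)
    (hU : ∀ r, U r ∈ E) (hx : ∀ r s, U (r ^^^ s) = U r * U s)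
    (hker : ∀ r, r < 8 → U r ∈ D.Zs → r = 0) : ∀ e ∈ E, ∃ r, r < 8 ∧ (U r)⁻¹ * e ∈ D.Zs := by
  classical
  let g : Fin 8 × Bool → C := fun p => U p.1 * pw D.z p.2
  have hgm : ∀ p, g p ∈ E := fun p => mul_mem (hU _) (by
    cases p.2
    · exact one_mem _
    · exact hz)
  have hpw : ∀ b, pw D.z b ∈ D.Zs := fun b => by cases b <;> simp [pw, RecogBase.mem_Zs]
  have hinj : Function.Injective g := by
    rintro ⟨i, u⟩ ⟨j, v⟩ h
    have hij : U ((i : ℕ) ^^^ j) ∈ D.Zs := by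
      have hj : U j * U j = 1 := by
        have h0 := hx 0 0
        rw [Nat.xor_self, left_eq_mul] at h0
        rw [← hx, Nat.xor_self, h0]
      rw [hx]
      have e : U i = U j * pw D.z v * (pw D.z u)⁻¹ := eq_mul_inv_of_mul_eq h
      rw [e, mul_assoc, mul_assoc, ← mul_assoc _ _ (U j),
        ← D.Zs_comm (mul_mem (hpw v) (inv_mem (hpw u))) (U j), ← mul_assoc (U j), hj, one_mul]
      exact mul_mem (hpw v) (inv_mem (hpw u))
    have h0 := hker _ (xor_lt_eight i.2 j.2) hij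
    have hij' : i = j := Fin.ext (Nat.xor_eq_zero_iff.1 h0)
    subst hij'
    have h' := mul_left_cancel h
    cases u <;> cases v <;> simp_all [pw, D.z_ne, Ne.symm D.z_ne]
  have hrange : Set.range g = (E : Set C) := by
    refine Set.eq_of_subset_of_ncard_le (Set.range_subset_iff.2 hgm) ?_ (Set.toFinite _)
    rw [← Nat.card_coe_set_eq, ← Nat.card_coe_set_eq, Nat.card_range_of_injective hinj, Nat.card_prod,
      Nat.card_fin, Nat.card_eq_fintype_card (α := Bool), Fintype.card_bool]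
    exact hE.le
  intro e he
  obtain ⟨⟨i, u⟩, rfl⟩ : e ∈ Set.range g := by rw [hrange]; exact he
  exact ⟨i, i.2, by simp [g, hpw]⟩

theorem z_pow_cases (n : ℕ) : D.z ^ n = D.z ^ (n % 2) := by
  conv_lhs => rw [← Nat.div_add_mod n 2, pow_add, pow_mul, pow_two, D.z_sq, one_pow, one_mul]

theorem exists_frame [Finite C] (P : D.Split) : Nonempty (D.Frame P) := by
  classical
  obtain ⟨a₀, a₁, a₂, ha₀, ha₁, ha₂, hkerU⟩ := exists_comb P.E_card P.z_E
  set U := comb a₀ a₁ a₂ with hUdef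
  have hU : ∀ r, U r ∈ P.E := comb_mem ha₀ ha₁ ha₂
  have hUx : ∀ r s, U (r ^^^ s) = U r * U s := comb_xor ha₀ ha₁ ha₂ P.E_comm P.E_sq
  have hUe := exh_of P.E_card P.z_E U hU hUx hkerU
  -- an element of `F` commuting with the generators of `E` is central
  have hgen : ∀ x : C, x * a₀ = a₀ * x → x * a₁ = a₁ * x → x * a₂ = a₂ * x →
      ∀ e ∈ P.E, x * e = e * x := by
    intro x h0 h1 h2 e he
    obtain ⟨r, -, hr⟩ := hUe e he
    have hc : Commute x (U r) := by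
      refine Commute.mul_right (Commute.mul_right ?_ ?_) ?_ <;> simp only [pw] <;> split <;>
        first | assumption | exact Commute.one_right x
    have := hc.mul_right (D.Zs_comm hr x : Commute x ((U r)⁻¹ * e))
    rw [mul_inv_cancel_left] at this
    exact this.eq
  -- `Q` is the product of the two subgroups
  let p : Fin 8 × P.F → C := fun v => U v.1 * (v.2 : C)
  have hpinj : Function.Injective p := by
    rintro ⟨i, x⟩ ⟨j, y⟩ h
    have h1 : U ((i : ℕ) ^^^ j) ∈ P.F := by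
      have hj : U j * U j = 1 := P.E_sq _ (hU _)
      rw [Nat.xor_comm, hUx]
      have e : U i = U j * (y : C) * (x : C)⁻¹ := eq_mul_inv_of_mul_eq h
      rw [e, mul_assoc (U j), ← mul_assoc, hj, one_mul]
      exact mul_mem y.2 (inv_mem x.2)
    have hij : i = j := Fin.ext (Nat.xor_eq_zero_iff.1
      (hkerU _ (xor_lt_eight i.2 j.2) (P.inter _ (hU _) h1)))
    subst hij
    exact Prod.ext rfl (Subtype.ext (mul_left_cancel h))
  have hprange : Set.range p = (D.Q : Set C) := by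
    refine Set.eq_of_subset_of_ncard_le
      (Set.range_subset_iff.2 fun v => mul_mem (P.E_le (hU _)) (P.F_le v.2.2)) ?_ (Set.toFinite _)
    rw [← Nat.card_coe_set_eq, ← Nat.card_coe_set_eq, Nat.card_range_of_injective hpinj, Nat.card_prod,
      Nat.card_fin, P.F_card]
    exact D.cardQ.le
  have hnd : ∀ w ∈ P.F, (∀ e ∈ P.E, w * e = e * w) → w ∈ D.Zs := by
    intro w hw h
    refine D.central_mem_Zs (P.F_le hw) fun q hq => ?_
    obtain ⟨⟨i, x⟩, rfl⟩ : q ∈ Set.range p := by rw [hprange]; exact hq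
    exact (Commute.mul_right (h _ (hU i)) (P.F_comm w hw _ x.2)).eq.symm
  -- dual elements
  let Φ : P.F → Bool × Bool × Bool := fun w =>
    (decide (⁅a₀, (w : C)⁆ = D.z), decide (⁅a₁, (w : C)⁆ = D.z), decide (⁅a₂, (w : C)⁆ = D.z))
  have hΦ : ∀ a ∈ P.E, ∀ v w : P.F,
      decide (⁅a, (v : C)⁆ = D.z) = decide (⁅a, (w : C)⁆ = D.z) → ⁅a, (v : C)⁻¹ * (w : C)⁆ = 1 := by
    intro a ha v w h
    have hv := P.F_le v.2
    have hw := P.F_le w.2
    have hvi : (v : C)⁻¹ = (v : C) := inv_eq_of_mul_eq_one_right (P.F_sq _ v.2)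
    rw [hvi, D.comm_mul_right (P.E_le ha) hv hw]
    rcases D.comm_mem_Zs (P.E_le ha) hv with e | e <;> rcases D.comm_mem_Zs (P.E_le ha) hw with e' | e' <;>
      rw [e, e'] at h ⊢ <;> simp_all [D.z_sq, Ne.symm D.z_ne]
  have hΦfib : ∀ v w : P.F, Φ v = Φ w → (v : C)⁻¹ * w ∈ D.Zs := by
    intro v w h
    simp only [Φ, Prod.mk.injEq] at h
    refine hnd _ (mul_mem (inv_mem v.2) w.2) (hgen _ ?_ ?_ ?_)
    · exact (commutatorElement_eq_one_iff_mul_comm.1 (hΦ _ ha₀ v w h.1)).symm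
    · exact (commutatorElement_eq_one_iff_mul_comm.1 (hΦ _ ha₁ v w h.2.1)).symm
    · exact (commutatorElement_eq_one_iff_mul_comm.1 (hΦ _ ha₂ v w h.2.2)).symm
  have hΦs : Function.Surjective Φ := by
    by_contra hns
    simp only [Function.Surjective, not_forall, not_exists] at hns
    obtain ⟨b, hb⟩ := hns
    haveI := Fintype.ofFinite P.F
    have h1 : (Finset.univ : Finset P.F).card ≤ 2 * (Finset.univ.image Φ).card := by
      refine Finset.card_le_mul_card_image _ _ fun t _ => ?_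
      by_cases ht : ∃ v, Φ v = t
      · obtain ⟨v, rfl⟩ := ht
        refine (Finset.card_le_card (t := {v, ⟨v * D.z, mul_mem v.2 P.z_F⟩}) fun w hw => ?_).trans
          Finset.card_le_two
        rw [Finset.mem_filter] at hw
        rw [Finset.mem_insert, Finset.mem_singleton]
        rcases hΦfib v w hw.2.symm with e | e
        · exact Or.inl (Subtype.ext (inv_mul_eq_one.1 e).symm)
        · exact Or.inr (Subtype.ext (by show (w : C) = v * D.z; rw [← e]; group))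
      · push Not at ht
        simp [Finset.filter_eq_empty_iff.2 fun w _ => ht w]
    have h2 : (Finset.univ.image Φ).card ≤ ((Finset.univ : Finset (Bool × Bool × Bool)).erase b).card :=
      Finset.card_le_card fun t ht => by
        obtain ⟨v, -, rfl⟩ := Finset.mem_image.1 ht
        exact Finset.mem_erase.2 ⟨hb v, Finset.mem_univ _⟩
    rw [Finset.card_univ, ← Nat.card_eq_fintype_card, P.F_card] at h1
    simp at h2
    omega
  obtain ⟨b₀, hb₀⟩ := hΦs (true, false, false)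
  obtain ⟨b₁, hb₁⟩ := hΦs (false, true, false)
  obtain ⟨b₂, hb₂⟩ := hΦs (false, false, true)
  simp only [Φ, Prod.mk.injEq, decide_eq_true_eq, decide_eq_false_iff_not] at hb₀ hb₁ hb₂
  have hone : ∀ {a : C}, a ∈ P.E → ∀ w : P.F, ⁅a, (w : C)⁆ ≠ D.z → ⁅a, (w : C)⁆ = 1 := fun ha w h =>
    (D.comm_mem_Zs (P.E_le ha) (P.F_le w.2)).resolve_right h
  set W := comb (b₀ : C) b₁ b₂ with hWdef
  have hW : ∀ r, W r ∈ P.F := comb_mem b₀.2 b₁.2 b₂.2
  have hWx : ∀ r s, W (r ^^^ s) = W r * W s := comb_xor b₀.2 b₁.2 b₂.2 P.F_comm P.F_sq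
  have hpair : ∀ r, r < 8 → ∀ s, s < 8 → ⁅U r, W s⁆ = D.z ^ par (r &&& s) := by
    have hgenW : ∀ a ∈ P.E, ∀ s, ⁅a, W s⁆ =
        pw ⁅a, (b₀ : C)⁆ (s.testBit 0) * pw ⁅a, (b₁ : C)⁆ (s.testBit 1) * pw ⁅a, (b₂ : C)⁆ (s.testBit 2) := by
      intro a ha s
      have hpw : ∀ (b : P.F) (t : Bool), pw (b : C) t ∈ D.Q ∧ ⁅a, pw (b : C) t⁆ = pw ⁅a, (b : C)⁆ t :=
        fun b t => by cases t <;> simp [pw, P.F_le b.2]
      rw [hWdef, comb, D.comm_mul_right (P.E_le ha) (mul_mem (hpw _ _).1 (hpw _ _).1) (hpw _ _).1,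
        D.comm_mul_right (P.E_le ha) (hpw _ _).1 (hpw _ _).1, (hpw _ _).2, (hpw _ _).2, (hpw _ _).2]
    have hU' : ∀ r s, ⁅U r, W s⁆ = pw ⁅a₀, W s⁆ (r.testBit 0) * pw ⁅a₁, W s⁆ (r.testBit 1) *
        pw ⁅a₂, W s⁆ (r.testBit 2) := by
      intro r s
      have hws := P.F_le (hW s)
      have hpw : ∀ a ∈ P.E, ∀ t, pw a t ∈ D.Q ∧ ⁅W s, pw a t⁆ = pw ⁅a, W s⁆ t := fun a ha t => by
        cases t <;> simp [pw, P.E_le ha, D.comm_symm (P.E_le ha) hws]
      rw [← D.comm_symm (P.E_le (hU r)) hws, hUdef, comb, D.comm_mul_right hws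
        (mul_mem (hpw _ ha₀ _).1 (hpw _ ha₁ _).1) (hpw _ ha₂ _).1,
        D.comm_mul_right hws (hpw _ ha₀ _).1 (hpw _ ha₁ _).1, (hpw _ ha₀ _).2, (hpw _ ha₁ _).2,
        (hpw _ ha₂ _).2]
    intro r hr s hs
    rw [hU', hgenW _ ha₀, hgenW _ ha₁, hgenW _ ha₂, hb₀.1, hone ha₁ b₀ hb₀.2.1, hone ha₂ b₀ hb₀.2.2,
      hone ha₀ b₁ hb₁.1, hb₁.2.1, hone ha₂ b₁ hb₁.2.2, hone ha₀ b₂ hb₂.1, hone ha₁ b₂ hb₂.2.1, hb₂.2.2]
    interval_cases r <;> interval_cases s <;>
      simp [pw, par, Nat.testBit, Nat.shiftRight_eq_div_pow, D.z_sq]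
  have hkerW : ∀ r, r < 8 → W r ∈ D.Zs → r = 0 := by
    intro r hr h
    refine eq_zero_of_par hr fun s hs => ?_
    have h1 : ⁅U s, W r⁆ = 1 := commutatorElement_eq_one_iff_mul_comm.2 (D.Zs_comm h _)
    rw [hpair s hs r hr] at h1
    have := par_lt_two (s &&& r)
    interval_cases h2 : par (s &&& r)
    · rfl
    · simp [D.z_ne] at h1
  refine ⟨⟨U, W, hU, hW, hUx, hWx, hkerU, hkerW, hpair, hUe,
    exh_of P.F_card P.z_F W hW hWx hkerW, fun q hq => ?_⟩⟩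
  obtain ⟨⟨i, x⟩, rfl⟩ : q ∈ Set.range p := by rw [hprange]; exact hq
  obtain ⟨f, hf, hfz⟩ := exh_of P.F_card P.z_F W hW hWx hkerW _ x.2
  obtain ⟨ζ, hζ, hxe⟩ : ∃ ζ ∈ D.Zs, (x : C) = W f * ζ := ⟨_, hfz, by group⟩
  have hswap : U i * W f = D.z ^ par ((i : ℕ) &&& f) * (W f * U i) := by
    rw [← hpair i i.2 f hf, commutatorElement_def]; group
  obtain ⟨c, hc, hce⟩ : ∃ c, c < 2 ∧ D.z ^ par ((i : ℕ) &&& f) * ζ = D.z ^ c := by
    rcases hζ with rfl | rfl
    · exact ⟨_, par_lt_two _, mul_one _⟩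
    · exact ⟨(par ((i : ℕ) &&& f) + 1) % 2, Nat.mod_lt _ (by norm_num), by
        rw [← z_pow_cases, pow_succ]⟩
  refine ⟨c, i, f, hc, i.2, hf, ?_⟩
  show U i * (x : C) = _
  rw [hxe, ← mul_assoc, hswap, ← hce, mul_assoc, mul_assoc, mul_assoc, D.Zs_comm hζ (U i)]
  rw [← mul_assoc (W f), D.Zs_comm hζ (W f)]
  simp only [mul_assoc]

end RecogSetting

end Cfsg.Agent.TransvCent
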