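import Cfsg.Agent.Lib.TransvCent.RecogFrame

/-!
# The action on the dual coordinates and the stabiliser of the coordinates

* `RecogSetting.Frame.rho` : the Levi code of an element, multiplicative, with kernel `Q`
* `RecogSetting.Frame.stab` : the stabiliser of the coordinates, meeting `Q` in its centre
-/

set_option autoImplicit false
set_option linter.style.haveILetI false
open scoped commutatorElement

namespace Cfsg.Agent.TransvCent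

/-- The image of a three bit word under the transpose of three rows. -/
def wmap (r0 r1 r2 f : ℕ) : ℕ := par (r0 &&& f) + 2 * par (r1 &&& f) + 4 * par (r2 &&& f)

theorem wmap_lt (r0 r1 r2 f : ℕ) : wmap r0 r1 r2 f < 8 := by
  have := par_lt_two (r0 &&& f)
  have := par_lt_two (r1 &&& f)
  have := par_lt_two (r2 &&& f)
  simp only [wmap]
  omega

theorem sel_lt {r a b c : ℕ} (ha : a < 8) (hb : b < 8) (hc : c < 8) : sel r a b c < 8 := by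
  have hs : ∀ {x y : ℕ}, x < 8 → (y &&& 1) * x < 8 := fun {x y} hx => by
    have : y &&& 1 ≤ 1 := Nat.and_le_right
    rcases Nat.le_one_iff_eq_zero_or_eq_one.1 this with e | e <;> rw [e] <;> omega
  exact xor_lt_eight (xor_lt_eight (hs ha) (hs hb)) (hs hc)

theorem sel_unit {a b c : ℕ} : sel 1 a b c = a ∧ sel 2 a b c = b ∧ sel 4 a b c = c := by
  simp [sel, Nat.shiftRight_eq_div_pow]

/-- A finite check: three independent words have arbitrary pairings with some word. -/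
theorem check_par_eq : ((List.range 8).all fun s0 => (List.range 8).all fun s1 => (List.range 8).all fun s2 =>
    !(s0 != 0 && s1 != 0 && s0 != s1 && s2 != 0 && s2 != s0 && s2 != s1 && s2 != (s0 ^^^ s1)) ||
      (List.range 8).all fun e => (List.range 8).any fun f =>
        par (s0 &&& f) + 2 * par (s1 &&& f) + 4 * par (s2 &&& f) == e) = true := by decide +kernel

theorem exists_par_eq {s0 s1 s2 : ℕ} (h0 : s0 < 8) (h1 : s1 < 8) (h2 : s2 < 8) (n0 : s0 ≠ 0)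
    (n1 : s1 ≠ 0) (n01 : s0 ≠ s1) (n2 : s2 ≠ 0) (n20 : s2 ≠ s0) (n21 : s2 ≠ s1) (n012 : s2 ≠ s0 ^^^ s1)
    {e0 e1 e2 : ℕ} (g0 : e0 < 2) (g1 : e1 < 2) (g2 : e2 < 2) :
    ∃ f < 8, par (s0 &&& f) = e0 ∧ par (s1 &&& f) = e1 ∧ par (s2 &&& f) = e2 := by
  have h := check_par_eq
  simp only [List.all_eq_true, List.mem_range, List.any_eq_true, beq_iff_eq, Bool.or_eq_true] at h
  have h' := (h s0 h0 s1 h1 s2 h2).resolve_left (by simp [n0, n1, n01, n2, n20, n21, n012])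
  obtain ⟨f, hf, e⟩ := h' (e0 + 2 * e1 + 4 * e2) (by omega)
  have := par_lt_two (s0 &&& f)
  have := par_lt_two (s1 &&& f)
  have := par_lt_two (s2 &&& f)
  exact ⟨f, hf, by omega, by omega, by omega⟩

theorem par_unit : ∀ g < 8, par (1 &&& g) + 2 * par (2 &&& g) + 4 * par (4 &&& g) = g := by decide

theorem mem_levi_of_rows {r0 r1 r2 : ℕ} (h0 : r0 < 8) (h1 : r1 < 8) (h2 : r2 < 8) (n0 : r0 ≠ 0)
    (n1 : r1 ≠ 0) (n01 : r0 ≠ r1) (n2 : r2 ≠ 0) (n20 : r2 ≠ r0) (n21 : r2 ≠ r1) (n012 : r2 ≠ r0 ^^^ r1) :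
    pack 0 0 0 r0 r1 r2 ∈ levi := by
  simp only [levi, List.mem_flatMap, List.mem_range, List.mem_filterMap]
  exact ⟨r2, h2, r1, h1, r0, h0, by simp [n0, n1, n01, n2, n20, n21, n012]⟩

theorem mem_levi {d : ℕ} (hd : d ∈ levi) : ∃ r0 r1 r2, r0 < 8 ∧ r1 < 8 ∧ r2 < 8 ∧ d = pack 0 0 0 r0 r1 r2 := by
  simp only [levi, List.mem_flatMap, List.mem_range, List.mem_filterMap] at hd
  obtain ⟨r2, h2, r1, h1, r0, h0, e⟩ := hd
  split_ifs at e
  exact ⟨r0, r1, r2, h0, h1, h2, (Option.some.inj e).symm⟩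

theorem levi_length : levi.length = 168 := by decide +kernel

theorem rows_pack {r0 r1 r2 : ℕ} (h0 : r0 < 8) (h1 : r1 < 8) (h2 : r2 < 8) :
    fld (pack 0 0 0 r0 r1 r2) 7 = r0 ∧ fld (pack 0 0 0 r0 r1 r2) 10 = r1 ∧ fld (pack 0 0 0 r0 r1 r2) 13 = r2 := by
  have h7 : ∀ d k : ℕ, fld d k = d / 2 ^ k % 2 ^ 3 := fun d k => by
    rw [fld, Nat.shiftRight_eq_div_pow, show (7 : ℕ) = 2 ^ 3 - 1 from rfl,
      Nat.and_two_pow_sub_one_eq_mod]
  simp only [h7, pack]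
  omega

theorem pack_inj_rows {r0 r1 r2 s0 s1 s2 : ℕ} (h0 : r0 < 8) (h1 : r1 < 8) (h2 : r2 < 8) (g0 : s0 < 8)
    (g1 : s1 < 8) (g2 : s2 < 8) (h : pack 0 0 0 r0 r1 r2 = pack 0 0 0 s0 s1 s2) :
    r0 = s0 ∧ r1 = s1 ∧ r2 = s2 := by
  simp only [pack] at h
  omega

/-- The product of two Levi codes. -/
theorem mul_pack {r0 r1 r2 s0 s1 s2 : ℕ} (h0 : r0 < 8) (h1 : r1 < 8) (h2 : r2 < 8) (g0 : s0 < 8)
    (g1 : s1 < 8) (g2 : s2 < 8) : mul (pack 0 0 0 r0 r1 r2) (pack 0 0 0 s0 s1 s2) =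
      pack 0 0 0 (sel r0 s0 s1 s2) (sel r1 s0 s1 s2) (sel r2 s0 s1 s2) := by
  obtain ⟨a0, a1, a2⟩ := rows_pack h0 h1 h2
  obtain ⟨b0, b1, b2⟩ := rows_pack g0 g1 g2
  have hz : ∀ {s0 s1 s2 : ℕ}, s0 < 8 → s1 < 8 → s2 < 8 → pack 0 0 0 s0 s1 s2 &&& 1 = 0 ∧
      fld (pack 0 0 0 s0 s1 s2) 1 = 0 ∧ fld (pack 0 0 0 s0 s1 s2) 4 = 0 := by
    intro s0 s1 s2 h0 h1 h2
    have h7 : ∀ d k : ℕ, fld d k = d / 2 ^ k % 2 ^ 3 := fun d k => by
      rw [fld, Nat.shiftRight_eq_div_pow, show (7 : ℕ) = 2 ^ 3 - 1 from rfl,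
        Nat.and_two_pow_sub_one_eq_mod]
    simp only [h7, Nat.and_one_is_mod, pack]
    omega
  obtain ⟨a3, a4, a5⟩ := hz h0 h1 h2
  obtain ⟨b3, b4, b5⟩ := hz g0 g1 g2
  simp only [mul, a0, a1, a2, a3, a4, a5, b0, b1, b2, b3, b4, b5]
  simp [sel, par]

namespace RecogSetting

variable {C : Type*} [Group C] {D : RecogSetting C} {P : D.Split}

namespace Frame

variable (Fr : D.Frame P)

theorem U_zero : Fr.U 0 = 1 := by
  have h := Fr.U_xor 0 0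
  rwa [Nat.xor_self, left_eq_mul] at h

theorem W_zero : Fr.W 0 = 1 := by
  have h := Fr.W_xor 0 0
  rwa [Nat.xor_self, left_eq_mul] at h

theorem U_sq (r : ℕ) : Fr.U r * Fr.U r = 1 := P.E_sq _ (Fr.U_mem r)

theorem W_sq (r : ℕ) : Fr.W r * Fr.W r = 1 := P.F_sq _ (Fr.W_mem r)

theorem U_inv (r : ℕ) : (Fr.U r)⁻¹ = Fr.U r := inv_eq_of_mul_eq_one_right (Fr.U_sq r)

theorem W_inv (r : ℕ) : (Fr.W r)⁻¹ = Fr.W r := inv_eq_of_mul_eq_one_right (Fr.W_sq r)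

theorem U_inj {a b : ℕ} (ha : a < 8) (hb : b < 8) (h : D.π (Fr.U a) = D.π (Fr.U b)) : a = b := by
  refine Nat.xor_eq_zero_iff.1 (Fr.U_Zs _ (xor_lt_eight ha hb) ?_)
  rw [Fr.U_xor]
  have := D.π_eq_iff.1 h
  rwa [Fr.U_inv] at this

theorem W_inj {a b : ℕ} (ha : a < 8) (hb : b < 8) (h : D.π (Fr.W a) = D.π (Fr.W b)) : a = b := by
  refine Nat.xor_eq_zero_iff.1 (Fr.W_Zs _ (xor_lt_eight ha hb) ?_)
  rw [Fr.W_xor]
  have := D.π_eq_iff.1 h
  rwa [Fr.W_inv] at this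

theorem exists_ur (g : C) (r : ℕ) : ∃ s, s < 8 ∧ D.π (Fr.U s) = D.π (cj g⁻¹ (Fr.U r)) := by
  obtain ⟨s, hs, h⟩ := Fr.U_exh _ (P.E_conj g⁻¹ _ (Fr.U_mem r))
  exact ⟨s, hs, D.π_eq_iff.2 h⟩

/-- The index of the image of a coordinate under the inverse of `g`, modulo the centre. -/
noncomputable def ur (g : C) (r : ℕ) : ℕ := (Fr.exists_ur g r).choose

theorem ur_lt (g : C) (r : ℕ) : Fr.ur g r < 8 := (Fr.exists_ur g r).choose_spec.1

theorem π_ur (g : C) (r : ℕ) : D.π (Fr.U (Fr.ur g r)) = D.π (cj g⁻¹ (Fr.U r)) :=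
  (Fr.exists_ur g r).choose_spec.2

theorem ur_eq {g : C} {r s : ℕ} (hs : s < 8) (h : D.π (Fr.U s) = D.π (cj g⁻¹ (Fr.U r))) : Fr.ur g r = s :=
  Fr.U_inj (Fr.ur_lt g r) hs ((Fr.π_ur g r).trans h.symm)

theorem ur_xor (g : C) (r s : ℕ) : Fr.ur g (r ^^^ s) = Fr.ur g r ^^^ Fr.ur g s := by
  refine Fr.ur_eq (xor_lt_eight (Fr.ur_lt g r) (Fr.ur_lt g s)) ?_
  rw [Fr.U_xor, map_mul, Fr.π_ur, Fr.π_ur, Fr.U_xor, cj_mul, map_mul]

theorem ur_zero (g : C) : Fr.ur g 0 = 0 :=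
  Fr.ur_eq (by norm_num) (by simp [Fr.U_zero, cj])

theorem ur_ne_zero (g : C) {r : ℕ} (hr : r < 8) (h : r ≠ 0) : Fr.ur g r ≠ 0 := by
  intro e
  have h1 := Fr.π_ur g r
  rw [e, Fr.U_zero, map_one] at h1
  have h2 : cj g⁻¹ (Fr.U r) ∈ D.Zs := (QuotientGroup.eq_one_iff _).1 h1.symm
  have h3 := D.cj_eq_of_Zs h2 g
  rw [cj_cj, mul_inv_cancel, cj_one] at h3
  exact h (Fr.U_Zs r hr (by rw [h3]; exact h2))

theorem ur_sel (g : C) {u : ℕ} (hu : u < 8) :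
    Fr.ur g u = sel u (Fr.ur g 1) (Fr.ur g 2) (Fr.ur g 4) := by
  have h3 := Fr.ur_xor g 1 2
  have h5 := Fr.ur_xor g 1 4
  have h6 := Fr.ur_xor g 2 4
  have h7 := Fr.ur_xor g (1 ^^^ 2) 4
  rw [h3] at h7
  interval_cases u <;> simp_all [sel, Nat.shiftRight_eq_div_pow, Fr.ur_zero]

theorem ur_mul (g h : C) (r : ℕ) : Fr.ur (g * h) r = Fr.ur h (Fr.ur g r) := by
  refine Fr.ur_eq (Fr.ur_lt _ _) ?_
  rw [Fr.π_ur, D.π_cj_congr _ (Fr.π_ur g r), cj_cj, mul_inv_rev]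

theorem ur_of_mem {q : C} (hq : q ∈ D.Q) {r : ℕ} (hr : r < 8) : Fr.ur q r = r :=
  Fr.ur_eq hr (D.π_cj_of_mem (inv_mem hq) (P.E_le (Fr.U_mem r))).symm

theorem ur_one {r : ℕ} (hr : r < 8) : Fr.ur 1 r = r := Fr.ur_of_mem (one_mem _) hr

/-- The Levi code of an element. -/
noncomputable def rho (g : C) : ℕ := pack 0 0 0 (Fr.ur g 1) (Fr.ur g 2) (Fr.ur g 4)

theorem rho_rows (g : C) : fld (Fr.rho g) 7 = Fr.ur g 1 ∧ fld (Fr.rho g) 10 = Fr.ur g 2 ∧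
    fld (Fr.rho g) 13 = Fr.ur g 4 := rows_pack (Fr.ur_lt _ _) (Fr.ur_lt _ _) (Fr.ur_lt _ _)

theorem indep (g : C) : Fr.ur g 1 ≠ 0 ∧ Fr.ur g 2 ≠ 0 ∧ Fr.ur g 1 ≠ Fr.ur g 2 ∧ Fr.ur g 4 ≠ 0 ∧
    Fr.ur g 4 ≠ Fr.ur g 1 ∧ Fr.ur g 4 ≠ Fr.ur g 2 ∧ Fr.ur g 4 ≠ Fr.ur g 1 ^^^ Fr.ur g 2 := by
  have hinj : ∀ {a b : ℕ}, a < 8 → b < 8 → a ≠ b → Fr.ur g a ≠ Fr.ur g b := fun {a b} ha hb hab e => by
    refine Fr.ur_ne_zero g (xor_lt_eight ha hb) (fun e' => hab (Nat.xor_eq_zero_iff.1 e')) ?_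
    rw [Fr.ur_xor, e, Nat.xor_self]
  refine ⟨Fr.ur_ne_zero g (by norm_num) (by norm_num), Fr.ur_ne_zero g (by norm_num) (by norm_num),
    hinj (by norm_num) (by norm_num) (by norm_num), Fr.ur_ne_zero g (by norm_num) (by norm_num),
    hinj (by norm_num) (by norm_num) (by norm_num), hinj (by norm_num) (by norm_num) (by norm_num), ?_⟩
  rw [← Fr.ur_xor]
  exact hinj (by norm_num) (by decide) (by decide)

theorem rho_mem (g : C) : Fr.rho g ∈ levi := by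
  obtain ⟨n0, n1, n01, n2, n20, n21, n012⟩ := Fr.indep g
  exact mem_levi_of_rows (Fr.ur_lt _ _) (Fr.ur_lt _ _) (Fr.ur_lt _ _) n0 n1 n01 n2 n20 n21 n012

theorem rho_mul (g h : C) : Fr.rho (g * h) = mul (Fr.rho g) (Fr.rho h) := by
  have hl := fun x r => Fr.ur_lt x r
  rw [rho, rho, rho, mul_pack (hl _ _) (hl _ _) (hl _ _) (hl _ _) (hl _ _) (hl _ _), Fr.ur_mul,
    Fr.ur_mul, Fr.ur_mul, ← Fr.ur_sel h (hl _ _), ← Fr.ur_sel h (hl _ _), ← Fr.ur_sel h (hl _ _)]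

theorem rho_one : Fr.rho 1 = one := by
  rw [rho, Fr.ur_one (by norm_num), Fr.ur_one (by norm_num), Fr.ur_one (by norm_num)]
  rfl

theorem rho_of_mem {q : C} (hq : q ∈ D.Q) : Fr.rho q = one := by
  rw [rho, Fr.ur_of_mem hq (by norm_num), Fr.ur_of_mem hq (by norm_num), Fr.ur_of_mem hq (by norm_num)]
  rfl

theorem ur_eq_of_rho {g h : C} (e : Fr.rho g = Fr.rho h) {r : ℕ} (hr : r < 8) : Fr.ur g r = Fr.ur h r := by
  obtain ⟨e0, e1, e2⟩ := pack_inj_rows (Fr.ur_lt g 1) (Fr.ur_lt g 2) (Fr.ur_lt g 4) (Fr.ur_lt h 1)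
    (Fr.ur_lt h 2) (Fr.ur_lt h 4) e
  rw [Fr.ur_sel g hr, Fr.ur_sel h hr, e0, e1, e2]

/-- The stabiliser of the coordinates. -/
def stab [Finite C] : Subgroup C where
  carrier := {t | (∀ r < 8, ∃ s < 8, cj t (Fr.U r) = Fr.U s) ∧ (∀ r < 8, ∃ s < 8, cj t (Fr.W r) = Fr.W s)}
  one_mem' := ⟨fun r hr => ⟨r, hr, cj_one _⟩, fun r hr => ⟨r, hr, cj_one _⟩⟩
  mul_mem' := by
    rintro a b ⟨ha, ha'⟩ ⟨hb, hb'⟩
    constructor
    · intro r hr
      obtain ⟨s, hs, e⟩ := hb r hr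
      obtain ⟨t, ht, e'⟩ := ha s hs
      exact ⟨t, ht, by rw [← cj_cj, e, e']⟩
    · intro r hr
      obtain ⟨s, hs, e⟩ := hb' r hr
      obtain ⟨t, ht, e'⟩ := ha' s hs
      exact ⟨t, ht, by rw [← cj_cj, e, e']⟩
  inv_mem' := by
    rintro a ⟨ha, ha'⟩
    have key : ∀ (V : ℕ → C), (∀ {p q : ℕ}, p < 8 → q < 8 → D.π (V p) = D.π (V q) → p = q) →
        (∀ r < 8, ∃ s < 8, cj a (V r) = V s) → ∀ r < 8, ∃ s < 8, cj a⁻¹ (V r) = V s := by
      intro V hV hm r hr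
      choose σ hσ hσe using fun i : Fin 8 => hm i i.2
      let τ : Fin 8 → Fin 8 := fun i => ⟨σ i, hσ i⟩
      have hτ : Function.Injective τ := fun i j e => by
        have e' : σ i = σ j := congrArg Fin.val e
        have h1 : cj a (V i) = cj a (V j) := by rw [hσe, hσe, e']
        have h2 := congrArg (cj a⁻¹) h1
        rw [cj_cj, cj_cj, inv_mul_cancel, cj_one, cj_one] at h2
        exact Fin.ext (hV i.2 j.2 (by rw [h2]))
      obtain ⟨i, hi⟩ := (Finite.injective_iff_surjective.1 hτ) ⟨r, hr⟩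
      refine ⟨i, i.2, ?_⟩
      have h1 := hσe i
      rw [show σ i = r from congrArg Fin.val hi] at h1
      rw [← h1, cj_cj, inv_mul_cancel, cj_one]
    exact ⟨key Fr.U Fr.U_inj ha, key Fr.W Fr.W_inj ha'⟩

variable [Finite C]

theorem Zs_le_stab : D.Zs ≤ Fr.stab := fun x hx =>
  ⟨fun r hr => ⟨r, hr, by rw [cj, ← D.Zs_comm hx, mul_inv_cancel_right]⟩,
    fun r hr => ⟨r, hr, by rw [cj, ← D.Zs_comm hx, mul_inv_cancel_right]⟩⟩

theorem stab_U {t : C} (ht : t ∈ Fr.stab) {r : ℕ} (hr : r < 8) :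
    cj t⁻¹ (Fr.U r) = Fr.U (Fr.ur t r) := by
  obtain ⟨s, hs, e⟩ := (inv_mem ht).1 r hr
  rw [e, Fr.ur_eq hs (by rw [e])]

theorem stab_W {t : C} (ht : t ∈ Fr.stab) {f : ℕ} (hf : f < 8) :
    cj t (Fr.W f) = Fr.W (wmap (Fr.ur t 1) (Fr.ur t 2) (Fr.ur t 4) f) := by
  obtain ⟨g, hg, e⟩ := ht.2 f hf
  have hp : ∀ r, r < 8 → par (r &&& g) = par (Fr.ur t r &&& f) := by
    intro r hr
    have h1 := Fr.pair r hr g hg
    rw [← e, show Fr.U r = cj t (cj t⁻¹ (Fr.U r)) by rw [cj_cj, mul_inv_cancel, cj_one], ← cj_comm,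
      Fr.stab_U ht hr, Fr.pair _ (Fr.ur_lt t r) f hf, D.cj_eq_of_Zs (pow_mem D.z_mem_Zs _)] at h1
    have a1 := par_lt_two (Fr.ur t r &&& f)
    have a2 := par_lt_two (r &&& g)
    interval_cases h2 : par (Fr.ur t r &&& f) <;> interval_cases h3 : par (r &&& g) <;>
      simp_all [D.z_ne, Ne.symm D.z_ne]
  rw [e, wmap, ← hp 1 (by norm_num), ← hp 2 (by norm_num), ← hp 4 (by norm_num), par_unit g hg]

theorem mem_Zs_of_stab {t : C} (ht : t ∈ Fr.stab) (h : Fr.rho t = one) : t ∈ D.Zs := by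
  have hr : ∀ {r}, r < 8 → Fr.ur t r = r := fun hr =>
    (Fr.ur_eq_of_rho (h.trans Fr.rho_one.symm) hr).trans (Fr.ur_one hr)
  have hU : ∀ r, r < 8 → Commute t (Fr.U r) := fun r h8 => by
    have := Fr.stab_U ht h8
    rw [hr h8] at this
    show t * Fr.U r = Fr.U r * t
    conv_lhs => rw [← this]
    simp only [cj]; group
  have hW : ∀ r, r < 8 → Commute t (Fr.W r) := fun r h8 => by
    have e := Fr.stab_W ht h8
    rw [hr (by norm_num), hr (by norm_num), hr (by norm_num), wmap, par_unit r h8] at e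
    exact mul_inv_eq_iff_eq_mul.1 e
  have hall : ∀ q ∈ D.Q, t * q = q * t := fun q hq => by
    obtain ⟨c, u, f, -, hu, hf, rfl⟩ := Fr.decomp q hq
    exact ((Commute.pow_right (D.z_comm t) c).mul_right (hW f hf)).mul_right (hU u hu)
  exact D.central_mem_Zs (D.self_cent t hall) fun q hq => (hall q hq).symm

theorem stab_inf {t : C} (ht : t ∈ Fr.stab) (hq : t ∈ D.Q) : t ∈ D.Zs :=
  Fr.mem_Zs_of_stab ht (Fr.rho_of_mem hq)

/-- The Frattini argument. -/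
theorem exists_stab (g : C) : ∃ q ∈ D.Q, q * g ∈ Fr.stab := by
  have hU : ∀ r, ∃ s c, s < 8 ∧ c < 2 ∧ cj g (Fr.U r) = D.z ^ c * Fr.U s := fun r => by
    obtain ⟨s, hs, h⟩ := Fr.U_exh _ (P.E_conj g _ (Fr.U_mem r))
    rcases h with h | h
    · exact ⟨s, 0, hs, by norm_num, by rw [pow_zero, one_mul]; exact (inv_mul_eq_one.1 h).symm⟩
    · exact ⟨s, 1, hs, by norm_num, by rw [pow_one, ← D.z_comm, ← h]; group⟩
  have hW : ∀ r, ∃ s c, s < 8 ∧ c < 2 ∧ cj g (Fr.W r) = D.z ^ c * Fr.W s := fun r => by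
    obtain ⟨s, hs, h⟩ := Fr.W_exh _ (P.F_conj g _ (Fr.W_mem r))
    rcases h with h | h
    · exact ⟨s, 0, hs, by norm_num, by rw [pow_zero, one_mul]; exact (inv_mul_eq_one.1 h).symm⟩
    · exact ⟨s, 1, hs, by norm_num, by rw [pow_one, ← D.z_comm, ← h]; group⟩
  choose su cu hsu hcu hUe using hU
  choose sw cw hsw hcw hWe using hW
  have indep : ∀ (V : ℕ → C) (s : ℕ → ℕ) (c : ℕ → ℕ), (∀ r, s r < 8) → (∀ a b, V (a ^^^ b) = V a * V b) →
      (∀ r, r < 8 → V r ∈ D.Zs → r = 0) → (∀ r, cj g (V r) = D.z ^ c r * V (s r)) →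
      s 1 ≠ 0 ∧ s 2 ≠ 0 ∧ s 1 ≠ s 2 ∧ s 4 ≠ 0 ∧ s 4 ≠ s 1 ∧ s 4 ≠ s 2 ∧ s 4 ≠ s 1 ^^^ s 2 := by
    intro V s c hs hx hk he
    have h0 : V 0 = 1 := by have h := hx 0 0; rwa [Nat.xor_self, left_eq_mul] at h
    have hπ : ∀ r, D.π (cj g (V r)) = D.π (V (s r)) := fun r => by
      rw [he, map_mul, show D.π (D.z ^ c r) = 1 from
        (QuotientGroup.eq_one_iff _).2 (pow_mem D.z_mem_Zs _), one_mul]
    have hne : ∀ r, r < 8 → r ≠ 0 → s r ≠ 0 := fun r hr hr0 e => by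
      have h1 := hπ r
      rw [e, h0, map_one] at h1
      have h2 : cj g (V r) ∈ D.Zs := (QuotientGroup.eq_one_iff _).1 h1
      have h3 := D.cj_eq_of_Zs h2 g⁻¹
      rw [cj_cj, inv_mul_cancel, cj_one] at h3
      exact hr0 (hk r hr (by rw [h3]; exact h2))
    have hxs : ∀ a b, s (a ^^^ b) = s a ^^^ s b := fun a b => by
      have hinj : ∀ {p q : ℕ}, p < 8 → q < 8 → D.π (V p) = D.π (V q) → p = q := fun {p q} hp hq h => by
        refine Nat.xor_eq_zero_iff.1 (hk _ (xor_lt_eight hp hq) ?_)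
        rw [hx]
        have hi : (V p)⁻¹ = V p := inv_eq_of_mul_eq_one_right (by rw [← hx, Nat.xor_self, h0])
        have := D.π_eq_iff.1 h
        rwa [hi] at this
      refine hinj (hs _) (xor_lt_eight (hs _) (hs _)) ?_
      rw [← hπ, hx, hx, cj_mul, map_mul, map_mul, hπ, hπ]
    have hd : ∀ {a b : ℕ}, a < 8 → b < 8 → a ≠ b → s a ≠ s b := fun {a b} ha hb hab e => by
      refine hne _ (xor_lt_eight ha hb) (fun e' => hab (Nat.xor_eq_zero_iff.1 e')) ?_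
      rw [hxs, e, Nat.xor_self]
    refine ⟨hne 1 (by norm_num) (by norm_num), hne 2 (by norm_num) (by norm_num),
      hd (by norm_num) (by norm_num) (by norm_num), hne 4 (by norm_num) (by norm_num),
      hd (by norm_num) (by norm_num) (by norm_num), hd (by norm_num) (by norm_num) (by norm_num), ?_⟩
    rw [← hxs]
    exact hd (by norm_num) (by decide) (by decide)
  obtain ⟨n0, n1, n01, n2, n20, n21, n012⟩ := indep Fr.U su cu hsu Fr.U_xor Fr.U_Zs hUe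
  obtain ⟨f, hf, p0, p1, p2⟩ := exists_par_eq (hsu 1) (hsu 2) (hsu 4) n0 n1 n01 n2 n20 n21 n012
    (hcu 1) (hcu 2) (hcu 4)
  obtain ⟨m0, m1, m01, m2, m20, m21, m012⟩ := indep Fr.W sw cw hsw Fr.W_xor Fr.W_Zs hWe
  obtain ⟨u, hu, q0, q1, q2⟩ := exists_par_eq (hsw 1) (hsw 2) (hsw 4) m0 m1 m01 m2 m20 m21 m012
    (hcw 1) (hcw 2) (hcw 4)
  refine ⟨Fr.U u * Fr.W f, mul_mem (P.E_le (Fr.U_mem u)) (P.F_le (Fr.W_mem f)), ?_⟩
  -- conjugation by a coordinate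
  have hcW : ∀ {s : ℕ}, s < 8 → cj (Fr.W f) (Fr.U s) = D.z ^ par (s &&& f) * Fr.U s := fun {s} hs => by
    rw [← Fr.pair s hs f hf, D.comm_symm (P.F_le (Fr.W_mem f)) (P.E_le (Fr.U_mem s)), cj,
      commutatorElement_def]
    group
  have hcU : ∀ {s : ℕ}, s < 8 → cj (Fr.U u) (Fr.W s) = D.z ^ par (s &&& u) * Fr.W s := fun {s} hs => by
    rw [show s &&& u = u &&& s from Nat.and_comm _ _, ← Fr.pair u hu s hs, cj, commutatorElement_def]
    group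
  have hfixU : ∀ r, cj (Fr.U u) (Fr.U r) = Fr.U r := fun r => by
    rw [cj, P.E_comm _ (Fr.U_mem u) _ (Fr.U_mem r), mul_inv_cancel_right]
  have hfixW : ∀ r, cj (Fr.W f) (Fr.W r) = Fr.W r := fun r => by
    rw [cj, P.F_comm _ (Fr.W_mem f) _ (Fr.W_mem r), mul_inv_cancel_right]
  have hz2 : ∀ {c}, c < 2 → D.z ^ c * D.z ^ c = 1 := fun {c} _ => D.Zs_sq (pow_mem D.z_mem_Zs c)
  have hA : ∀ {r}, par (su r &&& f) = cu r → cj (Fr.U u * Fr.W f * g) (Fr.U r) = Fr.U (su r) := by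
    intro r hp
    rw [← cj_cj, hUe, cj_mul, D.cj_eq_of_Zs (pow_mem D.z_mem_Zs _), ← cj_cj, hcW (hsu r), cj_mul,
      D.cj_eq_of_Zs (pow_mem D.z_mem_Zs _), hfixU, hp, ← mul_assoc, hz2 (hcu r), one_mul]
  have hB : ∀ {r}, par (sw r &&& u) = cw r → cj (Fr.U u * Fr.W f * g) (Fr.W r) = Fr.W (sw r) := by
    intro r hp
    rw [← cj_cj, hWe, cj_mul, D.cj_eq_of_Zs (pow_mem D.z_mem_Zs _), ← cj_cj, hfixW, hcU (hsw r), hp,
      ← mul_assoc, hz2 (hcw r), one_mul]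
  set x := Fr.U u * Fr.W f * g
  have lift : ∀ (V : ℕ → C), (∀ a b, V (a ^^^ b) = V a * V b) → V 0 = 1 → (∃ s < 8, cj x (V 1) = V s) →
      (∃ s < 8, cj x (V 2) = V s) → (∃ s < 8, cj x (V 4) = V s) → ∀ r < 8, ∃ s < 8, cj x (V r) = V s := by
    intro V hx h0 h1 h2 h4
    have key : ∀ {a b : ℕ}, (∃ s < 8, cj x (V a) = V s) → (∃ s < 8, cj x (V b) = V s) →
        ∃ s < 8, cj x (V (a ^^^ b)) = V s := by
      rintro a b ⟨s, hs, e⟩ ⟨t, ht, e'⟩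
      exact ⟨s ^^^ t, xor_lt_eight hs ht, by rw [hx, cj_mul, e, e', hx]⟩
    intro r hr
    interval_cases r
    · exact ⟨0, by norm_num, by rw [h0]; simp [cj]⟩
    · exact h1
    · exact h2
    · exact key h1 h2
    · exact h4
    · exact key h1 h4
    · exact key h2 h4
    · exact key (key h1 h2) h4
  exact ⟨lift Fr.U Fr.U_xor Fr.U_zero ⟨_, hsu 1, hA p0⟩ ⟨_, hsu 2, hA p1⟩ ⟨_, hsu 4, hA p2⟩,
    lift Fr.W Fr.W_xor Fr.W_zero ⟨_, hsw 1, hB q0⟩ ⟨_, hsw 2, hB q1⟩ ⟨_, hsw 4, hB q2⟩⟩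

theorem mem_Q_of_rho {g : C} (h : Fr.rho g = one) : g ∈ D.Q := by
  obtain ⟨q, hq, ht⟩ := Fr.exists_stab g
  have e : Fr.rho (q * g) = one := by
    rw [Fr.rho_mul, Fr.rho_of_mem hq, h]
    rfl
  have := mul_mem (inv_mem hq) (D.Zs_le (Fr.mem_Zs_of_stab ht e))
  rwa [inv_mul_cancel_left] at this

theorem rho_surj {d : ℕ} (hd : d ∈ levi) : ∃ t ∈ Fr.stab, Fr.rho t = d := by
  classical
  haveI := D.normal
  haveI := Fintype.ofFinite (C ⧸ D.Q)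
  let F : C ⧸ D.Q → ℕ := fun x => Fr.rho x.out
  have hinj : Function.Injective F := by
    intro x y e
    rw [← QuotientGroup.out_eq' x, ← QuotientGroup.out_eq' y, QuotientGroup.eq]
    refine Fr.mem_Q_of_rho ?_
    have hr : ∀ {r}, r < 8 → Fr.ur (x.out⁻¹ * y.out) r = r := fun {r} hr => by
      rw [Fr.ur_mul, ← Fr.ur_eq_of_rho e (Fr.ur_lt _ _), ← Fr.ur_mul, inv_mul_cancel, Fr.ur_one hr]
    rw [rho, hr (by norm_num), hr (by norm_num), hr (by norm_num)]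
    rfl
  have hcard : Fintype.card (C ⧸ D.Q) = 168 := by
    obtain ⟨e⟩ := D.iso
    rw [← Nat.card_eq_fintype_card, Nat.card_congr e.toEquiv, natCard_recogSL32]
  have heq : (Finset.univ : Finset (C ⧸ D.Q)).image F = levi.toFinset := by
    refine Finset.eq_of_subset_of_card_le (fun a ha => ?_) ?_
    · obtain ⟨x, -, rfl⟩ := Finset.mem_image.1 ha
      exact List.mem_toFinset.2 (Fr.rho_mem _)
    · rw [Finset.card_image_of_injective _ hinj, Finset.card_univ, hcard, ← levi_length]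
      exact List.toFinset_card_le _
  obtain ⟨x, -, hx⟩ := Finset.mem_image.1 (heq.ge (List.mem_toFinset.2 hd))
  obtain ⟨q, hq, ht⟩ := Fr.exists_stab x.out
  refine ⟨_, ht, ?_⟩
  rw [← hx]
  have hr : ∀ {r}, r < 8 → Fr.ur (q * x.out) r = Fr.ur x.out r := fun {r} hr => by
    rw [Fr.ur_mul, Fr.ur_of_mem hq hr]
  show Fr.rho (q * x.out) = Fr.rho x.out
  rw [rho, rho, hr (by norm_num), hr (by norm_num), hr (by norm_num)]

end Frame

end RecogSetting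

end Cfsg.Agent.TransvCent
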