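import Cfsg.Agent.Lib.TransvCent.RecogSplit
import Mathlib.Data.ZMod.Basic

/-!
# The two elementary subgroups of order sixteen normalised by the element of order seven

* `RecogBase.Seven.KerP`, `KerQ` : the kernels of the two cubic factors of `x^7 - 1` on `Q` modulo its centre
* `RecogBase.Seven.Pair` : the two subgroups, with an element of order three fixing a class in each
* `RecogBase.Seven.exists_pair` : they exist
-/

set_option autoImplicit false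
set_option linter.style.haveILetI false
open scoped commutatorElement

namespace Cfsg.Agent.TransvCent

namespace RecogBase

variable {C : Type*} [Group C] {D : RecogBase C}

open Classical in
/-- The value of a commutator. -/
noncomputable def cv (D : RecogBase C) (x y : C) : ZMod 2 := if ⁅x, y⁆ = D.z then 1 else 0

theorem cv_eq_zero {x y : C} (hx : x ∈ D.Q) (hy : y ∈ D.Q) : D.cv x y = 0 ↔ ⁅x, y⁆ = 1 := by
  rcases D.comm_mem_Zs hx hy with h | h <;> simp [cv, h, D.z_ne, Ne.symm D.z_ne]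

theorem cv_self {x : C} (hx : x ∈ D.Q) : D.cv x x = 0 :=
  (cv_eq_zero hx hx).2 (commutatorElement_self x)

theorem cv_symm {x y : C} (hx : x ∈ D.Q) (hy : y ∈ D.Q) : D.cv y x = D.cv x y := by
  rw [cv, cv, D.comm_symm hx hy]

theorem cv_mul {x y w : C} (hx : x ∈ D.Q) (hy : y ∈ D.Q) (hw : w ∈ D.Q) :
    D.cv x (y * w) = D.cv x y + D.cv x w := by
  rw [cv, cv, cv, D.comm_mul_right hx hy hw]
  rcases D.comm_mem_Zs hx hy with h | h <;> rcases D.comm_mem_Zs hx hw with h' | h' <;>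
    simp [h, h', D.z_sq, Ne.symm D.z_ne] <;> decide

theorem cv_congr {x y w : C} (hx : x ∈ D.Q) (hy : y ∈ D.Q) (hw : w ∈ D.Q) (h : D.π y = D.π w) :
    D.cv x y = D.cv x w := by
  rw [cv, cv, D.comm_congr_right hx hy hw (D.π_eq_iff.1 h)]

theorem cv_cj {x y : C} (hx : x ∈ D.Q) (hy : y ∈ D.Q) (g : C) : D.cv (cj g x) (cj g y) = D.cv x y := by
  rw [cv, cv, ← cj_comm, D.cj_eq_of_Zs (D.comm_mem_Zs hx hy)]

theorem π_of_Zs {x : C} (h : x ∈ D.Zs) : D.π x = 1 := (QuotientGroup.eq_one_iff x).2 h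

theorem Zs_of_π {x : C} (h : D.π x = 1) : x ∈ D.Zs := (QuotientGroup.eq_one_iff x).1 h

theorem π_sq {x : C} (hx : x ∈ D.Q) : D.π x * D.π x = 1 := by
  rw [← map_mul]; exact π_of_Zs (D.sq_mem_Zs hx)

theorem π_inv {x : C} (hx : x ∈ D.Q) : (D.π x)⁻¹ = D.π x := inv_eq_of_mul_eq_one_right (π_sq hx)

theorem cj_not_Zs {g x : C} (h : x ∉ D.Zs) : cj g x ∉ D.Zs := fun h' => h (by
  have := D.cj_eq_of_Zs h' g⁻¹
  rw [cj_cj, inv_mul_cancel, cj_one] at this
  rwa [this])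

theorem cj_inj {g x y : C} (h : cj g x = cj g y) : x = y := by simpa [cj] using h

/-- A conjugation between classes gives one between elements. -/
theorem exists_cj_of_π {g x y : C} (hx : x ∈ D.Q) (hxZ : x ∉ D.Zs) (h : D.π (cj g x) = D.π y) :
    ∃ g', cj g' x = y := by
  rcases D.π_eq_iff.1 h with e | e
  · exact ⟨g, inv_mul_eq_one.1 e⟩
  · obtain ⟨q, -, hq⟩ := D.exists_cj_mul_z (D.cj_mem hx g) (cj_not_Zs hxZ)
    refine ⟨q * g, ?_⟩
    rw [← cj_cj, hq, ← e]; group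

theorem π_mul_four {a b c d : C} (ha : a ∈ D.Q) (hb : b ∈ D.Q) (hc : c ∈ D.Q) (_hd : d ∈ D.Q) :
    D.π a * D.π b * (D.π c * D.π d) = D.π a * D.π c * (D.π b * D.π d) := by
  have := D.π_mul_comm hb hc
  simp only [mul_assoc]
  rw [← mul_assoc (D.π b), this, mul_assoc]

/-- A product over seven classes. -/
theorem seven_product {M : Type*} [CommGroup M] (y : ℕ → M) (h : ∀ i, y i * y i = 1) :
    (y 6 * y 5 * y 3) * ((y 4 * y 3 * y 1) * (y 3 * y 2 * y 0)) =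
      y 0 * y 1 * y 2 * y 3 * y 4 * y 5 * y 6 := by
  calc (y 6 * y 5 * y 3) * ((y 4 * y 3 * y 1) * (y 3 * y 2 * y 0))
      = y 0 * y 1 * y 2 * y 3 * y 4 * y 5 * y 6 * (y 3 * y 3) := by ac_rfl
    _ = _ := by rw [h, mul_one]

namespace Seven

variable (T : D.Seven)

/-- The conjugate by a power of `d`. -/
def mv (i : ℕ) (x : C) : C := cj (T.d ^ i) x

theorem mv_mem {x : C} (hx : x ∈ D.Q) (i : ℕ) : T.mv i x ∈ D.Q := D.cj_mem hx _

theorem mv_zero (x : C) : T.mv 0 x = x := by rw [mv, pow_zero, cj_one]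

theorem mv_mv (i j : ℕ) (x : C) : T.mv i (T.mv j x) = T.mv (i + j) x := by
  rw [mv, mv, mv, cj_cj, pow_add]

theorem mv_mul (i : ℕ) (x y : C) : T.mv i (x * y) = T.mv i x * T.mv i y := cj_mul _ _ _

theorem mv_mod (i : ℕ) (x : C) : T.mv i x = T.mv (i % 7) x := T.cj_pow_mod i x

theorem π_mv_congr (i : ℕ) {x y : C} (h : D.π x = D.π y) : D.π (T.mv i x) = D.π (T.mv i y) :=
  D.π_cj_congr _ h

theorem cv_mv {x y : C} (hx : x ∈ D.Q) (hy : y ∈ D.Q) (i : ℕ) : D.cv (T.mv i x) (T.mv i y) = D.cv x y :=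
  cv_cj hx hy _

theorem π_mv_eq [Finite C] {x : C} (hx : x ∈ D.Q) (hxZ : x ∉ D.Zs) {i : ℕ}
    (h : D.π (T.mv i x) = D.π x) : i % 7 = 0 := by
  rw [T.mv_mod] at h
  by_contra hi
  set k := i % 7 with hk
  have hk7 : k < 7 := Nat.mod_lt _ (by norm_num)
  have hm : ∀ n, D.π (T.mv (k * n) x) = D.π x := by
    intro n
    induction n with
    | zero => rw [Nat.mul_zero, T.mv_zero]
    | succ n ih => rw [Nat.mul_succ, ← T.mv_mv, T.π_mv_congr _ h, ih]
  obtain ⟨n, hn⟩ : ∃ n, k * n % 7 = 1 := by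
    have hk0 : 0 < k := Nat.pos_of_ne_zero hi
    interval_cases k
    exacts [⟨1, rfl⟩, ⟨4, rfl⟩, ⟨5, rfl⟩, ⟨2, rfl⟩, ⟨3, rfl⟩, ⟨6, rfl⟩]
  have h1 := hm n
  rw [T.mv_mod, hn, mv, pow_one] at h1
  exact hxZ (T.fixed_mem_Zs hx (T.fixed_of_π h1))

/-- The kernel of `x^3 + x + 1`. -/
def KerP (a : C) : Prop := a ∈ D.Q ∧ D.π (T.mv 3 a) = D.π (T.mv 1 a) * D.π a

/-- The kernel of `x^3 + x^2 + 1`. -/
def KerQ (a : C) : Prop := a ∈ D.Q ∧ D.π (T.mv 3 a) = D.π (T.mv 2 a) * D.π a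

theorem KerP.shift {a : C} (h : T.KerP a) (i : ℕ) :
    D.π (T.mv (i + 3) a) = D.π (T.mv (i + 1) a) * D.π (T.mv i a) := by
  have e : D.π (T.mv 3 a) = D.π (T.mv 1 a * a) := by rw [h.2, map_mul]
  rw [← T.mv_mv i 3, T.π_mv_congr i e, T.mv_mul, T.mv_mv, map_mul]

theorem KerQ.shift {a : C} (h : T.KerQ a) (i : ℕ) :
    D.π (T.mv (i + 3) a) = D.π (T.mv (i + 2) a) * D.π (T.mv i a) := by
  have e : D.π (T.mv 3 a) = D.π (T.mv 2 a * a) := by rw [h.2, map_mul]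
  rw [← T.mv_mv i 3, T.π_mv_congr i e, T.mv_mul, T.mv_mv, map_mul]

theorem KerP.congr {a b : C} (h : T.KerP a) (hb : b ∈ D.Q) (e : D.π b = D.π a) : T.KerP b :=
  ⟨hb, by rw [T.π_mv_congr 3 e, T.π_mv_congr 1 e, e]; exact h.2⟩

theorem KerQ.congr {a b : C} (h : T.KerQ a) (hb : b ∈ D.Q) (e : D.π b = D.π a) : T.KerQ b :=
  ⟨hb, by rw [T.π_mv_congr 3 e, T.π_mv_congr 2 e, e]; exact h.2⟩

theorem KerP.mv {a : C} (h : T.KerP a) (i : ℕ) : T.KerP (T.mv i a) :=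
  ⟨T.mv_mem h.1 i, by rw [T.mv_mv, T.mv_mv, add_comm 3, add_comm 1]; exact h.shift T i⟩

theorem KerQ.mv {a : C} (h : T.KerQ a) (i : ℕ) : T.KerQ (T.mv i a) :=
  ⟨T.mv_mem h.1 i, by rw [T.mv_mv, T.mv_mv, add_comm 3, add_comm 2]; exact h.shift T i⟩

theorem kerP_of_Zs {a : C} (h : a ∈ D.Zs) : T.KerP a := by
  refine ⟨D.Zs_le h, ?_⟩
  simp only [Seven.mv, D.cj_eq_of_Zs h, π_of_Zs h, mul_one]

theorem kerQ_of_Zs {a : C} (h : a ∈ D.Zs) : T.KerQ a := by
  refine ⟨D.Zs_le h, ?_⟩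
  simp only [Seven.mv, D.cj_eq_of_Zs h, π_of_Zs h, mul_one]

/-- The common reason for commuting orbits and trivial squares. -/
theorem singular {a : C} (ha : a ∈ D.Q) (k : ℕ) (hk : k = 1 ∨ k = 2)
    (h : D.π (T.mv 3 a) = D.π (T.mv k a) * D.π a) :
    (∀ i, ⁅a, T.mv i a⁆ = 1) ∧ a * a = 1 := by
  set β : ℕ → ZMod 2 := fun i => D.cv a (T.mv i a) with hβ
  have hrec : ∀ i, β (i + 3) = β (i + k) + β i := fun i => by
    have e : D.π (T.mv 3 a) = D.π (T.mv k a * a) := by rw [h, map_mul]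
    have e' : D.π (T.mv (i + 3) a) = D.π (T.mv (i + k) a * T.mv i a) := by
      rw [← T.mv_mv i 3, T.π_mv_congr i e, T.mv_mul, T.mv_mv]
    show D.cv a _ = _
    rw [cv_congr ha (T.mv_mem ha _) (mul_mem (T.mv_mem ha _) (T.mv_mem ha _)) e',
      cv_mul ha (T.mv_mem ha _) (T.mv_mem ha _)]
  have hneg : ∀ i, i ≤ 7 → β (7 - i) = β i := fun i hi => by
    have h1 := T.cv_mv ha (T.mv_mem ha i) (7 - i)
    rw [T.mv_mv, show 7 - i + i = 7 by omega, show T.mv 7 a = a from T.cj_pow_seven a,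
      cv_symm ha (T.mv_mem ha _)] at h1
    exact h1
  have h0 : β 0 = 0 := by rw [hβ]; simp only; rw [T.mv_zero, cv_self ha]
  have key : ∀ b1 b2 : ZMod 2, b2 + b1 + b1 = b1 → b1 + b2 = b2 → b1 = 0 ∧ b2 = 0 := by decide
  have key' : ∀ b1 b2 : ZMod 2, b2 + b1 = b2 → b2 + b1 + b2 = b2 → b1 = 0 ∧ b2 = 0 := by decide
  have h12 : β 1 = 0 ∧ β 2 = 0 := by
    have n1 := hneg 1 (by norm_num)
    have n2 := hneg 2 (by norm_num)
    have n3 := hneg 3 (by norm_num)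
    rw [show 7 - 1 = 3 + 3 from rfl, hrec] at n1
    rw [show 7 - 2 = 2 + 3 from rfl, hrec] at n2
    rw [show 7 - 3 = 1 + 3 from rfl, hrec] at n3
    have r3 : β 3 = β k := by rw [show 3 = 0 + 3 from rfl, hrec, h0, add_zero, zero_add]
    rcases hk with rfl | rfl
    · rw [show 3 + 1 = 1 + 3 from rfl, hrec, r3] at n1
      rw [show 2 + 1 = 3 from rfl, r3] at n2
      exact key _ _ n1 n2
    · rw [show 3 + 2 = 2 + 3 from rfl, hrec, show 2 + 2 = 1 + 3 from rfl, hrec,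
        show 1 + 2 = 3 from rfl, r3] at n1
      rw [show 1 + 2 = 3 from rfl, r3] at n3
      rw [show 2 + 2 = 1 + 3 from rfl, hrec, show 1 + 2 = 3 from rfl, r3] at n2
      exact key' _ _ n3 n2
  have hall : ∀ i, β i = 0 ∧ β (i + 1) = 0 ∧ β (i + 2) = 0 := by
    intro i
    induction i with
    | zero => exact ⟨h0, h12⟩
    | succ i ih =>
      refine ⟨ih.2.1, ih.2.2, ?_⟩
      rw [show i + 1 + 2 = i + 3 from rfl, hrec]
      rcases hk with rfl | rfl <;> simp [ih]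
  have hcomm : ∀ i, ⁅a, T.mv i a⁆ = 1 := fun i => (cv_eq_zero ha (T.mv_mem ha i)).1 (hall i).1
  refine ⟨hcomm, ?_⟩
  have hmk := T.mv_mem ha k
  have hsq : ∀ i, T.mv i a * T.mv i a = a * a := fun i => by
    rw [← T.mv_mul]; exact D.cj_eq_of_Zs (D.sq_mem_Zs ha) _
  obtain ⟨ζ, hζ, e⟩ : ∃ ζ ∈ D.Zs, T.mv 3 a = T.mv k a * a * ζ := by
    refine ⟨(T.mv k a * a)⁻¹ * T.mv 3 a, D.π_eq_iff.1 ?_, by group⟩
    rw [map_mul, h]
  have e2 := hsq 3
  rw [e, D.mul_sq (mul_mem hmk ha) (D.Zs_le hζ), D.Zs_sq hζ, mul_one,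
    commutatorElement_eq_one_iff_mul_comm.2 (D.Zs_comm hζ _), mul_one, D.mul_sq hmk ha, hsq k,
    D.Zs_sq (D.sq_mem_Zs ha), one_mul, D.comm_symm ha hmk, hcomm k] at e2
  exact e2.symm

theorem KerP.sq {a : C} (h : T.KerP a) : a * a = 1 := (T.singular h.1 1 (Or.inl rfl) h.2).2

theorem KerQ.sq {a : C} (h : T.KerQ a) : a * a = 1 := (T.singular h.1 2 (Or.inr rfl) h.2).2

/-- The subgroup made of an orbit with commuting members and the centre. -/
theorem exists_orb_group [Finite C] {a : C} (ha : a ∈ D.Q) (haZ : a ∉ D.Zs)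
    (hcomm : ∀ i, ⁅a, T.mv i a⁆ = 1) (hsq : a * a = 1) :
    ∃ E : Subgroup C, E ≤ D.Q ∧ Nat.card E = 16 ∧ (∀ x ∈ E, x * x = 1) ∧
      (E : Set C) = T.orb a ∪ (D.Zs : Set C) := by
  haveI : Fact (Nat.Prime 2) := ⟨Nat.prime_two⟩
  have horb : ∀ {x}, x ∈ T.orb a → x ∈ D.Q ∧ x * x = 1 := by
    rintro x ⟨i, hi⟩
    obtain ⟨ζ, hζ, e⟩ : ∃ ζ ∈ D.Zs, x = T.mv i a * ζ := ⟨_, D.π_eq_iff.1 hi.symm, by simp [Seven.mv]⟩
    subst e
    refine ⟨mul_mem (T.mv_mem ha i) (D.Zs_le hζ), ?_⟩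
    rw [D.mul_sq (T.mv_mem ha i) (D.Zs_le hζ), ← T.mv_mul, hsq, D.Zs_sq hζ,
      commutatorElement_eq_one_iff_mul_comm.2 (D.Zs_comm hζ _)]
    simp [Seven.mv, cj]
  set B : Set C := T.orb a ∪ (D.Zs : Set C) with hB
  have hBQ : ∀ x ∈ B, x ∈ D.Q := by
    rintro x (hx | hx)
    exacts [(horb hx).1, D.Zs_le hx]
  have hBsq : ∀ x ∈ B, x * x = 1 := by
    rintro x (hx | hx)
    exacts [(horb hx).2, D.Zs_sq hx]
  have hBcomm : ∀ x ∈ B, ∀ y ∈ B, x * y = y * x := by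
    rintro x (hx | hx) y (hy | hy)
    swap; · exact D.Zs_comm hy x
    swap; · exact (D.Zs_comm hx y).symm
    swap; · exact (D.Zs_comm hx y).symm
    have hxQ := (horb hx).1
    have hyQ := (horb hy).1
    refine commutatorElement_eq_one_iff_mul_comm.1 ((cv_eq_zero hxQ hyQ).1 ?_)
    obtain ⟨i, hi⟩ := hx
    obtain ⟨j, hj⟩ := hy
    have hmi := T.mv_mem ha i
    have hmj := T.mv_mem ha j
    rw [cv_congr hxQ hyQ hmj hj, ← cv_symm hxQ hmj, cv_congr hmj hxQ hmi hi,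
      ← T.cv_mv hmj hmi (6 * j), T.mv_mv, T.mv_mv, T.mv_mod (6 * j + j), show (6 * j + j) % 7 = 0 by omega,
      T.mv_zero]
    exact (cv_eq_zero ha (T.mv_mem ha _)).2 (hcomm _)
  set E := Subgroup.closure B with hE
  have hcommE : ∀ x ∈ E, ∀ y ∈ E, x * y = y * x := fun x hx y hy =>
    Subgroup.closure_induction₂ (p := fun u v _ _ => u * v = v * u) (fun u v hu hv => hBcomm u hu v hv)
      (fun v _ => by simp) (fun v _ => by simp)
      (fun u v w _ _ _ h1 h2 => by rw [mul_assoc, h2, ← mul_assoc, h1, mul_assoc])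
      (fun u v w _ _ _ h1 h2 => by rw [← mul_assoc, h1, mul_assoc, h2, mul_assoc])
      (fun u v _ _ h1 => (Commute.inv_left (h1 : Commute u v)).eq)
      (fun u v _ _ h1 => (Commute.inv_right (h1 : Commute u v)).eq) hx hy
  have hEQ : E ≤ D.Q := (Subgroup.closure_le _).2 hBQ
  have hEsq : ∀ x ∈ E, x * x = 1 := fun x hx => by
    refine Subgroup.closure_induction (p := fun u _ => u * u = 1) (fun u hu => hBsq u hu) (by simp)
      (fun u v hu hv h1 h2 => ?_) (fun u _ h1 => ?_) hx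
    · rw [mul_assoc, ← mul_assoc v u v, hcommE v hv u hu, mul_assoc u v v, h2, mul_one, h1]
    · rw [← mul_inv_rev, h1, inv_one]
  have hBcard : B.ncard = 16 := by
    rw [hB, Set.ncard_union_eq ?_ (Set.toFinite _) (Set.toFinite _), T.ncard_orb ha haZ]
    · have : (D.Zs : Set C) = {1, D.z} := rfl
      rw [this, Set.ncard_pair D.z_ne.symm]
    · refine Set.disjoint_left.2 fun x hx hxZ => ?_
      obtain ⟨i, hi⟩ := hx
      exact cj_not_Zs haZ (Zs_of_π (hi.symm.trans (π_of_Zs hxZ)))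
  have hle : Nat.card E ≤ 16 := by
    let A : Subgroup D.Q := E.subgroupOf D.Q
    have h2 := Extraspecial.card_abelian_sq_le D.ext (A := A)
      fun u hu v hv => Subtype.ext (hcommE u hu v hv)
    rw [Nat.card_congr (Subgroup.subgroupOfEquivOfLe hEQ).toEquiv, D.cardQ] at h2
    nlinarith
  have heq : (E : Set C) = B := by
    refine (Set.eq_of_subset_of_ncard_le Subgroup.subset_closure ?_ (Set.toFinite _)).symm
    rw [hBcard, ← Nat.card_coe_set_eq]; exact hle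
  refine ⟨E, hEQ, ?_, hEsq, heq⟩
  rw [← hBcard, ← heq, ← Nat.card_coe_set_eq]; rfl

/-- A class killed by one cubic exists, as `Q` is not elementary. -/
theorem exists_kers [Finite C] :
    (∃ a, T.KerP a ∧ a ∉ D.Zs) ∧ ∃ b, T.KerQ b ∧ b ∉ D.Zs := by
  haveI : Fact (Nat.Prime 2) := ⟨Nat.prime_two⟩
  let VB := ↥(D.Q.map D.π)
  letI : CommGroup VB := { (inferInstance : Group VB) with
    mul_comm := by
      rintro ⟨_, p, hp, rfl⟩ ⟨_, q, hq, rfl⟩
      exact Subtype.ext (D.π_mul_comm hp hq) }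
  have hnot : ¬ ∀ q ∈ D.Q, q * q = 1 := by
    intro h
    have hA : ∀ u ∈ (⊤ : Subgroup D.Q), ∀ v ∈ (⊤ : Subgroup D.Q), u * v = v * u := fun u _ v _ => by
      have hu : u⁻¹ = u := inv_eq_of_mul_eq_one_right (Subtype.ext (h u u.2))
      have hv : v⁻¹ = v := inv_eq_of_mul_eq_one_right (Subtype.ext (h v v.2))
      have huv : (u * v)⁻¹ = u * v := inv_eq_of_mul_eq_one_right (Subtype.ext (h _ (u * v).2))
      rw [← huv, mul_inv_rev, hu, hv]
    have := Extraspecial.card_abelian_sq_le D.ext hA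
    rw [Subgroup.card_top, D.cardQ] at this
    omega
  have hnorm : ∀ v ∈ D.Q, D.π (T.mv 6 v) * D.π (T.mv 5 v) * D.π (T.mv 3 v) *
      ((D.π (T.mv 4 v) * D.π (T.mv 3 v) * D.π (T.mv 1 v)) *
        (D.π (T.mv 3 v) * D.π (T.mv 2 v) * D.π (T.mv 0 v))) = 1 := by
    intro v hv
    let y : ℕ → VB := fun i => ⟨D.π (T.mv i v), Subgroup.mem_map_of_mem _ (T.mv_mem hv i)⟩
    have h : D.π (T.mv 6 v) * D.π (T.mv 5 v) * D.π (T.mv 3 v) *
        ((D.π (T.mv 4 v) * D.π (T.mv 3 v) * D.π (T.mv 1 v)) *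
          (D.π (T.mv 3 v) * D.π (T.mv 2 v) * D.π (T.mv 0 v))) =
        D.π (T.mv 0 v) * D.π (T.mv 1 v) * D.π (T.mv 2 v) * D.π (T.mv 3 v) * D.π (T.mv 4 v) *
          D.π (T.mv 5 v) * D.π (T.mv 6 v) :=
      congrArg Subtype.val (seven_product y fun i => Subtype.ext (π_sq (T.mv_mem hv i)))
    rw [h]
    have hn := π_of_Zs (T.fixed_mem_Zs (T.norm_mem hv) (T.norm_fixed hv))
    rw [T.norm_eq] at hn
    simpa [Seven.mv, map_mul, cj_one] using hn
  constructor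
  · by_contra hne
    push Not at hne
    refine hnot fun v hv => KerQ.sq T ?_
    set w := T.mv 3 v * T.mv 2 v * T.mv 0 v with hw
    have hwQ : w ∈ D.Q := mul_mem (mul_mem (T.mv_mem hv 3) (T.mv_mem hv 2)) (T.mv_mem hv 0)
    have h1 := hnorm v hv
    have e3 : T.mv 3 w = T.mv 6 v * T.mv 5 v * T.mv 3 v := by rw [hw, T.mv_mul, T.mv_mul, T.mv_mv, T.mv_mv, T.mv_mv]
    have e1 : T.mv 1 w = T.mv 4 v * T.mv 3 v * T.mv 1 v := by rw [hw, T.mv_mul, T.mv_mul, T.mv_mv, T.mv_mv, T.mv_mv]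
    simp only [← map_mul, ← hw, ← e3, ← e1] at h1
    rw [map_mul, map_mul] at h1
    have hk : T.KerP w := ⟨hwQ, (eq_inv_of_mul_eq_one_left h1).trans (by
      rw [mul_inv_rev, π_inv hwQ, π_inv (T.mv_mem hwQ 1), D.π_mul_comm hwQ (T.mv_mem hwQ 1)])⟩
    have hz := π_of_Zs (hne w hk)
    rw [hw, map_mul, T.mv_zero] at hz
    refine ⟨hv, ?_⟩
    have h2 := eq_inv_of_mul_eq_one_left hz
    rw [π_inv hv, map_mul] at h2
    calc D.π (T.mv 3 v) = D.π (T.mv 3 v) * (D.π (T.mv 2 v) * D.π (T.mv 2 v)) := by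
          rw [π_sq (T.mv_mem hv 2), mul_one]
      _ = D.π v * D.π (T.mv 2 v) := by rw [← mul_assoc, h2]
      _ = _ := D.π_mul_comm hv (T.mv_mem hv 2)
  · by_contra hne
    push Not at hne
    refine hnot fun v hv => KerP.sq T ?_
    set w := T.mv 3 v * T.mv 1 v * T.mv 0 v with hw
    have hwQ : w ∈ D.Q := mul_mem (mul_mem (T.mv_mem hv 3) (T.mv_mem hv 1)) (T.mv_mem hv 0)
    have h1 : D.π (T.mv 3 w) = D.π (T.mv 2 w) * D.π w := by
      let y : ℕ → VB := fun i => ⟨D.π (T.mv i v), Subgroup.mem_map_of_mem _ (T.mv_mem hv i)⟩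
      have h0 := hnorm v hv
      have hY : (y 6 * y 5 * y 3) * ((y 4 * y 3 * y 1) * (y 3 * y 2 * y 0)) = 1 := Subtype.ext h0
      have h2 : (y 6 * y 4 * y 3) * ((y 5 * y 3 * y 2) * (y 3 * y 1 * y 0)) = 1 := by
        rw [← hY]; ac_rfl
      have e := eq_inv_of_mul_eq_one_left h2
      rw [mul_inv_rev] at e
      have e' : D.π (T.mv 6 v) * D.π (T.mv 4 v) * D.π (T.mv 3 v) =
          (D.π (T.mv 3 v) * D.π (T.mv 1 v) * D.π (T.mv 0 v))⁻¹ *
            (D.π (T.mv 5 v) * D.π (T.mv 3 v) * D.π (T.mv 2 v))⁻¹ := congrArg Subtype.val e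
      simp only [← map_mul] at e'
      rw [hw]
      simp only [T.mv_mul, T.mv_mv]
      rw [show 3 + 3 = 6 from rfl, show 3 + 1 = 4 from rfl, show 3 + 0 = 3 from rfl, e',
        show 2 + 3 = 5 from rfl, show 2 + 0 = 2 from rfl]
      rw [π_inv hwQ, π_inv (mul_mem (mul_mem (T.mv_mem hv 5) (T.mv_mem hv 3)) (T.mv_mem hv 2))]
      exact D.π_mul_comm hwQ (mul_mem (mul_mem (T.mv_mem hv 5) (T.mv_mem hv 3)) (T.mv_mem hv 2))
    have hz := π_of_Zs (hne w ⟨hwQ, h1⟩)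
    rw [hw, map_mul, T.mv_zero] at hz
    refine ⟨hv, ?_⟩
    have h2 := eq_inv_of_mul_eq_one_left hz
    rw [π_inv hv, map_mul] at h2
    calc D.π (T.mv 3 v) = D.π (T.mv 3 v) * (D.π (T.mv 1 v) * D.π (T.mv 1 v)) := by
          rw [π_sq (T.mv_mem hv 1), mul_one]
      _ = D.π v * D.π (T.mv 1 v) := by rw [← mul_assoc, h2]
      _ = _ := D.π_mul_comm hv (T.mv_mem hv 1)

/-- The two subgroups, with a twist of `h` fixing one class in each. -/
structure Pair where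
  a : C
  b : C
  E : Subgroup C
  F : Subgroup C
  k : C
  ha : T.KerP a
  hb : T.KerQ b
  haZ : a ∉ D.Zs
  hbZ : b ∉ D.Zs
  E_le : E ≤ D.Q
  F_le : F ≤ D.Q
  E_card : Nat.card E = 16
  F_card : Nat.card F = 16
  E_sq : ∀ x ∈ E, x * x = 1
  F_sq : ∀ x ∈ F, x * x = 1
  E_eq : (E : Set C) = T.orb a ∪ (D.Zs : Set C)
  F_eq : (F : Set C) = T.orb b ∪ (D.Zs : Set C)
  inter : ∀ x ∈ E, x ∈ F → x ∈ D.Zs
  decomp : ∀ q ∈ D.Q, ∃ e ∈ E, ∃ f ∈ F, q = e * f
  k_rel : ∀ i, ∀ x ∈ D.Q, D.π (cj k (T.mv i x)) = D.π (T.mv (2 * i) (cj k x))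
  k_a : D.π (cj k a) = D.π a
  k_b : D.π (cj k b) = D.π b

theorem exists_pair [Finite C] : Nonempty T.Pair := by
  obtain ⟨⟨a, ha, haZ⟩, b, hb, hbZ⟩ := T.exists_kers
  obtain ⟨E, hEQ, hEc, hEsq, hEeq⟩ :=
    T.exists_orb_group ha.1 haZ (T.singular ha.1 1 (Or.inl rfl) ha.2).1 (ha.sq T)
  obtain ⟨F, hFQ, hFc, hFsq, hFeq⟩ :=
    T.exists_orb_group hb.1 hbZ (T.singular hb.1 2 (Or.inr rfl) hb.2).1 (hb.sq T)
  have hE : ∀ {x}, x ∈ E ↔ x ∈ T.orb a ∨ x ∈ D.Zs := fun {x} => Set.ext_iff.1 hEeq x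
  have hF : ∀ {x}, x ∈ F ↔ x ∈ T.orb b ∨ x ∈ D.Zs := fun {x} => Set.ext_iff.1 hFeq x
  have kerE : ∀ {x}, x ∈ E → T.KerP x := fun {x} hx => by
    rcases hE.1 hx with ⟨i, hi⟩ | h
    · exact (ha.mv T i).congr T (hEQ hx) hi
    · exact T.kerP_of_Zs h
  have kerF : ∀ {x}, x ∈ F → T.KerQ x := fun {x} hx => by
    rcases hF.1 hx with ⟨i, hi⟩ | h
    · exact (hb.mv T i).congr T (hFQ hx) hi
    · exact T.kerQ_of_Zs h
  have hinter : ∀ x ∈ E, x ∈ F → x ∈ D.Zs := fun x hx hx' => by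
    have h := mul_right_cancel ((kerE hx).2.symm.trans (kerF hx').2)
    rw [show T.mv 2 x = T.mv 1 (T.mv 1 x) from (T.mv_mv 1 1 x).symm] at h
    have h1 := T.π_mv_eq (T.mv_mem (hEQ hx) 1)
    by_contra hxZ
    exact absurd (h1 (cj_not_Zs hxZ) h.symm) (by norm_num)
  -- the decomposition
  let rep : Option (Fin 7) → C := fun o => o.elim 1 fun i => T.mv i b
  have hrep : ∀ o, rep o ∈ F := fun o => by
    cases o with
    | none => exact one_mem _
    | some i => exact hF.2 (Or.inl ⟨i, rfl⟩)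
  have hπrep : ∀ o o', D.π (rep o) = D.π (rep o') → o = o' := by
    have h1 : ∀ i : ℕ, D.π (T.mv i b) ≠ 1 := fun i h => cj_not_Zs hbZ (Zs_of_π h)
    have h2 : ∀ i j : Fin 7, D.π (T.mv i b) = D.π (T.mv j b) → i = j := fun i j h => by
      have h' := T.π_mv_congr (7 - (i : ℕ)) h
      rw [T.mv_mv, T.mv_mv, show 7 - (i : ℕ) + i = 7 by omega, show T.mv 7 b = b from T.cj_pow_seven b] at h'
      have := T.π_mv_eq hb.1 hbZ h'.symm
      exact Fin.ext (by omega)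
    rintro (_ | i) (_ | j) h
    · rfl
    · exact absurd (h.symm.trans (map_one D.π)) (h1 j)
    · exact absurd (h.trans (map_one D.π)) (h1 i)
    · rw [h2 i j h]
  have hdec : ∀ q ∈ D.Q, ∃ e ∈ E, ∃ f ∈ F, q = e * f := by
    let m : E × Option (Fin 7) → C := fun v => (v.1 : C) * rep v.2
    have hinj : Function.Injective m := by
      rintro ⟨e, o⟩ ⟨e', o'⟩ h
      change (e : C) * rep o = e' * rep o' at h
      have h1 : (e' : C)⁻¹ * e = rep o' * (rep o)⁻¹ := by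
        calc (e' : C)⁻¹ * e = (e' : C)⁻¹ * ((e : C) * rep o) * (rep o)⁻¹ := by group
          _ = _ := by rw [h]; group
      have hz := hinter _ (mul_mem (inv_mem e'.2) e.2) (h1 ▸ mul_mem (hrep o') (inv_mem (hrep o)))
      rw [h1] at hz
      have hπ := π_of_Zs hz
      rw [map_mul, map_inv, mul_inv_eq_one] at hπ
      obtain rfl := hπrep _ _ hπ.symm
      rw [Subtype.ext (mul_right_cancel h)]
    have hrange : Set.range m = (D.Q : Set C) := by
      refine Set.eq_of_subset_of_ncard_le (Set.range_subset_iff.2 fun v => mul_mem (hEQ v.1.2) (hFQ (hrep _))) ?_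
        (Set.toFinite _)
      rw [← Nat.card_coe_set_eq, ← Nat.card_coe_set_eq, Nat.card_range_of_injective hinj, Nat.card_prod,
        hEc, Nat.card_eq_fintype_card (α := Option (Fin 7)), Fintype.card_option, Fintype.card_fin]
      exact D.cardQ.le
    intro q hq
    obtain ⟨v, rfl⟩ : q ∈ Set.range m := by rw [hrange]; exact hq
    exact ⟨_, v.1.2, _, hrep _, rfl⟩
  have huniq : ∀ {e e' f f' : C}, e ∈ E → e' ∈ E → f ∈ F → f' ∈ F →
      D.π e * D.π f = D.π e' * D.π f' → D.π e = D.π e' ∧ D.π f = D.π f' := by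
    intro e e' f f' he he' hf hf' h
    have h1 : D.π (e'⁻¹ * e) = D.π (f' * f⁻¹) := by
      rw [map_mul, map_mul, map_inv, map_inv]
      calc (D.π e')⁻¹ * D.π e = (D.π e')⁻¹ * (D.π e * D.π f) * (D.π f)⁻¹ := by group
        _ = _ := by rw [h]; group
    have hm : e'⁻¹ * e ∈ F := by
      have hm1 := mul_mem hf' (inv_mem hf)
      have hm2 := mul_mem hm1 ((hF.2 (Or.inr (D.π_eq_iff.1 h1.symm))))
      rwa [mul_inv_cancel_left] at hm2
    have hee := (D.π_eq_iff.2 (hinter _ (mul_mem (inv_mem he') he) hm)).symm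
    rw [hee] at h
    exact ⟨hee, mul_left_cancel h⟩
  obtain ⟨j₀, hh⟩ : ∃ k : C, ∀ i, ∀ x ∈ D.Q, D.π (cj k (T.mv i x)) = D.π (T.mv (2 * i) (cj k x)) :=
    ⟨T.h, fun i x hx => T.rel_pow hx i⟩
  -- an element with this relation normalises both subgroups
  have hpres : ∀ k : C, (∀ i, ∀ x ∈ D.Q, D.π (cj k (T.mv i x)) = D.π (T.mv (2 * i) (cj k x))) →
      (∀ x ∈ E, cj k x ∈ E) ∧ ∀ x ∈ F, cj k x ∈ F := by
    intro k hk
    have hrel : ∀ {x : C} {s : ℕ}, x ∈ D.Q → D.π (T.mv 3 x) = D.π (T.mv s x) * D.π x →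
        ∀ {e f}, e ∈ E → f ∈ F → cj k x = e * f →
          D.π (T.mv 6 e) * D.π (T.mv 6 f) =
            D.π (T.mv (2 * s) e) * D.π e * (D.π (T.mv (2 * s) f) * D.π f) := by
      intro x s hx hs e f he hf hef
      have e1 : D.π (cj k (T.mv 3 x)) = D.π (cj k (T.mv s x * x)) :=
        D.π_cj_congr k (by rw [hs, map_mul])
      rw [hk 3 x hx, cj_mul, map_mul, hk s x hx, hef, T.mv_mul, T.mv_mul, map_mul, map_mul, map_mul] at e1
      rw [e1]
      exact π_mul_four (T.mv_mem (hEQ he) _) (T.mv_mem (hFQ hf) _) (hEQ he) (hFQ hf)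
    have hEm : ∀ {x} (i : ℕ), x ∈ E → T.mv i x ∈ E := fun {x} i hx => by
      rcases hE.1 hx with ⟨j, hj⟩ | h
      · exact hE.2 (Or.inl ⟨i + j, by rw [T.π_mv_congr i hj]; exact congrArg D.π (T.mv_mv i j a)⟩)
      · rw [Seven.mv, D.cj_eq_of_Zs h]; exact hx
    have hFm : ∀ {x} (i : ℕ), x ∈ F → T.mv i x ∈ F := fun {x} i hx => by
      rcases hF.1 hx with ⟨j, hj⟩ | h
      · exact hF.2 (Or.inl ⟨i + j, by rw [T.π_mv_congr i hj]; exact congrArg D.π (T.mv_mv i j b)⟩)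
      · rw [Seven.mv, D.cj_eq_of_Zs h]; exact hx
    constructor
    · intro x hx
      obtain ⟨e, he, f, hf, hef⟩ := hdec _ (D.cj_mem (hEQ hx) k)
      rw [hef]
      refine mul_mem he (hE.2 (Or.inr ?_))
      have h6 := hrel (hEQ hx) (kerE hx).2 he hf hef
      have h' := (huniq (hEm 6 he) (mul_mem (hEm 2 he) he) (hFm 6 hf) (mul_mem (hFm 2 hf) hf)
        (by rw [map_mul, map_mul]; exact h6)).2
      rw [map_mul] at h'
      have k3 := (kerF hf).2
      have k5 := (kerF hf).shift T 2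
      have k6 := (kerF hf).shift T 3
      have k4 := (kerF hf).shift T 1
      norm_num at k4 k5 k6
      have hm := fun i => π_sq (T.mv_mem (hFQ hf) i)
      -- the sixth power is the sum of the first two
      have e6 : D.π (T.mv 6 f) = D.π (T.mv 2 f) * D.π (T.mv 1 f) := by
        rw [k6, k5, k4, k3]
        let y : ℕ → C ⧸ D.Zs := fun i => D.π (T.mv i f)
        have hc : ∀ i j, y i * y j = y j * y i := fun i j =>
          D.π_mul_comm (T.mv_mem (hFQ hf) i) (T.mv_mem (hFQ hf) j)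
        have hy0 : D.π f = y 0 := by simp only [y, T.mv_zero]
        rw [hy0]
        show y 2 * y 0 * y 1 * y 2 * (y 2 * y 0) = y 2 * y 1
        calc y 2 * y 0 * y 1 * y 2 * (y 2 * y 0) = y 2 * y 0 * y 1 * (y 2 * y 2) * y 0 := by group
          _ = y 2 * (y 0 * y 1) * y 0 := by rw [hm 2]; group
          _ = y 2 * y 1 * (y 0 * y 0) := by rw [hc 0 1]; group
          _ = _ := by rw [hm 0, mul_one]
      rw [e6] at h'
      have h1 := mul_left_cancel h'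
      by_contra hfZ
      exact absurd (T.π_mv_eq (hFQ hf) hfZ h1) (by norm_num)
    · intro x hx
      obtain ⟨e, he, f, hf, hef⟩ := hdec _ (D.cj_mem (hFQ hx) k)
      rw [hef]
      refine mul_mem (hF.2 (Or.inr ?_)) hf
      have h6 := hrel (hFQ hx) (kerF hx).2 he hf hef
      have h' := (huniq (hEm 6 he) (mul_mem (hEm 4 he) he) (hFm 6 hf) (mul_mem (hFm 4 hf) hf)
        (by rw [map_mul, map_mul]; exact h6)).1
      rw [map_mul] at h'
      have k3 := (kerE he).2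
      have k4 := (kerE he).shift T 1
      have k6 := (kerE he).shift T 3
      norm_num at k4 k6
      rw [k6, k3] at h'
      have h1 := mul_left_cancel h'
      by_contra heZ
      refine cj_not_Zs heZ (g := T.d ^ 1) (Zs_of_π ?_)
      exact mul_eq_right.1 h1
  have hha : cj j₀ a ∈ T.orb a :=
    (hE.1 ((hpres j₀ hh).1 a (hE.2 (Or.inl (T.mem_orb_self a))))).resolve_right (cj_not_Zs haZ)
  obtain ⟨j, hj⟩ := hha
  set k := T.d ^ (6 * j) * j₀ with hkdef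
  have hk : ∀ i, ∀ x ∈ D.Q, D.π (cj k (T.mv i x)) = D.π (T.mv (2 * i) (cj k x)) := fun i x hx => by
    rw [hkdef, ← cj_cj, ← cj_cj, D.π_cj_congr _ (hh i x hx)]
    simp only [Seven.mv, cj_cj, ← mul_assoc, ← pow_add, add_comm (6 * j)]
  have hka : D.π (cj k a) = D.π a := by
    rw [hkdef, ← cj_cj, D.π_cj_congr _ hj, cj_cj, ← pow_add, show 6 * j + j = 7 * j by ring, pow_mul,
      T.d_pow, one_pow, cj_one]
  obtain ⟨l, hl⟩ := (hF.1 ((hpres k hk).2 b (hF.2 (Or.inl (T.mem_orb_self b))))).resolve_right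
    (cj_not_Zs hbZ)
  set b' := T.mv (6 * l) b with hb'
  have horb : T.orb b' = T.orb b := by
    have h1 : b' ∈ T.orb b := ⟨6 * l, rfl⟩
    exact Set.ext fun x => ⟨fun hx => T.orb_trans h1 hx, fun hx => T.orb_trans (T.orb_symm h1) hx⟩
  refine ⟨⟨a, b', E, F, k, ha, hb.mv T _, haZ, cj_not_Zs hbZ, hEQ, hFQ, hEc, hFc, hEsq, hFsq, hEeq,
    horb ▸ hFeq, hinter, hdec, hk, hka, ?_⟩⟩
  rw [hk _ b hb.1, T.π_mv_congr _ (hl : D.π (cj k b) = D.π (T.mv l b)),
    show cj (T.d ^ l) b = T.mv l b from rfl, T.mv_mv, T.mv_mod,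
    show (2 * (6 * l) + l) % 7 = (6 * l) % 7 by omega, ← T.mv_mod]

end Seven

end RecogBase

end Cfsg.Agent.TransvCent
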