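import Cfsg.Agent.Lib.TransvCent.RecogSetup

/-!
# The two invariant elementary subgroups of order sixteen

* `RecogSetting.Split` : two invariant elementary subgroups meeting in the centre and covering the marked involutions
* `RecogSetting.exists_split` : they exist
-/

set_option autoImplicit false
set_option linter.style.haveILetI false
open scoped commutatorElement

namespace Cfsg.Agent.TransvCent

namespace RecogBase

variable {C : Type*} [Group C] {D : RecogBase C}

namespace Seven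

variable (T : D.Seven)

/-- The conjugates of `a` under powers of `d`, up to the centre. -/
def orb (a : C) : Set C := {x | ∃ i : ℕ, D.π x = D.π (cj (T.d ^ i) a)}

theorem mem_orb_self (a : C) : a ∈ T.orb a := ⟨0, by rw [pow_zero, cj_one]⟩

theorem cj_pow_mod (i : ℕ) (x : C) : cj (T.d ^ i) x = cj (T.d ^ (i % 7)) x := by
  conv_lhs => rw [← Nat.div_add_mod i 7, pow_add, pow_mul, T.d_pow, one_pow, one_mul]

theorem orb_trans {a b c : C} (hb : b ∈ T.orb a) (hc : c ∈ T.orb b) : c ∈ T.orb a := by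
  obtain ⟨i, hi⟩ := hb
  obtain ⟨j, hj⟩ := hc
  exact ⟨j + i, by rw [hj, D.π_cj_congr _ hi, cj_cj, ← pow_add]⟩

theorem orb_symm {a b : C} (hb : b ∈ T.orb a) : a ∈ T.orb b := by
  obtain ⟨i, hi⟩ := hb
  refine ⟨6 * i, ?_⟩
  rw [D.π_cj_congr _ hi, cj_cj, ← pow_add, show 6 * i + i = 7 * i by ring, pow_mul, T.d_pow, one_pow,
    cj_one]

theorem rel_pow {x : C} (hx : x ∈ D.Q) (i : ℕ) :
    D.π (cj T.h (cj (T.d ^ i) x)) = D.π (cj (T.d ^ (2 * i)) (cj T.h x)) := by
  induction i with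
  | zero => simp [cj]
  | succ i ih =>
    rw [pow_succ', ← cj_cj, T.rel _ (D.cj_mem hx _), D.π_cj_congr _ ih, cj_cj (T.d ^ 2), ← pow_add,
      show 2 + 2 * i = 2 * (i + 1) by ring]

theorem map_orb {a b : C} (ha : a ∈ D.Q) (hb : b ∈ T.orb a) : cj T.h b ∈ T.orb (cj T.h a) := by
  obtain ⟨i, hi⟩ := hb
  exact ⟨2 * i, by rw [D.π_cj_congr _ hi, T.rel_pow ha]⟩

theorem map_orb_symm {a b : C} (ha : a ∈ D.Q) (hb : cj T.h b ∈ T.orb (cj T.h a)) : b ∈ T.orb a := by
  obtain ⟨i, hi⟩ := hb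
  refine ⟨4 * i, ?_⟩
  have h1 : D.π (cj T.h b) = D.π (cj T.h (cj (T.d ^ (4 * i)) a)) := by
    rw [T.rel_pow ha, hi, T.cj_pow_mod (2 * (4 * i)), T.cj_pow_mod i]
    congr 3
    omega
  have := D.π_cj_congr T.h⁻¹ h1
  rwa [cj_cj, cj_cj, inv_mul_cancel, cj_one, cj_one] at this

/-- A twist of `h` fixing the class of `a`. -/
theorem exists_fixing {a : C} (ha : a ∈ D.Q) (h : cj T.h a ∈ T.orb a) :
    ∃ k : C, D.π (cj k a) = D.π a ∧ ∀ i, ∀ x ∈ D.Q, D.π (cj k (cj (T.d ^ i) x)) = D.π (cj (T.d ^ (2 * i)) (cj k x)) := by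
  obtain ⟨j, hj⟩ := h
  refine ⟨T.d ^ (6 * j) * T.h, ?_, fun i x hx => ?_⟩
  · rw [← cj_cj, D.π_cj_congr _ hj, cj_cj, ← pow_add, show 6 * j + j = 7 * j by ring, pow_mul, T.d_pow,
      one_pow, cj_one]
  · have e : cj (T.d ^ (6 * j) * T.h) (cj (T.d ^ i) x) = cj (T.d ^ (6 * j)) (cj T.h (cj (T.d ^ i) x)) :=
      (cj_cj _ _ _).symm
    rw [e, D.π_cj_congr _ (T.rel_pow hx i)]
    simp only [cj_cj, ← mul_assoc, ← pow_add, add_comm (6 * j)]

/-- The classes in an orbit of a marked involution commute. -/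
theorem comm_orb [Finite C] {a : C} (ha : a ∈ D.Q) (haa : a * a = 1) (h : cj T.h a ∈ T.orb a) (i : ℕ) :
    ⁅a, cj (T.d ^ i) a⁆ = 1 := by
  obtain ⟨k, hka, hk⟩ := T.exists_fixing ha h
  set m : ℕ → C := fun i => cj (T.d ^ i) a with hm
  have hmQ : ∀ i, m i ∈ D.Q := fun i => D.cj_mem ha _
  set β : ℕ → C := fun i => ⁅a, m i⁆ with hβ
  have hβZ : ∀ i, β i ∈ D.Zs := fun i => D.comm_mem_Zs ha (hmQ i)
  have hshift : ∀ i j, ⁅m i, m (i + j)⁆ = β j := fun i j => by
    have : cj (T.d ^ i) ⁅a, m j⁆ = β j := D.cj_eq_of_Zs (hβZ j) _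
    rwa [cj_comm, hm, cj_cj, ← pow_add] at this
  have hmod : ∀ i, β i = β (i % 7) := fun i => by rw [hβ]; simp only [hm]; rw [← T.cj_pow_mod]
  have htwo : ∀ i, β (2 * i) = β i := fun i => by
    have e : cj k ⁅a, m i⁆ = β i := D.cj_eq_of_Zs (hβZ i) _
    rw [cj_comm] at e
    have hkQ : cj k a ∈ D.Q := D.cj_mem ha _
    have h1 : ⁅cj k a, cj k (m i)⁆ = ⁅cj k a, cj (T.d ^ (2 * i)) (cj k a)⁆ :=
      (D.comm_congr_right hkQ (D.cj_mem hkQ _) (D.cj_mem (hmQ i) _)
        (D.π_eq_iff.1 (hk i a ha).symm))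
    rw [h1, D.comm_congr_right hkQ (hmQ (2 * i)) (D.cj_mem hkQ _)
      (D.π_eq_iff.1 (D.π_cj_congr _ hka.symm)), D.comm_symm (hmQ _) hkQ,
      D.comm_congr_right (hmQ _) ha hkQ (D.π_eq_iff.1 hka.symm), D.comm_symm ha (hmQ _)] at e
    exact e
  have hneg : ∀ i, i ≤ 7 → β (7 - i) = β i := fun i hi => by
    have e := hshift i (7 - i)
    rw [show i + (7 - i) = 7 by omega] at e
    rw [← e, show m 7 = a by rw [hm]; exact T.cj_pow_seven a, D.comm_symm ha (hmQ i)]
  have h2 : β 2 = β 1 := htwo 1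
  have h4 : β 4 = β 1 := (htwo 2).trans h2
  have h3 : β 3 = β 1 := by rw [← h4, ← hneg 4 (by norm_num)]
  have h5 : β 5 = β 1 := by rw [← h2, ← hneg 2 (by norm_num)]
  have h6 : β 6 = β 1 := hneg 1 (by norm_num)
  set b := β 1 with hb
  have hbb : b * b = 1 := D.Zs_sq (hβZ 1)
  -- the product over the orbit is central, so has square one
  have hall : ∀ j, 0 < j → j < 7 → β j = b := fun j hj hj' => by interval_cases j <;> assumption
  have hP : ∀ n, n ≤ 6 → ((List.range (n + 1)).map m).prod ∈ D.Q ∧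
      (∀ j, n < j → j ≤ 6 → ⁅((List.range (n + 1)).map m).prod, m j⁆ = b ^ (n + 1)) ∧
      ((List.range (n + 1)).map m).prod * ((List.range (n + 1)).map m).prod = b ^ (n * (n + 1) / 2) := by
    intro n
    induction n with
    | zero =>
      intro _
      have e : ((List.range 1).map m).prod = a := by simp [hm, cj]
      rw [e]
      exact ⟨ha, fun j hj hj' => by rw [pow_one]; exact hall j hj (by omega), by simpa using haa⟩
    | succ n ih =>
      intro hn
      obtain ⟨hQ', hc, hsq⟩ := ih (by omega)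
      set P := ((List.range (n + 1)).map m).prod with hP
      have e : ((List.range (n + 1 + 1)).map m).prod = P * m (n + 1) := by
        rw [List.range_succ, List.map_append, List.prod_append]; simp [hP]
      rw [e]
      refine ⟨mul_mem hQ' (hmQ _), fun j hj hj' => ?_, ?_⟩
      · rw [D.comm_symm (hmQ j) (mul_mem hQ' (hmQ _)), D.comm_mul_right (hmQ j) hQ' (hmQ _),
          D.comm_symm hQ' (hmQ j), hc j (by omega) hj', D.comm_symm (hmQ _) (hmQ j)]
        have := hshift (n + 1) (j - (n + 1))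
        rw [show n + 1 + (j - (n + 1)) = j by omega] at this
        rw [this, hall _ (by omega) (by omega), ← pow_succ]
      · have hmm : m (n + 1) * m (n + 1) = 1 := by
          rw [hm, ← cj_mul, haa]; simp [cj]
        rw [D.mul_sq hQ' (hmQ _), hsq, hmm, mul_one, hc (n + 1) (by omega) hn, ← pow_add]
        congr 1
        rw [show (n + 1) * (n + 1 + 1) = n * (n + 1) + (n + 1) * 2 by ring,
          Nat.add_mul_div_right _ _ (by norm_num)]
  obtain ⟨hQ7, -, hsq7⟩ := hP 6 le_rfl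
  have hnorm : ((List.range 7).map m).prod = T.norm a := rfl
  rw [hnorm] at hQ7 hsq7
  rw [D.Zs_sq (T.fixed_mem_Zs hQ7 (T.norm_fixed ha))] at hsq7
  have hb1 : b = 1 := by
    rw [show (6 : ℕ) * (6 + 1) / 2 = 2 * 10 + 1 from rfl, pow_succ, pow_mul, pow_two, hbb, one_pow,
      one_mul] at hsq7
    exact hsq7.symm
  show β i = 1
  rw [hmod]
  have : i % 7 < 7 := Nat.mod_lt _ (by norm_num)
  rcases Nat.eq_zero_or_pos (i % 7) with e | e
  · rw [e, hβ]; simp [hm, cj]
  · rw [hall _ e this, hb1]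

theorem ncard_orb [Finite C] {a : C} (ha : a ∈ D.Q) (haZ : a ∉ D.Zs) : (T.orb a).ncard = 14 := by
  classical
  have hinj : ∀ i j : ℕ, i < j → j < 7 → D.π (cj (T.d ^ i) a) ≠ D.π (cj (T.d ^ j) a) := by
    intro i j hij hj h
    have h1 := D.π_cj_congr (T.d ^ (7 - i)) h
    rw [cj_cj, cj_cj, ← pow_add, ← pow_add, show 7 - i + i = 7 by omega, T.cj_pow_seven,
      T.cj_pow_mod (7 - i + j), show (7 - i + j) % 7 = j - i by omega] at h1
    have hk : ∀ n, D.π (cj (T.d ^ ((j - i) * n)) a) = D.π a := by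
      intro n
      induction n with
      | zero => simp [cj]
      | succ n ih => rw [Nat.mul_succ, pow_add, ← cj_cj, D.π_cj_congr _ h1.symm, ih]
    obtain ⟨n, hn⟩ : ∃ n, (j - i) * n % 7 = 1 := by
      have hk0 : 0 < j - i := by omega
      have hk7 : j - i < 7 := by omega
      interval_cases (j - i)
      exacts [⟨1, rfl⟩, ⟨4, rfl⟩, ⟨5, rfl⟩, ⟨2, rfl⟩, ⟨3, rfl⟩, ⟨6, rfl⟩]
    have h2 := hk n
    rw [T.cj_pow_mod, hn, pow_one] at h2
    exact haZ (T.fixed_mem_Zs ha (T.fixed_of_π h2))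
  let f : Fin 7 × Bool → C := fun p => cj (T.d ^ (p.1 : ℕ)) a * if p.2 then D.z else 1
  have hfπ : ∀ p, D.π (f p) = D.π (cj (T.d ^ (p.1 : ℕ)) a) := fun p => by
    show D.π (cj (T.d ^ (p.1 : ℕ)) a * _) = _
    rw [map_mul, show D.π (if p.2 then D.z else 1) = 1 from (QuotientGroup.eq_one_iff _).2
      (by split <;> simp [mem_Zs]), mul_one]
  have hf : Function.Injective f := by
    rintro ⟨i, u⟩ ⟨j, v⟩ h
    have hπ := congrArg D.π h
    rw [hfπ, hfπ] at hπ
    have hij : i = j := by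
      rcases lt_trichotomy i j with l | l | l
      · exact absurd hπ (hinj _ _ l j.2)
      · exact l
      · exact absurd hπ.symm (hinj _ _ l i.2)
    subst hij
    have h' := mul_left_cancel h
    cases u <;> cases v <;> simp_all [D.z_ne, Ne.symm D.z_ne]
  have hrange : T.orb a = Set.range f := by
    refine Set.Subset.antisymm (fun x ⟨i, hi⟩ => ?_) ?_
    · rw [T.cj_pow_mod] at hi
      have hm := D.π_eq_iff.1 hi.symm
      rcases hm with hm | hm
      · exact ⟨(⟨i % 7, Nat.mod_lt _ (by norm_num)⟩, false), by simpa [f] using inv_mul_eq_one.1 hm⟩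
      · refine ⟨(⟨i % 7, Nat.mod_lt _ (by norm_num)⟩, true), ?_⟩
        simp only [f, ↓reduceIte]
        rw [← hm]; group
    · rintro x ⟨p, rfl⟩
      exact ⟨p.1, hfπ p⟩
  rw [hrange, ← Nat.card_coe_set_eq, Nat.card_range_of_injective hf, Nat.card_prod, Nat.card_fin,
    Nat.card_eq_fintype_card, Fintype.card_bool]

end Seven

variable (D)

theorem exists_cj_mul_z {a : C} (ha : a ∈ D.Q) (haZ : a ∉ D.Zs) : ∃ q ∈ D.Q, cj q a = a * D.z := by
  by_contra hne
  push Not at hne
  refine haZ (D.central_mem_Zs ha fun r hr => ?_)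
  have hz : ⁅r, a⁆ = 1 := (D.comm_mem_Zs hr ha).resolve_right fun e => hne r hr (by
    rw [cj, D.z_comm a, ← e, commutatorElement_def]; group)
  exact commutatorElement_eq_one_iff_mul_comm.1 hz

end RecogBase

namespace RecogSetting

variable {C : Type*} [Group C] (D : RecogSetting C)

theorem S_notMem_Zs {a : C} (ha : a ∈ D.S) : a ∉ D.Zs := fun h =>
  h.elim (D.S_mem a ha).2.2.1 (D.S_mem a ha).2.2.2

theorem S_mul_z {a : C} (ha : a ∈ D.S) : a * D.z ∈ D.S := by
  obtain ⟨q, -, hq⟩ := D.exists_cj_mul_z (D.S_mem a ha).1 (D.S_notMem_Zs ha)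
  rw [← hq]
  exact D.S_conj q a ha

theorem S_of_π {a b : C} (ha : a ∈ D.S) (h : D.π b = D.π a) : b ∈ D.S := by
  rcases D.π_eq_iff.1 h.symm with e | e
  · rwa [← inv_mul_eq_one.1 e]
  · have : b = a * D.z := by rw [← e]; group
    rw [this]; exact D.S_mul_z ha

theorem orb_subset (T : D.Seven) {a : C} (ha : a ∈ D.S) : T.orb a ⊆ D.S := by
  rintro x ⟨i, hi⟩
  exact D.S_of_π (D.S_conj (T.d ^ i) a ha) hi

/-- Two invariant elementary subgroups of order sixteen meeting in the centre. -/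
structure Split where
  E : Subgroup C
  F : Subgroup C
  E_le : E ≤ D.Q
  F_le : F ≤ D.Q
  E_card : Nat.card E = 16
  F_card : Nat.card F = 16
  z_E : D.z ∈ E
  z_F : D.z ∈ F
  inter : ∀ x ∈ E, x ∈ F → x ∈ D.Zs
  E_comm : ∀ x ∈ E, ∀ y ∈ E, x * y = y * x
  F_comm : ∀ x ∈ F, ∀ y ∈ F, x * y = y * x
  E_sq : ∀ x ∈ E, x * x = 1
  F_sq : ∀ x ∈ F, x * x = 1
  E_conj : ∀ g : C, ∀ x ∈ E, cj g x ∈ E
  F_conj : ∀ g : C, ∀ x ∈ F, cj g x ∈ F
  E_trans : ∀ x ∈ E, ∀ y ∈ E, x ∉ D.Zs → y ∉ D.Zs → ∃ g, cj g x = y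
  F_trans : ∀ x ∈ F, ∀ y ∈ F, x ∉ D.Zs → y ∉ D.Zs → ∃ g, cj g x = y
  E_S : ∀ x ∈ E, x ∉ D.Zs → x ∈ D.S
  F_S : ∀ x ∈ F, x ∉ D.Zs → x ∈ D.S
  cover : ∀ x ∈ D.S, x ∈ E ∨ x ∈ F

/-- Exchange the two subgroups. -/
def Split.swap {D : RecogSetting C} (P : D.Split) : D.Split where
  E := P.F
  F := P.E
  E_le := P.F_le
  F_le := P.E_le
  E_card := P.F_card
  F_card := P.E_card
  z_E := P.z_F
  z_F := P.z_E
  inter := fun x hx hx' => P.inter x hx' hx
  E_comm := P.F_comm
  F_comm := P.E_comm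
  E_sq := P.F_sq
  F_sq := P.E_sq
  E_conj := P.F_conj
  F_conj := P.E_conj
  E_trans := P.F_trans
  F_trans := P.E_trans
  E_S := P.F_S
  F_S := P.E_S
  cover := fun x hx => (P.cover x hx).symm

theorem exists_group [Finite C] (T : D.Seven) {a : C} (ha : a ∈ D.S) (h : cj T.h a ∈ T.orb a) :
    ∃ E : Subgroup C, E ≤ D.Q ∧ Nat.card E = 16 ∧ (∀ x ∈ E, ∀ y ∈ E, x * y = y * x) ∧
      (∀ x ∈ E, x * x = 1) ∧ (E : Set C) = T.orb a ∪ (D.Zs : Set C) := by
  haveI : Fact (Nat.Prime 2) := ⟨Nat.prime_two⟩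
  obtain ⟨haQ, haa, -, -⟩ := D.S_mem a ha
  set B : Set C := T.orb a ∪ (D.Zs : Set C) with hB
  have hBQ : ∀ x ∈ B, x ∈ D.Q := by
    rintro x (hx | hx)
    · exact (D.S_mem x (D.orb_subset T ha hx)).1
    · exact D.Zs_le hx
  have hBsq : ∀ x ∈ B, x * x = 1 := by
    rintro x (hx | hx)
    · exact (D.S_mem x (D.orb_subset T ha hx)).2.1
    · exact D.Zs_sq hx
  have hBcomm : ∀ x ∈ B, ∀ y ∈ B, x * y = y * x := by
    rintro x (hx | hx) y (hy | hy)
    swap; · exact D.Zs_comm hy x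
    swap; · exact (D.Zs_comm hx y).symm
    swap; · exact (D.Zs_comm hx y).symm
    have hxQ := hBQ x (Or.inl hx)
    have hyQ := hBQ y (Or.inl hy)
    obtain ⟨i, hi⟩ := hx
    obtain ⟨j, hj⟩ := T.orb_trans (T.orb_symm ⟨i, hi⟩) hy
    refine commutatorElement_eq_one_iff_mul_comm.1 ?_
    rw [D.comm_congr_right hxQ (D.cj_mem hxQ _) hyQ (D.π_eq_iff.1 hj.symm)]
    have hmi := D.cj_mem haQ (T.d ^ i)
    rw [D.comm_congr_right hxQ (D.cj_mem hmi (T.d ^ j)) (D.cj_mem hxQ _)
      (D.π_eq_iff.1 (D.π_cj_congr _ hi.symm)), D.comm_symm (D.cj_mem hmi _) hxQ,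
      D.comm_congr_right (D.cj_mem hmi _) hmi hxQ (D.π_eq_iff.1 hi.symm),
      D.comm_symm hmi (D.cj_mem hmi _), cj_cj, ← pow_add, add_comm j i, pow_add,
      ← cj_cj, ← cj_comm, T.comm_orb haQ haa h]
    simp [cj]
  set E := Subgroup.closure B with hE
  have hcomm : ∀ x ∈ E, ∀ y ∈ E, x * y = y * x := fun x hx y hy =>
    Subgroup.closure_induction₂ (p := fun u v _ _ => u * v = v * u) (fun u v hu hv => hBcomm u hu v hv)
      (fun v _ => by simp) (fun v _ => by simp)
      (fun u v w _ _ _ h1 h2 => by rw [mul_assoc, h2, ← mul_assoc, h1, mul_assoc])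
      (fun u v w _ _ _ h1 h2 => by rw [← mul_assoc, h1, mul_assoc, h2, mul_assoc])
      (fun u v _ _ h1 => (Commute.inv_left (h1 : Commute u v)).eq)
      (fun u v _ _ h1 => (Commute.inv_right (h1 : Commute u v)).eq) hx hy
  have hEQ : E ≤ D.Q := (Subgroup.closure_le _).2 hBQ
  have hEsq : ∀ x ∈ E, x * x = 1 := fun x hx => by
    refine Subgroup.closure_induction (p := fun u _ => u * u = 1) (fun u hu => hBsq u hu) (by simp)
      (fun u v hu hv h1 h2 => ?_) (fun u _ h1 => ?_) hx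
    · rw [mul_assoc, ← mul_assoc v u v, hcomm v hv u hu, mul_assoc u v v, h2, mul_one, h1]
    · rw [← mul_inv_rev, h1, inv_one]
  have hBcard : B.ncard = 16 := by
    rw [hB, Set.ncard_union_eq ?_ (Set.toFinite _) (Set.toFinite _), T.ncard_orb haQ (D.S_notMem_Zs ha)]
    · have : (D.Zs : Set C) = {1, D.z} := rfl
      rw [this, Set.ncard_pair D.z_ne.symm]
    · exact Set.disjoint_left.2 fun x hx => D.S_notMem_Zs (D.orb_subset T ha hx)
  have hle : Nat.card E ≤ 16 := by
    let A : Subgroup D.Q := E.subgroupOf D.Q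
    have h2 := Extraspecial.card_abelian_sq_le D.ext (A := A)
      fun u hu v hv => Subtype.ext (hcomm u hu v hv)
    rw [Nat.card_congr (Subgroup.subgroupOfEquivOfLe hEQ).toEquiv, D.cardQ] at h2
    nlinarith
  have heq : (E : Set C) = B := by
    refine (Set.eq_of_subset_of_ncard_le Subgroup.subset_closure ?_ (Set.toFinite _)).symm
    rw [hBcard, ← Nat.card_coe_set_eq]; exact hle
  refine ⟨E, hEQ, ?_, hcomm, hEsq, heq⟩
  rw [← hBcard, ← heq, ← Nat.card_coe_set_eq]; rfl

/-- The elements not exchanging the two subgroups. -/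
theorem exists_split [Finite C] : Nonempty D.Split := by
  classical
  obtain ⟨T⟩ := D.exists_seven
  have hSQ : ∀ {x : C}, x ∈ D.S → x ∈ D.Q := fun hx => (D.S_mem _ hx).1
  have hne : D.S.Nonempty := Set.nonempty_of_ncard_ne_zero (by rw [D.S_card]; norm_num)
  obtain ⟨a, ha⟩ := hne
  have hcard : ∀ {x : C}, x ∈ D.S → (T.orb x).ncard = 14 := fun hx =>
    T.ncard_orb (hSQ hx) (D.S_notMem_Zs hx)
  obtain ⟨b, hb, hb'⟩ : ∃ b ∈ D.S, b ∉ T.orb a := by
    by_contra h
    push Not at h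
    have := Set.ncard_le_ncard (show D.S ⊆ T.orb a from h) (Set.toFinite _)
    rw [hcard ha, D.S_card] at this; omega
  have hdisj : Disjoint (T.orb a) (T.orb b) :=
    Set.disjoint_left.2 fun x hxa hxb => hb' (T.orb_trans hxa (T.orb_symm hxb))
  have hcov : ∀ x ∈ D.S, x ∈ T.orb a ∨ x ∈ T.orb b := by
    have e : T.orb a ∪ T.orb b = D.S := by
      refine Set.eq_of_subset_of_ncard_le (Set.union_subset (D.orb_subset T ha) (D.orb_subset T hb)) ?_
        (Set.toFinite _)
      rw [Set.ncard_union_eq hdisj (Set.toFinite _) (Set.toFinite _), hcard ha, hcard hb, D.S_card]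
    intro x hx; rw [← e] at hx; exact hx
  have hha : cj T.h a ∈ T.orb a := by
    rcases hcov _ (D.S_conj T.h a ha) with h | h
    · exact h
    exfalso
    rcases hcov _ (D.S_conj T.h b hb) with k | k
    swap
    · exact hb' (T.map_orb_symm (hSQ ha) (T.orb_trans (T.orb_symm h) k))
    have h3 : cj T.h (cj T.h (cj T.h a)) ∈ T.orb b := by
      have q1 : cj T.h (cj T.h a) ∈ T.orb a := T.orb_trans k (T.map_orb (hSQ hb) h)
      exact T.orb_trans h (T.map_orb (hSQ ha) q1)
    rw [cj_cj, cj_cj, ← pow_two, ← pow_succ, show (2 : ℕ) + 1 = 3 from rfl] at h3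
    refine Set.disjoint_left.1 hdisj ⟨0, ?_⟩ h3
    rw [pow_zero, cj_one, D.π_cj_of_mem T.h_pow (hSQ ha)]
  have hhb : cj T.h b ∈ T.orb b := by
    rcases hcov _ (D.S_conj T.h b hb) with k | k
    · exact absurd (T.map_orb_symm (hSQ ha) (T.orb_trans (T.orb_symm hha) k)) hb'
    · exact k
  obtain ⟨E, hEQ, hEc, hEcomm, hEsq, hEset⟩ := D.exists_group T ha hha
  obtain ⟨F, hFQ, hFc, hFcomm, hFsq, hFset⟩ := D.exists_group T hb hhb
  have hE : ∀ x, x ∈ E ↔ x ∈ T.orb a ∨ x ∈ D.Zs := fun x => Set.ext_iff.1 hEset x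
  have hF : ∀ x, x ∈ F ↔ x ∈ T.orb b ∨ x ∈ D.Zs := fun x => Set.ext_iff.1 hFset x
  have hinter : ∀ x ∈ E, x ∈ F → x ∈ D.Zs := fun x hx hx' => by
    rcases (hE x).1 hx with h | h
    · rcases (hF x).1 hx' with h' | h'
      · exact absurd h' (Set.disjoint_left.1 hdisj h)
      · exact h'
    · exact h
  -- each element fixes or exchanges the two subgroups
  have hdich : ∀ g : C, (∀ x ∈ E, cj g x ∈ E) ∨ (∀ x ∈ E, cj g x ∈ F) := by
    intro g
    by_contra h
    push Not at h
    obtain ⟨⟨x, hx, hx'⟩, ⟨y, hy, hy'⟩⟩ := h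
    have hu : ∀ w ∈ E, cj g w ∈ E ∨ cj g w ∈ F := fun w hw => by
      rcases (hE w).1 hw with h | h
      · rcases hcov _ (D.S_conj g w (D.orb_subset T ha h)) with k | k
        · exact Or.inl ((hE _).2 (Or.inl k))
        · exact Or.inr ((hF _).2 (Or.inl k))
      · rw [D.cj_eq_of_Zs h]; exact Or.inl hw
    rcases hu (x * y) (mul_mem hx hy) with k | k
    · refine hx' ?_
      have := mul_mem k (inv_mem ((hu y hy).resolve_right hy'))
      rwa [cj_mul, mul_inv_cancel_right] at this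
    · refine hy' ?_
      have := mul_mem (inv_mem ((hu x hx).resolve_left hx')) k
      rwa [cj_mul, inv_mul_cancel_left] at this
  have hdichF : ∀ g : C, (∀ x ∈ E, cj g x ∈ E) → ∀ x ∈ F, cj g x ∈ F := by
    intro g hg x hx
    rcases (hF x).1 hx with h | h
    swap; · rw [D.cj_eq_of_Zs h]; exact hx
    rcases hcov _ (D.S_conj g x (D.orb_subset T hb h)) with k | k
    swap; · exact (hF _).2 (Or.inl k)
    exfalso
    have hsurj : (fun w => cj g w) '' (E : Set C) = (E : Set C) := by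
      refine Set.eq_of_subset_of_ncard_le ?_ ?_ (Set.toFinite _)
      · rintro _ ⟨w, hw, rfl⟩; exact hg w hw
      · rw [Set.ncard_image_of_injective _ fun u v e => by simpa [cj] using e]
    obtain ⟨w, hw, e⟩ : cj g x ∈ (fun w => cj g w) '' (E : Set C) := by
      rw [hsurj]; exact (hE _).2 (Or.inl k)
    have : w = x := by simpa [cj] using e
    exact D.S_notMem_Zs (D.orb_subset T hb h) (hinter x (this ▸ hw) hx)
  let K : Subgroup C := {
    carrier := {g | (∀ x ∈ E, cj g x ∈ E) }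
    one_mem' := fun x hx => by rwa [cj_one]
    mul_mem' := fun {g k} hg hk x hx => by rw [← cj_cj]; exact hg _ (hk x hx)
    inv_mem' := fun {g} hg x hx => by
      rcases hdich g⁻¹ with h | h
      · exact h x hx
      · exfalso
        have h1 := hg a ((hE a).2 (Or.inl (T.mem_orb_self a)))
        have h2 := h _ h1
        rw [cj_cj, inv_mul_cancel, cj_one] at h2
        exact D.S_notMem_Zs ha (hinter a ((hE a).2 (Or.inl (T.mem_orb_self a))) h2) }
  have hKtop : K = ⊤ := by
    haveI := D.normal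
    have hidx : K.index ≤ 2 := by
      by_cases h : ∀ g, g ∈ K
      · rw [(Subgroup.eq_top_iff' K).2 h, Subgroup.index_top]; norm_num
      push Not at h
      obtain ⟨s, hs⟩ := h
      have hs' := (hdich s).resolve_left hs
      refine (Subgroup.index_eq_card K).le.trans ?_
      have hcov2 : ∀ g : C, g ∈ K ∨ s⁻¹ * g ∈ K := fun g => by
        refine (hdich g).imp id fun hg x hx => ?_
        rcases hdich (s⁻¹ * g) with h | h
        · exact h x hx
        exfalso
        -- `s` would send an element of `F` into `F`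
        have haE := (hE a).2 (Or.inl (T.mem_orb_self a))
        have h1 := h a haE
        have h2 : cj s (cj (s⁻¹ * g) a) = cj g a := by rw [cj_cj, ← mul_assoc, mul_inv_cancel, one_mul]
        have hsurj : (fun w => cj s w) '' (E : Set C) = (F : Set C) := by
          refine Set.eq_of_subset_of_ncard_le ?_ ?_ (Set.toFinite _)
          · rintro _ ⟨w, hw, rfl⟩; exact hs' w hw
          · rw [Set.ncard_image_of_injective _ fun u v e => by simpa [cj] using e,
              ← Nat.card_coe_set_eq, ← Nat.card_coe_set_eq]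
            exact (hFc.trans hEc.symm).le
        obtain ⟨w, hw, e⟩ : cj g a ∈ (fun w => cj s w) '' (E : Set C) := by rw [hsurj]; exact hg a haE
        have hwa : w = cj (s⁻¹ * g) a := by
          have := congrArg (cj s⁻¹) (e.trans h2.symm)
          simpa [cj_cj, cj_one] using this
        have := hinter _ (hwa ▸ hw) h1
        have h4 : a ∈ D.Zs := by
          have := D.cj_eq_of_Zs this (s⁻¹ * g)⁻¹
          rw [cj_cj, inv_mul_cancel, cj_one] at this
          rw [this]; assumption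
        exact D.S_notMem_Zs ha h4
      have hsur : Function.Surjective (fun t : Bool => ((if t then 1 else s : C) : C ⧸ K)) := by
        intro q
        induction q using QuotientGroup.induction_on with
        | _ g =>
          rcases hcov2 g with h | h
          · exact ⟨true, QuotientGroup.eq.2 (by simpa using h)⟩
          · exact ⟨false, QuotientGroup.eq.2 (by simpa using h)⟩
      exact (Nat.card_le_card_of_surjective _ hsur).trans (by simp)
    have hQK : D.Q ≤ K := fun q hq x hx => by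
      rcases (hE x).1 hx with h | h
      · exact (hE _).2 (Or.inl (T.orb_trans h ⟨0, by
          rw [pow_zero, cj_one, D.π_cj_of_mem hq (hEQ hx)]⟩))
      · rw [D.cj_eq_of_Zs h]; exact hx
    haveI : K.Normal := by
      rcases (show K.index = 1 ∨ K.index = 2 by
        have := Nat.pos_of_ne_zero (Subgroup.index_ne_zero_of_finite (H := K)); omega) with e | e
      · rw [Subgroup.index_eq_one.1 e]; infer_instance
      · exact Subgroup.normal_of_index_eq_two e
    obtain ⟨e⟩ := D.iso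
    haveI := isSimpleGroup_recogSL32
    set μ : C →* _ := e.toMonoidHom.comp (QuotientGroup.mk' D.Q) with hμ
    have hμs : Function.Surjective μ := e.surjective.comp (QuotientGroup.mk'_surjective _)
    haveI : (K.map μ).Normal := Subgroup.Normal.map inferInstance μ hμs
    have hkerK : μ.ker ≤ K := fun x hx => hQK ((QuotientGroup.eq_one_iff x).1
      (e.injective ((MonoidHom.mem_ker.1 hx).trans (map_one e).symm)))
    have hidx2 : (K.map μ).index = K.index := by
      rw [Subgroup.index_map_eq _ hμs hkerK]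
    rcases (inferInstance : (K.map μ).Normal).eq_bot_or_eq_top with h | h
    · exfalso
      rw [h, Subgroup.index_bot, natCard_recogSL32] at hidx2
      omega
    · rw [h, Subgroup.index_top] at hidx2
      exact Subgroup.index_eq_one.1 hidx2.symm
  have hEconj : ∀ g : C, ∀ x ∈ E, cj g x ∈ E := fun g => (hKtop ▸ Subgroup.mem_top g : g ∈ K)
  refine ⟨{
    E := E
    F := F
    E_le := hEQ
    F_le := hFQ
    E_card := hEc
    F_card := hFc
    z_E := (hE _).2 (Or.inr D.z_mem_Zs)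
    z_F := (hF _).2 (Or.inr D.z_mem_Zs)
    inter := hinter
    E_comm := hEcomm
    F_comm := hFcomm
    E_sq := hEsq
    F_sq := hFsq
    E_conj := hEconj
    F_conj := fun g => hdichF g (hEconj g)
    E_trans := ?_
    F_trans := ?_
    E_S := fun x hx hx' => D.orb_subset T ha (((hE x).1 hx).resolve_right hx')
    F_S := fun x hx hx' => D.orb_subset T hb (((hF x).1 hx).resolve_right hx')
    cover := fun x hx => (hcov x hx).imp (fun h => (hE x).2 (Or.inl h)) (fun h => (hF x).2 (Or.inl h))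
  }⟩
  all_goals
    intro x hx y hy hxZ hyZ
    first
    | (have hyx := T.orb_trans (T.orb_symm (((hE x).1 hx).resolve_right hxZ)) (((hE y).1 hy).resolve_right hyZ))
    | (have hyx := T.orb_trans (T.orb_symm (((hF x).1 hx).resolve_right hxZ)) (((hF y).1 hy).resolve_right hyZ))
    obtain ⟨i, hi⟩ := hyx
    rcases D.π_eq_iff.1 hi.symm with k | k
    · exact ⟨T.d ^ i, inv_mul_eq_one.1 k⟩
    · have hxQ : x ∈ D.Q := by first | exact hEQ hx | exact hFQ hx
      obtain ⟨q, -, hq⟩ := D.exists_cj_mul_z (D.cj_mem hxQ (T.d ^ i)) (fun h => hxZ (by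
        have := D.cj_eq_of_Zs h (T.d ^ i)⁻¹
        rw [cj_cj, inv_mul_cancel, cj_one] at this
        rwa [this]))
      refine ⟨q * T.d ^ i, ?_⟩
      rw [← cj_cj, hq, ← k]; group

end RecogSetting

end Cfsg.Agent.TransvCent
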