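import Cfsg.Agent.Lib.TransvCent.RecogLevi
import Mathlib.Algebra.Group.Conj

/-!
# The extension of the Levi part by the centre is untwisted at involutions

* `RecogSetting.Frame.sq_of_involution` : lifts of involutions to the stabiliser are involutions when
  the marked elements are fused with the central involution
-/

set_option autoImplicit false
set_option linter.style.haveILetI false
open scoped commutatorElement

namespace Cfsg.Agent.TransvCent

/-- An involution code. -/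
def leviInv (d : ℕ) : Bool := mul d d == one && d != one

/-- An involution code moving some word by `v`. -/
def leviRoot (v d : ℕ) : Bool :=
  mul d d == one && (List.range 8).any fun u => u ^^^ sel u (fld d 7) (fld d 10) (fld d 13) == v

theorem check_invol_conj : (levi.all fun d => !(leviInv d) ||
    [pack 0 0 0 1 4 2, pack 0 0 0 1 2 6].all fun k => levi.any fun m => mul d m == mul m k) = true := by
  decide +kernel

theorem check_invol_cent : (levi.all fun d => !(leviInv d) || levi.all fun m =>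
    !(mul d m == mul m d) || mul (mul m m) (mul m m) == one) = true := by
  decide +kernel

theorem check_roots : ((List.range 8).all fun v => v == 0 || levi.all fun d => !(leviRoot v d) ||
    levi.all fun e => !(leviRoot v e) || mul (mul d e) (mul d e) == one) = true := by
  decide +kernel

theorem check_pair_three : mul (pack 0 0 0 1 4 2) (pack 0 0 0 1 2 6) != one &&
    mul (mul (mul (pack 0 0 0 1 4 2) (pack 0 0 0 1 2 6)) (mul (pack 0 0 0 1 4 2) (pack 0 0 0 1 2 6)))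
      (mul (pack 0 0 0 1 4 2) (pack 0 0 0 1 2 6)) == one &&
    levi.contains (pack 0 0 0 1 4 2) && levi.contains (pack 0 0 0 1 2 6) = true := by decide +kernel

namespace RecogSetting

variable {C : Type*} [Group C] {D : RecogSetting C} {P : D.Split}

theorem pow_four (D : RecogSetting C) {q : C} (hq : q ∈ D.Q) : q ^ 4 = 1 := by
  rw [show (4 : ℕ) = 2 * 2 from rfl, pow_mul, pow_two, pow_two, D.Zs_sq (D.sq_mem_Zs hq)]

theorem Split.Zs_le_F (P : D.Split) {x : C} (hx : x ∈ D.Zs) : x ∈ P.F := by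
  rcases hx with rfl | rfl
  · exact one_mem _
  · exact P.z_F

namespace Frame

variable [Finite C] (Fr : D.Frame P)

omit [Finite C] in
theorem rho_inv_eq {t : C} (h : Fr.rho (t * t) = one) {r : ℕ} (hr : r < 8) :
    Fr.ur t⁻¹ r = Fr.ur t r := by
  have h2 : Fr.ur t (Fr.ur t r) = r := by
    rw [← Fr.ur_mul, Fr.ur_eq_of_rho (h.trans Fr.rho_one.symm) hr, Fr.ur_one hr]
  calc Fr.ur t⁻¹ r = Fr.ur t⁻¹ (Fr.ur t (Fr.ur t r)) := by rw [h2]
    _ = Fr.ur t r := by rw [← Fr.ur_mul, mul_inv_cancel, Fr.ur_one (Fr.ur_lt _ _)]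

/-- A square root of a coordinate acts as an involution with the matching centre. -/
theorem root_code {r x : C} (hx : x ∈ P.E) {v : ℕ} (hv : v < 8) (hxv : D.π x = D.π (Fr.U v))
    (hr : r * r = x) : leviRoot v (Fr.rho r) = true := by
  obtain ⟨q, hq, ht⟩ := Fr.exists_stab r
  set t := q * r with htdef
  have hrt : Fr.rho t = Fr.rho r := by
    rw [rho, rho, Fr.ur_mul, Fr.ur_mul, Fr.ur_mul, Fr.ur_of_mem hq (by norm_num),
      Fr.ur_of_mem hq (by norm_num), Fr.ur_of_mem hq (by norm_num)]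
  have h2r : Fr.rho (r * r) = one := by rw [hr]; exact Fr.rho_of_mem (P.E_le hx)
  have h2 : Fr.rho (t * t) = one := by rw [Fr.rho_mul, hrt, ← Fr.rho_mul, h2r]
  obtain ⟨c, u, f, -, hu, hf, he⟩ := Fr.decomp q⁻¹ (inv_mem hq)
  have hr' : r = q⁻¹ * t := by rw [htdef, inv_mul_cancel_left]
  have htt : t * t ∈ D.Zs := Fr.mem_Zs_of_stab (mul_mem ht ht) h2
  set f' := wmap (Fr.ur t 1) (Fr.ur t 2) (Fr.ur t 4) f with hf'
  have hU : cj t (Fr.U u) = Fr.U (Fr.ur t u) := by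
    have := Fr.stab_U (inv_mem ht) hu
    rwa [inv_inv, Fr.rho_inv_eq h2 hu] at this
  have hπ0 : ∀ {y : C}, y ∈ D.Zs → D.π y = 1 := fun h => (QuotientGroup.eq_one_iff _).2 h
  have key : D.π x = D.π (Fr.W (f ^^^ f')) * D.π (Fr.U (u ^^^ Fr.ur t u)) := by
    have e1 : r * r = q⁻¹ * cj t q⁻¹ * (t * t) := by rw [hr']; simp only [cj]; group
    rw [← hr, e1, map_mul, hπ0 htt, mul_one, he, cj_mul, cj_mul, D.cj_eq_of_Zs (pow_mem D.z_mem_Zs _),
      Fr.stab_W ht hf, hU, ← hf', map_mul, map_mul, map_mul, map_mul, map_mul,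
      hπ0 (pow_mem D.z_mem_Zs _), one_mul, one_mul, Fr.W_xor, Fr.U_xor, map_mul, map_mul]
    rw [mul_assoc, ← mul_assoc (D.π (Fr.U u)),
      D.π_mul_comm (P.E_le (Fr.U_mem u)) (P.F_le (Fr.W_mem f'))]
    simp only [mul_assoc]
  rw [hxv] at key
  have hm : Fr.U (v ^^^ (u ^^^ Fr.ur t u)) ∈ P.F := by
    have e : D.π (Fr.U (v ^^^ (u ^^^ Fr.ur t u))) = D.π (Fr.W (f ^^^ f')) := by
      rw [Fr.U_xor, map_mul, key, mul_assoc, ← map_mul D.π (Fr.U (u ^^^ Fr.ur t u)), Fr.U_sq, map_one,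
        mul_one]
    have h := mul_mem (Fr.W_mem (f ^^^ f')) (P.Zs_le_F (D.π_eq_iff.1 e.symm))
    rwa [mul_inv_cancel_left] at h
  have hv0 := Nat.xor_eq_zero_iff.1 (Fr.U_Zs _ (xor_lt_eight hv (xor_lt_eight hu (Fr.ur_lt _ _)))
    (P.inter _ (Fr.U_mem _) hm))
  rw [leviRoot, Bool.and_eq_true, beq_iff_eq, List.any_eq_true]
  refine ⟨by rw [← Fr.rho_mul, h2r], u, List.mem_range.2 hu, ?_⟩
  obtain ⟨a0, a1, a2⟩ := Fr.rho_rows t
  rw [← hrt, beq_iff_eq, a0, a1, a2, ← Fr.ur_sel t hu]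
  exact hv0.symm

include Fr in
/-- The product of two square roots of a coordinate has order dividing eight. -/
theorem roots_pow {r₁ r₂ x : C} (hx : x ∈ P.E) (hxZ : x ∉ D.Zs) (h₁ : r₁ * r₁ = x) (h₂ : r₂ * r₂ = x) :
    (r₁ * r₂) ^ 8 = 1 := by
  obtain ⟨v, hv, hvx⟩ := Fr.U_exh x hx
  have hxv : D.π x = D.π (Fr.U v) := (D.π_eq_iff.2 hvx).symm
  have hv0 : v ≠ 0 := fun e => hxZ (by rwa [e, Fr.U_zero, inv_one, one_mul] at hvx)
  have hc := check_roots
  simp only [List.all_eq_true, List.mem_range, Bool.or_eq_true, beq_iff_eq, Bool.not_eq_true'] at hc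
  have h := (hc v hv).resolve_left hv0
  have h' := (h _ (Fr.rho_mem r₁)).resolve_left (by simp [Fr.root_code hx hv hxv h₁])
  have h'' := (h' _ (Fr.rho_mem r₂)).resolve_left (by simp [Fr.root_code hx hv hxv h₂])
  rw [← Fr.rho_mul, ← Fr.rho_mul] at h''
  have hq := Fr.mem_Q_of_rho h''
  rw [show (8 : ℕ) = 2 * 4 from rfl, pow_mul, pow_two]
  exact D.pow_four hq

variable {G : Type*} [Group G]

/-- A lift of an involution is an involution. -/
theorem sq_of_involution (ι : C →* G) (hι : Function.Injective ι)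
    (hcent : ∀ g : G, g * ι D.z = ι D.z * g → ∃ c, ι c = g)
    (hS : ∀ a ∈ P.E, a ∉ D.Zs → IsConj (ι a) (ι D.z))
    (hfull : ∀ x ∈ D.Q, IsConj (ι x) (ι D.z) → x ≠ D.z → x ∈ D.S)
    {t : C} (ht : t ∈ Fr.stab) (h2 : mul (Fr.rho t) (Fr.rho t) = one) (hne : Fr.rho t ≠ one) :
    t * t = 1 := by
  have htt : t * t ∈ D.Zs := Fr.mem_Zs_of_stab (mul_mem ht ht) (by rw [Fr.rho_mul, h2])
  refine htt.resolve_right fun hz => ?_
  have hc := check_invol_conj
  simp only [List.all_eq_true, List.any_eq_true, Bool.or_eq_true, beq_iff_eq, Bool.not_eq_true'] at hc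
  have hc' := (hc _ (Fr.rho_mem t)).resolve_left (by simp [leviInv, h2, hne])
  have hlift : ∀ k ∈ [pack 0 0 0 1 4 2, pack 0 0 0 1 2 6], k ∈ levi →
      ∃ w ∈ Fr.stab, Fr.rho w = k ∧ w * w = D.z := by
    intro k hk hkl
    obtain ⟨m, hm, e⟩ := hc' k hk
    obtain ⟨s, hs, rfl⟩ := Fr.rho_surj hm
    obtain ⟨w, hw, hwk⟩ := Fr.rho_surj hkl
    refine ⟨s⁻¹ * t * s, mul_mem (mul_mem (inv_mem hs) ht) hs, ?_, ?_⟩
    · have e' : Fr.rho (t * s) = Fr.rho (s * w) := by rw [Fr.rho_mul, Fr.rho_mul, e, hwk]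
      have hur : ∀ {r}, r < 8 → Fr.ur (s⁻¹ * t * s) r = Fr.ur w r := fun {r} hr => by
        rw [mul_assoc, Fr.ur_mul, Fr.ur_eq_of_rho e' (Fr.ur_lt _ _), ← Fr.ur_mul, inv_mul_cancel_left]
      rw [← hwk, rho, rho, hur (by norm_num), hur (by norm_num), hur (by norm_num)]
    · calc (s⁻¹ * t * s) * (s⁻¹ * t * s) = s⁻¹ * (t * t) * s := by group
        _ = D.z := by rw [hz, D.z_comm s⁻¹, inv_mul_cancel_right]
  have hp := check_pair_three
  simp only [Bool.and_eq_true, bne_iff_ne, beq_iff_eq, List.contains_iff_mem, decide_eq_true_eq] at hp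
  obtain ⟨⟨⟨hne3, h3⟩, hl1⟩, hl2⟩ := hp
  obtain ⟨w₁, hw₁, hr₁, hs₁⟩ := hlift _ List.mem_cons_self hl1
  obtain ⟨w₂, hw₂, hr₂, hs₂⟩ := hlift _ (List.mem_cons_of_mem _ List.mem_cons_self) hl2
  -- the coordinate fixed by both
  set a := Fr.U 1 with ha
  have hfix : ∀ {w}, w ∈ Fr.stab → ∀ r1 r2, Fr.rho w = pack 0 0 0 1 r1 r2 → r1 < 8 → r2 < 8 →
      w * a = a * w := by
    intro w hw r1 r2 e l1 l2
    have e1 : Fr.ur w 1 = 1 := (pack_inj_rows (Fr.ur_lt w 1) (Fr.ur_lt w 2) (Fr.ur_lt w 4) (by norm_num)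
      l1 l2 e).1
    have h1 := Fr.stab_U hw (show 1 < 8 by norm_num)
    rw [e1, ← ha] at h1
    conv_lhs => rw [← h1]
    simp only [cj]; group
  have hc₁ := hfix hw₁ 4 2 hr₁ (by norm_num) (by norm_num)
  have hc₂ := hfix hw₂ 2 6 hr₂ (by norm_num) (by norm_num)
  have haZ : a ∉ D.Zs := fun h => absurd (Fr.U_Zs 1 (by norm_num) h) one_ne_zero
  have haS : a ∈ D.S := P.E_S a (Fr.U_mem 1) haZ
  obtain ⟨g, hg⟩ := isConj_iff.1 (hS a (Fr.U_mem 1) haZ)
  have hga : g * ι a = ι D.z * g := mul_inv_eq_iff_eq_mul.1 hg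
  -- the conjugate of the central involution
  have hcg : ∀ {w : G}, w * ι a = ι a * w → g * w * g⁻¹ * ι D.z = ι D.z * (g * w * g⁻¹) := fun {w} h => by
    calc g * w * g⁻¹ * ι D.z = g * w * g⁻¹ * (g * ι a * g⁻¹) := by rw [hg]
      _ = g * (w * ι a) * g⁻¹ := by group
      _ = g * (ι a * w) * g⁻¹ := by rw [h]
      _ = g * ι a * g⁻¹ * (g * w * g⁻¹) := by group
      _ = _ := by rw [hg]
  obtain ⟨x, hx⟩ := hcent _ (hcg (by rw [← map_mul, ← D.z_comm, map_mul] : ι D.z * ι a = ι a * ι D.z))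
  have hcw : ∀ {w : C}, w * a = a * w → ∃ r, ι r = g * ι w * g⁻¹ := fun {w} h =>
    hcent _ (hcg (by rw [← map_mul, h, map_mul]))
  obtain ⟨r₁, e₁⟩ := hcw hc₁
  obtain ⟨r₂, e₂⟩ := hcw hc₂
  have hsq : ∀ {w r : C}, w * w = D.z → ι r = g * ι w * g⁻¹ → r * r = x := fun {w r} h e => hι (by
    rw [map_mul, e, hx, ← h, map_mul]; group)
  have hx₁ := hsq hs₁ e₁
  have hx₂ := hsq hs₂ e₂
  have hx2 : x * x = 1 := hι (by
    rw [map_mul, hx, map_one, show g * ι D.z * g⁻¹ * (g * ι D.z * g⁻¹) = g * (ι D.z * ι D.z) * g⁻¹ by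
      group, ← map_mul, D.z_sq, map_one, mul_one, mul_inv_cancel])
  have h16 : (r₁ * r₂) ^ 16 = 1 := by
    by_cases hxQ : x ∈ D.Q
    · have hxz : x ≠ D.z := by
        intro e
        rw [e] at hx
        have : g * ι a = g * ι D.z := by
          rw [hga]
          exact (mul_inv_eq_iff_eq_mul.1 hx.symm).symm
        exact (D.S_mem a haS).2.2.2 (hι (mul_left_cancel this))
      have hxS := hfull x hxQ (isConj_iff.2 ⟨g⁻¹, by rw [hx]; group⟩) hxz
      have hxZ := D.S_notMem_Zs hxS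
      rw [show (16 : ℕ) = 8 * 2 from rfl, pow_mul]
      rcases P.cover x hxS with h | h
      · rw [Fr.roots_pow h hxZ hx₁ hx₂, one_pow]
      · obtain ⟨Fr'⟩ := exists_frame P.swap
        rw [Fr'.roots_pow h hxZ hx₁ hx₂, one_pow]
    · have hd : leviInv (Fr.rho x) = true := by
        rw [leviInv, Bool.and_eq_true, beq_iff_eq, bne_iff_ne, ← Fr.rho_mul, hx2, Fr.rho_one]
        exact ⟨rfl, fun e => hxQ (Fr.mem_Q_of_rho e)⟩
      have hcc := check_invol_cent
      simp only [List.all_eq_true, Bool.or_eq_true, beq_iff_eq, Bool.not_eq_true'] at hcc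
      have hcomm : ∀ {r : C}, r * r = x → Commute x r := fun {r} h => by
        rw [← h]; exact (Commute.refl r).mul_left (Commute.refl r)
      have h4 := ((hcc _ (Fr.rho_mem x)).resolve_left (by simp [hd]) _
        (Fr.rho_mem (r₁ * r₂))).resolve_left (by
          simp [← Fr.rho_mul, ((hcomm hx₁).mul_right (hcomm hx₂)).eq])
      rw [← Fr.rho_mul, ← Fr.rho_mul, ← pow_two, ← pow_two, ← pow_mul] at h4
      rw [show (16 : ℕ) = 4 * 4 from rfl, pow_mul]
      exact D.pow_four (Fr.mem_Q_of_rho h4)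
  have h16w : (w₁ * w₂) ^ 16 = 1 := hι (by
    have h := congrArg ι h16
    rw [map_pow, map_mul, e₁, e₂, map_one, show g * ι w₁ * g⁻¹ * (g * ι w₂ * g⁻¹) = g * (ι w₁ * ι w₂) * g⁻¹ by
      group, conj_pow] at h
    rw [map_pow, map_mul, map_one]
    exact conj_eq_one_iff.1 h)
  have h3Q : (w₁ * w₂) ^ 3 ∈ D.Q := Fr.mem_Q_of_rho (by
    rw [pow_succ, pow_two, Fr.rho_mul, Fr.rho_mul, Fr.rho_mul, hr₁, hr₂, h3])
  have h12 : (w₁ * w₂) ^ 12 = 1 := by
    rw [show (12 : ℕ) = 3 * 4 from rfl, pow_mul]; exact D.pow_four h3Q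
  have h4w : (w₁ * w₂) ^ 4 = 1 := by
    rwa [show (16 : ℕ) = 12 + 4 from rfl, pow_add, h12, one_mul] at h16w
  have hQ : w₁ * w₂ ∈ D.Q := by
    have e : w₁ * w₂ = ((w₁ * w₂) ^ 3)⁻¹ := eq_inv_of_mul_eq_one_left (by rw [← pow_succ', h4w])
    rw [e]; exact inv_mem h3Q
  exact hne3 (by rw [← hr₁, ← hr₂, ← Fr.rho_mul, Fr.rho_of_mem hQ])

end Frame

end RecogSetting

end Cfsg.Agent.TransvCent
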