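import Cfsg.Agent.Lib.TransvCent.Check

/-
Square roots of the transvection and of an involution in the centraliser of the latter.

* `check_roots_*`
-/

set_option autoImplicit false

namespace Cfsg.Agent.TransvCent

theorem check_roots_A : roots zc repA = 48 ∧ roots repA repA = 48 := by decide +kernel

theorem check_roots_B : roots zc repB = 48 ∧ roots repB repB = 48 := by decide +kernel

theorem check_roots_D : roots zc repD = 16 ∧ roots repD repD = 16 := by decide +kernel

theorem check_roots_Cq : roots zc repCq = 32 ∧ roots repCq repCq = 16 := by decide +kernel

theorem check_roots_H1 : roots zc repH1 = 8 ∧ roots repH1 repH1 = 8 := by decide +kernel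

theorem check_roots_H2 : roots zc repH2 = 8 ∧ roots repH2 repH2 = 8 := by decide +kernel

theorem check_roots_F : roots zc repF = 16 ∧ roots repF repF = 0 := by decide +kernel

end Cfsg.Agent.TransvCent
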