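import Cfsg.Agent.Lib.TransvCent.Fusion

/-
The two sides `A` and `B` of the radical do not cross.

* `Coding.not_A_and_B` : the classes are disjoint
* `Coding.partner_A` : if `a` in class `A` is conjugate to `z`, then `z` is on the side `A` of `a`
-/

set_option autoImplicit false

namespace Cfsg.Agent.TransvCent

theorem check_sides : elts.all (fun h => mul h repA != mul repB h) = true := by decide +kernel

theorem check_mul_zc : ((members repA chainA).all (fun d => (members repA chainA).contains (mul zc d)) &&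
    (members repB chainB).all fun d => (members repB chainB).contains (mul zc d)) = true := by
  decide +kernel

namespace Coding

variable {G : Type*} [Group G] {z : G}

theorem not_A_and_B (c : Coding z) {x : G} (hA : c.InCls repA x) (hB : c.InCls repB x) : False := by
  obtain ⟨hx, h, hh, he⟩ := hA
  obtain ⟨-, k, hk, hke⟩ := hB
  -- `k * h⁻¹` moves the first representative to the second
  have hj : Commute (k * h⁻¹) z := hk.mul_left hh.inv_left
  have e : k * h⁻¹ * (h * x * h⁻¹) = k * x * k⁻¹ * (k * h⁻¹) := by group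
  have := List.all_eq_true.1 check_sides _ (c.mem _ hj)
  rw [bne_iff_ne] at this
  exact this (by
    rw [← he, ← hke, ← c.map_mul _ _ hj (commute_conj hh hx), ← c.map_mul _ _ (commute_conj hk hx) hj, e])

theorem InCls.conj {c : Coding z} {r : ℕ} {x h : G} (hx : c.InCls r x) (hh : Commute h z) :
    c.InCls r (h * x * h⁻¹) := by
  obtain ⟨hxz, k, hk, he⟩ := hx
  refine ⟨commute_conj hh hxz, k * h⁻¹, hk.mul_left hh.inv_left, ?_⟩
  rw [← he]
  refine congrArg c.f ?_
  group

theorem InCls.z_mul_of_A {c : Coding z} {x : G} (hx : c.InCls repA x) : c.InCls repA (z * x) := by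
  obtain ⟨hxz, h, hh, he⟩ := hx
  have hz : Commute (z * x) z := (Commute.refl z).mul_left hxz
  have hd := check_derived
  simp only [Bool.and_eq_true] at hd
  have hc := check_mul_zc
  simp only [Bool.and_eq_true] at hc
  have hm := List.all_eq_true.1 hc.1 repA List.mem_cons_self
  rw [List.contains_iff_mem] at hm
  have hm' : c.f (z * (h * x * h⁻¹)) ∈ members repA chainA := by
    rw [c.map_mul _ _ (Commute.refl z) (commute_conj hh hxz), c.map_z, he]; exact hm
  have := c.chain_sound _ hd.1.1.1.1.1.1 _ ((Commute.refl z).mul_left (commute_conj hh hxz)) hm'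
  have := this.conj hh.inv_left
  have e : h⁻¹ * (z * (h * x * h⁻¹)) * h⁻¹⁻¹ = z * x := by
    calc h⁻¹ * (z * (h * x * h⁻¹)) * h⁻¹⁻¹ = (h⁻¹ * z * h) * x := by group
      _ = z * x := by rw [hh.inv_left.eq, inv_mul_cancel_right]
  rwa [e] at this

theorem InCls.z_mul_of_B {c : Coding z} {x : G} (hx : c.InCls repB x) : c.InCls repB (z * x) := by
  obtain ⟨hxz, h, hh, he⟩ := hx
  have hd := check_derived
  simp only [Bool.and_eq_true] at hd
  have hc := check_mul_zc
  simp only [Bool.and_eq_true] at hc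
  have hm := List.all_eq_true.1 hc.2 repB List.mem_cons_self
  rw [List.contains_iff_mem] at hm
  have hm' : c.f (z * (h * x * h⁻¹)) ∈ members repB chainB := by
    rw [c.map_mul _ _ (Commute.refl z) (commute_conj hh hxz), c.map_z, he]; exact hm
  have := c.chain_sound _ hd.1.1.1.1.1.2 _ ((Commute.refl z).mul_left (commute_conj hh hxz)) hm'
  have := this.conj hh.inv_left
  have e : h⁻¹ * (z * (h * x * h⁻¹)) * h⁻¹⁻¹ = z * x := by
    calc h⁻¹ * (z * (h * x * h⁻¹)) * h⁻¹⁻¹ = (h⁻¹ * z * h) * x := by group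
      _ = z * x := by rw [hh.inv_left.eq, inv_mul_cancel_right]
  rwa [e] at this

/-- **No crossed fusion.** If `a` of class `A` is `g z g⁻¹`, then `g⁻¹ z g` is of class `A`. -/
theorem partner_A (c : Coding z) {a g : G} (hg : g * z * g⁻¹ = a) (ha : c.InCls repA a) :
    c.InCls repA (g⁻¹ * z * g) := by
  have hne : a ≠ z := ha.ne_z (by decide)
  rcases c.profile hg ha.1 hne with ⟨-, hy | hy⟩ | ⟨k, -⟩ | ⟨k | k, -⟩
  · exact hy
  rotate_left
  all_goals first
    | (have := k.roots_self.symm.trans ha.roots_self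
       simp only [check_roots_A.2, check_roots_D.2, check_roots_H1.2, check_roots_H2.2] at this
       omega)
    | skip
  exfalso
  -- `w = z * a` is conjugate to `a` in the centraliser of `z`
  obtain ⟨haz, h, hh, he⟩ := ha
  obtain ⟨hwz, k, hk, hke⟩ := InCls.z_mul_of_A (c := c) ⟨haz, h, hh, he⟩
  have hkh : Commute (k⁻¹ * h) z := hk.inv_left.mul_left hh
  have hw : k⁻¹ * h * a * (k⁻¹ * h)⁻¹ = z * a := by
    have := (c.eq_iff (commute_conj hh haz) (commute_conj hk hwz)).1 (he.trans hke.symm)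
    calc k⁻¹ * h * a * (k⁻¹ * h)⁻¹ = k⁻¹ * (h * a * h⁻¹) * k := by group
      _ = z * a := by rw [this]; group
  -- the image `b` of `w` under `g⁻¹` is `y * z`, of class `B`
  set y := g⁻¹ * z * g with hydef
  have hb : c.InCls repB (z * y) := hy.z_mul_of_B
  obtain ⟨hbz, p, hp, hpe⟩ := hb
  obtain ⟨hyz, q, hq, hqe⟩ := hy
  have hj : Commute (q⁻¹ * p) z := hq.inv_left.mul_left hp
  have hyb : q⁻¹ * p * (z * y) * (q⁻¹ * p)⁻¹ = y := by
    have := (c.eq_iff (commute_conj hp hbz) (commute_conj hq hyz)).1 (hpe.trans hqe.symm)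
    calc q⁻¹ * p * (z * y) * (q⁻¹ * p)⁻¹ = q⁻¹ * (p * (z * y) * p⁻¹) * q := by group
      _ = y := by rw [this]; group
  -- two elements taking `z` to `y`
  set j := k⁻¹ * h
  have hjz : j⁻¹ * z * j = z := by rw [hkh.inv_left.eq, inv_mul_cancel_right]
  have hwg : g⁻¹ * (z * a) * g = z * y := by
    have e0 : a * g = g * z := by rw [← hg]; group
    calc g⁻¹ * (z * a) * g = g⁻¹ * z * (a * g) := by group
      _ = y * z := by rw [e0, hydef]; group
      _ = z * y := hyz.eq
  set m := q⁻¹ * p * g⁻¹ * j * g with hm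
  have hmy : m * z * m⁻¹ = y := by
    calc m * z * m⁻¹ = q⁻¹ * p * (g⁻¹ * (j * (g * z * g⁻¹) * j⁻¹) * g) * (q⁻¹ * p)⁻¹ := by rw [hm]; group
      _ = y := by rw [hg, hw, hwg, hyb]
  -- the partner along `m` is of class `B`, along `g⁻¹` of class `A`
  have hs : Commute (g * m) z := by
    refine mul_inv_eq_iff_eq_mul.1 ?_
    calc g * m * z * (g * m)⁻¹ = g * (m * z * m⁻¹) * g⁻¹ := by group
      _ = z := by rw [hmy, hydef]; group
  have hpart : m⁻¹ * z * m = (g * m)⁻¹ * a * (g * m) := by rw [← hg]; group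
  have hA : c.InCls repA ((g * m)⁻¹ * a * (g * m)⁻¹⁻¹) :=
    InCls.conj (c := c) ⟨haz, h, hh, he⟩ hs.inv_left
  rw [inv_inv, ← hpart] at hA
  have hqp : (q⁻¹ * p)⁻¹ * z * (q⁻¹ * p) = z := by rw [hj.inv_left.eq, inv_mul_cancel_right]
  have hmB : m⁻¹ * z * m = z * y := by
    have e1 : g * z * g⁻¹ = a := hg
    calc m⁻¹ * z * m = g⁻¹ * j⁻¹ * g * ((q⁻¹ * p)⁻¹ * z * (q⁻¹ * p)) * g⁻¹ * j * g := by rw [hm]; group
      _ = g⁻¹ * (j⁻¹ * (g * z * g⁻¹) * j) * g := by rw [hqp]; group
      _ = _ := ?_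
    -- `j⁻¹ a j = j⁻¹ (z a) j * z`
    have hja : j⁻¹ * a * j = z * a := by
      have hwa : j * (z * a) * j⁻¹ = a := by
        calc j * (z * a) * j⁻¹ = (j * z * j⁻¹) * (j * a * j⁻¹) := by group
          _ = z * (z * a) := by rw [hw, hkh.eq, mul_inv_cancel_right]
          _ = a := by
            rw [← mul_assoc, ← pow_two, orderOf_dvd_iff_pow_eq_one.1 (dvd_of_eq c.orderOf_z), one_mul]
      calc j⁻¹ * a * j = j⁻¹ * (j * (z * a) * j⁻¹) * j := by rw [hwa]
        _ = z * a := by group
    rw [e1, hja, hwg]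
  rw [hmB] at hA
  exact c.not_A_and_B hA ⟨hbz, p, hp, hpe⟩

end Coding

end Cfsg.Agent.TransvCent
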