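import Cfsg.Agent.Lib.TransvCent.Sides
import Cfsg.Agent.Lib.TransvCent.UCheck

/-
The normal elementary subgroup `U` of order `64` of `C(z, a)`, where `a` of class `A` has code `repA`.

* `Coding.uSub` : the subgroup; it only depends on the coding
* `Coding.centralizer_uSub` : it is its own centraliser in the group
* `Coding.eq_uSub` : it is the only normal elementary subgroup of order `64` of `C(z, a)`
* `Coding.mem_normalizer_uSub_iff`, `Coding.ncard_normalizer_uSub` : its normaliser in `C(z)`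
* `Coding.exists_swap` : if an element of class `A` is conjugate to `z`, then an element of the normaliser
  exchanges `z` with the element `a` with code `repA`
-/

set_option autoImplicit false

namespace Cfsg.Agent.TransvCent

namespace Coding

variable {G : Type*} [Group G] {z a : G}

/-- The elements commuting with `z` with code in `L`. -/
def codeSet (c : Coding z) (L : List ℕ) : Set G := {x | Commute x z ∧ c.f x ∈ L}

theorem ncard_codeSet (c : Coding z) {L : List ℕ} (hL : ∀ d ∈ L, d ∈ elts) (hn : L.Nodup) :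
    (c.codeSet L).ncard = L.length := by
  rw [← List.toFinset_card_of_nodup hn, ← Set.ncard_coe_finset]
  refine Set.ncard_congr (fun x _ => c.f x) ?_ ?_ ?_
  · exact fun x hx => by simpa using hx.2
  · exact fun x y hx hy e => c.inj x y hx.1 hy.1 e
  · intro d hd
    simp only [List.coe_toFinset, Set.mem_ofPred_eq] at hd
    obtain ⟨x, hx, rfl⟩ := c.surj d (hL d hd)
    exact ⟨x, ⟨hx, hd⟩, rfl⟩

theorem mul_uList {d e : ℕ} (hd : d ∈ uList) (he : e ∈ uList) :
    comm d e = true ∧ mul d e ∈ uList := by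
  have := List.all_eq_true.1 (List.all_eq_true.1 check_u_group.1 d hd) e he
  rwa [Bool.and_eq_true, List.contains_iff_mem] at this

theorem uList_elts {d : ℕ} (hd : d ∈ uList) :
    d ∈ elts ∧ comm d repA = true ∧ (isInv d = true ∨ d = one) := by
  have := List.all_eq_true.1 check_u_elts d hd
  simp only [Bool.and_eq_true, Bool.or_eq_true, beq_iff_eq, List.contains_iff_mem] at this
  exact ⟨this.1.1, this.1.2, this.2⟩

theorem mul_self_of_mem (c : Coding z) {x : G} (hx : x ∈ c.codeSet uList) : x * x = 1 := by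
  refine (c.sq_eq_iff hx.1 (Commute.one_left z)).1 ?_
  rcases (uList_elts hx.2).2.2 with h | h
  · rw [isInv, Bool.and_eq_true, ← c.map_one] at h
    exact h.1
  · rw [h, c.map_one]
    decide

/-- The subgroup `U`. -/
def uSub (c : Coding z) : Subgroup G where
  carrier := c.codeSet uList
  one_mem' := ⟨Commute.one_left z, c.map_one ▸ check_u_group.2.2.2.1⟩
  mul_mem' {x y} hx hy := ⟨hx.1.mul_left hy.1, by
    rw [c.map_mul x y hx.1 hy.1]; exact (mul_uList hx.2 hy.2).2⟩
  inv_mem' {x} hx := by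
    rw [inv_eq_of_mul_eq_one_left (c.mul_self_of_mem hx)]
    exact hx

theorem mem_uSub {c : Coding z} {x : G} : x ∈ c.uSub ↔ Commute x z ∧ c.f x ∈ uList := Iff.rfl

theorem z_mem_uSub (c : Coding z) : z ∈ c.uSub :=
  ⟨Commute.refl z, c.map_z ▸ check_u_group.2.2.2.2.1⟩

theorem mem_uSub_of_repA (c : Coding z) (ha : Commute a z) (hfa : c.f a = repA) : a ∈ c.uSub :=
  ⟨ha, hfa ▸ check_u_group.2.2.2.2.2.1⟩

theorem commute_of_mem_uSub (c : Coding z) {x y : G} (hx : x ∈ c.uSub) (hy : y ∈ c.uSub) :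
    Commute x y := (c.comm_iff hx.1 hy.1).1 (mul_uList hx.2 hy.2).1

theorem mul_self_of_mem_uSub (c : Coding z) {x : G} (hx : x ∈ c.uSub) : x * x = 1 :=
  c.mul_self_of_mem hx

/-- `U` is its own centraliser. -/
theorem centralizer_uSub (c : Coding z) : Subgroup.centralizer (c.uSub : Set G) = c.uSub := by
  ext y
  rw [Subgroup.mem_centralizer_iff]
  refine ⟨fun hy => ?_, fun hy x hx => (c.commute_of_mem_uSub hx hy).eq⟩
  have hyz : Commute y z := (hy z c.z_mem_uSub).symm
  refine ⟨hyz, ?_⟩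
  have h := List.all_eq_true.1 check_u_cent _ (c.mem y hyz)
  have hb : (uBasis.all fun e => comm (c.f y) e) = true := by
    refine List.all_eq_true.2 fun e he => ?_
    have he' := List.all_eq_true.1 check_u_group.2.2.2.2.2.2 e he
    rw [List.contains_iff_mem] at he'
    obtain ⟨x, hx, rfl⟩ := c.surj e (uList_elts he').1
    exact (c.comm_iff hyz hx).2 (hy x ⟨hx, he'⟩).symm
  rwa [hb, Bool.not_true, Bool.false_or, List.contains_iff_mem] at h

theorem ncard_uSub (c : Coding z) : (c.uSub : Set G).ncard = 64 :=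
  (c.ncard_codeSet (fun _ hd => (uList_elts hd).1)
    ((incr_pairwise check_u_group.2.1).imp fun h => Nat.ne_of_lt h)).trans check_u_group.2.2.1

theorem finite_uSub (c : Coding z) : (c.uSub : Set G).Finite :=
  Set.finite_of_ncard_ne_zero (by rw [c.ncard_uSub]; decide)

theorem commute_of_normA (c : Coding z) (ha : Commute a z) (hfa : c.f a = repA) {h : G}
    (hh : Commute h z) : normA (c.f h) = true ↔ h * a * h⁻¹ = a ∨ h * a * h⁻¹ = z * a := by
  have hza : Commute (z * a) z := (Commute.refl z).mul_left ha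
  rw [normA, ← hfa, ← c.map_z, Bool.or_eq_true, beq_iff_eq, beq_iff_eq, ← c.map_mul _ _ (Commute.refl z) ha,
    ← c.map_mul h a hh ha, ← c.map_mul a h ha hh, ← c.map_mul _ h hza hh,
    c.eq_iff (hh.mul_left ha) (ha.mul_left hh), c.eq_iff (hh.mul_left ha) (hza.mul_left hh),
    mul_inv_eq_iff_eq_mul, mul_inv_eq_iff_eq_mul]

/-- An element of `C(z)` with `a ↦ a, z * a` conjugates `U` into itself. -/
theorem conj_mem_uSub (c : Coding z) (ha : Commute a z) (hfa : c.f a = repA) {h u : G}
    (hh : Commute h z) (hn : h * a * h⁻¹ = a ∨ h * a * h⁻¹ = z * a) (hu : u ∈ c.uSub) :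
    h * u * h⁻¹ ∈ c.uSub := by
  -- it is enough that `h⁻¹` moves the generators into `U`
  have hh' : Commute h⁻¹ z := hh.inv_left
  have hn' : h⁻¹ * a * h⁻¹⁻¹ = a ∨ h⁻¹ * a * h⁻¹⁻¹ = z * a := by
    rw [inv_inv]
    rcases hn with e | e
    · left
      calc h⁻¹ * a * h = h⁻¹ * (h * a * h⁻¹) * h := by rw [e]
        _ = a := by group
    · right
      have hz : h⁻¹ * z * h = z := by rw [hh'.eq, inv_mul_cancel_right]
      have hzz : z * z = 1 := c.mul_self_of_mem c.z_mem_uSub
      have e2 : h⁻¹ * (z * a) * h = a := by rw [← e]; group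
      calc h⁻¹ * a * h = z * z * (h⁻¹ * a * h) := by rw [hzz, one_mul]
        _ = z * ((h⁻¹ * z * h) * (h⁻¹ * a * h)) := by rw [hz, mul_assoc]
        _ = z * a := by rw [show h⁻¹ * z * h * (h⁻¹ * a * h) = h⁻¹ * (z * a) * h by group, e2]
  have hnA := (c.commute_of_normA ha hfa hh').2 hn'
  have h1 := List.all_eq_true.1 check_u_normal _ (c.mem _ hh')
  rw [hnA, Bool.not_true, Bool.false_or] at h1
  have hxz : Commute (h * u * h⁻¹) z := commute_conj hh hu.1
  refine ⟨hxz, ?_⟩
  have hb : (uBasis.all fun e => comm (c.f (h * u * h⁻¹)) e) = true := by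
    refine List.all_eq_true.2 fun e he => ?_
    have he' := List.all_eq_true.1 check_u_group.2.2.2.2.2.2 e he
    rw [List.contains_iff_mem] at he'
    have h2 := List.all_eq_true.1 h1 e he
    rw [List.any_eq_true] at h2
    obtain ⟨e', he'', h3⟩ := h2
    obtain ⟨x, hx, rfl⟩ := c.surj e (uList_elts he').1
    obtain ⟨x', hx', rfl⟩ := c.surj e' (uList_elts he'').1
    rw [beq_iff_eq, ← c.map_mul _ _ hh' hx, ← c.map_mul _ _ hx' hh',
      c.eq_iff (hh'.mul_left hx) (hx'.mul_left hh')] at h3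
    rw [c.comm_iff hxz hx]
    have hxe : x = h * x' * h⁻¹ := by
      calc x = h * (h⁻¹ * x) := by group
        _ = h * x' * h⁻¹ := by rw [h3]; group
    rw [hxe, Commute.conj_iff]
    exact c.commute_of_mem_uSub hu ⟨hx', he''⟩
  have h4 := List.all_eq_true.1 check_u_cent _ (c.mem _ hxz)
  rwa [hb, Bool.not_true, Bool.false_or, List.contains_iff_mem] at h4

/-- `U` is the only elementary subgroup of order `64` of `C(z, a)` normal there. -/
theorem eq_uSub (c : Coding z) (ha : Commute a z) (hfa : c.f a = repA) {V : Subgroup G}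
    (hV : ∀ v ∈ V, Commute v z ∧ Commute v a ∧ v * v = 1) (hab : ∀ v ∈ V, ∀ w ∈ V, Commute v w)
    (hnor : ∀ v ∈ V, ∀ h, Commute h z → Commute h a → h * v * h⁻¹ ∈ V)
    (hcard : (V : Set G).ncard = 64) : V = c.uSub := by
  classical
  have hw := check_wit
  simp only [Bool.and_eq_true, beq_iff_eq, List.contains_iff_mem] at hw
  obtain ⟨⟨⟨hw1, hw2⟩, hwA⟩, hww⟩ := hw
  obtain ⟨η, hη, hηc⟩ := c.surj _ hw1
  obtain ⟨η', hη', hηc'⟩ := c.surj _ hw2
  rw [← hfa, ← hηc, c.comm_iff hη ha] at hwA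
  have hinv : η⁻¹ = η' := by
    refine inv_eq_of_mul_eq_one_right ((c.eq_iff (hη.mul_left hη') (Commute.one_left z)).1 ?_)
    rw [c.map_mul _ _ hη hη', hηc, hηc', hww, c.map_one]
  have cand : ∀ v ∈ V, v ≠ 1 → c.f v ∈ candList := by
    intro v hv hne
    obtain ⟨hvz, hva, hv2⟩ := hV v hv
    have hvo : isInv (c.f v) = true := by
      rw [c.isInv_iff hvz, orderOf_eq_prime_iff, pow_two]
      exact ⟨hv2, hne⟩
    have hvA : comm (c.f v) repA = true := by rw [← hfa, c.comm_iff hvz ha]; exact hva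
    have := List.all_eq_true.1 check_cand _ (c.mem v hvz)
    rw [hvo, hvA, Bool.and_self, Bool.not_true, Bool.false_or, ← hηc, ← hηc',
      ← c.map_mul _ _ hvz hη', ← c.map_mul _ _ hη (hvz.mul_left hη'), ← hinv, ← mul_assoc,
      (c.comm_iff hvz (commute_conj hη hvz)).2 (hab v hv _ (hnor v hv η hη hwA))] at this
    simpa using this
  have hle : V ≤ c.uSub := by
    intro v hv
    by_cases hne : v = 1
    · exact hne ▸ c.uSub.one_mem
    obtain ⟨hvz, -, -⟩ := hV v hv
    refine ⟨hvz, ?_⟩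
    have h := List.all_eq_true.1 check_cand_count _ (cand v hv hne)
    rw [Bool.or_eq_true, List.contains_iff_mem, decide_eq_true_eq] at h
    refine h.resolve_right fun hlt => ?_
    have hsub : c.f '' ((V : Set G) \ {1}) ⊆
        ↑(candList.filter fun e => comm (c.f v) e).toFinset := by
      rintro _ ⟨w, ⟨hw, hw1⟩, rfl⟩
      simp only [List.coe_toFinset, Set.mem_ofPred_eq, List.mem_filter]
      exact ⟨cand w hw hw1, (c.comm_iff hvz (hV w hw).1).2 (hab v hv w hw)⟩
    have h63 : ((V : Set G) \ {1}).ncard = 63 := by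
      rw [Set.ncard_sdiff_singleton_of_mem V.one_mem, hcard]
    have := Set.ncard_le_ncard hsub (Finset.finite_toSet _)
    rw [Set.InjOn.ncard_image fun x hx y hy e => c.inj x y (hV x hx.1).1 (hV y hy.1).1 e, h63,
      Set.ncard_coe_finset] at this
    have h2 := List.toFinset_card_le (candList.filter fun e => comm (c.f v) e)
    rw [← List.countP_eq_length_filter] at h2
    omega
  exact SetLike.coe_injective <|
    Set.eq_of_subset_of_ncard_le hle (by rw [hcard, c.ncard_uSub]) c.finite_uSub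

theorem InCls.orderOf {c : Coding z} {r : ℕ} {x : G} (hx : c.InCls r x) (hr : isInv r = true) :
    orderOf x = 2 := by
  obtain ⟨hxz, h, hh, he⟩ := hx
  rw [← orderOf_conj h, ← c.isInv_iff (commute_conj hh hxz), he, hr]

/-- The class `A` is its list of members. -/
theorem InCls.mem_A {c : Coding z} {x : G} (hx : c.InCls repA x) :
    c.f x ∈ members repA chainA := by
  have hd := check_derived
  simp only [Bool.and_eq_true] at hd
  obtain ⟨⟨⟨⟨⟨⟨-, hB⟩, hD⟩, hC⟩, h1⟩, h2⟩, hF⟩ := hd
  have h := List.all_eq_true.1 check_classes _ (c.mem x hx.1)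
  rw [(c.isInv_iff hx.1).2 (hx.orderOf (by decide))] at h
  simp only [Bool.not_true, Bool.false_or, Bool.or_eq_true, beq_iff_eq, List.contains_iff_mem] at h
  have key : ∀ {r : ℕ}, c.InCls r x → roots r r = roots repA repA := fun k =>
    k.roots_self.symm.trans hx.roots_self
  rcases h with ((((((h | h) | h) | h) | h) | h) | h) | h
  · exact absurd ((c.eq_iff hx.1 (Commute.refl z)).1 (h.trans c.map_z.symm)) (hx.ne_z (by decide))
  · exact h
  · exact (c.not_A_and_B hx (c.chain_sound _ hB x hx.1 h)).elim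
  all_goals
    exfalso
    first
      | have := key (c.chain_sound _ hD x hx.1 h)
      | have := key (c.chain_sound _ hC x hx.1 h)
      | have := key (c.chain_sound _ h1 x hx.1 h)
      | have := key (c.chain_sound _ h2 x hx.1 h)
      | have := key (c.chain_sound _ hF x hx.1 h)
    simp only [check_roots_A.2, check_roots_D.2, check_roots_Cq.2, check_roots_H1.2, check_roots_H2.2,
      check_roots_F.2] at this
    omega

/-- The normaliser of `U` in `C(z)` consists of the elements fixing `a` or moving it to `z * a`. -/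
theorem mem_normalizer_uSub_iff (c : Coding z) (ha : Commute a z) (hfa : c.f a = repA) {h : G}
    (hh : Commute h z) :
    h ∈ Subgroup.normalizer (c.uSub : Set G) ↔ h * a * h⁻¹ = a ∨ h * a * h⁻¹ = z * a := by
  constructor
  · intro hn
    have hu : h * a * h⁻¹ ∈ c.uSub := (Subgroup.mem_normalizer_iff.1 hn a).1 (c.mem_uSub_of_repA ha hfa)
    have hA : c.InCls repA (h * a * h⁻¹) :=
      InCls.conj (c := c) ⟨ha, 1, Commute.one_left z, by simpa using hfa⟩ hh
    have := List.all_eq_true.1 check_u_A.1 _ hu.2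
    rw [List.contains_iff_mem.2 hA.mem_A, Bool.not_true, Bool.false_or, Bool.or_eq_true, beq_iff_eq,
      beq_iff_eq, ← hfa, ← c.map_z, ← c.map_mul _ _ (Commute.refl z) ha, c.eq_iff hu.1 ha,
      c.eq_iff hu.1 ((Commute.refl z).mul_left ha)] at this
    exact this
  · intro hn
    rw [Subgroup.mem_normalizer_iff]
    refine fun u => ⟨c.conj_mem_uSub ha hfa hh hn, fun hu => ?_⟩
    have hn' : h⁻¹ * a * h⁻¹⁻¹ = a ∨ h⁻¹ * a * h⁻¹⁻¹ = z * a := by
      rw [inv_inv]
      rcases hn with e | e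
      · left; calc h⁻¹ * a * h = h⁻¹ * (h * a * h⁻¹) * h := by rw [e]
          _ = a := by group
      · right
        have hz : h * z * h⁻¹ = z := by rw [hh.eq, mul_inv_cancel_right]
        have hzz : z * z = 1 := c.mul_self_of_mem c.z_mem_uSub
        have e2 : h * (z * a) * h⁻¹ = a := by
          rw [show h * (z * a) * h⁻¹ = h * z * h⁻¹ * (h * a * h⁻¹) by group, hz, e, ← mul_assoc, hzz,
            one_mul]
        calc h⁻¹ * a * h = h⁻¹ * (h * (z * a) * h⁻¹) * h := by rw [e2]
          _ = z * a := by group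
    have := c.conj_mem_uSub ha hfa hh.inv_left hn' hu
    rwa [show h⁻¹ * (h * u * h⁻¹) * h⁻¹⁻¹ = u by group] at this

theorem ncard_normalizer_uSub (c : Coding z) :
    {h : G | Commute h z ∧ h ∈ Subgroup.normalizer (c.uSub : Set G)}.ncard = 3072 := by
  obtain ⟨a, ha, hfa⟩ := c.surj repA (uList_elts check_u_group.2.2.2.2.2.1).1
  rw [c.ncard_eq _ normA fun h hh => ?_, check_norm_count]
  rw [c.mem_normalizer_uSub_iff ha hfa hh, c.commute_of_normA ha hfa hh]

theorem conj_mem_of_swap (c : Coding z) (ha : Commute a z) (hfa : c.f a = repA) {g u : G}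
    (h1 : g * z * g⁻¹ = a) (h2 : g * a * g⁻¹ = z) (hu : u ∈ c.uSub) : g * u * g⁻¹ ∈ c.uSub := by
  suffices hV : c.uSub.map (MulAut.conj g).toMonoidHom = c.uSub by
    rw [← hV]
    exact ⟨u, hu, rfl⟩
  have haU := c.mem_uSub_of_repA ha hfa
  refine c.eq_uSub ha hfa ?_ ?_ ?_ ?_
  · rintro _ ⟨v, hv, rfl⟩
    refine ⟨?_, ?_, ?_⟩ <;> simp only [MulEquiv.coe_toMonoidHom, MulAut.conj_apply]
    · rw [← h2]; exact (Commute.conj_iff g).2 (c.commute_of_mem_uSub hv haU)
    · rw [← h1]; exact (Commute.conj_iff g).2 hv.1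
    · rw [show g * v * g⁻¹ * (g * v * g⁻¹) = g * (v * v) * g⁻¹ by group, c.mul_self_of_mem hv]
      group
  · rintro _ ⟨v, hv, rfl⟩ _ ⟨w, hw, rfl⟩
    exact (c.commute_of_mem_uSub hv hw).map _
  · rintro _ ⟨v, hv, rfl⟩ h hhz hha
    refine ⟨g⁻¹ * h * g * v * (g⁻¹ * h * g)⁻¹, c.conj_mem_uSub ha hfa ?_ (Or.inl ?_) hv, ?_⟩
    · rw [← Commute.conj_iff g, h1, show g * (g⁻¹ * h * g) * g⁻¹ = h by group]
      exact hha
    · have : Commute (g⁻¹ * h * g) a := by
        rw [← Commute.conj_iff g, h2, show g * (g⁻¹ * h * g) * g⁻¹ = h by group]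
        exact hhz
      rw [this.eq, mul_inv_cancel_right]
    · simp only [MulEquiv.coe_toMonoidHom, MulAut.conj_apply]
      group
  · rw [Subgroup.coe_map, MulEquiv.coe_toMonoidHom, Set.ncard_image_of_injective _ (MulEquiv.injective _)]
    exact c.ncard_uSub

/-- If an element of class `A` is conjugate to `z`, an element of the normaliser of `U` exchanges `z`
and the element with code `repA`. -/
theorem exists_swap (c : Coding z) {x : G} (hx : c.InCls repA x) (hcon : IsConj z x) :
    ∃ a g, Commute a z ∧ c.f a = repA ∧ g * z * g⁻¹ = a ∧ g * a * g⁻¹ = z ∧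
      g ∈ Subgroup.normalizer (c.uSub : Set G) := by
  obtain ⟨g₀, hg₀⟩ := isConj_iff.1 hcon
  obtain ⟨hyz, k, hk, hke⟩ := c.partner_A hg₀ hx
  obtain ⟨hxz, h, hh, he⟩ := hx
  set a := h * x * h⁻¹ with hadef
  have ha : Commute a z := commute_conj hh hxz
  have hy : k * (g₀⁻¹ * z * g₀) * k⁻¹ = a :=
    (c.eq_iff (commute_conj hk hyz) ha).1 (hke.trans he.symm)
  set g := h * g₀ * k⁻¹ with hgdef
  have hk' : k⁻¹ * z * k = z := by rw [hk.inv_left.eq, inv_mul_cancel_right]
  have hz' : h * z * h⁻¹ = z := by rw [hh.eq, mul_inv_cancel_right]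
  have h1 : g * z * g⁻¹ = a := by
    calc g * z * g⁻¹ = h * (g₀ * (k⁻¹ * z * k) * g₀⁻¹) * h⁻¹ := by rw [hgdef]; group
      _ = a := by rw [hk', hg₀]
  have h2 : g * a * g⁻¹ = z := by
    rw [← hy, hgdef]
    calc h * g₀ * k⁻¹ * (k * (g₀⁻¹ * z * g₀) * k⁻¹) * (h * g₀ * k⁻¹)⁻¹ = h * z * h⁻¹ := by group
      _ = z := hz'
  refine ⟨a, g, ha, he, h1, h2, ?_⟩
  rw [Subgroup.mem_normalizer_iff]
  refine fun u => ⟨c.conj_mem_of_swap ha he h1 h2, fun hu => ?_⟩
  have e1 : g⁻¹ * z * g⁻¹⁻¹ = a := by rw [← h2]; group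
  have e2 : g⁻¹ * a * g⁻¹⁻¹ = z := by rw [← h1]; group
  have := c.conj_mem_of_swap ha he e1 e2 hu
  rwa [show g⁻¹ * (g * u * g⁻¹) * g⁻¹⁻¹ = u by group] at this

end Coding

end Cfsg.Agent.TransvCent
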